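import Cfsg.Agent.Lib.Char.Orth

/-!
# Induced class functions
-/

set_option autoImplicit false

open scoped ComplexConjugate
open Module

namespace CfsgLib.Char

universe u

section ExtendByZero

variable {G : Type u} [Group G] (H : Subgroup G) (θ : H → ℂ)

theorem extendByZero_apply_mem {g : G} (hg : g ∈ H) :
    Cfsg.extendByZero H θ g = θ ⟨g, hg⟩ :=
  Subtype.val_injective.extend_apply θ (0 : G → ℂ) ⟨g, hg⟩

theorem extendByZero_apply_notMem {g : G} (hg : g ∉ H) : Cfsg.extendByZero H θ g = 0 :=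
  Function.extend_apply' θ (0 : G → ℂ) g fun ⟨h, hh⟩ => hg (hh ▸ h.2)

theorem extendByZero_coe (h : H) : Cfsg.extendByZero H θ h = θ h :=
  extendByZero_apply_mem H θ h.2

/-- A sum of extension by zero times a function is a sum over the subgroup. -/
theorem sum_extendByZero_mul [Fintype G] [Fintype H] (f : G → ℂ) :
    ∑ g, Cfsg.extendByZero H θ g * f g = ∑ h : H, θ h * f h := by
  classical
  symm
  rw [Finset.sum_congr rfl fun h _ => by rw [← extendByZero_coe H θ h]]
  rw [← Finset.sum_filter_of_ne (s := (Finset.univ : Finset G)) (p := fun g => g ∈ H)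
    (fun g _ hg => by
      by_contra hn
      rw [extendByZero_apply_notMem H θ hn, zero_mul] at hg
      exact hg rfl)]
  exact (Finset.sum_subtype (Finset.univ.filter fun g => g ∈ H) (fun g => by simp)
    (fun g => Cfsg.extendByZero H θ g * f g)).symm

theorem extendByZero_sum {ι : Type*} (s : Finset ι) (f : ι → H → ℂ) (g : G) :
    Cfsg.extendByZero H (∑ i ∈ s, f i) g = ∑ i ∈ s, Cfsg.extendByZero H (f i) g := by
  by_cases hg : g ∈ H
  · simp [extendByZero_apply_mem H _ hg, Finset.sum_apply]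
  · simp [extendByZero_apply_notMem H _ hg]

theorem extendByZero_add (θ' : H → ℂ) (g : G) :
    Cfsg.extendByZero H (θ + θ') g = Cfsg.extendByZero H θ g + Cfsg.extendByZero H θ' g := by
  by_cases hg : g ∈ H <;> simp [extendByZero_apply_mem, extendByZero_apply_notMem, hg]

theorem extendByZero_smul (c : ℂ) (g : G) :
    Cfsg.extendByZero H (c • θ) g = c * Cfsg.extendByZero H θ g := by
  by_cases hg : g ∈ H <;> simp [extendByZero_apply_mem, extendByZero_apply_notMem, hg]

theorem extendByZero_conj (g : G) :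
    Cfsg.extendByZero H (fun h => conj (θ h)) g = conj (Cfsg.extendByZero H θ g) := by
  by_cases hg : g ∈ H <;> simp [extendByZero_apply_mem, extendByZero_apply_notMem, hg]

end ExtendByZero

section Ind

variable {G : Type u} [Group G] [Fintype G] (H : Subgroup G) (θ θ' : H → ℂ)

theorem indFun_def (g : G) : Cfsg.indFun H θ g =
    (Nat.card H : ℂ)⁻¹ * ∑ x : G, Cfsg.extendByZero H θ (x⁻¹ * g * x) := rfl

theorem indFun_isClassFunction : Cfsg.IsClassFunction G (Cfsg.indFun H θ) := by
  intro g y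
  simp only [indFun_def]
  congr 1
  refine Fintype.sum_equiv (Equiv.mulLeft y⁻¹) _ _ fun x => ?_
  simp [mul_assoc]

theorem indFun_add : Cfsg.indFun H (θ + θ') = Cfsg.indFun H θ + Cfsg.indFun H θ' := by
  ext g
  simp [indFun_def, extendByZero_add, Finset.sum_add_distrib, mul_add]

theorem indFun_smul (c : ℂ) : Cfsg.indFun H (c • θ) = c • Cfsg.indFun H θ := by
  ext g
  simp only [indFun_def, extendByZero_smul, ← Finset.mul_sum, Pi.smul_apply, smul_eq_mul]
  ring

theorem indFun_zero : Cfsg.indFun H (0 : H → ℂ) = 0 := by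
  simpa using indFun_smul H (0 : H → ℂ) 0

theorem indFun_neg : Cfsg.indFun H (-θ) = -Cfsg.indFun H θ := by
  simpa using indFun_smul H θ (-1)

theorem indFun_sub : Cfsg.indFun H (θ - θ') = Cfsg.indFun H θ - Cfsg.indFun H θ' := by
  rw [sub_eq_add_neg, indFun_add, indFun_neg, sub_eq_add_neg]

theorem indFun_sum {ι : Type*} (s : Finset ι) (f : ι → H → ℂ) :
    Cfsg.indFun H (∑ i ∈ s, f i) = ∑ i ∈ s, Cfsg.indFun H (f i) := by
  classical
  induction s using Finset.induction_on with
  | empty => simpa using indFun_zero H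
  | insert a s ha ih => simp [Finset.sum_insert ha, indFun_add, ih]

theorem indFun_conj :
    Cfsg.indFun H (fun h => conj (θ h)) = fun g => conj (Cfsg.indFun H θ g) := by
  ext g
  simp [indFun_def, extendByZero_conj, map_sum]

theorem indFun_one : Cfsg.indFun H θ 1 = (H.index : ℂ) * θ 1 := by
  have hH : (Nat.card H : ℂ) ≠ 0 := by exact_mod_cast Nat.card_pos.ne'
  have hG : (Nat.card G : ℂ) = (H.index : ℂ) * Nat.card H := by
    exact_mod_cast H.index_mul_card.symm
  simp only [indFun_def, mul_one, inv_mul_cancel, extendByZero_apply_mem H θ H.one_mem,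
    Finset.sum_const, Finset.card_univ, nsmul_eq_mul, ← Nat.card_eq_fintype_card, hG]
  field_simp
  rfl

theorem indFun_eq_zero_of_forall {g : G} (h : ∀ x : G, x⁻¹ * g * x ∉ H) :
    Cfsg.indFun H θ g = 0 := by
  simp [indFun_def, extendByZero_apply_notMem H θ (h _)]

theorem indFun_eq_zero_of_normal [H.Normal] {g : G} (hg : g ∉ H) : Cfsg.indFun H θ g = 0 := by
  refine indFun_eq_zero_of_forall H θ fun x hx => hg ?_
  simpa [mul_assoc] using Subgroup.Normal.conj_mem (inferInstance : H.Normal) _ hx x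

theorem indFun_apply_of_normal [hN : H.Normal] (h : H) :
    Cfsg.indFun H θ h = (Nat.card H : ℂ)⁻¹ *
      ∑ g : G, θ ⟨g * h * g⁻¹, hN.conj_mem h h.2 g⟩ := by
  rw [indFun_def]
  congr 1
  refine Fintype.sum_equiv (Equiv.inv G) _ _ fun x => ?_
  have hm : x⁻¹ * (h : G) * x ∈ H := by simpa using hN.conj_mem h h.2 x⁻¹
  rw [extendByZero_apply_mem H θ hm]
  congr 1
  exact Subtype.ext (by simp)

/-- Frobenius reciprocity for functions. -/
theorem classInner_indFun [Fintype H] {χ : G → ℂ} (hχ : Cfsg.IsClassFunction G χ) :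
    Cfsg.classInner (Cfsg.indFun H θ) χ = Cfsg.classInner θ fun h : H => χ h := by
  simp only [Cfsg.classInner, indFun_def, mul_assoc, ← Finset.mul_sum, Finset.sum_mul]
  rw [Finset.sum_comm]
  have : ∀ x : G, ∑ g : G, Cfsg.extendByZero H θ (x⁻¹ * (g * x)) * conj (χ g) =
      ∑ h : H, θ h * conj (χ h) := by
    intro x
    rw [← sum_extendByZero_mul H θ fun g => conj (χ g)]
    refine Fintype.sum_equiv (MulAut.conj x⁻¹).toEquiv _ _ fun g => ?_
    have h1 : χ (x⁻¹ * (g * x)) = χ g := by simpa [mul_assoc] using hχ g x⁻¹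
    simp [mul_assoc, h1]
  simp only [this, Finset.sum_const, Finset.card_univ, nsmul_eq_mul, ← Nat.card_eq_fintype_card]
  field_simp [card_ne_zero (G := G)]

theorem classInner_indFun_right [Fintype H] {χ : G → ℂ} (hχ : Cfsg.IsClassFunction G χ) :
    Cfsg.classInner χ (Cfsg.indFun H θ) = Cfsg.classInner (fun h : H => χ h) θ := by
  rw [← classInner_conj_symm, classInner_indFun H θ hχ, classInner_conj_symm]

theorem IsCharacter.indFun {θ : H → ℂ} (hθ : Cfsg.IsCharacter H θ) :
    Cfsg.IsCharacter G (Cfsg.indFun H θ) := by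
  cases nonempty_fintype H
  refine isCharacter_iff.mpr ⟨indFun_isClassFunction H θ, fun χ hχ => ?_⟩
  rw [classInner_indFun H θ (IsIrrCharacter.isClassFunction hχ)]
  exact IsCharacter.classInner_nat hθ
    (IsCharacter.restrict (IsIrrCharacter.isCharacter hχ) H)

theorem IsGeneralizedCharacter.indFun {θ : H → ℂ} (hθ : Cfsg.IsGeneralizedCharacter H θ) :
    Cfsg.IsGeneralizedCharacter G (Cfsg.indFun H θ) := by
  obtain ⟨a, b, ha, hb, rfl⟩ := hθ
  exact ⟨_, _, IsCharacter.indFun H ha, IsCharacter.indFun H hb, indFun_sub H a b⟩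

/-- A character of norm one is irreducible. -/
theorem IsCharacter.isIrrCharacter_of_norm_one {χ : G → ℂ} (hχ : Cfsg.IsCharacter G χ)
    (h : Cfsg.classInner χ χ = 1) : Cfsg.IsIrrCharacter G χ := by
  classical
  choose n hn using fun φ : Cfsg.IrrCharacter G =>
    IsCharacter.classInner_nat hχ (isCharacter_irr φ)
  have he := IsClassFunction.eq_sum_irr (IsCharacter.isClassFunction hχ)
  simp only [hn] at he
  have hsum : ((∑ φ : Cfsg.IrrCharacter G, n φ * n φ : ℕ) : ℂ) = ((1 : ℕ) : ℂ) := by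
    rw [Nat.cast_one, ← h, classInner_eq_sum_irr (IsCharacter.isClassFunction hχ)]
    push_cast
    refine Finset.sum_congr rfl fun φ _ => ?_
    rw [hn, IsCharacter.classInner_comm (isCharacter_irr φ) hχ, hn]
  have hsum' := Nat.cast_injective hsum
  have hex : ∃ φ, n φ ≠ 0 := by
    by_contra hc
    push Not at hc
    simp [hc] at hsum'
  obtain ⟨φ, hφ⟩ := hex
  rw [← Finset.add_sum_erase _ _ (Finset.mem_univ φ)] at hsum'
  have h1 : n φ = 1 := by
    have : n φ * n φ ≤ 1 := by omega
    nlinarith [Nat.pos_of_ne_zero hφ]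
  have h0 : ∑ ψ ∈ Finset.univ.erase φ, n ψ * n ψ = 0 := by rw [h1] at hsum'; omega
  have hψ : ∀ ψ ≠ φ, n ψ = 0 := fun ψ hψ =>
    mul_self_eq_zero.mp (Finset.sum_eq_zero_iff.mp h0 ψ
      (Finset.mem_erase.mpr ⟨hψ, Finset.mem_univ ψ⟩))
  rw [Finset.sum_eq_single φ (fun ψ _ hne => by simp [hψ ψ hne])
    (fun hh => absurd (Finset.mem_univ φ) hh), h1, Nat.cast_one, one_smul] at he
  exact he ▸ φ.2

/-- Transitivity of induction. -/
theorem indFun_indFun (K : Subgroup G) [Fintype K] (hHK : H ≤ K) :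
    Cfsg.indFun K (Cfsg.indFun (H.subgroupOf K)
      (fun x => θ ⟨(x : K), Subgroup.mem_subgroupOf.mp x.2⟩)) = Cfsg.indFun H θ := by
  classical
  ext g
  set θ₀ : H.subgroupOf K → ℂ := fun x => θ ⟨(x : K), Subgroup.mem_subgroupOf.mp x.2⟩ with hθ₀
  have hcard : Nat.card (H.subgroupOf K) = Nat.card H :=
    Nat.card_congr (Subgroup.subgroupOfEquivOfLe hHK).toEquiv
  have key : ∀ x : G, Cfsg.extendByZero K (Cfsg.indFun (H.subgroupOf K) θ₀) (x⁻¹ * g * x) =
      (Nat.card H : ℂ)⁻¹ * ∑ k : K, Cfsg.extendByZero H θ ((x * k)⁻¹ * g * (x * k)) := by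
    intro x
    have hconj : ∀ k : K, ((x * k)⁻¹ * g * (x * k)) = (k : G)⁻¹ * (x⁻¹ * g * x) * k := fun k => by
      group
    by_cases hK : x⁻¹ * g * x ∈ K
    · rw [extendByZero_apply_mem K _ hK, indFun_def, hcard]
      congr 1
      refine Finset.sum_congr rfl fun k _ => ?_
      rw [hconj]
      by_cases hH : (k : G)⁻¹ * (x⁻¹ * g * x) * k ∈ H
      · rw [extendByZero_apply_mem H θ hH,
          extendByZero_apply_mem _ θ₀ (Subgroup.mem_subgroupOf.mpr (by simpa using hH))]
        rfl
      · rw [extendByZero_apply_notMem H θ hH, extendByZero_apply_notMem _ θ₀]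
        simpa [Subgroup.mem_subgroupOf] using hH
    · rw [extendByZero_apply_notMem K _ hK, Finset.sum_eq_zero, mul_zero]
      intro k _
      rw [hconj, extendByZero_apply_notMem H θ]
      intro hH
      refine hK ?_
      have := K.mul_mem (K.mul_mem k.2 (hHK hH)) (K.inv_mem k.2)
      simpa [mul_assoc] using this
  rw [indFun_def, indFun_def, Finset.sum_congr rfl fun x _ => key x, ← Finset.mul_sum,
    Finset.sum_comm]
  have hinner : ∀ k : K, ∑ x : G, Cfsg.extendByZero H θ ((x * k)⁻¹ * g * (x * k)) =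
      ∑ x : G, Cfsg.extendByZero H θ (x⁻¹ * g * x) := fun k =>
    Fintype.sum_equiv (Equiv.mulRight (k : G)) _ _ fun x => rfl
  simp only [hinner, Finset.sum_const, Finset.card_univ, nsmul_eq_mul, ← Nat.card_eq_fintype_card]
  field_simp [card_ne_zero (G := K)]

end Ind

end CfsgLib.Char
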