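import Cfsg.Agent.Lib.Char.Basic

/-!
# Orthogonality relations and completeness of the irreducible characters
-/

set_option autoImplicit false

open scoped ComplexConjugate
open Module

namespace CfsgLib.Char

universe u

/-! ### First orthogonality relation -/

section First

variable {G : Type u} [Group G] [Fintype G] {V W : Type*} [AddCommGroup V] [Module ℂ V]
  [FiniteDimensional ℂ V] [AddCommGroup W] [Module ℂ W] [FiniteDimensional ℂ W]

theorem classInner_char (σ : Representation ℂ G W) (ρ : Representation ℂ G V) :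
    Cfsg.classInner σ.character ρ.character =
      (finrank ℂ (Representation.IntertwiningMap ρ σ) : ℂ) := by
  have : Invertible (Nat.card G : ℂ) := invertibleOfNonzero card_ne_zero
  rw [← Representation.card_inv_mul_sum_char_mul_char_eq_finrank, Cfsg.classInner]
  congr 1
  exact Finset.sum_congr rfl fun g _ => by rw [char_inv_eq_conj]

theorem classInner_irr_self {χ : G → ℂ} (hχ : Cfsg.IsIrrCharacter G χ) :
    Cfsg.classInner χ χ = 1 := by
  obtain ⟨n, ρ, hρ, rfl⟩ := hχ
  rw [classInner_char, Representation.IsIrreducible.finrank_intertwiningMap_self, Nat.cast_one]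

theorem classInner_irr_ne {χ ψ : G → ℂ} (hχ : Cfsg.IsIrrCharacter G χ)
    (hψ : Cfsg.IsIrrCharacter G ψ) (h : χ ≠ ψ) : Cfsg.classInner χ ψ = 0 := by
  obtain ⟨n, ρ, hρ, rfl⟩ := hχ
  obtain ⟨m, σ, hσ, rfl⟩ := hψ
  have : IsEmpty (σ.Equiv ρ) := ⟨fun φ => h (Representation.char_iso φ).symm⟩
  rw [classInner_char, Module.finrank_zero_of_subsingleton, Nat.cast_zero]

theorem classInner_irr {χ ψ : G → ℂ} (hχ : Cfsg.IsIrrCharacter G χ)
    (hψ : Cfsg.IsIrrCharacter G ψ) [Decidable (χ = ψ)] :
    Cfsg.classInner χ ψ = if χ = ψ then 1 else 0 := by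
  split_ifs with h
  · exact h ▸ classInner_irr_self hχ
  · exact classInner_irr_ne hχ hψ h

theorem classInner_irrCharacter (χ ψ : Cfsg.IrrCharacter G) [Decidable (χ = ψ)] :
    Cfsg.classInner (χ : G → ℂ) (ψ : G → ℂ) = if χ = ψ then 1 else 0 := by
  split_ifs with h
  · exact h ▸ classInner_irr_self χ.2
  · exact classInner_irr_ne χ.2 ψ.2 fun h' => h (Subtype.ext h')

theorem IsCharacter.classInner_nat {χ ψ : G → ℂ} (hχ : Cfsg.IsCharacter G χ)
    (hψ : Cfsg.IsCharacter G ψ) : ∃ n : ℕ, Cfsg.classInner χ ψ = n := by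
  obtain ⟨n, ρ, rfl⟩ := hχ
  obtain ⟨m, σ, rfl⟩ := hψ
  exact ⟨_, classInner_char ρ σ⟩

theorem IsCharacter.classInner_comm {χ ψ : G → ℂ} (hχ : Cfsg.IsCharacter G χ)
    (hψ : Cfsg.IsCharacter G ψ) : Cfsg.classInner χ ψ = Cfsg.classInner ψ χ := by
  obtain ⟨n, hn⟩ := IsCharacter.classInner_nat hχ hψ
  rw [← classInner_conj_symm χ ψ, hn, map_natCast]

end First

/-! ### Splitting representations -/

section Split

variable {G : Type*} [Group G] {V : Type*} [AddCommGroup V] [Module ℂ V]

theorem isSemisimpleRep [Finite G] (ρ : Representation ℂ G V) : ρ.IsSemisimpleRepresentation := by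
  have : NeZero (Nat.card G : ℂ) := ⟨by exact_mod_cast Nat.card_pos.ne'⟩
  rw [Representation.isSemisimpleRepresentation_iff_isSemisimpleModule_asModule]
  infer_instance

theorem exists_compl [Finite G] {ρ : Representation ℂ G V} (S : Subrepresentation ρ) :
    ∃ T : Subrepresentation ρ, IsCompl S.toSubmodule T.toSubmodule := by
  have := isSemisimpleRep ρ
  obtain ⟨T, hT⟩ := exists_isCompl S
  refine ⟨T, ⟨?_, ?_⟩⟩
  · rw [disjoint_iff, ← Subrepresentation.toSubmodule_inf, hT.inf_eq_bot]
    rfl
  · rw [codisjoint_iff, ← Subrepresentation.toSubmodule_sup, hT.sup_eq_top]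
    rfl

/-- An invariant internal direct sum gives an equivalence with the product representation. -/
noncomputable def prodEquiv (ρ : Representation ℂ G V) (S T : Subrepresentation ρ)
    (h : IsCompl S.toSubmodule T.toSubmodule) :
    (S.toRepresentation.prod T.toRepresentation).Equiv ρ :=
  Representation.Equiv.mk (Submodule.prodEquivOfIsCompl _ _ h) fun g => by
    ext x <;> simp [Representation.prod, Subrepresentation.toRepresentation]

theorem char_eq_add_of_isCompl [FiniteDimensional ℂ V] (ρ : Representation ℂ G V)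
    (S T : Subrepresentation ρ) (h : IsCompl S.toSubmodule T.toSubmodule) :
    ρ.character = S.toRepresentation.character + T.toRepresentation.character := by
  rw [← Representation.char_iso (prodEquiv ρ S T h), char_prod]

/-- A nonzero representation is irreducible or splits into two smaller ones. -/
theorem irreducible_or_split [Finite G] [FiniteDimensional ℂ V] (ρ : Representation ℂ G V)
    (h0 : 0 < finrank ℂ V) :
    ρ.IsIrreducible ∨ ∃ S T : Subrepresentation ρ, IsCompl S.toSubmodule T.toSubmodule ∧
      finrank ℂ S.toSubmodule < finrank ℂ V ∧ finrank ℂ T.toSubmodule < finrank ℂ V := by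
  by_cases hs : ∀ S : Subrepresentation ρ, S = ⊥ ∨ S = ⊤
  · left
    have : Nontrivial (Subrepresentation ρ) := by
      refine ⟨⊥, ⊤, fun h => ?_⟩
      have h' : (⊥ : Submodule ℂ V) = ⊤ := congrArg Subrepresentation.toSubmodule h
      have h'' := congrArg (fun p : Submodule ℂ V => finrank ℂ p) h'
      simp only [finrank_bot, finrank_top] at h''
      omega
    exact ⟨hs⟩
  · right
    push Not at hs
    obtain ⟨S, hS0, hS1⟩ := hs
    obtain ⟨T, hT⟩ := exists_compl S
    refine ⟨S, T, hT, Submodule.finrank_lt ?_, Submodule.finrank_lt ?_⟩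
    · exact fun h => hS1 (Subrepresentation.toSubmodule_injective h)
    · intro h
      refine hS0 (Subrepresentation.toSubmodule_injective ?_)
      have := hT.inf_eq_bot
      rw [h, inf_top_eq] at this
      exact this

end Split

/-! ### Decomposition into irreducible characters -/

section Decomp

variable {G : Type u} [Group G] [Finite G]

theorem IsCharacter.induction_on {P : (G → ℂ) → Prop} {χ : G → ℂ} (hχ : Cfsg.IsCharacter G χ)
    (zero : P 0) (irr : ∀ ψ, Cfsg.IsIrrCharacter G ψ → P ψ)
    (add : ∀ φ ψ, Cfsg.IsCharacter G φ → Cfsg.IsCharacter G ψ → P φ → P ψ → P (φ + ψ)) :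
    P χ := by
  suffices ∀ (n : ℕ) (V : Type) [AddCommGroup V] [Module ℂ V] [FiniteDimensional ℂ V]
      (ρ : Representation ℂ G V), finrank ℂ V = n → P ρ.character by
    obtain ⟨n, ρ, rfl⟩ := hχ
    exact this _ _ ρ rfl
  intro n
  induction n using Nat.strong_induction_on with
  | _ n ih =>
    intro V _ _ _ ρ hn
    rcases Nat.eq_zero_or_pos n with h0 | h0
    · have : Subsingleton V := Module.finrank_zero_iff.mp (hn.trans h0)
      have : ρ.character = 0 := by
        ext g
        simp [Representation.character, Subsingleton.elim (ρ g) 0]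
      rw [this]; exact zero
    · rcases irreducible_or_split ρ (hn ▸ h0) with h | ⟨S, T, hST, hS, hT⟩
      · exact irr _ (isIrrCharacter_of_rep ρ)
      · rw [char_eq_add_of_isCompl ρ S T hST]
        exact add _ _ (isCharacter_of_rep _) (isCharacter_of_rep _)
          (ih _ (hn ▸ hS) _ _ rfl) (ih _ (hn ▸ hT) _ _ rfl)

omit [Finite G] in
/-- An intertwining endomorphism of an irreducible representation is a scalar. -/
theorem exists_eq_smul_of_commute {V : Type*} [AddCommGroup V] [Module ℂ V]
    [FiniteDimensional ℂ V] (ρ : Representation ℂ G V) [ρ.IsIrreducible] (T : Module.End ℂ V)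
    (hT : ∀ g, T ∘ₗ ρ g = ρ g ∘ₗ T) : ∃ c : ℂ, T = c • LinearMap.id := by
  let f : Representation.IntertwiningMap ρ ρ := ⟨T, hT⟩
  obtain ⟨c, hc⟩ :=
    (Representation.IsIrreducible.algebraMap_intertwiningMap_bijective_of_isAlgClosed (ρ := ρ)).2 f
  refine ⟨c, ?_⟩
  have := congrArg Representation.IntertwiningMap.toLinearMap hc
  rw [Algebra.algebraMap_eq_smul_one] at this
  ext x
  exact (LinearMap.congr_fun this x).symm

theorem sum_smul_eq_zero_of_orth [Fintype G] {θ : G → ℂ} (hθ : Cfsg.IsClassFunction G θ)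
    (h : ∀ χ, Cfsg.IsIrrCharacter G χ → ∑ g, θ g * χ g = 0) :
    ∀ (n : ℕ) (V : Type u) [AddCommGroup V] [Module ℂ V] [FiniteDimensional ℂ V]
      (ρ : Representation ℂ G V), finrank ℂ V = n → ∑ g, θ g • ρ g = 0 := by
  intro n
  induction n using Nat.strong_induction_on with
  | _ n ih =>
    intro V _ _ _ ρ hn
    rcases Nat.eq_zero_or_pos n with h0 | h0
    · have : Subsingleton V := Module.finrank_zero_iff.mp (hn.trans h0)
      exact Subsingleton.elim _ _
    · rcases irreducible_or_split ρ (hn ▸ h0) with hirr | ⟨S, T, hST, hS, hT⟩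
      · obtain ⟨c, hc⟩ := exists_eq_smul_of_commute ρ (∑ g, θ g • ρ g) fun x => by
          rw [← Module.End.mul_eq_comp, ← Module.End.mul_eq_comp, Finset.sum_mul, Finset.mul_sum]
          refine Fintype.sum_equiv (MulAut.conj x⁻¹).toEquiv _ _ fun g => ?_
          have h1 : θ (x⁻¹ * (g * x)) = θ g := by simpa [mul_assoc] using hθ g x⁻¹
          simp [← map_mul, mul_assoc, h1]
        have htr := congrArg (LinearMap.trace ℂ V) hc
        simp only [map_sum, map_smul, smul_eq_mul, LinearMap.trace_id] at htr
        have h' : ∑ g, θ g * ρ.character g = 0 := h _ (isIrrCharacter_of_rep ρ)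
        change ∑ g, θ g * LinearMap.trace ℂ V (ρ g) = 0 at h'
        rw [h', eq_comm, mul_eq_zero] at htr
        rcases htr with hc0 | hd
        · rw [hc, hc0, zero_smul]
        · exact absurd (by exact_mod_cast hd : finrank ℂ V = 0) (by omega)
      · have hS' := ih _ (hn ▸ hS) _ S.toRepresentation rfl
        have hT' := ih _ (hn ▸ hT) _ T.toRepresentation rfl
        have key : ∀ (U : Subrepresentation ρ), ∑ g, θ g • U.toRepresentation g = 0 →
            ∀ v ∈ U.toSubmodule, (∑ g, θ g • ρ g) v = 0 := by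
          intro U hU v hv
          have := congrArg (fun f => ((f ⟨v, hv⟩ : U.toSubmodule) : V)) hU
          simpa [Subrepresentation.toRepresentation] using this
        ext v
        obtain ⟨a, ha, b, hb, rfl⟩ := Submodule.mem_sup.mp
          (hST.sup_eq_top ▸ Submodule.mem_top (x := v))
        rw [map_add, key S hS' a ha, key T hT' b hb]
        simp

/-- A class function orthogonal to every irreducible character vanishes. -/
theorem eq_zero_of_orth [Fintype G] {θ : G → ℂ} (hθ : Cfsg.IsClassFunction G θ)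
    (h : ∀ χ, Cfsg.IsIrrCharacter G χ → Cfsg.classInner θ χ = 0) : θ = 0 := by
  classical
  have h' : ∀ χ, Cfsg.IsIrrCharacter G χ → ∑ g, θ g⁻¹ * χ g = 0 := by
    intro χ hχ
    have := h χ hχ
    rw [Cfsg.classInner, mul_eq_zero, or_iff_right (inv_ne_zero card_ne_zero)] at this
    rw [← this]
    refine Fintype.sum_equiv (Equiv.inv G) _ _ fun g => ?_
    simp [IsIrrCharacter.apply_inv hχ]
  have hθ' : Cfsg.IsClassFunction G fun g => θ g⁻¹ := fun g x => by
    simpa [mul_assoc] using hθ g⁻¹ x
  let ρ : Representation ℂ G (G → ℂ) :=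
    { toFun := fun g => LinearMap.funLeft ℂ ℂ fun x => x * g
      map_one' := by ext f x; simp
      map_mul' := fun g g' => by ext f x; simp [mul_assoc] }
  have := sum_smul_eq_zero_of_orth hθ' h' _ (G → ℂ) ρ rfl
  ext g
  have h2 := congrFun (LinearMap.congr_fun this (Pi.single g⁻¹ 1)) 1
  simpa [ρ, Pi.single_apply] using h2

theorem linearIndependent_irr :
    LinearIndependent ℂ (fun χ : Cfsg.IrrCharacter G => (χ : G → ℂ)) := by
  classical
  cases nonempty_fintype G
  rw [linearIndependent_iff']
  intro s c h χ hχ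
  have := congrArg (fun f => Cfsg.classInner f (χ : G → ℂ)) h
  simpa [classInner_sum_left, classInner_smul_left, classInner_irrCharacter, hχ] using this

instance instFiniteIrrCharacter : Finite (Cfsg.IrrCharacter G) :=
  linearIndependent_irr.finite_of_isNoetherian

noncomputable instance instFintypeIrrCharacter : Fintype (Cfsg.IrrCharacter G) :=
  Fintype.ofFinite _

theorem finite_setOf_irr : {χ : G → ℂ | Cfsg.IsIrrCharacter G χ}.Finite :=
  Set.finite_coe_iff.mp instFiniteIrrCharacter

end Decomp

/-! ### Class functions -/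

section ClassFunctions

variable (G : Type u) [Group G]

/-- The space of class functions. -/
def classFunctions : Submodule ℂ (G → ℂ) where
  carrier := {θ | Cfsg.IsClassFunction G θ}
  add_mem' ha hb g h := by simp [ha g h, hb g h]
  zero_mem' _ _ := rfl
  smul_mem' c θ hθ g h := by simp [hθ g h]

theorem mem_classFunctions {θ : G → ℂ} : θ ∈ classFunctions G ↔ Cfsg.IsClassFunction G θ :=
  Iff.rfl

/-- Class functions are the functions on the conjugacy classes. -/
noncomputable def classFunctionsEquiv : classFunctions G ≃ₗ[ℂ] (ConjClasses G → ℂ) where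
  toFun θ C := Quotient.liftOn C θ.1 fun _ _ h => IsClassFunction.apply_eq_of_isConj θ.2 h
  invFun f := ⟨fun g => f (ConjClasses.mk g), fun g h => congrArg f
    (ConjClasses.mk_eq_mk_iff_isConj.mpr (isConj_iff.mpr ⟨h⁻¹, by group⟩))⟩
  map_add' θ θ' := by ext C; induction C using Quotient.inductionOn; rfl
  map_smul' c θ := by ext C; induction C using Quotient.inductionOn; rfl
  left_inv θ := by ext g; rfl
  right_inv f := by ext C; induction C using Quotient.inductionOn; rfl

end ClassFunctions

section Complete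

variable {G : Type u} [Group G] [Fintype G]

theorem IsClassFunction.eq_sum_irr {ψ : G → ℂ} (hψ : Cfsg.IsClassFunction G ψ) :
    ψ = ∑ χ : Cfsg.IrrCharacter G, Cfsg.classInner ψ χ • (χ : G → ℂ) := by
  classical
  refine sub_eq_zero.mp (eq_zero_of_orth ?_ fun χ hχ => ?_)
  · refine (classFunctions G).sub_mem hψ (Submodule.sum_mem _ fun φ _ => ?_)
    exact Submodule.smul_mem _ _ (IsIrrCharacter.isClassFunction φ.2)
  · lift χ to Cfsg.IrrCharacter G using hχ
    simp [classInner_sub_left, classInner_sum_left, classInner_smul_left, classInner_irrCharacter]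

theorem IsClassFunction.eq_finsum_irr {ψ : G → ℂ} (hψ : Cfsg.IsClassFunction G ψ) :
    ψ = ∑ᶠ χ : Cfsg.IrrCharacter G, Cfsg.classInner ψ χ • (χ : G → ℂ) := by
  rw [finsum_eq_sum_of_fintype]
  exact IsClassFunction.eq_sum_irr hψ

theorem IsClassFunction.ext_classInner {θ ψ : G → ℂ} (hθ : Cfsg.IsClassFunction G θ)
    (hψ : Cfsg.IsClassFunction G ψ)
    (h : ∀ χ, Cfsg.IsIrrCharacter G χ → Cfsg.classInner θ χ = Cfsg.classInner ψ χ) : θ = ψ :=
  sub_eq_zero.mp (eq_zero_of_orth ((classFunctions G).sub_mem hθ hψ) fun χ hχ => by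
    rw [classInner_sub_left, h χ hχ, sub_self])

theorem classInner_eq_sum_irr {θ : G → ℂ} (hθ : Cfsg.IsClassFunction G θ) (ψ : G → ℂ) :
    Cfsg.classInner θ ψ =
      ∑ χ : Cfsg.IrrCharacter G, Cfsg.classInner θ χ * Cfsg.classInner (χ : G → ℂ) ψ := by
  conv_lhs => rw [IsClassFunction.eq_sum_irr hθ]
  simp [classInner_sum_left, classInner_smul_left]

/-- A class function is a character iff its multiplicities are natural numbers. -/
theorem isCharacter_iff {θ : G → ℂ} : Cfsg.IsCharacter G θ ↔
    Cfsg.IsClassFunction G θ ∧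
      ∀ χ, Cfsg.IsIrrCharacter G χ → ∃ n : ℕ, Cfsg.classInner θ χ = n := by
  refine ⟨fun h => ⟨IsCharacter.isClassFunction h, fun χ hχ =>
    IsCharacter.classInner_nat h (IsIrrCharacter.isCharacter hχ)⟩, fun ⟨hc, hn⟩ => ?_⟩
  choose n hn using fun χ : Cfsg.IrrCharacter G => hn χ χ.2
  have : θ = ∑ χ : Cfsg.IrrCharacter G, n χ • (χ : G → ℂ) := by
    conv_lhs => rw [IsClassFunction.eq_sum_irr hc]
    refine Finset.sum_congr rfl fun χ _ => ?_
    rw [hn, Nat.cast_smul_eq_nsmul]
  rw [this]
  exact isCharacter_sum _ _ fun χ _ => IsCharacter.nsmul (isCharacter_irr χ) _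

/-- A class function is a generalized character iff its multiplicities are integers. -/
theorem isGeneralizedCharacter_iff {θ : G → ℂ} : Cfsg.IsGeneralizedCharacter G θ ↔
    Cfsg.IsClassFunction G θ ∧
      ∀ χ, Cfsg.IsIrrCharacter G χ → ∃ n : ℤ, Cfsg.classInner θ χ = n := by
  refine ⟨fun h => ⟨IsGeneralizedCharacter.isClassFunction h, fun χ hχ => ?_⟩, fun ⟨hc, hn⟩ => ?_⟩
  · obtain ⟨a, b, ha, hb, rfl⟩ := h
    obtain ⟨i, hi⟩ := IsCharacter.classInner_nat ha (IsIrrCharacter.isCharacter hχ)
    obtain ⟨j, hj⟩ := IsCharacter.classInner_nat hb (IsIrrCharacter.isCharacter hχ)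
    exact ⟨(i : ℤ) - j, by rw [classInner_sub_left, hi, hj]; simp⟩
  · choose n hn using fun χ : Cfsg.IrrCharacter G => hn χ χ.2
    refine ⟨∑ χ : Cfsg.IrrCharacter G, (n χ).toNat • (χ : G → ℂ),
      ∑ χ : Cfsg.IrrCharacter G, (-n χ).toNat • (χ : G → ℂ),
      isCharacter_sum _ _ fun χ _ => IsCharacter.nsmul (isCharacter_irr χ) _,
      isCharacter_sum _ _ fun χ _ => IsCharacter.nsmul (isCharacter_irr χ) _, ?_⟩
    conv_lhs => rw [IsClassFunction.eq_sum_irr hc]
    rw [← Finset.sum_sub_distrib]
    refine Finset.sum_congr rfl fun χ _ => ?_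
    rw [hn, ← Nat.cast_smul_eq_nsmul ℂ, ← Nat.cast_smul_eq_nsmul ℂ, ← sub_smul]
    congr 1
    exact_mod_cast congrArg (fun z : ℤ => (z : ℂ)) (Int.toNat_sub_toNat_neg (n χ)).symm

theorem card_irrCharacter :
    Nat.card (Cfsg.IrrCharacter G) = Nat.card (ConjClasses G) := by
  classical
  have hli : LinearIndependent ℂ (fun χ : Cfsg.IrrCharacter G =>
      (⟨χ, IsIrrCharacter.isClassFunction χ.2⟩ : classFunctions G)) :=
    LinearIndependent.of_comp (classFunctions G).subtype linearIndependent_irr
  have hsp : ⊤ ≤ Submodule.span ℂ (Set.range fun χ : Cfsg.IrrCharacter G =>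
      (⟨χ, IsIrrCharacter.isClassFunction χ.2⟩ : classFunctions G)) := by
    rintro ⟨θ, hθ⟩ -
    rw [Submodule.mem_span_range_iff_exists_fun]
    refine ⟨fun χ => Cfsg.classInner θ χ, Subtype.ext ?_⟩
    simpa using (IsClassFunction.eq_sum_irr hθ).symm
  rw [← Module.finrank_eq_nat_card_basis (Basis.mk hli hsp),
    (classFunctionsEquiv G).finrank_eq, Module.finrank_pi, Nat.card_eq_fintype_card]

/-! ### Second orthogonality -/

omit [Fintype G] in
theorem card_conjugates_mul (h : G) :
    Nat.card {g : G // IsConj g h} * Nat.card (Subgroup.centralizer ({h} : Set G)) = Nat.card G := by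
  have e : {g : G // IsConj g h} ≃ MulAction.orbit (ConjAct G) h :=
    Equiv.subtypeEquivRight fun g => ConjAct.mem_orbit_conjAct.symm
  have hi := (MulAction.stabilizer (ConjAct G) h).index_mul_card
  rw [MulAction.index_stabilizer] at hi
  rw [Nat.card_congr e, Subgroup.nat_card_centralizer_nat_card_stabilizer]
  exact hi

theorem sum_irr_mul_conj (g h : G) [Decidable (IsConj g h)] :
    ∑ χ : Cfsg.IrrCharacter G, (χ : G → ℂ) g * conj ((χ : G → ℂ) h) =
      if IsConj g h then (Nat.card (Subgroup.centralizer ({h} : Set G)) : ℂ) else 0 := by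
  classical
  set δ : G → ℂ := fun x => if IsConj x h then 1 else 0 with hδ
  have hδc : Cfsg.IsClassFunction G δ := fun x y => by
    have hxy : IsConj x (y * x * y⁻¹) := isConj_iff.mpr ⟨y, rfl⟩
    simp only [hδ]
    exact if_congr ⟨hxy.trans, hxy.symm.trans⟩ rfl rfl
  have hexp := congrFun (IsClassFunction.eq_sum_irr hδc) g
  have hin : ∀ χ : Cfsg.IrrCharacter G, Cfsg.classInner δ χ =
      (Nat.card G : ℂ)⁻¹ * (Nat.card {x : G // IsConj x h} : ℂ) * conj ((χ : G → ℂ) h) := by
    intro χ
    have : ∀ x, δ x * conj ((χ : G → ℂ) x) = if IsConj x h then conj ((χ : G → ℂ) h) else 0 := by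
      intro x
      simp only [hδ]
      by_cases hx : IsConj x h
      · rw [if_pos hx, if_pos hx, one_mul,
          IsClassFunction.apply_eq_of_isConj (IsIrrCharacter.isClassFunction χ.2) hx]
      · rw [if_neg hx, if_neg hx, zero_mul]
    rw [Cfsg.classInner, Finset.sum_congr rfl fun x _ => this x, ← Finset.sum_filter,
      Finset.sum_const, nsmul_eq_mul, Nat.card_eq_fintype_card (α := {x : G // IsConj x h}),
      Fintype.card_subtype, mul_assoc]
  simp only [Finset.sum_apply, Pi.smul_apply, hin, smul_eq_mul] at hexp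
  have hcC := congrArg (Nat.cast : ℕ → ℂ) (card_conjugates_mul h)
  push_cast at hcC
  have ha : (Nat.card {x : G // IsConj x h} : ℂ) ≠ 0 := fun h0 => by
    rw [h0, zero_mul] at hcC
    exact card_ne_zero hcC.symm
  have hq : (Nat.card G : ℂ)⁻¹ * (Nat.card {x : G // IsConj x h} : ℂ) ≠ 0 :=
    mul_ne_zero (inv_ne_zero card_ne_zero) ha
  apply mul_left_cancel₀ hq
  rw [Finset.mul_sum]
  rw [show (∑ χ : Cfsg.IrrCharacter G, (Nat.card G : ℂ)⁻¹ *
      (Nat.card {x : G // IsConj x h} : ℂ) * ((χ : G → ℂ) g * conj ((χ : G → ℂ) h))) = δ g by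
    rw [hexp]; exact Finset.sum_congr rfl fun χ _ => by ring]
  simp only [hδ]
  split_ifs
  · rw [mul_assoc, hcC, inv_mul_cancel₀ card_ne_zero]
  · simp

theorem isConj_iff_forall_irr {g h : G} :
    IsConj g h ↔ ∀ χ : Cfsg.IrrCharacter G, (χ : G → ℂ) g = (χ : G → ℂ) h := by
  classical
  refine ⟨fun hgh χ => IsClassFunction.apply_eq_of_isConj
    (IsIrrCharacter.isClassFunction χ.2) hgh, fun H => ?_⟩
  by_contra hgh
  have h0 := sum_irr_mul_conj g h
  rw [if_neg hgh, Finset.sum_congr rfl fun χ _ => by rw [H χ], sum_irr_mul_conj h h,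
    if_pos (IsConj.refl h)] at h0
  exact Nat.cast_ne_zero.mpr Nat.card_pos.ne' h0

theorem regular_eq_sum_irr [DecidableEq G] (g : G) :
    ∑ χ : Cfsg.IrrCharacter G, (χ : G → ℂ) 1 * (χ : G → ℂ) g =
      if g = 1 then (Nat.card G : ℂ) else 0 := by
  classical
  have h := sum_irr_mul_conj g (1 : G)
  have hc : ∀ χ : Cfsg.IrrCharacter G, conj ((χ : G → ℂ) 1) = (χ : G → ℂ) 1 := fun χ => by
    rw [← IsIrrCharacter.apply_inv χ.2, inv_one]
  simp only [hc, isConj_one_left] at h
  rw [Subgroup.centralizer_eq_top_iff_subset.mpr (by simp)] at h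
  simpa [mul_comm] using h

theorem sum_sq_apply_one :
    ∑ χ : Cfsg.IrrCharacter G, (χ : G → ℂ) 1 ^ 2 = (Nat.card G : ℂ) := by
  classical
  simpa [sq] using regular_eq_sum_irr (1 : G)

end Complete

/-! ### The regular character -/

theorem leftRegular_character {G : Type*} [Group G] [Fintype G] [DecidableEq G] (g : G) :
    (Representation.leftRegular ℂ G).character g = if g = 1 then (Nat.card G : ℂ) else 0 := by
  rw [Representation.character, LinearMap.trace_eq_matrix_trace ℂ (MonoidAlgebra.basis G ℂ),
    Matrix.trace]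
  have h : ∀ i : G, ((MonoidAlgebra.basis G ℂ).repr (MonoidAlgebra.single (g * i) 1)) i =
      if g = 1 then (1 : ℂ) else 0 := fun i => by
    change (MonoidAlgebra.single (g * i) (1 : ℂ)).coeff i = _
    simp [Finsupp.single_apply]
  simp only [Matrix.diag, LinearMap.toMatrix_apply, MonoidAlgebra.basis_apply]
  rw [Finset.sum_congr rfl fun i _ => by
    rw [show (Representation.leftRegular ℂ G) g (MonoidAlgebra.single i 1) =
      MonoidAlgebra.single (g * i) 1 from Representation.ofMulAction_single g i 1, h i]]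
  split_ifs <;> simp

/-! ### Equal characters give equivalent representations -/

section EqualChar

variable {G : Type*} [Group G] [Finite G]

theorem nonempty_equiv_of_char_eq_aux.{x, y} :
    ∀ (n : ℕ) (V : Type x) (W : Type y) [AddCommGroup V] [Module ℂ V] [FiniteDimensional ℂ V]
      [AddCommGroup W] [Module ℂ W] [FiniteDimensional ℂ W]
      (ρ : Representation ℂ G V) (σ : Representation ℂ G W),
      finrank ℂ V = n → ρ.character = σ.character → Nonempty (ρ.Equiv σ) := by
  intro n
  induction n using Nat.strong_induction_on with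
  | _ n ih =>
    intro V W _ _ _ _ _ _ ρ σ hn h
    cases nonempty_fintype G
    have hd : finrank ℂ V = finrank ℂ W := by
      have := congrFun h 1
      simpa using this
    rcases Nat.eq_zero_or_pos n with h0 | h0
    · have : Subsingleton V := Module.finrank_zero_iff.mp (hn.trans h0)
      have : Subsingleton W := Module.finrank_zero_iff.mp (hd ▸ hn.trans h0)
      exact ⟨Representation.Equiv.mk (0 : V ≃ₗ[ℂ] W) fun g => LinearMap.ext fun x =>
        Subsingleton.elim _ _⟩
    have hf : ∃ f : Representation.IntertwiningMap ρ σ, f ≠ 0 := by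
      by_contra hc
      push Not at hc
      have : Subsingleton (Representation.IntertwiningMap ρ σ) :=
        ⟨fun a b => (hc a).trans (hc b).symm⟩
      have h1 := classInner_char σ ρ
      rw [Module.finrank_zero_of_subsingleton, Nat.cast_zero, ← h, classInner_self_eq_zero] at h1
      have := congrFun h1 1
      simp only [Representation.char_one, Pi.zero_apply, Nat.cast_eq_zero] at this
      omega
    obtain ⟨f, hf⟩ := hf
    obtain ⟨K, hK⟩ := exists_compl f.ker
    obtain ⟨L, hL⟩ := exists_compl f.range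
    have hfK : Function.Bijective (fun v : K.toSubmodule =>
        (⟨f v, ⟨v, rfl⟩⟩ : f.range.toSubmodule)) := by
      constructor
      · intro a b hab
        have hab' : f (a : V) = f (b : V) := congrArg Subtype.val hab
        refine Subtype.ext (sub_eq_zero.mp ?_)
        refine (Submodule.disjoint_def.mp hK.disjoint) _ ?_ (sub_mem a.2 b.2)
        change f.toLinearMap ((a : V) - b) = 0
        rw [map_sub]
        exact sub_eq_zero.mpr hab'
      · rintro ⟨w, v, rfl⟩
        obtain ⟨a, ha, b, hb, rfl⟩ := Submodule.mem_sup.mp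
          (hK.sup_eq_top ▸ Submodule.mem_top (x := v))
        have ha' : f.toLinearMap a = 0 := ha
        exact ⟨⟨b, hb⟩, Subtype.ext (by
          change f.toLinearMap b = f.toLinearMap (a + b)
          rw [map_add, ha', zero_add])⟩
    let eK : K.toRepresentation.Equiv f.range.toRepresentation :=
      Representation.Equiv.mk (LinearEquiv.ofBijective
        ((f.toLinearMap.comp K.toSubmodule.subtype).codRestrict f.range.toSubmodule
          fun v => ⟨v.1, rfl⟩) hfK)
        fun g => LinearMap.ext fun v => Subtype.ext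
          (Representation.IntertwiningMap.isIntertwining ρ σ f g v.1)
    have hchar : f.ker.toRepresentation.character = L.toRepresentation.character := by
      have h1 := char_eq_add_of_isCompl ρ _ _ hK
      have h2 := char_eq_add_of_isCompl σ _ _ hL
      rw [h, h2, Representation.char_iso eK, add_comm] at h1
      exact (add_right_cancel h1).symm
    have hlt : finrank ℂ f.ker.toSubmodule < n := by
      rw [← hn]
      refine Submodule.finrank_lt fun htop => hf ?_
      ext v
      exact (htop ▸ Submodule.mem_top : v ∈ f.ker.toSubmodule)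
    obtain ⟨eL⟩ := ih _ hlt _ _ _ _ rfl hchar
    let e : (f.ker.toRepresentation.prod K.toRepresentation).Equiv
        (f.range.toRepresentation.prod L.toRepresentation) :=
      Representation.Equiv.mk ((eL.toLinearEquiv.prodCongr eK.toLinearEquiv).trans
        (LinearEquiv.prodComm ℂ _ _)) fun g => LinearMap.ext fun v => by
        refine Prod.ext ?_ ?_
        · exact Representation.IntertwiningMap.isIntertwining _ _ eK.toIntertwiningMap g v.2
        · exact Representation.IntertwiningMap.isIntertwining _ _ eL.toIntertwiningMap g v.1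
    exact ⟨((prodEquiv ρ _ _ hK).symm.trans e).trans (prodEquiv σ _ _ hL)⟩

theorem nonempty_equiv_of_char_eq {V W : Type*} [AddCommGroup V] [Module ℂ V]
    [FiniteDimensional ℂ V] [AddCommGroup W] [Module ℂ W] [FiniteDimensional ℂ W]
    (ρ : Representation ℂ G V) (σ : Representation ℂ G W) (h : ρ.character = σ.character) :
    Nonempty (ρ.Equiv σ) :=
  nonempty_equiv_of_char_eq_aux _ V W ρ σ rfl h

end EqualChar

end CfsgLib.Char
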