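import Cfsg.Agent.Lib.Char.Orth
import Cfsg.Agent.Lib.Char.Induced

/-!
# Brauer's permutation lemma
-/

set_option autoImplicit false

open scoped ComplexConjugate
open Module

namespace CfsgLib.Char

universe u

variable {G : Type u} [Group G] [Fintype G]

theorem card_centralizer_eq_of_isConj {g h : G} (hgh : IsConj g h) :
    Nat.card (Subgroup.centralizer ({g} : Set G)) =
      Nat.card (Subgroup.centralizer ({h} : Set G)) := by
  have h1 := card_conjugates_mul g
  have h2 := card_conjugates_mul h
  have e : Nat.card {x : G // IsConj x g} = Nat.card {x : G // IsConj x h} :=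
    Nat.card_congr (Equiv.subtypeEquivRight fun x =>
      ⟨fun hx => hx.trans hgh, fun hx => hx.trans hgh.symm⟩)
  rw [e, ← h2] at h1
  have : Nonempty {x : G // IsConj x h} := ⟨⟨h, IsConj.refl h⟩⟩
  exact Nat.eq_of_mul_eq_mul_left Nat.card_pos h1

theorem sum_centralizer_card (P : ConjClasses G → Prop) [DecidablePred P] :
    ∑ g : G, (if P (ConjClasses.mk g) then
        (Nat.card (Subgroup.centralizer ({g} : Set G)) : ℂ) else 0) =
      (Nat.card G : ℂ) * Nat.card {C : ConjClasses G // P C} := by
  classical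
  rw [← Finset.sum_fiberwise (Finset.univ : Finset G) ConjClasses.mk,
    Nat.card_eq_fintype_card (α := {C : ConjClasses G // P C}), Fintype.card_subtype,
    ← Finset.sum_boole, Finset.mul_sum]
  refine Finset.sum_congr rfl fun C _ => ?_
  induction C using Quotient.inductionOn with
  | h h =>
    change ∑ g ∈ Finset.univ.filter (fun g => ConjClasses.mk g = ConjClasses.mk h), _ =
      (Nat.card G : ℂ) * if P (ConjClasses.mk h) then 1 else 0
    rw [Finset.sum_congr rfl fun g hg => by
      rw [(Finset.mem_filter.mp hg).2, card_centralizer_eq_of_isConj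
        (ConjClasses.mk_eq_mk_iff_isConj.mp (Finset.mem_filter.mp hg).2)],
      Finset.sum_const]
    simp only [ConjClasses.mk_eq_mk_iff_isConj]
    rw [nsmul_eq_mul, ← Fintype.card_subtype, ← Nat.card_eq_fintype_card]
    split_ifs
    · rw [mul_one, ← Nat.cast_mul, card_conjugates_mul h]
    · simp

/-- Brauer's permutation lemma for a map of the group permuting classes and characters. -/
theorem card_fixed_irr_eq (f : G → G) (hconj : ∀ a b, IsConj a b → IsConj (f a) (f b))
    (hirr : ∀ χ, Cfsg.IsIrrCharacter G χ → Cfsg.IsIrrCharacter G (χ ∘ f)) :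
    Nat.card {χ : Cfsg.IrrCharacter G // (χ : G → ℂ) ∘ f = (χ : G → ℂ)} =
      Nat.card {C : ConjClasses G // ∀ g, ConjClasses.mk g = C → IsConj (f g) g} := by
  classical
  have h1 : ∀ g : G, (∀ g', ConjClasses.mk g' = ConjClasses.mk g → IsConj (f g') g') ↔
      IsConj (f g) g := fun g => ⟨fun h => h g rfl, fun h g' hg' => by
        have hc := ConjClasses.mk_eq_mk_iff_isConj.mp hg'
        exact ((hconj _ _ hc).trans h).trans hc.symm⟩
  have h2 := sum_centralizer_card fun C : ConjClasses G =>
    ∀ g, ConjClasses.mk g = C → IsConj (f g) g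
  have h3 : ∀ g : G, (if ∀ g', ConjClasses.mk g' = ConjClasses.mk g → IsConj (f g') g' then
      (Nat.card (Subgroup.centralizer ({g} : Set G)) : ℂ) else 0) =
      ∑ χ : Cfsg.IrrCharacter G, (χ : G → ℂ) (f g) * conj ((χ : G → ℂ) g) := by
    intro g
    rw [sum_irr_mul_conj]
    exact if_congr (h1 g) rfl rfl
  rw [Finset.sum_congr rfl fun g _ => h3 g, Finset.sum_comm] at h2
  have h4 : ∀ χ : Cfsg.IrrCharacter G,
      ∑ g : G, (χ : G → ℂ) (f g) * conj ((χ : G → ℂ) g) =
        (Nat.card G : ℂ) * if (χ : G → ℂ) ∘ f = (χ : G → ℂ) then 1 else 0 := by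
    intro χ
    rw [← classInner_irr (hirr χ χ.2) χ.2, Cfsg.classInner, ← mul_assoc,
      mul_inv_cancel₀ card_ne_zero, one_mul]
    rfl
  rw [Finset.sum_congr rfl fun χ _ => h4 χ, ← Finset.mul_sum, Finset.sum_boole] at h2
  rw [Nat.card_eq_fintype_card, Fintype.card_subtype]
  exact_mod_cast mul_left_cancel₀ card_ne_zero h2

theorem IsIrrCharacter.conj' {χ : G → ℂ} (hχ : Cfsg.IsIrrCharacter G χ) :
    Cfsg.IsIrrCharacter G fun g => conj (χ g) := by
  refine IsCharacter.isIrrCharacter_of_norm_one
    (IsCharacter.conj' (IsIrrCharacter.isCharacter hχ)) ?_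
  have h := classInner_irr_self hχ
  simp only [Cfsg.classInner, Complex.conj_conj] at h ⊢
  rw [← h]
  exact congrArg _ (Finset.sum_congr rfl fun g _ => mul_comm _ _)

/-- Real characters correspond to real classes in number. -/
theorem card_real_irr :
    Nat.card {χ : Cfsg.IrrCharacter G // ∀ g : G, ((χ : G → ℂ) g).im = 0} =
      Nat.card {C : ConjClasses G // ∀ g : G, ConjClasses.mk g = C → IsConj g g⁻¹} := by
  have h := card_fixed_irr_eq (fun g : G => g⁻¹)
    (fun a b hab => by
      obtain ⟨c, rfl⟩ := isConj_iff.mp hab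
      exact isConj_iff.mpr ⟨c, by group⟩)
    (fun χ hχ => by
      convert IsIrrCharacter.conj' hχ using 1
      exact funext fun g => IsIrrCharacter.apply_inv hχ g)
  rw [Nat.card_congr (Equiv.subtypeEquivRight fun χ : Cfsg.IrrCharacter G => ?_), h]
  · exact Nat.card_congr (Equiv.subtypeEquivRight fun C =>
      forall₂_congr fun g _ => ⟨IsConj.symm, IsConj.symm⟩)
  · simp only [funext_iff, Function.comp_apply, IsIrrCharacter.apply_inv χ.2,
      Complex.conj_eq_iff_im]

end CfsgLib.Char
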