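import Cfsg.Agent.Lib.Char.Orth

/-!
# Integrality: central characters and the degree
-/

set_option autoImplicit false

open scoped ComplexConjugate
open Module

namespace CfsgLib.Char

section Integrality

variable {G : Type*} [Group G] [Finite G] {V : Type*} [AddCommGroup V] [Module ℂ V]
  [FiniteDimensional ℂ V]

/-- A scalar in the integral group ring of a finite matrix group is an algebraic integer. -/
theorem isIntegral_of_sum_eq_smul [Fintype G] [Nontrivial V] (ρ : Representation ℂ G V)
    (a : G → ℂ) (ha : ∀ g, IsIntegral ℤ (a g)) (c : ℂ)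
    (h : ∑ g, a g • ρ g = c • LinearMap.id) : IsIntegral ℤ c := by
  classical
  let R := integralClosure ℤ ℂ
  let Φ : MonoidAlgebra R G →ₐ[R] Module.End ℂ V := MonoidAlgebra.lift R (Module.End ℂ V) G ρ
  let z : MonoidAlgebra R G := ∑ g, MonoidAlgebra.single g (⟨a g, ha g⟩ : R)
  have hz : IsIntegral R (Φ z) := (IsIntegral.of_finite R z).map Φ
  have hΦ : Φ z = algebraMap ℂ (Module.End ℂ V) c := by
    rw [Algebra.algebraMap_eq_smul_one, Module.End.one_eq_id, ← h]
    simp [Φ, z, MonoidAlgebra.lift_single]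
    rfl
  rw [hΦ] at hz
  have : IsIntegral R c :=
    (isIntegral_algebraMap_iff (algebraMap ℂ (Module.End ℂ V)).injective).mp hz
  exact isIntegral_trans c this

/-- A class-function combination of an irreducible representation is scalar. -/
theorem sum_smul_eq_scalar [Fintype G] (ρ : Representation ℂ G V) [ρ.IsIrreducible]
    {θ : G → ℂ} (hθ : Cfsg.IsClassFunction G θ) :
    ∑ g, θ g • ρ g = ((∑ g, θ g * ρ.character g) / (finrank ℂ V : ℂ)) • LinearMap.id := by
  obtain ⟨c, hc⟩ := exists_eq_smul_of_commute ρ (∑ g, θ g • ρ g) fun x => by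
    rw [← Module.End.mul_eq_comp, ← Module.End.mul_eq_comp, Finset.sum_mul, Finset.mul_sum]
    refine Fintype.sum_equiv (MulAut.conj x⁻¹).toEquiv _ _ fun g => ?_
    have h1 : θ (x⁻¹ * (g * x)) = θ g := by simpa [mul_assoc] using hθ g x⁻¹
    simp [← map_mul, mul_assoc, h1]
  have hd : (finrank ℂ V : ℂ) ≠ 0 := by exact_mod_cast (irreducible_finrank_pos (ρ := ρ)).ne'
  have htr := congrArg (LinearMap.trace ℂ V) hc
  simp only [map_sum, map_smul, smul_eq_mul, LinearMap.trace_id] at htr
  rw [hc]
  congr 1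
  rw [eq_div_iff hd, ← htr]
  rfl

theorem isIntegral_sum_mul_char_div [Fintype G] (ρ : Representation ℂ G V) [ρ.IsIrreducible]
    {θ : G → ℂ} (hθ : Cfsg.IsClassFunction G θ) (hi : ∀ g, IsIntegral ℤ (θ g)) :
    IsIntegral ℤ ((∑ g, θ g * ρ.character g) / (finrank ℂ V : ℂ)) := by
  have : Nontrivial V := Module.finrank_pos_iff.mp (irreducible_finrank_pos (ρ := ρ))
  exact isIntegral_of_sum_eq_smul ρ θ hi _ (sum_smul_eq_scalar ρ hθ)

theorem card_isConj_eq_index (g : G) :
    Nat.card {x : G // IsConj x g} = (Subgroup.centralizer ({g} : Set G)).index := by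
  have h := card_conjugates_mul g
  have hi := (Subgroup.centralizer ({g} : Set G)).index_mul_card
  exact Nat.eq_of_mul_eq_mul_right Nat.card_pos (h.trans hi.symm)

/-- The central character is an algebraic integer. -/
theorem isIntegral_centralChar (ρ : Representation ℂ G V) [ρ.IsIrreducible] (g : G) :
    IsIntegral ℤ (((Subgroup.centralizer ({g} : Set G)).index : ℂ) * ρ.character g /
      (finrank ℂ V : ℂ)) := by
  classical
  cases nonempty_fintype G
  have hθ : Cfsg.IsClassFunction G fun x => if IsConj x g then (1 : ℂ) else 0 := fun x y => by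
    have hxy : IsConj x (y * x * y⁻¹) := isConj_iff.mpr ⟨y, rfl⟩
    exact if_congr ⟨hxy.trans, hxy.symm.trans⟩ rfl rfl
  have h := isIntegral_sum_mul_char_div ρ hθ fun x => by
    split_ifs
    exacts [isIntegral_one, isIntegral_zero]
  have hs : ∑ x, (if IsConj x g then (1 : ℂ) else 0) * ρ.character x =
      ((Subgroup.centralizer ({g} : Set G)).index : ℂ) * ρ.character g := by
    rw [← card_isConj_eq_index, Nat.card_eq_fintype_card, Fintype.card_subtype]
    have : ∀ x, (if IsConj x g then (1 : ℂ) else 0) * ρ.character x =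
        if IsConj x g then ρ.character g else 0 := fun x => by
      split_ifs with hx
      · rw [one_mul]
        exact IsClassFunction.apply_eq_of_isConj (θ := ρ.character) (fun a b => ρ.char_conj a b) hx
      · rw [zero_mul]
    rw [Finset.sum_congr rfl fun x _ => this x, ← Finset.sum_filter, Finset.sum_const, nsmul_eq_mul]
  rwa [hs] at h

theorem exists_int_of_isIntegral_rat {z : ℂ} (hz : IsIntegral ℤ z) {q : ℚ} (hq : z = q) :
    ∃ n : ℤ, z = n := by
  subst hq
  have : IsIntegral ℤ q :=
    (isIntegral_algebraMap_iff (A := ℚ) (B := ℂ) (algebraMap ℚ ℂ).injective).mp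
      (by simpa using hz)
  obtain ⟨n, hn⟩ := IsIntegrallyClosed.isIntegral_iff.mp this
  exact ⟨n, by rw [← hn]; simp⟩

theorem dvd_of_isIntegral_div {a b : ℕ} (hb : b ≠ 0) (h : IsIntegral ℤ ((a : ℂ) / b)) : b ∣ a := by
  obtain ⟨n, hn⟩ := exists_int_of_isIntegral_rat h (q := (a : ℚ) / b) (by simp)
  have : (a : ℂ) = ((b * n : ℤ) : ℂ) := by
    push_cast
    rw [← hn, mul_div_cancel₀]
    exact_mod_cast hb
  exact Int.natCast_dvd_natCast.mp ⟨n, by exact_mod_cast this⟩

theorem finrank_dvd_card (ρ : Representation ℂ G V) [ρ.IsIrreducible] :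
    finrank ℂ V ∣ Nat.card G := by
  cases nonempty_fintype G
  refine dvd_of_isIntegral_div (irreducible_finrank_pos (ρ := ρ)).ne' ?_
  have h := isIntegral_sum_mul_char_div ρ (θ := fun g => ρ.character g⁻¹)
    (fun x y => by
      have := ρ.char_conj x⁻¹ y
      simpa [mul_assoc] using this) fun g => char_isIntegral ρ _
  have h1 : ∑ g, ρ.character g⁻¹ * ρ.character g = (Nat.card G : ℂ) := by
    have := classInner_irr_self (isIrrCharacter_of_rep ρ)
    rw [Cfsg.classInner, inv_mul_eq_one₀ card_ne_zero] at this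
    rw [this]
    exact Finset.sum_congr rfl fun g _ => by rw [mul_comm, char_inv_eq_conj]
  rwa [h1] at h

theorem IsIrrCharacter.apply_one_dvd_card {χ : G → ℂ} (hχ : Cfsg.IsIrrCharacter G χ) :
    ∃ n : ℕ, χ 1 = n ∧ n ∣ Nat.card G := by
  obtain ⟨n, ρ, hρ, rfl⟩ := hχ
  exact ⟨n, by simp, by simpa using finrank_dvd_card ρ⟩

end Integrality

end CfsgLib.Char
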