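import Cfsg.Agent.Lib.Char.Linear
import Cfsg.Agent.Lib.Char.Integral

/-!
# Constituents of characters
-/

set_option autoImplicit false

open scoped ComplexConjugate
open Module

namespace CfsgLib.Char

universe u

variable {G : Type u} [Group G] [Fintype G]

theorem IsCharacter.exists_multiplicity {χ : G → ℂ} (hχ : Cfsg.IsCharacter G χ) :
    ∃ m : Cfsg.IrrCharacter G → ℕ,
      (∀ φ : Cfsg.IrrCharacter G, Cfsg.classInner χ (φ : G → ℂ) = m φ) ∧
      ∀ g, χ g = ∑ φ : Cfsg.IrrCharacter G, (m φ : ℂ) * (φ : G → ℂ) g := by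
  choose m hm using fun φ : Cfsg.IrrCharacter G =>
    IsCharacter.classInner_nat hχ (isCharacter_irr φ)
  refine ⟨m, hm, fun g => ?_⟩
  have h := congrFun (IsClassFunction.eq_sum_irr (IsCharacter.isClassFunction hχ)) g
  simpa [Finset.sum_apply, hm] using h

theorem IsCharacter.exists_constituent {χ : G → ℂ} (hχ : Cfsg.IsCharacter G χ) (h0 : χ ≠ 0) :
    ∃ ψ, Cfsg.IsIrrCharacter G ψ ∧ Cfsg.classInner χ ψ ≠ 0 := by
  by_contra h
  push Not at h
  exact h0 (eq_zero_of_orth (IsCharacter.isClassFunction hχ) h)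

/-- A constituent has degree at most that of the character, with equality only when equal. -/
theorem IsCharacter.constituent_degree_le {χ ψ : G → ℂ} (hχ : Cfsg.IsCharacter G χ)
    (hψ : Cfsg.IsIrrCharacter G ψ) (h : Cfsg.classInner χ ψ ≠ 0) :
    ∃ a b : ℕ, ψ 1 = a ∧ χ 1 = b ∧ a ≤ b ∧ (a = b → χ = ψ) := by
  classical
  obtain ⟨m, hm, hexp⟩ := IsCharacter.exists_multiplicity hχ
  choose d hd hd' using fun φ : Cfsg.IrrCharacter G => IsIrrCharacter.apply_one_eq φ.2
  set φ₀ : Cfsg.IrrCharacter G := ⟨ψ, hψ⟩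
  have hm0 : m φ₀ ≠ 0 := fun h0 => h (by rw [show ψ = (φ₀ : G → ℂ) from rfl, hm, h0, Nat.cast_zero])
  have hb : χ 1 = ((∑ φ, m φ * d φ : ℕ) : ℂ) := by
    rw [hexp]
    push_cast
    exact Finset.sum_congr rfl fun φ _ => by rw [hd' φ]
  have hsplit : ∑ φ, m φ * d φ = m φ₀ * d φ₀ + ∑ φ ∈ Finset.univ.erase φ₀, m φ * d φ :=
    (Finset.add_sum_erase _ _ (Finset.mem_univ _)).symm
  have hle : d φ₀ ≤ m φ₀ * d φ₀ := Nat.le_mul_of_pos_left _ (Nat.pos_of_ne_zero hm0)
  refine ⟨d φ₀, _, hd' φ₀, hb, by omega, fun heq => ?_⟩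
  have hrest : ∑ φ ∈ Finset.univ.erase φ₀, m φ * d φ = 0 := by omega
  have hone : m φ₀ = 1 := by
    have : m φ₀ * d φ₀ = 1 * d φ₀ := by omega
    exact Nat.eq_of_mul_eq_mul_right (hd φ₀) this
  ext g
  rw [hexp, Finset.sum_eq_single φ₀ (fun φ _ hne => by
      have := Finset.sum_eq_zero_iff.mp hrest φ (Finset.mem_erase.mpr ⟨hne, Finset.mem_univ φ⟩)
      rcases Nat.mul_eq_zero.mp this with h1 | h1
      · simp [h1]
      · exact absurd h1 (hd φ).ne')
    (fun hh => absurd (Finset.mem_univ φ₀) hh), hone, Nat.cast_one, one_mul]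

/-- The kernel of a character is contained in the kernel of each constituent. -/
theorem IsCharacter.constituent_apply_eq_one {χ ψ : G → ℂ} (hχ : Cfsg.IsCharacter G χ)
    (hψ : Cfsg.IsIrrCharacter G ψ) (h : Cfsg.classInner χ ψ ≠ 0) {g : G} (hg : χ g = χ 1) :
    ψ g = ψ 1 := by
  classical
  obtain ⟨m, hm, hexp⟩ := IsCharacter.exists_multiplicity hχ
  have hre : ∀ φ : Cfsg.IrrCharacter G,
      0 ≤ (m φ : ℝ) * (((φ : G → ℂ) 1).re - ((φ : G → ℂ) g).re) := fun φ => by
    refine mul_nonneg (Nat.cast_nonneg _) (sub_nonneg.mpr ?_)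
    obtain ⟨n, ρ, -, hρ⟩ := φ.2
    rw [← hρ, Representation.char_one, Complex.natCast_re]
    exact (Complex.re_le_norm _).trans (norm_char_le ρ g)
  have hsum : ∑ φ : Cfsg.IrrCharacter G,
      (m φ : ℝ) * (((φ : G → ℂ) 1).re - ((φ : G → ℂ) g).re) = 0 := by
    have h1 := congrArg Complex.re (hexp 1)
    have h2 := congrArg Complex.re (hexp g)
    simp only [Complex.re_sum, Complex.mul_re, Complex.natCast_re, Complex.natCast_im, zero_mul,
      sub_zero] at h1 h2
    simp only [mul_sub, Finset.sum_sub_distrib]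
    rw [← h1, ← h2, hg, sub_self]
  have h0 := (Finset.sum_eq_zero_iff_of_nonneg fun φ _ => hre φ).mp hsum ⟨ψ, hψ⟩ (Finset.mem_univ _)
  have hm0 : (m ⟨ψ, hψ⟩ : ℝ) ≠ 0 := by
    intro h'
    rw [Nat.cast_eq_zero] at h'
    exact h (by rw [show ψ = ((⟨ψ, hψ⟩ : Cfsg.IrrCharacter G) : G → ℂ) from rfl, hm, h',
      Nat.cast_zero])
  have hre' : (ψ g).re = (ψ 1).re := by
    have := (mul_eq_zero.mp h0).resolve_left hm0
    simp only at this
    linarith
  obtain ⟨n, ρ, hρ', rfl⟩ := hψ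
  rw [Representation.char_one, Complex.natCast_re] at hre'
  rw [Representation.char_one]
  have hn := norm_char_le ρ g
  have h3 : ‖ρ.character g‖ ^ 2 ≤ ((finrank ℂ (Fin n → ℂ) : ℕ) : ℝ) ^ 2 :=
    pow_le_pow_left₀ (norm_nonneg _) hn 2
  rw [← Complex.normSq_eq_norm_sq, Complex.normSq_apply, hre'] at h3
  have him : (ρ.character g).im = 0 := by
    nlinarith [mul_self_nonneg (ρ.character g).im]
  exact Complex.ext (by rw [Complex.natCast_re]; exact hre') (by rw [Complex.natCast_im]; exact him)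

/-- If all constituents are linear, every commutator is in the kernel. -/
theorem IsCharacter.apply_commutator {χ : G → ℂ} (hχ : Cfsg.IsCharacter G χ)
    (h : ∀ φ, Cfsg.IsIrrCharacter G φ → Cfsg.classInner χ φ ≠ 0 → φ 1 = 1) (a b : G) :
    χ (a * b * a⁻¹ * b⁻¹) = χ 1 := by
  obtain ⟨m, hm, hexp⟩ := IsCharacter.exists_multiplicity hχ
  rw [hexp, hexp 1]
  refine Finset.sum_congr rfl fun φ _ => ?_
  by_cases h0 : m φ = 0
  · simp [h0]
  congr 1
  obtain ⟨f, hf⟩ := exists_hom_of_apply_one_eq_one (isCharacter_irr φ)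
    (h φ φ.2 (by rw [hm]; exact_mod_cast h0))
  simp [hf, mul_comm (f a)]

/-- A faithful representation all of whose constituents are linear has abelian image. -/
theorem comm_of_faithful_of_linear {V : Type*} [AddCommGroup V] [Module ℂ V]
    [FiniteDimensional ℂ V] (ρ : Representation ℂ G V) (hf : Function.Injective ρ)
    (h : ∀ φ, Cfsg.IsIrrCharacter G φ → Cfsg.classInner ρ.character φ ≠ 0 → φ 1 = 1) (a b : G) :
    a * b = b * a := by
  have h1 := IsCharacter.apply_commutator (isCharacter_of_rep ρ) h a b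
  rw [Representation.char_one, char_eq_finrank_iff] at h1
  have h2 : a * b * a⁻¹ * b⁻¹ = 1 := hf (h1.trans (map_one ρ).symm)
  exact mul_inv_eq_iff_eq_mul.mp (mul_inv_eq_one.mp h2)

end CfsgLib.Char
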