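import Cfsg.Agent.Lib.Char.Linear

/-!
# Inflation and deflation of characters
-/

set_option autoImplicit false

open scoped ComplexConjugate
open Module

namespace CfsgLib.Char

universe u

variable {G : Type u} [Group G]

theorem classInner_comp_surjective [Fintype G] {H : Type*} [Group H] [Fintype H] (f : G →* H)
    (hf : Function.Surjective f) (φ ψ : H → ℂ) :
    Cfsg.classInner (φ ∘ f) (ψ ∘ f) = Cfsg.classInner φ ψ := by
  classical
  have hfib : ∀ y : H, (Finset.univ.filter fun x => f x = y).card =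
      (Finset.univ.filter fun x => f x = 1).card := by
    intro y
    obtain ⟨x₀, rfl⟩ := hf y
    exact Finset.card_equiv (Equiv.mulLeft x₀⁻¹) fun x => by
      simp only [Finset.mem_filter, Finset.mem_univ, true_and, Equiv.coe_mulLeft, map_mul,
        map_inv, inv_mul_eq_one]
      exact eq_comm
  set c := (Finset.univ.filter fun x => f x = (1 : H)).card with hc
  have hsum : ∀ F : H → ℂ, ∑ x : G, F (f x) = (c : ℂ) * ∑ y, F y := by
    intro F
    rw [← Finset.sum_fiberwise (Finset.univ : Finset G) f fun x => F (f x), Finset.mul_sum]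
    refine Finset.sum_congr rfl fun y _ => ?_
    rw [Finset.sum_congr rfl fun x hx => by rw [(Finset.mem_filter.mp hx).2],
      Finset.sum_const, hfib, nsmul_eq_mul]
  have hG : (Nat.card G : ℂ) = c * Nat.card H := by simpa using hsum 1
  have hc0 : (c : ℂ) ≠ 0 := fun h0 => card_ne_zero (G := G) (by rw [hG, h0, zero_mul])
  simp only [Cfsg.classInner, Function.comp_apply, hsum fun y => φ y * conj (ψ y), hG]
  field_simp

theorem IsCharacter.exists_deflate [Finite G] {χ : G → ℂ} (hχ : Cfsg.IsCharacter G χ)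
    (N : Subgroup G) [N.Normal] (hN : ∀ n ∈ N, χ n = χ 1) :
    ∃ ψ : G ⧸ N → ℂ, Cfsg.IsCharacter (G ⧸ N) ψ ∧ χ = ψ ∘ QuotientGroup.mk' N := by
  obtain ⟨n, ρ, rfl⟩ := hχ
  have hle : N ≤ MonoidHom.ker ρ := fun x hx => by
    have := hN x hx
    rw [Representation.char_one, char_eq_finrank_iff] at this
    exact this
  exact ⟨_, ⟨n, QuotientGroup.lift N ρ hle, rfl⟩, funext fun g => rfl⟩

theorem IsIrrCharacter.exists_deflate [Finite G] {χ : G → ℂ} (hχ : Cfsg.IsIrrCharacter G χ)
    (N : Subgroup G) [N.Normal] (hN : ∀ n ∈ N, χ n = χ 1) :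
    ∃ ψ : G ⧸ N → ℂ, Cfsg.IsIrrCharacter (G ⧸ N) ψ ∧ χ = ψ ∘ QuotientGroup.mk' N := by
  classical
  obtain ⟨ψ, hψ, he⟩ := IsCharacter.exists_deflate (IsIrrCharacter.isCharacter hχ) N hN
  cases nonempty_fintype G
  have : Fintype (G ⧸ N) := Fintype.ofFinite _
  refine ⟨ψ, IsCharacter.isIrrCharacter_of_norm_one hψ ?_, he⟩
  rw [← classInner_comp_surjective (QuotientGroup.mk' N) (QuotientGroup.mk'_surjective N), ← he]
  exact classInner_irr_self hχ

/-- The irreducible characters of a quotient are those trivial on the normal subgroup. -/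
noncomputable def irrQuotientEquiv [Finite G] (N : Subgroup G) [N.Normal] :
    Cfsg.IrrCharacter (G ⧸ N) ≃
      {χ : Cfsg.IrrCharacter G // ∀ n ∈ N, (χ : G → ℂ) n = (χ : G → ℂ) 1} :=
  Equiv.ofBijective
    (fun ψ => ⟨⟨(ψ : G ⧸ N → ℂ) ∘ QuotientGroup.mk' N,
      IsIrrCharacter.comp_surjective ψ.2 _ (QuotientGroup.mk'_surjective N)⟩, fun n hn => by
        simp only [Function.comp_apply, map_one, QuotientGroup.mk'_apply,
          (QuotientGroup.eq_one_iff n).mpr hn]⟩)
    ⟨fun a b h => by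
      refine Subtype.ext (funext fun q => ?_)
      obtain ⟨g, rfl⟩ := QuotientGroup.mk'_surjective N q
      exact congrFun (congrArg (fun x => (x.1 : G → ℂ)) h) g,
    fun χ => by
      obtain ⟨ψ, hψ, he⟩ := IsIrrCharacter.exists_deflate χ.1.2 N χ.2
      exact ⟨⟨ψ, hψ⟩, Subtype.ext (Subtype.ext he.symm)⟩⟩

/-- Irreducible characters along an isomorphism. -/
theorem IsIrrCharacter.comp_equiv {H : Type*} [Group H] {χ : G → ℂ}
    (hχ : Cfsg.IsIrrCharacter G χ) (e : H ≃* G) : Cfsg.IsIrrCharacter H (χ ∘ e) :=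
  IsIrrCharacter.comp_surjective hχ e.toMonoidHom e.surjective

end CfsgLib.Char
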