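import Cfsg.Agent.Lib.Char.Induced

/-!
# Linear characters, abelian groups, kernels
-/

set_option autoImplicit false

open scoped ComplexConjugate
open Module

namespace CfsgLib.Char

universe u

variable {G : Type u} [Group G]

/-- The one-dimensional representation attached to a homomorphism into `ℂˣ`. -/
noncomputable def linRep (φ : G →* ℂˣ) : Representation ℂ G ℂ where
  toFun g := (φ g : ℂ) • LinearMap.id
  map_one' := by ext; simp
  map_mul' g h := by ext; simp [mul_comm]

theorem linRep_character (φ : G →* ℂˣ) : (linRep φ).character = fun g => (φ g : ℂ) := by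
  ext g
  simp [linRep, Representation.character]

theorem isCharacter_hom (φ : G →* ℂˣ) : Cfsg.IsCharacter G fun g => (φ g : ℂ) :=
  linRep_character φ ▸ isCharacter_of_rep _

theorem isIrrCharacter_hom (φ : G →* ℂˣ) : Cfsg.IsIrrCharacter G fun g => (φ g : ℂ) := by
  have : (linRep φ).IsIrreducible := by
    rw [Representation.irreducible_iff_isSimpleModule_asModule, isSimpleModule_iff]
    have : Nontrivial (Submodule (MonoidAlgebra ℂ G) (linRep φ).asModule) := by
      have : Nontrivial (linRep φ).asModule := inferInstanceAs (Nontrivial ℂ)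
      infer_instance
    refine ⟨fun S => ?_⟩
    by_cases hS : S = ⊥
    · exact Or.inl hS
    · right
      obtain ⟨x, hx, hx0⟩ := Submodule.exists_mem_ne_zero_of_ne_bot hS
      refine eq_top_iff.mpr fun y _ => ?_
      let x' : ℂ := x
      let y' : ℂ := y
      have hy := S.smul_mem (MonoidAlgebra.single (1 : G) (y' / x')) hx
      rw [Representation.single_smul] at hy
      have hcalc : (y' / x') • ((linRep φ) 1 x') = y' := by
        simp only [map_one, Module.End.one_apply, smul_eq_mul]
        exact div_mul_cancel₀ y' hx0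
      suffices hyy : y = (y' / x') • ((linRep φ) 1 ((linRep φ).asModuleEquiv x)) by
        rw [hyy]
        exact hy
      exact hcalc.symm
  exact linRep_character φ ▸ isIrrCharacter_of_rep _

theorem isIrrCharacter_one : Cfsg.IsIrrCharacter G (fun _ => 1 : G → ℂ) :=
  isIrrCharacter_hom (1 : G →* ℂˣ)

/-- An irreducible character of degree one is a homomorphism. -/
theorem exists_hom_of_apply_one_eq_one {χ : G → ℂ} (hχ : Cfsg.IsCharacter G χ) (h : χ 1 = 1) :
    ∃ φ : G →* ℂˣ, χ = fun g => (φ g : ℂ) := by
  obtain ⟨n, ρ, rfl⟩ := hχ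
  have hn : finrank ℂ (Fin n → ℂ) = 1 := by
    rw [Representation.char_one] at h
    exact_mod_cast h
  have hs : ∀ g, ∃ c : ℂ, ρ g = c • LinearMap.id := by
    intro g
    obtain ⟨v, hv, hall⟩ := finrank_eq_one_iff'.mp hn
    obtain ⟨c, hc⟩ := hall (ρ g v)
    refine ⟨c, LinearMap.ext fun w => ?_⟩
    obtain ⟨a, rfl⟩ := hall w
    simp [map_smul, ← hc, smul_comm a c]
  choose c hc using hs
  have hchar : ∀ g, ρ.character g = c g := by
    intro g
    simp [Representation.character, hc g, LinearMap.trace_id, hn]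
  have hmul : ∀ g g', ρ.character (g * g') = ρ.character g * ρ.character g' := by
    intro g g'
    simp only [Representation.character, map_mul, hc g, hc g', mul_smul_comm,
      ← Module.End.one_eq_id, mul_one, map_smul, LinearMap.trace_one, hn, smul_eq_mul,
      Nat.cast_one]
    ring
  let f : G →* ℂ :=
    { toFun := ρ.character, map_one' := by rw [Representation.char_one, hn, Nat.cast_one],
      map_mul' := hmul }
  exact ⟨f.toHomUnits, rfl⟩

theorem apply_one_eq_one_of_comm {χ : G → ℂ} (hG : ∀ a b : G, a * b = b * a)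
    (hχ : Cfsg.IsIrrCharacter G χ) : χ 1 = 1 := by
  obtain ⟨n, ρ, hρ, rfl⟩ := hχ
  have : IsMulCommutative G := ⟨⟨hG⟩⟩
  rw [Representation.char_one, Representation.IsIrreducible.finrank_eq_one_of_isMulCommutative ρ,
    Nat.cast_one]

theorem coe_hom_injective : Function.Injective fun (φ : G →* ℂˣ) (g : G) => (φ g : ℂ) :=
  fun _ _ h => MonoidHom.ext fun g => Units.ext (congrFun h g)

/-- The irreducible characters of degree one are the homomorphisms into `ℂˣ`. -/
noncomputable def homEquivLinear :
    (G →* ℂˣ) ≃ {χ : Cfsg.IrrCharacter G // (χ : G → ℂ) 1 = 1} :=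
  Equiv.ofBijective (fun φ => ⟨⟨_, isIrrCharacter_hom φ⟩, by simp⟩)
    ⟨fun φ ψ h => coe_hom_injective (congrArg (fun x => (x.1 : G → ℂ)) h), fun χ => by
      obtain ⟨φ, hφ⟩ := exists_hom_of_apply_one_eq_one (IsIrrCharacter.isCharacter χ.1.2) χ.2
      exact ⟨φ, Subtype.ext (Subtype.ext hφ.symm)⟩⟩

/-- There are as many linear characters as the index of the commutator subgroup. -/
theorem card_linear [Finite G] :
    Nat.card {χ : Cfsg.IrrCharacter G // (χ : G → ℂ) 1 = 1} = (commutator G).index := by
  have : NeZero (Monoid.exponent (Abelianization G) : ℂ) :=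
    ⟨by exact_mod_cast Monoid.exponent_ne_zero_of_finite⟩
  rw [← Nat.card_congr homEquivLinear, Nat.card_congr Abelianization.lift,
    CommGroup.card_monoidHom_of_hasEnoughRootsOfUnity (Abelianization G) ℂ]
  rfl

/-- The kernel of a character. -/
def charKer [Finite G] {χ : G → ℂ} (hχ : Cfsg.IsCharacter G χ) : Subgroup G where
  carrier := {g | χ g = χ 1}
  one_mem' := rfl
  mul_mem' {a b} ha hb := by
    obtain ⟨n, ρ, rfl⟩ := hχ
    simp only [Set.mem_ofPred_eq, Representation.char_one] at ha hb ⊢
    rw [char_eq_finrank_iff] at ha hb ⊢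
    rw [map_mul, ha, hb]
    rfl
  inv_mem' {a} ha := by
    simp only [Set.mem_ofPred_eq] at ha ⊢
    rw [IsCharacter.apply_inv hχ, ha, ← IsCharacter.apply_inv hχ, inv_one]

@[simp]
theorem mem_charKer [Finite G] {χ : G → ℂ} (hχ : Cfsg.IsCharacter G χ) {g : G} :
    g ∈ charKer hχ ↔ χ g = χ 1 := Iff.rfl

theorem charKer_normal [Finite G] {χ : G → ℂ} (hχ : Cfsg.IsCharacter G χ) :
    (charKer hχ).Normal :=
  ⟨fun g hg x => by
    simp only [mem_charKer] at hg ⊢
    rw [IsCharacter.isClassFunction hχ g x, hg]⟩

theorem IsCharacter.apply_mul_of_mem_ker [Finite G] {χ : G → ℂ} (hχ : Cfsg.IsCharacter G χ)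
    {a : G} (ha : χ a = χ 1) (g : G) : χ (a * g) = χ g := by
  obtain ⟨n, ρ, rfl⟩ := hχ
  rw [Representation.char_one, char_eq_finrank_iff] at ha
  simp only [Representation.character, map_mul, ha]
  rfl

/-- A group element in the kernel of every irreducible character is trivial. -/
theorem eq_one_of_forall_irr [Fintype G] {g : G}
    (h : ∀ χ : Cfsg.IrrCharacter G, (χ : G → ℂ) g = (χ : G → ℂ) 1) : g = 1 :=
  isConj_one_left.mp (isConj_iff_forall_irr.mpr h)

/-- A finite group is abelian iff all irreducible characters are linear. -/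
theorem comm_iff_forall_linear [Finite G] : (∀ a b : G, a * b = b * a) ↔
    ∀ χ : Cfsg.IrrCharacter G, (χ : G → ℂ) 1 = 1 := by
  refine ⟨fun hG χ => apply_one_eq_one_of_comm hG χ.2, fun h a b => ?_⟩
  cases nonempty_fintype G
  rw [← inv_mul_eq_one.trans eq_comm]
  refine eq_one_of_forall_irr fun χ => ?_
  obtain ⟨φ, hφ⟩ := exists_hom_of_apply_one_eq_one (IsIrrCharacter.isCharacter χ.2) (h χ)
  have : φ ((b * a)⁻¹ * (a * b)) = 1 := by
    rw [map_mul, map_inv, map_mul, map_mul, mul_comm (φ a)]
    exact inv_mul_cancel _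
  simp only [hφ, this, map_one]

end CfsgLib.Char
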