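import Cfsg.Agent.Lib.Char.Clifford
import Cfsg.Agent.Lib.Char.Constituent
import Cfsg.Agent.Lib.CharDeep.Clifford

/-!
# The Clifford correspondence
-/

set_option autoImplicit false

open scoped ComplexConjugate

namespace CfsgLib.Char

variable {G : Type*} [Group G] [Fintype G] {H T : Subgroup G} [hN : H.Normal] (hHT : H ≤ T)

/-- Restriction of a function on `T` to a subgroup `H ≤ T`. -/
def resLe (ψ : T → ℂ) : H → ℂ := fun h => ψ ⟨h, hHT h.2⟩

omit [Fintype G] hN in
theorem IsCharacter.resLe {ψ : T → ℂ} (hψ : Cfsg.IsCharacter T ψ) :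
    Cfsg.IsCharacter H (CfsgLib.Char.resLe hHT ψ) :=
  IsCharacter.comp hψ (Subgroup.inclusion hHT)

omit [Fintype G] hN in
theorem classInner_resLe [Fintype H] [Fintype (H.subgroupOf T)] (ψ : T → ℂ) (θ : H → ℂ) :
    Cfsg.classInner (fun x : H.subgroupOf T => ψ x)
      (fun x : H.subgroupOf T => θ ⟨(x : T), Subgroup.mem_subgroupOf.mp x.2⟩) =
      Cfsg.classInner (resLe hHT ψ) θ :=
  classInner_reindex (Subgroup.subgroupOfEquivOfLe hHT) (resLe hHT ψ) θ

/-- The hypothesis of the Clifford correspondence: `T` is the inertia group of `θ`. -/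
def IsInertia (θ : H → ℂ) (T : Subgroup G) : Prop :=
  ∀ g : G, g ∈ T ↔ ∀ h : H, θ ⟨g * h * g⁻¹, hN.conj_mem h h.2 g⟩ = θ h

omit [Fintype G] in
theorem isInertia_stab (θ : H → ℂ) : IsInertia θ (stab θ) := fun _ =>
  ⟨fun h x => congrFun h x, fun h => funext h⟩

variable [Fintype H] [Fintype T] {θ : H → ℂ} (hθ : Cfsg.IsIrrCharacter H θ) (hT : IsInertia θ T)

include hθ hT hHT

theorem apply_one_inertia {ψ : T → ℂ} (hψ : Cfsg.IsIrrCharacter T ψ)
    (hc : Cfsg.classInner (resLe hHT ψ) θ ≠ 0) :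
    ψ 1 = Cfsg.classInner (resLe hHT ψ) θ * θ 1 := by
  classical
  let e : H.subgroupOf T ≃* H := Subgroup.subgroupOfEquivOfLe hHT
  have hθ' : Cfsg.IsIrrCharacter (H.subgroupOf T) (θ ∘ e) := IsIrrCharacter.comp_equiv hθ e
  have hval : Cfsg.classInner (fun x : H.subgroupOf T => ψ x) (θ ∘ e) =
      Cfsg.classInner (resLe hHT ψ) θ := classInner_resLe hHT ψ θ
  have h := CfsgLib.CharDeep.Clifford.apply_one_eq hψ hθ' (by rw [hval]; exact hc) ⊤ fun g =>
    ⟨fun _ n => (hT g).mp g.2 ⟨((n : T) : G), Subgroup.mem_subgroupOf.mp n.2⟩,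
      fun _ => Subgroup.mem_top g⟩
  rw [Subgroup.index_top, Nat.cast_one, one_mul, hval] at h
  rw [h, Function.comp_apply, map_one]

/-- Induction from the inertia group: irreducible, with the same multiplicity over `θ`. -/
theorem indFun_inertia {ψ : T → ℂ} (hψ : Cfsg.IsIrrCharacter T ψ)
    (hc : Cfsg.classInner (resLe hHT ψ) θ ≠ 0) :
    Cfsg.IsIrrCharacter G (Cfsg.indFun T ψ) ∧
    Cfsg.classInner (fun h : H => Cfsg.indFun T ψ h) θ = Cfsg.classInner (resLe hHT ψ) θ := by
  classical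
  have hψc := IsIrrCharacter.isCharacter hψ
  have hI : Cfsg.IsCharacter G (Cfsg.indFun T ψ) := IsCharacter.indFun T hψc
  have hI1 : Cfsg.indFun T ψ 1 = (T.index : ℂ) * ψ 1 := indFun_one T ψ
  obtain ⟨χ, hχ, hne⟩ := IsCharacter.exists_constituent hI fun h0 => by
    rw [h0, Pi.zero_apply] at hI1
    exact mul_ne_zero (Nat.cast_ne_zero.mpr T.index_ne_zero_of_finite)
      (IsIrrCharacter.apply_one_ne_zero hψ) hI1.symm
  have hres : Cfsg.IsCharacter T (fun t : T => χ t) :=
    IsCharacter.restrict (IsIrrCharacter.isCharacter hχ) T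
  have hψχ : Cfsg.classInner (fun t : T => χ t) ψ ≠ 0 := by
    rw [classInner_indFun T ψ (IsIrrCharacter.isClassFunction hχ),
      IsCharacter.classInner_comm hψc hres] at hne
    exact hne
  have hdiff := CfsgLib.CharDeep.Clifford.isCharacter_sub_of_constituent hres hψ hψχ
  obtain ⟨e, he⟩ := IsCharacter.classInner_nat (IsCharacter.resLe hHT hψc)
    (IsIrrCharacter.isCharacter hθ)
  obtain ⟨k, hk⟩ := IsCharacter.classInner_nat (IsCharacter.resLe hHT hdiff)
    (IsIrrCharacter.isCharacter hθ)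
  have hsum : Cfsg.classInner (fun h : H => χ h) θ = ((e + k : ℕ) : ℂ) := by
    rw [show (fun h : H => χ h) = resLe hHT ψ + resLe hHT ((fun t : T => χ t) - ψ) from
      funext fun h => by simp [resLe], classInner_add_left, he, hk, Nat.cast_add]
  have he0 : e ≠ 0 := fun h0 => hc (by rw [he, h0, Nat.cast_zero])
  have hχ1 := CfsgLib.CharDeep.Clifford.apply_one_eq hχ hθ (by
    rw [hsum]; exact Nat.cast_ne_zero.mpr (by omega)) T hT
  rw [apply_one_inertia hHT hθ hT hψ hc, he] at hI1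
  rw [hsum] at hχ1
  obtain ⟨d, hd, hd'⟩ := IsIrrCharacter.apply_one_eq hθ
  obtain ⟨a, b, ha, hb, hab, heq⟩ := IsCharacter.constituent_degree_le hI hχ hne
  rw [hd', ha] at hχ1
  rw [hd', hb] at hI1
  have ha' : a = T.index * (e + k) * d := by exact_mod_cast hχ1
  have hb' : b = T.index * (e * d) := by exact_mod_cast hI1
  have hpos : 0 < T.index := Nat.pos_of_ne_zero T.index_ne_zero_of_finite
  have hk0 : k = 0 := by
    by_contra hk'
    have : T.index * (e * d) < T.index * (e + k) * d := by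
      rw [mul_assoc]
      exact Nat.mul_lt_mul_of_pos_left (Nat.mul_lt_mul_of_pos_right (by omega) hd) hpos
    omega
  have hab' : a = b := by rw [ha', hb', hk0, add_zero, mul_assoc]
  rw [heq hab']
  exact ⟨hχ, by rw [hsum, hk0, add_zero, he]⟩

/-- The correspondence is injective. -/
theorem indFun_inertia_inj {ψ ψ' : T → ℂ} (hψ : Cfsg.IsIrrCharacter T ψ)
    (hc : Cfsg.classInner (resLe hHT ψ) θ ≠ 0) (hψ' : Cfsg.IsIrrCharacter T ψ')
    (hc' : Cfsg.classInner (resLe hHT ψ') θ ≠ 0)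
    (he : Cfsg.indFun T ψ = Cfsg.indFun T ψ') : ψ = ψ' := by
  classical
  by_contra hne
  obtain ⟨hirr, hmul⟩ := indFun_inertia hHT hθ hT hψ hc
  set χ := Cfsg.indFun T ψ with hχ
  have hres : Cfsg.IsCharacter T (fun t : T => χ t) :=
    IsCharacter.restrict (IsIrrCharacter.isCharacter hirr) T
  have hin : ∀ φ : T → ℂ, Cfsg.IsIrrCharacter T φ → Cfsg.indFun T φ = χ →
      Cfsg.classInner (fun t : T => χ t) φ = 1 := fun φ hφ e => by
    rw [IsCharacter.classInner_comm hres (IsIrrCharacter.isCharacter hφ),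
      ← classInner_indFun T φ (IsIrrCharacter.isClassFunction hirr), e, classInner_irr_self hirr]
  have hd1 := CfsgLib.CharDeep.Clifford.isCharacter_sub_of_constituent hres hψ
    (by rw [hin ψ hψ hχ.symm]; exact one_ne_zero)
  have hd2 := CfsgLib.CharDeep.Clifford.isCharacter_sub_of_constituent hd1 hψ' (by
    rw [classInner_sub_left, hin ψ' hψ' he.symm, classInner_irr_ne hψ hψ' hne, sub_zero]
    exact one_ne_zero)
  obtain ⟨e₁, he₁⟩ := IsCharacter.classInner_nat
    (IsCharacter.resLe hHT (IsIrrCharacter.isCharacter hψ)) (IsIrrCharacter.isCharacter hθ)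
  obtain ⟨e₂, he₂⟩ := IsCharacter.classInner_nat
    (IsCharacter.resLe hHT (IsIrrCharacter.isCharacter hψ')) (IsIrrCharacter.isCharacter hθ)
  obtain ⟨k, hk⟩ := IsCharacter.classInner_nat (IsCharacter.resLe hHT hd2)
    (IsIrrCharacter.isCharacter hθ)
  have hsum : Cfsg.classInner (fun h : H => χ h) θ = ((e₁ + e₂ + k : ℕ) : ℂ) := by
    rw [show (fun h : H => χ h) = resLe hHT ψ + resLe hHT ψ' +
        resLe hHT ((fun t : T => χ t) - ψ - ψ') from funext fun h => by simp [resLe],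
      classInner_add_left, classInner_add_left, he₁, he₂, hk]
    push_cast; ring
  rw [hmul, he₁, Nat.cast_inj] at hsum
  exact hc' (by rw [he₂, show e₂ = 0 by omega, Nat.cast_zero])

/-- The correspondence is surjective. -/
theorem exists_eq_indFun_inertia {χ : G → ℂ} (hχ : Cfsg.IsIrrCharacter G χ)
    (hc : Cfsg.classInner (fun h : H => χ h) θ ≠ 0) :
    ∃ ψ : T → ℂ, Cfsg.IsIrrCharacter T ψ ∧ Cfsg.classInner (resLe hHT ψ) θ ≠ 0 ∧
      χ = Cfsg.indFun T ψ := by
  classical
  let θ₀ : H.subgroupOf T → ℂ := fun x => θ ⟨(x : T), Subgroup.mem_subgroupOf.mp x.2⟩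
  have hres : Cfsg.IsCharacter T (fun t : T => χ t) :=
    IsCharacter.restrict (IsIrrCharacter.isCharacter hχ) T
  obtain ⟨ψ, h1, h2⟩ := CfsgLib.CharDeep.Clifford.exists_constituent
    (IsCharacter.isClassFunction hres) (ψ := Cfsg.indFun (H.subgroupOf T) θ₀) (by
      rw [classInner_indFun_right _ _ (IsCharacter.isClassFunction hres),
        classInner_resLe hHT (fun t : T => χ t) θ]
      exact hc)
  rw [classInner_indFun_right _ _ (IsIrrCharacter.isClassFunction ψ.2),
    classInner_resLe hHT (ψ : T → ℂ) θ] at h2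
  obtain ⟨hirr, -⟩ := indFun_inertia hHT hθ hT ψ.2 h2
  refine ⟨ψ, ψ.2, h2, ?_⟩
  by_contra hne
  refine h1 ?_
  rw [IsCharacter.classInner_comm hres (isCharacter_irr ψ),
    ← classInner_indFun T (ψ : T → ℂ) (IsIrrCharacter.isClassFunction hχ)]
  exact classInner_irr_ne hirr hχ (Ne.symm hne)

end CfsgLib.Char
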