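import Cfsg.Agent.Lib.Char.Integral

/-!
# Class sum products, generalised orthogonality, commutator counting
-/

set_option autoImplicit false

open scoped ComplexConjugate
open Module

namespace CfsgLib.Char

universe u

variable {G : Type u} [Group G] [Fintype G]

section Rep

variable {V : Type*} [AddCommGroup V] [Module ℂ V] [FiniteDimensional ℂ V]

theorem sum_mul_char_mul (ρ : Representation ℂ G V) [ρ.IsIrreducible] {θ : G → ℂ}
    (hθ : Cfsg.IsClassFunction G θ) (g : G) :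
    ∑ x, θ x * ρ.character (x * g) =
      (∑ x, θ x * ρ.character x) / (finrank ℂ V : ℂ) * ρ.character g := by
  have h := congrArg (fun f => LinearMap.trace ℂ V (f * ρ g)) (sum_smul_eq_scalar ρ hθ)
  simp only [Finset.sum_mul, smul_mul_assoc, ← map_mul, map_sum, map_smul, smul_eq_mul,
    ← Module.End.one_eq_id, one_mul] at h
  exact h

/-- `χ x * χ y` as an average over conjugates of `y`. -/
theorem sum_char_mul_conjugate (ρ : Representation ℂ G V) [ρ.IsIrreducible] (x y : G) :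
    ∑ h : G, ρ.character (x * (h * y * h⁻¹)) =
      (Nat.card G : ℂ) * ρ.character x * ρ.character y / (finrank ℂ V : ℂ) := by
  obtain ⟨c, hc⟩ := exists_eq_smul_of_commute ρ (∑ h : G, ρ (h * y * h⁻¹)) fun z => by
    rw [← Module.End.mul_eq_comp, ← Module.End.mul_eq_comp, Finset.sum_mul, Finset.mul_sum]
    refine Fintype.sum_equiv (Equiv.mulLeft z⁻¹) _ _ fun h => ?_
    simp [← map_mul, mul_assoc]
  have hd : (finrank ℂ V : ℂ) ≠ 0 := by exact_mod_cast (irreducible_finrank_pos (ρ := ρ)).ne'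
  have htr := congrArg (LinearMap.trace ℂ V) hc
  simp only [map_sum, map_smul, smul_eq_mul, LinearMap.trace_id] at htr
  have htr' : (Nat.card G : ℂ) * ρ.character y = c * (finrank ℂ V : ℂ) := by
    rw [← htr, Finset.sum_congr rfl fun h (_ : h ∈ Finset.univ) => show
      LinearMap.trace ℂ V (ρ (h * y * h⁻¹)) = ρ.character y from ρ.char_conj y h]
    simp
  have h := congrArg (fun f => LinearMap.trace ℂ V (ρ x * f)) hc
  simp only [Finset.mul_sum, ← map_mul, map_sum, mul_smul_comm, map_smul, smul_eq_mul,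
    ← Module.End.one_eq_id, mul_one] at h
  change ∑ h : G, ρ.character (x * (h * y * h⁻¹)) = c * ρ.character x at h
  rw [h, eq_div_iff hd]
  linear_combination (-ρ.character x) * htr'

end Rep

theorem IsIrrCharacter.sum_mul_conjugate {χ : G → ℂ} (hχ : Cfsg.IsIrrCharacter G χ) (x y : G) :
    ∑ h : G, χ (x * (h * y * h⁻¹)) = (Nat.card G : ℂ) * χ x * χ y / χ 1 := by
  obtain ⟨n, ρ, hρ, rfl⟩ := hχ
  rw [Representation.char_one]
  exact sum_char_mul_conjugate ρ x y

/-- The generalised orthogonality relation. -/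
theorem IsIrrCharacter.sum_mul_apply {χ ψ : G → ℂ} (hχ : Cfsg.IsIrrCharacter G χ)
    (hψ : Cfsg.IsIrrCharacter G ψ) [Decidable (χ = ψ)] (g : G) :
    ∑ x, χ x * ψ (x⁻¹ * g) = if χ = ψ then (Nat.card G : ℂ) * χ g / χ 1 else 0 := by
  have hin : ∑ x, χ x⁻¹ * ψ x = (Nat.card G : ℂ) * Cfsg.classInner ψ χ := by
    rw [Cfsg.classInner, ← mul_assoc, mul_inv_cancel₀ card_ne_zero, one_mul]
    exact Finset.sum_congr rfl fun x _ => by rw [mul_comm, IsIrrCharacter.apply_inv hχ]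
  obtain ⟨n, ρ, hρ, rfl⟩ := id hψ
  have h := sum_mul_char_mul ρ (θ := fun x => χ x⁻¹)
    (fun a b => by simpa [mul_assoc] using IsIrrCharacter.isClassFunction hχ a⁻¹ b) g
  rw [hin] at h
  have h' : ∑ x, χ x * ρ.character (x⁻¹ * g) = ∑ x, χ x⁻¹ * ρ.character (x * g) :=
    Fintype.sum_equiv (Equiv.inv G) _ _ fun x => by simp
  rw [h', h]
  split_ifs with he
  · subst he
    rw [classInner_irr_self hχ, Representation.char_one, mul_one]
    ring
  · rw [classInner_irr_ne hψ hχ (Ne.symm he), mul_zero, zero_div, zero_mul]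

/-- Frobenius' formula for the number of ways of writing `g` as a commutator. -/
theorem card_commutator_eq (g : G) :
    (Nat.card {p : G × G // p.1 * p.2 * p.1⁻¹ * p.2⁻¹ = g} : ℂ) =
      (Nat.card G : ℂ) * ∑ χ : Cfsg.IrrCharacter G, (χ : G → ℂ) g / (χ : G → ℂ) 1 := by
  classical
  suffices key : ∀ g : G, (Nat.card {p : G × G // p.1 * p.2 * p.1⁻¹ * p.2⁻¹ = g} : ℂ) =
      (Nat.card G : ℂ) * ∑ χ : Cfsg.IrrCharacter G, (χ : G → ℂ) g⁻¹ / (χ : G → ℂ) 1 by
    have e : {p : G × G // p.1 * p.2 * p.1⁻¹ * p.2⁻¹ = g} ≃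
        {p : G × G // p.1 * p.2 * p.1⁻¹ * p.2⁻¹ = g⁻¹} :=
      (Equiv.prodComm G G).subtypeEquiv fun p => by
        simp only [Equiv.prodComm_apply, Prod.fst_swap, Prod.snd_swap]
        rw [← inv_inj (a := p.1 * p.2 * p.1⁻¹ * p.2⁻¹)]
        simp [mul_assoc]
    rw [Nat.card_congr e, key, inv_inv]
  intro g
  have hind : ∀ a b : G, (if a * b * a⁻¹ * b⁻¹ = g then (1 : ℂ) else 0) =
      (Nat.card G : ℂ)⁻¹ *
        ∑ χ : Cfsg.IrrCharacter G, (χ : G → ℂ) 1 * (χ : G → ℂ) (a * b * a⁻¹ * b⁻¹ * g⁻¹) := by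
    intro a b
    rw [regular_eq_sum_irr]
    simp only [mul_inv_eq_one]
    split_ifs <;> simp
  rw [Nat.card_eq_fintype_card, Fintype.card_subtype, ← Finset.sum_boole, Fintype.sum_prod_type]
  simp only [hind, ← Finset.mul_sum]
  have hχ : ∀ χ : Cfsg.IrrCharacter G,
      ∑ a : G, ∑ b : G, (χ : G → ℂ) (a * b * a⁻¹ * b⁻¹ * g⁻¹) =
        (Nat.card G : ℂ) ^ 2 * (χ : G → ℂ) g⁻¹ / (χ : G → ℂ) 1 ^ 2 := by
    intro χ
    have h1 : ∀ a : G, ∑ b : G, (χ : G → ℂ) (a * b * a⁻¹ * b⁻¹ * g⁻¹) =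
        (Nat.card G : ℂ) * ((χ : G → ℂ) (g⁻¹ * a) * (χ : G → ℂ) a⁻¹) / (χ : G → ℂ) 1 := by
      intro a
      rw [← mul_assoc, ← IsIrrCharacter.sum_mul_conjugate χ.2]
      refine Finset.sum_congr rfl fun b _ => ?_
      rw [IsClassFunction.mul_comm (IsIrrCharacter.isClassFunction χ.2)]
      simp [mul_assoc]
    rw [Finset.sum_congr rfl fun a _ => h1 a, ← Finset.sum_div, ← Finset.mul_sum]
    have h2 : ∑ a : G, (χ : G → ℂ) (g⁻¹ * a) * (χ : G → ℂ) a⁻¹ =
        (Nat.card G : ℂ) * (χ : G → ℂ) g⁻¹ / (χ : G → ℂ) 1 := by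
      have h3 := IsIrrCharacter.sum_mul_apply χ.2 χ.2 g⁻¹
      rw [if_pos rfl] at h3
      rw [← h3]
      refine Fintype.sum_equiv (Equiv.inv G) _ _ fun a => ?_
      simp only [Equiv.inv_apply, inv_inv]
      rw [IsClassFunction.mul_comm (IsIrrCharacter.isClassFunction χ.2) g⁻¹ a, mul_comm]
    rw [h2]
    ring
  rw [Finset.sum_congr rfl fun a _ => Finset.sum_comm, Finset.sum_comm, Finset.mul_sum,
    Finset.mul_sum]
  refine Finset.sum_congr rfl fun χ _ => ?_
  simp only [← Finset.mul_sum]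
  rw [hχ]
  field_simp [card_ne_zero (G := G), IsIrrCharacter.apply_one_ne_zero χ.2]

end CfsgLib.Char
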