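import Mathlib
import Cfsg.Prelude.Def_Characters

/-!
# Characters of finite groups: basic facts

Transport of representations to coordinate spaces, closure properties of `Cfsg.IsCharacter`,
eigenbases of the group elements, and the algebra of `Cfsg.classInner`.
-/

set_option autoImplicit false

open scoped ComplexConjugate
open Module

namespace CfsgLib.Char

universe u v w

/-! ### Transport -/

section Transport

variable {G : Type*} [Monoid G] {V W : Type*} [AddCommGroup V] [Module ℂ V]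
  [AddCommGroup W] [Module ℂ W]

/-- Transport a representation along a linear equivalence. -/
noncomputable def transport (ρ : Representation ℂ G V) (e : V ≃ₗ[ℂ] W) : Representation ℂ G W where
  toFun g := e.conj (ρ g)
  map_one' := by ext x; simp [LinearEquiv.conj_apply]
  map_mul' g h := by ext x; simp [LinearEquiv.conj_apply]

@[simp]
theorem transport_apply (ρ : Representation ℂ G V) (e : V ≃ₗ[ℂ] W) (g : G) (x : W) :
    transport ρ e g x = e (ρ g (e.symm x)) := rfl

/-- The transported representation is equivalent to the original one. -/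
noncomputable def transportEquiv (ρ : Representation ℂ G V) (e : V ≃ₗ[ℂ] W) :
    ρ.Equiv (transport ρ e) :=
  Representation.Equiv.mk e fun g => by ext x; simp

/-- Equivalent representations are irreducible together. -/
theorem isIrreducible_of_equiv {ρ : Representation ℂ G V} {σ : Representation ℂ G W}
    (φ : ρ.Equiv σ) [hρ : ρ.IsIrreducible] : σ.IsIrreducible := by
  rw [Representation.irreducible_iff_isSimpleModule_asModule] at hρ ⊢
  let f := Representation.IntertwiningMap.equivLinearMapAsModule ρ σ φ.toIntertwiningMap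
  have hb : Function.Bijective f := φ.toLinearEquiv.bijective
  exact IsSimpleModule.congr (LinearEquiv.ofBijective f hb).symm

theorem irreducible_finrank_pos {ρ : Representation ℂ G V} [FiniteDimensional ℂ V]
    [hρ : ρ.IsIrreducible] : 0 < finrank ℂ V := by
  rw [Module.finrank_pos_iff]
  rw [Representation.irreducible_iff_isSimpleModule_asModule] at hρ
  exact IsSimpleModule.nontrivial (MonoidAlgebra ℂ G) ρ.asModule

end Transport

/-! ### Characters of arbitrary finite-dimensional representations -/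

section OfRep

variable {G : Type u} [Group G] {V : Type v} [AddCommGroup V] [Module ℂ V] [FiniteDimensional ℂ V]

theorem isCharacter_of_rep (ρ : Representation ℂ G V) : Cfsg.IsCharacter G ρ.character :=
  ⟨finrank ℂ V, transport ρ (Module.finBasis ℂ V).equivFun,
    (Representation.char_iso (transportEquiv ρ _)).symm⟩

theorem isIrrCharacter_of_rep (ρ : Representation ℂ G V) [ρ.IsIrreducible] :
    Cfsg.IsIrrCharacter G ρ.character :=
  ⟨finrank ℂ V, transport ρ (Module.finBasis ℂ V).equivFun,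
    isIrreducible_of_equiv (transportEquiv ρ _),
    (Representation.char_iso (transportEquiv ρ _)).symm⟩

end OfRep

/-! ### Closure properties -/

section Closure

variable {G : Type u} [Group G]

theorem IsIrrCharacter.isCharacter {χ : G → ℂ} (h : Cfsg.IsIrrCharacter G χ) :
    Cfsg.IsCharacter G χ := by
  obtain ⟨n, ρ, _, rfl⟩ := h
  exact ⟨n, ρ, rfl⟩

theorem isCharacter_irr (χ : Cfsg.IrrCharacter G) : Cfsg.IsCharacter G (χ : G → ℂ) :=
  IsIrrCharacter.isCharacter χ.2

theorem char_prod {V W : Type*} [AddCommGroup V] [Module ℂ V] [FiniteDimensional ℂ V]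
    [AddCommGroup W] [Module ℂ W] [FiniteDimensional ℂ W]
    (ρ : Representation ℂ G V) (σ : Representation ℂ G W) :
    (ρ.prod σ).character = ρ.character + σ.character := by
  ext g
  exact LinearMap.trace_prodMap' (ρ g) (σ g)

theorem isCharacter_zero : Cfsg.IsCharacter G (0 : G → ℂ) := by
  refine ⟨0, Representation.trivial ℂ G _, ?_⟩
  ext g
  simp [Representation.character, Subsingleton.elim ((Representation.trivial ℂ G (Fin 0 → ℂ)) g) 0]

theorem IsCharacter.add {χ ψ : G → ℂ} (hχ : Cfsg.IsCharacter G χ) (hψ : Cfsg.IsCharacter G ψ) :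
    Cfsg.IsCharacter G (χ + ψ) := by
  obtain ⟨n, ρ, rfl⟩ := hχ
  obtain ⟨m, σ, rfl⟩ := hψ
  rw [← char_prod]
  exact isCharacter_of_rep _

theorem IsCharacter.mul {χ ψ : G → ℂ} (hχ : Cfsg.IsCharacter G χ) (hψ : Cfsg.IsCharacter G ψ) :
    Cfsg.IsCharacter G (χ * ψ) := by
  obtain ⟨n, ρ, rfl⟩ := hχ
  obtain ⟨m, σ, rfl⟩ := hψ
  rw [← Representation.char_tensor]
  exact isCharacter_of_rep _

theorem isCharacter_one : Cfsg.IsCharacter G (fun _ => 1 : G → ℂ) := by
  have h : (Representation.trivial ℂ G ℂ).character = fun _ => 1 := by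
    ext g
    simp [Representation.character, Representation.trivial]
  exact h ▸ isCharacter_of_rep _

theorem isCharacter_sum {ι : Type*} (s : Finset ι) (f : ι → G → ℂ)
    (h : ∀ i ∈ s, Cfsg.IsCharacter G (f i)) : Cfsg.IsCharacter G (∑ i ∈ s, f i) := by
  classical
  induction s using Finset.induction_on with
  | empty => simpa using isCharacter_zero
  | insert a s ha ih =>
    rw [Finset.sum_insert ha]
    exact IsCharacter.add (h a (Finset.mem_insert_self a s))
      (ih fun i hi => h i (Finset.mem_insert_of_mem hi))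

theorem IsCharacter.nsmul {χ : G → ℂ} (hχ : Cfsg.IsCharacter G χ) (n : ℕ) :
    Cfsg.IsCharacter G (n • χ) := by
  induction n with
  | zero => simpa using isCharacter_zero
  | succ n ih => rw [succ_nsmul]; exact IsCharacter.add ih hχ

theorem IsCharacter.pow {χ : G → ℂ} (hχ : Cfsg.IsCharacter G χ) (n : ℕ) :
    Cfsg.IsCharacter G (χ ^ n) := by
  induction n with
  | zero => rw [pow_zero]; exact isCharacter_one
  | succ n ih => rw [pow_succ]; exact IsCharacter.mul ih hχ

theorem IsCharacter.comp {H : Type*} [Group H] {χ : G → ℂ} (hχ : Cfsg.IsCharacter G χ)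
    (f : H →* G) : Cfsg.IsCharacter H (χ ∘ f) := by
  obtain ⟨n, ρ, rfl⟩ := hχ
  exact ⟨n, MonoidHom.comp ρ f, rfl⟩

theorem IsCharacter.restrict {χ : G → ℂ} (hχ : Cfsg.IsCharacter G χ) (H : Subgroup G) :
    Cfsg.IsCharacter H (fun h : H => χ h) :=
  IsCharacter.comp hχ H.subtype

theorem IsCharacter.apply_one_eq {χ : G → ℂ} (hχ : Cfsg.IsCharacter G χ) :
    ∃ n : ℕ, χ 1 = n := by
  obtain ⟨n, ρ, rfl⟩ := hχ
  exact ⟨n, by simp⟩

theorem IsIrrCharacter.apply_one_eq {χ : G → ℂ} (hχ : Cfsg.IsIrrCharacter G χ) :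
    ∃ n : ℕ, 0 < n ∧ χ 1 = n := by
  obtain ⟨n, ρ, hρ, rfl⟩ := hχ
  exact ⟨n, by simpa using irreducible_finrank_pos (ρ := ρ), by simp⟩

theorem IsIrrCharacter.apply_one_ne_zero {χ : G → ℂ} (hχ : Cfsg.IsIrrCharacter G χ) :
    χ 1 ≠ 0 := by
  obtain ⟨n, hn, h⟩ := IsIrrCharacter.apply_one_eq hχ
  rw [h]
  exact_mod_cast hn.ne'

theorem IsCharacter.isClassFunction {χ : G → ℂ} (hχ : Cfsg.IsCharacter G χ) :
    Cfsg.IsClassFunction G χ := by
  obtain ⟨n, ρ, rfl⟩ := hχ
  exact fun g h => ρ.char_conj g h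

theorem IsIrrCharacter.isClassFunction {χ : G → ℂ} (hχ : Cfsg.IsIrrCharacter G χ) :
    Cfsg.IsClassFunction G χ :=
  IsCharacter.isClassFunction (IsIrrCharacter.isCharacter hχ)

theorem IsClassFunction.apply_eq_of_isConj {θ : G → ℂ} (hθ : Cfsg.IsClassFunction G θ)
    {g h : G} (hgh : IsConj g h) : θ g = θ h := by
  obtain ⟨c, rfl⟩ := isConj_iff.mp hgh
  exact (hθ g c).symm

theorem IsClassFunction.mul_comm {θ : G → ℂ} (hθ : Cfsg.IsClassFunction G θ)
    (g h : G) : θ (g * h) = θ (h * g) := by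
  simpa [mul_assoc] using (hθ (g * h) h).symm

theorem IsGeneralizedCharacter.isClassFunction {θ : G → ℂ}
    (hθ : Cfsg.IsGeneralizedCharacter G θ) : Cfsg.IsClassFunction G θ := by
  obtain ⟨a, b, ha, hb, rfl⟩ := hθ
  intro g h
  simp [IsCharacter.isClassFunction ha g h, IsCharacter.isClassFunction hb g h]

theorem IsCharacter.isGeneralizedCharacter {χ : G → ℂ} (hχ : Cfsg.IsCharacter G χ) :
    Cfsg.IsGeneralizedCharacter G χ :=
  ⟨χ, 0, hχ, isCharacter_zero, by simp⟩

theorem IsIrrCharacter.comp_surjective {H : Type*} [Group H] {χ : G → ℂ}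
    (hχ : Cfsg.IsIrrCharacter G χ) (f : H →* G) (hf : Function.Surjective f) :
    Cfsg.IsIrrCharacter H (χ ∘ f) := by
  obtain ⟨n, ρ, hρ, rfl⟩ := hχ
  let e : Subrepresentation (MonoidHom.comp ρ f) ≃o Subrepresentation ρ :=
    { toFun := fun S => ⟨S.toSubmodule, fun g v hv => by
        obtain ⟨h, rfl⟩ := hf g
        exact S.apply_mem_toSubmodule h hv⟩
      invFun := fun S => ⟨S.toSubmodule, fun h v hv => S.apply_mem_toSubmodule (f h) hv⟩
      left_inv := fun _ => rfl
      right_inv := fun _ => rfl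
      map_rel_iff' := Iff.rfl }
  exact ⟨n, MonoidHom.comp ρ f, e.isSimpleOrder_iff.mpr hρ, rfl⟩

end Closure

/-! ### Eigenbases -/

section Eigen

variable {V : Type*} [AddCommGroup V] [Module ℂ V] [FiniteDimensional ℂ V]

theorem exists_eigenbasis_of_pow_eq_one (f : Module.End ℂ V) {n : ℕ} (hn : n ≠ 0)
    (hf : f ^ n = 1) :
    ∃ (b : Basis (Fin (finrank ℂ V)) ℂ V) (μ : Fin (finrank ℂ V) → ℂ),
      ∀ i, f (b i) = μ i • b i ∧ μ i ^ n = 1 := by
  classical
  have hss : f.IsSemisimple := by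
    refine Module.End.isSemisimple_of_squarefree_aeval_eq_zero (p := Polynomial.X ^ n - 1)
      ((Polynomial.X_pow_sub_one_separable_iff.mpr (by exact_mod_cast hn)).squarefree) ?_
    simp [hf]
  have htop : ⨆ μ, f.eigenspace μ = ⊤ := by
    rw [← Module.End.iSup_maxGenEigenspace_eq_top f]
    congr 1
    ext1 μ
    rw [hss.isFinitelySemisimple.maxGenEigenspace_eq_eigenspace]
  have hI : DirectSum.IsInternal f.eigenspace :=
    DirectSum.isInternal_submodule_of_iSupIndep_of_iSup_eq_top f.eigenspaces_iSupIndep htop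
  let b₀ := hI.collectedBasis fun μ => Module.finBasis ℂ (f.eigenspace μ)
  let e := b₀.indexEquiv (Module.finBasis ℂ V)
  refine ⟨b₀.reindex e, fun i => (e.symm i).1, fun i => ?_⟩
  have hmem : f (b₀ (e.symm i)) = (e.symm i).1 • b₀ (e.symm i) :=
    Module.End.mem_eigenspace_iff.mp (hI.collectedBasis_mem _ (e.symm i))
  refine ⟨by simpa using hmem, ?_⟩
  have hpow : (f ^ n) (b₀ (e.symm i)) = (e.symm i).1 ^ n • b₀ (e.symm i) := by
    have key : ∀ m : ℕ, (f ^ m) (b₀ (e.symm i)) = (e.symm i).1 ^ m • b₀ (e.symm i) := by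
      intro m
      induction m with
      | zero => simp
      | succ m ih => rw [pow_succ, Module.End.mul_apply, hmem, map_smul, ih, smul_smul, pow_succ']
    exact key n
  rw [hf, Module.End.one_apply] at hpow
  have := hpow.symm
  nth_rewrite 2 [← one_smul ℂ (b₀ (e.symm i))] at this
  exact smul_left_injective ℂ (b₀.ne_zero _) this

omit [FiniteDimensional ℂ V] in
theorem trace_eq_sum_of_eigen (f : Module.End ℂ V) {ι : Type*} [Fintype ι]
    (b : Basis ι ℂ V) (μ : ι → ℂ) (h : ∀ i, f (b i) = μ i • b i) :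
    LinearMap.trace ℂ V f = ∑ i, μ i := by
  classical
  rw [LinearMap.trace_eq_matrix_trace ℂ b, Matrix.trace]
  simp [LinearMap.toMatrix_apply, h]

variable {G : Type*} [Group G] [Finite G]

/-- A simultaneous eigen-description of the powers of `ρ g`. -/
theorem exists_eigenbasis (ρ : Representation ℂ G V) (g : G) :
    ∃ (b : Basis (Fin (finrank ℂ V)) ℂ V) (μ : Fin (finrank ℂ V) → ℂ),
      (∀ i, μ i ^ orderOf g = 1) ∧ (∀ (k : ℕ) i, ρ (g ^ k) (b i) = μ i ^ k • b i) := by
  obtain ⟨b, μ, h⟩ := exists_eigenbasis_of_pow_eq_one (ρ g)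
    (orderOf_pos g).ne' (by rw [← map_pow, pow_orderOf_eq_one, map_one])
  refine ⟨b, μ, fun i => (h i).2, fun k i => ?_⟩
  rw [map_pow]
  induction k with
  | zero => simp
  | succ k ih => rw [pow_succ, Module.End.mul_apply, (h i).1, map_smul, ih, smul_smul, pow_succ']

/-- The values of a character on the powers of `g` are power sums of roots of unity. -/
theorem exists_eigenvalues (ρ : Representation ℂ G V) (g : G) :
    ∃ μ : Fin (finrank ℂ V) → ℂ,
      (∀ i, μ i ^ orderOf g = 1) ∧ ∀ k : ℕ, ρ.character (g ^ k) = ∑ i, μ i ^ k := by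
  obtain ⟨b, μ, h1, h2⟩ := exists_eigenbasis ρ g
  exact ⟨μ, h1, fun k => trace_eq_sum_of_eigen _ b _ (h2 k)⟩

theorem norm_eq_one_of_pow_orderOf {z : ℂ} {g : G} (h : z ^ orderOf g = 1) : ‖z‖ = 1 :=
  Complex.norm_eq_one_of_pow_eq_one h (orderOf_pos g).ne'

/-- The character at `g⁻¹` is the complex conjugate of the character at `g`. -/
theorem char_inv_eq_conj (ρ : Representation ℂ G V) (g : G) :
    ρ.character g⁻¹ = conj (ρ.character g) := by
  obtain ⟨μ, hμ, hk⟩ := exists_eigenvalues ρ g
  have hg : g⁻¹ = g ^ (orderOf g - 1) := by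
    rw [inv_eq_iff_mul_eq_one, ← pow_succ', Nat.sub_add_cancel (orderOf_pos g),
      pow_orderOf_eq_one]
  have h1 := hk 1
  rw [pow_one] at h1
  rw [hg, hk, h1, map_sum]
  refine Finset.sum_congr rfl fun i _ => ?_
  rw [pow_one]
  have hne : μ i ≠ 0 := fun h0 => by
    have := norm_eq_one_of_pow_orderOf (hμ i)
    simp [h0] at this
  rw [← Complex.inv_eq_conj (norm_eq_one_of_pow_orderOf (hμ i))]
  refine eq_inv_of_mul_eq_one_left ?_
  rw [← pow_succ, Nat.sub_add_cancel (orderOf_pos g)]
  exact hμ i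

theorem isIntegral_of_pow_eq_one {z : ℂ} {n : ℕ} (hn : n ≠ 0) (h : z ^ n = 1) : IsIntegral ℤ z :=
  IsIntegral.of_pow (Nat.pos_of_ne_zero hn) (h ▸ isIntegral_one)

theorem char_isIntegral (ρ : Representation ℂ G V) (g : G) : IsIntegral ℤ (ρ.character g) := by
  obtain ⟨μ, hμ, hk⟩ := exists_eigenvalues ρ g
  have h1 := hk 1
  rw [pow_one] at h1
  rw [h1]
  exact IsIntegral.sum _ fun i _ => by
    rw [pow_one]; exact isIntegral_of_pow_eq_one (orderOf_pos g).ne' (hμ i)

theorem norm_char_le (ρ : Representation ℂ G V) (g : G) :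
    ‖ρ.character g‖ ≤ (finrank ℂ V : ℝ) := by
  obtain ⟨μ, hμ, hk⟩ := exists_eigenvalues ρ g
  have h1 := hk 1
  rw [pow_one] at h1
  rw [h1]
  refine le_trans (norm_sum_le _ _) ?_
  simp [fun i => norm_eq_one_of_pow_orderOf (hμ i)]

/-- If the character at `g` has maximal absolute value, `ρ g` is a scalar. -/
theorem exists_scalar_of_norm_char_eq (ρ : Representation ℂ G V) (g : G)
    (h : ‖ρ.character g‖ = (finrank ℂ V : ℝ)) :
    ∃ ω : ℂ, ‖ω‖ = 1 ∧ ρ g = ω • (LinearMap.id : V →ₗ[ℂ] V) ∧
      ρ.character g = (finrank ℂ V : ℂ) * ω := by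
  obtain ⟨b, μ, hμ, hk⟩ := exists_eigenbasis ρ g
  have hnorm : ∀ i, ‖μ i‖ = 1 := fun i => norm_eq_one_of_pow_orderOf (hμ i)
  have h1 : ∀ i, ρ g (b i) = μ i • b i := fun i => by simpa using hk 1 i
  have hc : ρ.character g = ∑ i, μ i := trace_eq_sum_of_eigen _ b _ h1
  rcases Nat.eq_zero_or_pos (finrank ℂ V) with h0 | h0
  · refine ⟨1, by simp, ?_, ?_⟩
    · apply b.ext
      intro i
      exact (Fin.cast h0 i).elim0
    · rw [hc]
      have : IsEmpty (Fin (finrank ℂ V)) := by rw [h0]; infer_instance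
      simp [h0]
  · set S := ∑ i, μ i with hS
    rw [hc] at h
    have hSne : S ≠ 0 := by
      intro h'
      rw [h', norm_zero] at h
      have : (0 : ℝ) < finrank ℂ V := by exact_mod_cast h0
      linarith
    set ω := S / (finrank ℂ V : ℂ) with hω
    have hd : (finrank ℂ V : ℂ) ≠ 0 := by exact_mod_cast h0.ne'
    have hωn : ‖ω‖ = 1 := by
      rw [hω, norm_div, h, Complex.norm_natCast, div_self (by exact_mod_cast h0.ne')]
    have hle : ∀ i, (μ i * conj ω).re ≤ 1 := fun i => by
      refine le_trans (Complex.re_le_norm _) ?_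
      rw [norm_mul, Complex.norm_conj, hnorm, hωn, one_mul]
    have hsum : ∑ i, (μ i * conj ω).re = ∑ _i : Fin (finrank ℂ V), (1 : ℝ) := by
      rw [← Complex.re_sum, ← Finset.sum_mul]
      have hSω : ∑ i, μ i = (finrank ℂ V : ℂ) * ω := by
        rw [hω, mul_div_cancel₀ _ hd]
      rw [hSω, mul_assoc, Complex.mul_conj, Complex.normSq_eq_norm_sq, hωn]
      simp
    have heq : ∀ i, (μ i * conj ω).re = 1 := fun i =>
      (Finset.sum_eq_sum_iff_of_le fun i _ => hle i).mp hsum i (Finset.mem_univ i)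
    have hμω : ∀ i, μ i = ω := by
      intro i
      have h2 : Complex.normSq (μ i - ω) = 0 := by
        rw [Complex.normSq_sub, Complex.normSq_eq_norm_sq, Complex.normSq_eq_norm_sq, hnorm, hωn,
          heq]
        norm_num
      exact sub_eq_zero.mp (Complex.normSq_eq_zero.mp h2)
    refine ⟨ω, hωn, ?_, ?_⟩
    · apply b.ext
      intro i
      simp [h1, hμω]
    · rw [hc, hS]
      simp [hμω]

/-- The kernel of `ρ` is where the character takes the value of the degree. -/
theorem char_eq_finrank_iff (ρ : Representation ℂ G V) (g : G) :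
    ρ.character g = (finrank ℂ V : ℂ) ↔ ρ g = LinearMap.id := by
  constructor
  · intro h
    obtain ⟨ω, -, hg, hc⟩ := exists_scalar_of_norm_char_eq ρ g (by rw [h, Complex.norm_natCast])
    rcases Nat.eq_zero_or_pos (finrank ℂ V) with h0 | h0
    · have : Subsingleton V := Module.finrank_zero_iff.mp h0
      exact Subsingleton.elim _ _
    · have hω : ω = 1 := by
        rw [h] at hc
        exact (mul_eq_left₀ (by exact_mod_cast h0.ne')).mp hc.symm
      rw [hg, hω, one_smul]
  · intro h
    simp [Representation.character, h]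

end Eigen

section CharInv

variable {G : Type u} [Group G] [Finite G]

theorem IsCharacter.apply_inv {χ : G → ℂ} (hχ : Cfsg.IsCharacter G χ) (g : G) :
    χ g⁻¹ = conj (χ g) := by
  obtain ⟨n, ρ, rfl⟩ := hχ
  exact char_inv_eq_conj ρ g

theorem IsIrrCharacter.apply_inv {χ : G → ℂ} (hχ : Cfsg.IsIrrCharacter G χ) (g : G) :
    χ g⁻¹ = conj (χ g) :=
  IsCharacter.apply_inv (IsIrrCharacter.isCharacter hχ) g

theorem IsCharacter.isIntegral {χ : G → ℂ} (hχ : Cfsg.IsCharacter G χ) (g : G) :
    IsIntegral ℤ (χ g) := by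
  obtain ⟨n, ρ, rfl⟩ := hχ
  exact char_isIntegral ρ g

theorem IsCharacter.conj' {χ : G → ℂ} (hχ : Cfsg.IsCharacter G χ) :
    Cfsg.IsCharacter G (fun g => conj (χ g)) := by
  obtain ⟨n, ρ, rfl⟩ := hχ
  have h : ρ.dual.character = fun g => conj (ρ.character g) := by
    ext g
    rw [Representation.char_dual, char_inv_eq_conj]
  exact h ▸ isCharacter_of_rep _

end CharInv

/-! ### The inner product -/

section Inner

variable {G : Type u} [Group G] [Fintype G]

theorem card_ne_zero : (Nat.card G : ℂ) ≠ 0 := by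
  exact_mod_cast Nat.card_pos.ne'

theorem classInner_add_left (φ φ' ψ : G → ℂ) :
    Cfsg.classInner (φ + φ') ψ = Cfsg.classInner φ ψ + Cfsg.classInner φ' ψ := by
  simp [Cfsg.classInner, add_mul, Finset.sum_add_distrib, mul_add]

theorem classInner_add_right (φ ψ ψ' : G → ℂ) :
    Cfsg.classInner φ (ψ + ψ') = Cfsg.classInner φ ψ + Cfsg.classInner φ ψ' := by
  simp [Cfsg.classInner, mul_add, Finset.sum_add_distrib]

theorem classInner_smul_left (c : ℂ) (φ ψ : G → ℂ) :
    Cfsg.classInner (c • φ) ψ = c * Cfsg.classInner φ ψ := by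
  simp only [Cfsg.classInner, Pi.smul_apply, smul_eq_mul, mul_assoc, ← Finset.mul_sum]
  ring

theorem classInner_smul_right (c : ℂ) (φ ψ : G → ℂ) :
    Cfsg.classInner φ (c • ψ) = conj c * Cfsg.classInner φ ψ := by
  simp only [Cfsg.classInner, Pi.smul_apply, smul_eq_mul, map_mul, mul_left_comm (φ _) (conj c),
    ← Finset.mul_sum]
  ring

theorem classInner_conj_symm (φ ψ : G → ℂ) :
    conj (Cfsg.classInner φ ψ) = Cfsg.classInner ψ φ := by
  simp only [Cfsg.classInner, map_mul, map_sum, map_inv₀, map_natCast, Complex.conj_conj]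
  congr 1
  exact Finset.sum_congr rfl fun g _ => mul_comm _ _

@[simp]
theorem classInner_zero_left (ψ : G → ℂ) : Cfsg.classInner 0 ψ = 0 := by
  simp [Cfsg.classInner]

@[simp]
theorem classInner_zero_right (φ : G → ℂ) : Cfsg.classInner φ 0 = 0 := by
  simp [Cfsg.classInner]

theorem classInner_neg_left (φ ψ : G → ℂ) :
    Cfsg.classInner (-φ) ψ = -Cfsg.classInner φ ψ := by
  simp [Cfsg.classInner]

theorem classInner_neg_right (φ ψ : G → ℂ) :
    Cfsg.classInner φ (-ψ) = -Cfsg.classInner φ ψ := by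
  simp [Cfsg.classInner]

theorem classInner_sub_left (φ φ' ψ : G → ℂ) :
    Cfsg.classInner (φ - φ') ψ = Cfsg.classInner φ ψ - Cfsg.classInner φ' ψ := by
  rw [sub_eq_add_neg, classInner_add_left, classInner_neg_left, sub_eq_add_neg]

theorem classInner_sub_right (φ ψ ψ' : G → ℂ) :
    Cfsg.classInner φ (ψ - ψ') = Cfsg.classInner φ ψ - Cfsg.classInner φ ψ' := by
  rw [sub_eq_add_neg, classInner_add_right, classInner_neg_right, sub_eq_add_neg]

theorem classInner_sum_left {ι : Type*} (s : Finset ι) (f : ι → G → ℂ) (ψ : G → ℂ) :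
    Cfsg.classInner (∑ i ∈ s, f i) ψ = ∑ i ∈ s, Cfsg.classInner (f i) ψ := by
  classical
  induction s using Finset.induction_on with
  | empty => simp
  | insert a s ha ih => simp [Finset.sum_insert ha, classInner_add_left, ih]

theorem classInner_sum_right {ι : Type*} (s : Finset ι) (φ : G → ℂ) (f : ι → G → ℂ) :
    Cfsg.classInner φ (∑ i ∈ s, f i) = ∑ i ∈ s, Cfsg.classInner φ (f i) := by
  classical
  induction s using Finset.induction_on with
  | empty => simp
  | insert a s ha ih => simp [Finset.sum_insert ha, classInner_add_right, ih]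

theorem classInner_self (φ : G → ℂ) :
    Cfsg.classInner φ φ = (((Nat.card G : ℝ)⁻¹ * ∑ g, ‖φ g‖ ^ 2 : ℝ) : ℂ) := by
  simp [Cfsg.classInner, Complex.mul_conj, Complex.normSq_eq_norm_sq]

theorem classInner_self_eq_zero {φ : G → ℂ} : Cfsg.classInner φ φ = 0 ↔ φ = 0 := by
  refine ⟨fun h => ?_, fun h => by simp [h]⟩
  have h' : ∑ g, ‖φ g‖ ^ 2 = 0 := by
    rw [classInner_self, Complex.ofReal_eq_zero, mul_eq_zero] at h
    rcases h with h | h
    · simp at h
    · exact h
  ext g
  simpa using (Finset.sum_eq_zero_iff_of_nonneg fun g _ => by positivity).mp h' g (Finset.mem_univ g)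

theorem classInner_fun_one_right (φ : G → ℂ) :
    Cfsg.classInner φ (fun _ => 1) = (Nat.card G : ℂ)⁻¹ * ∑ g, φ g := by
  simp [Cfsg.classInner]

theorem classInner_reindex {H : Type*} [Group H] [Fintype H] (e : H ≃* G) (φ ψ : G → ℂ) :
    Cfsg.classInner (φ ∘ e) (ψ ∘ e) = Cfsg.classInner φ ψ := by
  simp only [Cfsg.classInner, Function.comp, Nat.card_congr e.toEquiv]
  congr 1
  exact e.toEquiv.sum_comp fun g => φ g * conj (ψ g)

end Inner

end CfsgLib.Char
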