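import Mathlib

/-!
Irreducible representations over an algebraically closed field of characteristic `p`: their traces are
linearly independent and span the class functions that only depend on the part of order prime to `p`.
Hence there are as many of them as classes of elements of order prime to `p`.
-/

set_option autoImplicit false
set_option linter.unusedSectionVars false

open scoped MonoidAlgebra
open Module (finrank)

namespace CfsgLib.SimpleTrace

universe u v w

variable {G : Type u} [Group G] {k : Type v} [Field k]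

/-- A submodule stable under the group. -/
def Stable {V : Type w} [AddCommGroup V] [Module k V] (ρ : Representation k G V) (W : Submodule k V) : Prop :=
  ∀ g : G, ∀ x ∈ W, ρ g x ∈ W

/-- No stable submodules but the two trivial ones. -/
def Irr {V : Type w} [AddCommGroup V] [Module k V] (ρ : Representation k G V) : Prop :=
  Nontrivial V ∧ ∀ W : Submodule k V, Stable ρ W → W = ⊥ ∨ W = ⊤

theorem Irr.isIrreducible {V : Type w} [AddCommGroup V] [Module k V] {ρ : Representation k G V} (h : Irr ρ) :
    Representation.IsIrreducible ρ := by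
  haveI := h.1
  have hbot : ∀ x : V, x ∈ (⊥ : Subrepresentation ρ) ↔ x = 0 := fun x => Iff.rfl
  haveI : Nontrivial (Subrepresentation ρ) := by
    obtain ⟨x, hx⟩ := exists_ne (0 : V)
    refine ⟨⊥, ⊤, fun e => hx ((hbot x).mp ?_)⟩
    rw [e]; trivial
  exact ⟨fun s => (h.2 s.toSubmodule fun g x hx => s.apply_mem_toSubmodule g hx).imp
    (fun e => Subrepresentation.toSubmodule_injective e) (fun e => Subrepresentation.toSubmodule_injective e)⟩

/-- Traces are additive on a stable submodule and its quotient. -/
theorem trace_split {V : Type w} [AddCommGroup V] [Module k V] [FiniteDimensional k V] (f : V →ₗ[k] V)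
    (W : Submodule k V) (hW : ∀ x ∈ W, f x ∈ W) :
    LinearMap.trace k V f = LinearMap.trace k W (f.restrict hW) +
      LinearMap.trace k (V ⧸ W) (W.mapQ W f hW) := by
  obtain ⟨C, hC⟩ := W.exists_isCompl
  set p : V →ₗ[k] W := W.projectionOnto C hC
  obtain ⟨s, hs⟩ := W.mkQ.exists_rightInverse_of_surjective W.range_mkQ
  have hid : ∀ x : V, ∃ y : W, x = (y : V) + s (W.mkQ x) := fun x => ⟨⟨x - s (W.mkQ x), by
    rw [← Submodule.Quotient.mk_eq_zero, ← Submodule.mkQ_apply, map_sub,
      show W.mkQ (s (W.mkQ x)) = W.mkQ x from DFunLike.congr_fun hs (W.mkQ x), sub_self]⟩, by simp⟩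
  let p' : V →ₗ[k] W := LinearMap.codRestrict W (LinearMap.id - s ∘ₗ W.mkQ) fun x => by
    obtain ⟨y, hy⟩ := hid x
    rw [show ((LinearMap.id - s ∘ₗ W.mkQ : V →ₗ[k] V)) x = x - s (W.mkQ x) from rfl,
      show x - s (W.mkQ x) = (y : V) from sub_eq_iff_eq_add.mpr hy]
    exact y.2
  have hsum : f = f ∘ₗ (W.subtype ∘ₗ p') + f ∘ₗ (s ∘ₗ W.mkQ) := by
    refine LinearMap.ext fun x => ?_
    show f x = f (x - s (W.mkQ x)) + f (s (W.mkQ x))
    rw [← map_add, sub_add_cancel]
  conv_lhs => rw [hsum]
  rw [map_add, show LinearMap.trace k V (f ∘ₗ (W.subtype ∘ₗ p')) =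
      LinearMap.trace k W (p' ∘ₗ f ∘ₗ W.subtype) from LinearMap.trace_comp_comm' p' (f ∘ₗ W.subtype),
    show LinearMap.trace k V (f ∘ₗ (s ∘ₗ W.mkQ)) = LinearMap.trace k (V ⧸ W) (W.mkQ ∘ₗ f ∘ₗ s) from
      LinearMap.trace_comp_comm' W.mkQ (f ∘ₗ s)]
  congr 2
  · refine LinearMap.ext fun y => Subtype.ext ?_
    have e : W.mkQ (f (y : V)) = 0 := by
      rw [Submodule.mkQ_apply, Submodule.Quotient.mk_eq_zero]; exact hW _ y.2
    show f (y : V) - s (W.mkQ (f (y : V))) = f y
    rw [e, map_zero, sub_zero]
  · refine LinearMap.ext fun z => ?_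
    show W.mkQ (f (s z)) = W.mapQ W f hW z
    have hz : W.mkQ (s z) = z := DFunLike.congr_fun hs z
    conv_rhs => rw [← hz]
    rfl

variable [Finite G]

/-- The trace of a representation as a function. -/
noncomputable def traceFun {V : Type w} [AddCommGroup V] [Module k V] (ρ : Representation k G V) : G → k :=
  fun g => LinearMap.trace k V (ρ g)

/-- The representation on the quotient by a stable submodule. -/
noncomputable def quotRep {V : Type w} [AddCommGroup V] [Module k V] (ρ : Representation k G V) (W : Submodule k V)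
    (hW : Stable ρ W) : Representation k G (V ⧸ W) where
  toFun g := W.mapQ W (ρ g) (fun x hx => hW g x hx)
  map_one' := Submodule.linearMap_qext _ (LinearMap.ext fun x => by simp)
  map_mul' a b := Submodule.linearMap_qext _ (LinearMap.ext fun x => by simp)

/-- The representation on a stable submodule. -/
noncomputable def subRep {V : Type w} [AddCommGroup V] [Module k V] (ρ : Representation k G V) (W : Submodule k V)
    (hW : Stable ρ W) : Representation k G W where
  toFun g := (ρ g).restrict (hW g)
  map_one' := by ext; simp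
  map_mul' a b := by ext; simp

/-- A family of traces that contains every irreducible trace spans every trace. -/
theorem traceFun_mem_span {S : Set (G → k)}
    (hall : ∀ (V : Type w) [AddCommGroup V] [Module k V] [FiniteDimensional k V] (ρ : Representation k G V),
      Irr ρ → traceFun ρ ∈ S) :
    ∀ (V : Type w) [AddCommGroup V] [Module k V] [FiniteDimensional k V] (ρ : Representation k G V),
      traceFun ρ ∈ Submodule.span k S := by
  suffices ∀ (d : ℕ) (V : Type w) [AddCommGroup V] [Module k V] [FiniteDimensional k V]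
      (ρ : Representation k G V), finrank k V = d → traceFun ρ ∈ Submodule.span k S from
    fun V _ _ _ ρ => this _ V ρ rfl
  intro d
  induction d using Nat.strong_induction_on with
  | _ d IH =>
  intro V _ _ _ ρ hd
  by_cases hirr : Irr ρ
  · exact Submodule.subset_span (hall V ρ hirr)
  rcases subsingleton_or_nontrivial V with hV | hV
  · have : traceFun ρ = 0 := funext fun g => by
      rw [traceFun, Subsingleton.elim (ρ g) 0, map_zero]; rfl
    rw [this]; exact zero_mem _
  obtain ⟨W, hW, hb, ht⟩ : ∃ W : Submodule k V, Stable ρ W ∧ W ≠ ⊥ ∧ W ≠ ⊤ := by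
    by_contra hno
    push Not at hno
    exact hirr ⟨hV, fun W hW => or_iff_not_imp_left.mpr (hno W hW)⟩
  have hlt : finrank k W < d := hd ▸ Submodule.finrank_lt ht
  have hpos : 0 < finrank k W := Nat.pos_of_ne_zero (Submodule.finrank_eq_zero.not.mpr hb)
  have hq : finrank k (V ⧸ W) < d := by
    have := W.finrank_quotient_add_finrank
    omega
  have e : traceFun ρ = traceFun (subRep ρ W hW) + traceFun (quotRep ρ W hW) :=
    funext fun g => trace_split (ρ g) W (hW g)
  rw [e]
  exact add_mem (IH _ hlt W _ rfl) (IH _ hq (V ⧸ W) _ rfl)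

section Parts

variable (p : ℕ) [Fact p.Prime] [CharP k p]

/-- Traces depend only on classes. -/
theorem traceFun_conj {V : Type w} [AddCommGroup V] [Module k V] [FiniteDimensional k V]
    (ρ : Representation k G V) (g h : G) : traceFun ρ (g * h * g⁻¹) = traceFun ρ h := by
  show LinearMap.trace k V (ρ (g * h * g⁻¹)) = _
  rw [map_mul ρ, map_mul ρ, LinearMap.trace_mul_cycle, ← map_mul ρ, inv_mul_cancel, map_one, one_mul]
  rfl

/-- A factor of `p`-power order does not change a trace. -/
theorem traceFun_mul_pElem {V : Type w} [AddCommGroup V] [Module k V] [FiniteDimensional k V]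
    (ρ : Representation k G V) {s u : G} (hsu : Commute s u) {n : ℕ} (hu : u ^ p ^ n = 1) :
    traceFun ρ (s * u) = traceFun ρ s := by
  rcases subsingleton_or_nontrivial V with hV | hV
  · show LinearMap.trace k V _ = LinearMap.trace k V _
    rw [Subsingleton.elim (ρ (s * u)) (ρ s)]
  haveI : CharP (Module.End k V) p := charP_of_injective_algebraMap' k p
  have hc : Commute (ρ s) (ρ u - 1) := (hsu.map ρ).sub_right (Commute.one_right _)
  have hn : IsNilpotent (ρ u - 1) := ⟨p ^ n, by
    rw [sub_pow_char_pow_of_commute _ _ (Commute.one_right _), ← map_pow, hu, map_one, one_pow, sub_self]⟩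
  have h0 := (LinearMap.isNilpotent_trace_of_isNilpotent (hc.isNilpotent_mul_left hn)).eq_zero
  show LinearMap.trace k V (ρ (s * u)) = LinearMap.trace k V (ρ s)
  rw [mul_sub, mul_one, map_sub, sub_eq_zero] at h0
  rwa [map_mul]

end Parts

/-- A trace twisted by an operator of order prime to the characteristic is in the span of traces. -/
theorem trace_twist_mem [IsAlgClosed k] {S : Submodule k (G → k)} {V : Type w} [AddCommGroup V] [Module k V]
    [FiniteDimensional k V] (ρ : Representation k G V)
    (hS : ∀ (W : Submodule k V) (hW : Stable ρ W), traceFun (subRep ρ W hW) ∈ S)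
    (R : Module.End k V) {d : ℕ} [hd : NeZero (d : k)] (hR : R ^ d = 1)
    (hcomm : ∀ g, Commute R (ρ g)) : (fun g => LinearMap.trace k V (ρ g * R)) ∈ S := by
  haveI : NeZero d := ⟨fun e => hd.out (by rw [e, Nat.cast_zero])⟩
  obtain ⟨ζ, hζ⟩ := HasEnoughRootsOfUnity.exists_primitiveRoot k d
  have hζ0 : ζ ≠ 0 := hζ.ne_zero (NeZero.ne d)
  set c : k := (d : k)⁻¹ with hcdef
  let P : ℕ → Module.End k V := fun j => c • ∑ i ∈ Finset.range d, (ζ⁻¹ ^ (j * i)) • R ^ i
  have hRP : ∀ j, R * P j = (ζ ^ j) • P j := by
    intro j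
    have hpd : ζ⁻¹ ^ (j * d) = 1 := by rw [mul_comm, pow_mul, inv_pow, hζ.pow_eq_one, inv_one, one_pow]
    have h2 := Finset.sum_range_succ' (fun i => ζ⁻¹ ^ (j * i) • R ^ i) d
    rw [Finset.sum_range_succ (fun i => ζ⁻¹ ^ (j * i) • R ^ i) d, hR, hpd, mul_zero, pow_zero, pow_zero,
      add_left_inj] at h2
    have key : R * ∑ i ∈ Finset.range d, ζ⁻¹ ^ (j * i) • R ^ i =
        ζ ^ j • ∑ i ∈ Finset.range d, ζ⁻¹ ^ (j * i) • R ^ i := by
      conv_rhs => rw [h2, Finset.smul_sum]
      rw [Finset.mul_sum]
      refine Finset.sum_congr rfl fun i _ => ?_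
      rw [mul_smul_comm, ← pow_succ', smul_smul, mul_add, mul_one, add_comm (j * i), pow_add (ζ⁻¹), ← mul_assoc,
        ← mul_pow, mul_inv_cancel₀ hζ0, one_pow, one_mul]
    show R * (c • _) = _ • c • _
    rw [mul_smul_comm, key, smul_comm]
  have hRi : ∀ j i, R ^ i * P j = (ζ ^ (j * i)) • P j := by
    intro j i
    induction i with
    | zero => simp
    | succ i ih => rw [pow_succ, mul_assoc, hRP, mul_smul_comm, ih, smul_smul, ← pow_add, add_comm, mul_add, mul_one]
  have hidem : ∀ j, P j * P j = P j := by
    intro j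
    conv_lhs => arg 1; simp only [P]
    rw [smul_mul_assoc, Finset.sum_mul]
    have : ∀ i ∈ Finset.range d, ζ⁻¹ ^ (j * i) • R ^ i * P j = P j := by
      intro i _
      rw [smul_mul_assoc, hRi, smul_smul, ← mul_pow, inv_mul_cancel₀ hζ0, one_pow, one_smul]
    rw [Finset.sum_congr rfl this, Finset.sum_const, Finset.card_range, ← Nat.cast_smul_eq_nsmul k, smul_smul,
      inv_mul_cancel₀ hd.out, one_smul]
  have hsum : R = ∑ j ∈ Finset.range d, (ζ ^ j) • P j := by
    simp only [P, Finset.smul_sum, smul_smul]
    rw [Finset.sum_comm]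
    have hin : ∀ i ∈ Finset.range d, (∑ j ∈ Finset.range d, (ζ ^ j * (c * ζ⁻¹ ^ (j * i))) • R ^ i) =
        (c * ∑ j ∈ Finset.range d, (ζ * ζ⁻¹ ^ i) ^ j) • R ^ i := by
      intro i _
      rw [← Finset.sum_smul, Finset.mul_sum]
      congr 1
      refine Finset.sum_congr rfl fun j _ => ?_
      rw [mul_pow, ← pow_mul, mul_comm i j]; ring
    rw [Finset.sum_congr rfl hin]
    have hd1 : 1 ≤ d := NeZero.one_le
    by_cases h1 : d = 1
    · subst h1
      rw [Finset.sum_range_one, Finset.sum_range_one, pow_zero, Nat.cast_one] at *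
      simp [hcdef] at hR ⊢
      exact hR
    rw [Finset.sum_eq_single 1]
    · rw [pow_one, mul_inv_cancel₀ hζ0]
      simp [hcdef, hd.out]
    · intro i hi hne
      have hne1 : ζ * ζ⁻¹ ^ i ≠ 1 := by
        intro e
        rw [inv_pow, ← div_eq_mul_inv, div_eq_one_iff_eq (pow_ne_zero _ hζ0)] at e
        exact hne (hζ.pow_inj (Finset.mem_range.mp hi) (by omega) ((pow_one ζ).symm ▸ e.symm))
      have hz : (ζ * ζ⁻¹ ^ i) ^ d = 1 := by
        rw [mul_pow, hζ.pow_eq_one, ← pow_mul, mul_comm i, pow_mul, inv_pow, hζ.pow_eq_one, inv_one, one_pow,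
          one_mul]
      rw [geom_sum_eq hne1, hz, sub_self, zero_div, mul_zero, zero_smul]
    · intro h; exact absurd (Finset.mem_range.mpr (by omega)) h
  have hPc : ∀ j g, Commute (P j) (ρ g) := fun j g =>
    (Commute.sum_left _ _ _ fun i _ => ((hcomm g).pow_left i).smul_left _).smul_left c
  have hW : ∀ j, Stable ρ (LinearMap.range (P j)) := by
    rintro j g _ ⟨x, rfl⟩
    exact ⟨ρ g x, DFunLike.congr_fun (hPc j g).eq x⟩
  have htr : ∀ j g, LinearMap.trace k V (ρ g * P j) = traceFun (subRep ρ _ (hW j)) g := by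
    intro j g
    have hmem : ∀ x ∈ LinearMap.range (P j), (ρ g * P j) x ∈ LinearMap.range (P j) := by
      rintro _ ⟨x, rfl⟩
      exact hW j g _ ⟨P j x, rfl⟩
    rw [trace_split (ρ g * P j) _ hmem]
    have h0 : (LinearMap.range (P j)).mapQ (LinearMap.range (P j)) (ρ g * P j) hmem = 0 := by
      refine Submodule.linearMap_qext _ (LinearMap.ext fun x => ?_)
      show Submodule.Quotient.mk ((ρ g * P j) x) = 0
      rw [Submodule.Quotient.mk_eq_zero]
      exact hW j g _ ⟨x, rfl⟩
    rw [h0, map_zero, add_zero]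
    refine congrArg (LinearMap.trace k _) (LinearMap.ext fun x => Subtype.ext ?_)
    obtain ⟨y, hy⟩ := x.2
    show ρ g (P j (x : V)) = ρ g (x : V)
    rw [← hy, show P j (P j y) = (P j * P j) y from rfl, hidem]
  have : (fun g => LinearMap.trace k V (ρ g * R)) =
      ∑ j ∈ Finset.range d, (ζ ^ j) • traceFun (subRep ρ _ (hW j)) := by
    funext g
    conv_lhs => rw [hsum]
    simp [Finset.mul_sum, htr]
  rw [this]
  exact sum_mem fun j _ => Submodule.smul_mem _ _ (hS _ _)

/-- The number of classes of elements of order prime to `p` equals the number of irreducible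
representations in a complete family without repetition. -/
theorem card_eq_pRegular [IsAlgClosed k] (p : ℕ) [Fact p.Prime] [CharP k p] {ι : Type*} [Fintype ι]
    (V : ι → Type max u v) [∀ i, AddCommGroup (V i)] [∀ i, Module k (V i)] [∀ i, FiniteDimensional k (V i)]
    (ρ : ∀ i, Representation k G (V i)) (hirr : ∀ i, Irr (ρ i))
    (hne : ∀ i j, i ≠ j → ∀ f : V i →ₗ[k] V j, (∀ g x, f (ρ i g x) = ρ j g (f x)) → f = 0)
    (hall : ∀ (W : Type max u v) [AddCommGroup W] [Module k W] [FiniteDimensional k W]
      (σ : Representation k G W), Irr σ → ∃ i, traceFun σ = traceFun (ρ i)) :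
    Fintype.card ι = Nat.card {c : ConjClasses G // ∃ g, ConjClasses.mk g = c ∧ (orderOf g).Coprime p} := by
  classical
  haveI := Fintype.ofFinite G
  set C := {c : ConjClasses G // ∃ g, ConjClasses.mk g = c ∧ (orderOf g).Coprime p}
  haveI : Fintype C := Fintype.ofFinite C
  choose x hx hxp using fun c : C => c.2
  -- evaluation at class representatives
  let ev : (G → k) →ₗ[k] (C → k) := LinearMap.funLeft k k x
  -- independence
  have hind : ∀ a : ι → k, (∑ i, a i • traceFun (ρ i)) = 0 → ∀ i, a i = 0 := by
    intro a ha i0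
    let M := ∀ i, (ρ i).asModule
    haveI : ∀ i, IsSimpleModule k[G] (ρ i).asModule := fun i =>
      (Representation.irreducible_iff_isSimpleModule_asModule _).mp (hirr i).isIrreducible
    haveI : IsSemisimpleModule k[G] M := inferInstance
    haveI := (hirr i0).1
    obtain ⟨b⟩ : Nonempty (Module.Basis (Fin (finrank k (V i0))) k (V i0)) := ⟨Module.finBasis k (V i0)⟩
    have hpos : 0 < finrank k (V i0) := Module.finrank_pos
    set e0 : V i0 := b ⟨0, hpos⟩
    let P0 : V i0 →ₗ[k] V i0 := (b.coord ⟨0, hpos⟩).smulRight e0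
    have hof : ∀ (i : ι) (g : G) (y : (ρ i).asModule),
        MonoidAlgebra.of k G g • y = (ρ i g ((ρ i).asModuleEquiv y) : V i) := fun i g y => by
      have := Representation.asModuleEquiv_map_smul (ρ i) (MonoidAlgebra.of k G g) y
      rw [MonoidAlgebra.of_apply, Representation.asAlgebraHom_single_one] at this
      exact this
    have hoff : ∀ (e : Module.End k[G] M) (j i : ι), j ≠ i → ∀ y : (ρ j).asModule,
        e (LinearMap.single k[G] (fun i => (ρ i).asModule) j y) i = 0 := by
      intro e j i hji y
      let l : (ρ j).asModule →ₗ[k[G]] (ρ i).asModule :=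
        (LinearMap.proj i).comp (e.comp (LinearMap.single k[G] (fun i => (ρ i).asModule) j))
      let l0 : V j →ₗ[k] V i :=
        (ρ i).asModuleEquiv.toLinearMap ∘ₗ (l.restrictScalars k) ∘ₗ (ρ j).asModuleEquiv.symm.toLinearMap
      have := hne j i hji l0 fun g v => by
        show (ρ i).asModuleEquiv (l ((ρ j).asModuleEquiv.symm (ρ j g v))) = _
        rw [Representation.asModuleEquiv_symm_map_rho, map_smul, hof]
        rfl
      exact DFunLike.congr_fun this y
    have hdiag : ∀ (e : Module.End k[G] M) (j : ι), ∃ c : k, ∀ y : (ρ j).asModule,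
        e (LinearMap.single k[G] (fun i => (ρ i).asModule) j y) j = c • y := by
      intro e j
      let l : Module.End k[G] (ρ j).asModule :=
        (LinearMap.proj j).comp (e.comp (LinearMap.single k[G] (fun i => (ρ i).asModule) j))
      obtain ⟨c, hc⟩ := (IsSimpleModule.algebraMap_end_bijective_of_isAlgClosed (A := k[G])
        (V := (ρ j).asModule) k).2 l
      exact ⟨c, fun y => (DFunLike.congr_fun hc y).symm⟩
    let f : Module.End (Module.End k[G] M) M :=
      { toFun := fun m => LinearMap.single k[G] (fun i => (ρ i).asModule) i0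
          (((ρ i0).asModuleEquiv.symm.toLinearMap ∘ₗ P0 ∘ₗ (ρ i0).asModuleEquiv.toLinearMap) (m i0))
        map_add' := fun m m' => by rw [Pi.add_apply, map_add, map_add]
        map_smul' := fun e m => by
          obtain ⟨c, hc⟩ := hdiag e i0
          have hem : ∀ m : M, e m i0 = c • m i0 := fun m => by
            conv_lhs => rw [← Finset.univ_sum_single m]
            rw [map_sum, Finset.sum_apply]
            exact (Finset.sum_eq_single i0 (fun j _ hj => hoff e j i0 hj (m j))
              (fun h => absurd (Finset.mem_univ i0) h)).trans (hc (m i0))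
          set L := (ρ i0).asModuleEquiv.symm.toLinearMap ∘ₗ P0 ∘ₗ (ρ i0).asModuleEquiv.toLinearMap
          show LinearMap.single k[G] (fun i => (ρ i).asModule) i0 (L (e m i0)) =
            e (LinearMap.single k[G] (fun i => (ρ i).asModule) i0 (L (m i0)))
          funext i
          rcases eq_or_ne i i0 with rfl | hi
          · rw [hc, LinearMap.single_apply, Pi.single_eq_same, hem, map_smul]
          · rw [hoff e i0 i (Ne.symm hi), LinearMap.single_apply, Pi.single_eq_of_ne hi] }
    let B : ∀ i, Module.Basis (Fin (finrank k (V i))) k (V i) := fun i => Module.finBasis k (V i)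
    obtain ⟨r, hr⟩ := jacobson_density f
      (Finset.univ.image fun q : Σ i, Fin (finrank k (V i)) =>
        (Pi.single q.1 (B q.1 q.2 : (ρ q.1).asModule) : M))
    have hf : ∀ i (v : V i), (ρ i).asAlgebraHom r v = if h : i = i0 then h ▸ P0 (h ▸ v) else 0 := by
      intro i
      let l2 : V i →ₗ[k] V i := if h : i = i0 then h ▸ P0 else 0
      have hl2 : ∀ v : V i, l2 v = if h : i = i0 then h ▸ P0 (h ▸ v) else 0 := by
        intro v
        rcases eq_or_ne i i0 with rfl | hi
        · simp [l2]
        · simp [l2, hi]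
      have key : l2 = (ρ i).asAlgebraHom r := (B i).ext fun q => by
        have hq := hr _ (Finset.mem_image.mpr ⟨⟨i, q⟩, Finset.mem_univ _, rfl⟩)
        have hq2 := congrArg (fun m : M => (ρ i).asModuleEquiv (m i)) hq
        change (ρ i).asModuleEquiv _ = (ρ i).asAlgebraHom r ((ρ i).asModuleEquiv ((Pi.single i
          ((B i) q : (ρ i).asModule) : M) i)) at hq2
        have hbq : (ρ i).asModuleEquiv ((Pi.single i ((B i) q : (ρ i).asModule) : M) i) = (B i) q :=
          congrArg (ρ i).asModuleEquiv (Pi.single_eq_same (M := fun i => (ρ i).asModule) i ((B i) q))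
        rw [hbq] at hq2
        rw [← hq2, hl2]
        rcases eq_or_ne i i0 with rfl | hi
        · rw [dif_pos rfl]
          exact ((congrArg (ρ i).asModuleEquiv (Pi.single_eq_same (M := fun i => (ρ i).asModule) i _)).trans
            (congrArg P0 hbq)).symm
        · rw [dif_neg hi]
          exact (congrArg (ρ i).asModuleEquiv (Pi.single_eq_of_ne (M := fun i => (ρ i).asModule) hi _)).symm
      intro v
      rw [← hl2, key]
    have htr : ∀ i, LinearMap.trace k (V i) ((ρ i).asAlgebraHom r) = if i = i0 then 1 else 0 := by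
      intro i
      split_ifs with h
      · subst h
        have e : (ρ i).asAlgebraHom r = P0 := LinearMap.ext fun y => by rw [hf, dif_pos rfl]
        rw [e, LinearMap.trace_smulRight]
        simp [e0]
      · have e : (ρ i).asAlgebraHom r = 0 := LinearMap.ext fun y => by
          rw [hf, dif_neg h]; rfl
        rw [e, map_zero]
    have hlin : ∀ r : k[G], ∑ i, a i * LinearMap.trace k (V i) ((ρ i).asAlgebraHom r) = 0 := by
      intro r
      have h0 : ∀ g : G, ∑ i, a i * LinearMap.trace k (V i) (ρ i g) = 0 := fun g => by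
        simpa [traceFun] using congrFun ha g
      induction r using MonoidAlgebra.induction_on with
      | of g =>
        simpa using h0 g
      | add r r' hr hr' => simp [mul_add, Finset.sum_add_distrib, hr, hr']
      | smul c r hr =>
        simp only [map_smul, smul_eq_mul, mul_left_comm, ← Finset.mul_sum, hr, mul_zero]
    simpa [htr] using hlin r
  -- the classes
  obtain ⟨hpp⟩ : Nonempty (p.Prime) := ⟨Fact.out⟩
  have hparts : ∀ g : G, ∃ (c : C) (h u : G) (n : ℕ), g = (h * x c * h⁻¹) * u ∧ Commute (h * x c * h⁻¹) u ∧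
      u ^ p ^ n = 1 := by
    intro g
    obtain ⟨n, m, hm, he⟩ := Nat.exists_eq_pow_mul_and_not_dvd (orderOf_pos g).ne' p hpp.ne_one
    have hco : Nat.Coprime (p ^ n) m := Nat.Coprime.pow_left _ ((Nat.Prime.coprime_iff_not_dvd hpp).mpr hm)
    obtain ⟨a, b, hab⟩ : ∃ a b : ℤ, a * (p ^ n : ℕ) + b * (m : ℕ) = 1 :=
      ⟨_, _, Nat.isCoprime_iff_coprime.mpr hco |>.choose_spec.choose_spec⟩
    set s := g ^ (a * (p ^ n : ℕ)) with hs
    set u := g ^ (b * (m : ℕ))
    have hsm : s ^ m = 1 := by
      rw [hs, ← zpow_natCast, ← zpow_mul, mul_assoc, ← Nat.cast_mul, ← he, mul_comm, zpow_mul, zpow_natCast,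
        pow_orderOf_eq_one, one_zpow]
    have hu : u ^ p ^ n = 1 := by
      rw [← zpow_natCast, ← zpow_mul, mul_assoc, ← Nat.cast_mul, mul_comm m, ← he, mul_comm, zpow_mul, zpow_natCast,
        pow_orderOf_eq_one, one_zpow]
    have hsp : (orderOf s).Coprime p :=
      (((Nat.Prime.coprime_iff_not_dvd hpp).mpr hm).symm).coprime_dvd_left (orderOf_dvd_of_pow_eq_one hsm)
    let c : C := ⟨ConjClasses.mk s, s, rfl, hsp⟩
    obtain ⟨h, hh⟩ := isConj_iff.mp (ConjClasses.mk_eq_mk_iff_isConj.mp (hx c))
    refine ⟨c, h, u, n, ?_, ?_, hu⟩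
    · rw [hh, ← zpow_add, hab, zpow_one]
    · rw [hh]; exact (Commute.refl g).zpow_zpow _ _
  have hval : ∀ (W : Type max u v) [AddCommGroup W] [Module k W] [FiniteDimensional k W]
      (σ : Representation k G W) (g : G) (c : C) (h u : G) (n : ℕ), g = (h * x c * h⁻¹) * u →
      Commute (h * x c * h⁻¹) u → u ^ p ^ n = 1 → traceFun σ g = traceFun σ (x c) := by
    intro W _ _ _ σ g c h u n e hc hu
    rw [e, traceFun_mul_pElem p σ hc hu, traceFun_conj]
  set S : Submodule k (G → k) := Submodule.span k (Set.range fun i => traceFun (ρ i)) with hSdef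
  have hinj : ∀ a : ι → k, ev (∑ i, a i • traceFun (ρ i)) = 0 → ∀ i, a i = 0 := by
    intro a ha
    refine hind a (funext fun g => ?_)
    obtain ⟨c, h, u, n, e, hc, hu⟩ := hparts g
    have := congrFun ha c
    simp only [ev, LinearMap.funLeft_apply, Finset.sum_apply, Pi.smul_apply, Pi.zero_apply] at this ⊢
    rw [← this]
    exact Finset.sum_congr rfl fun i _ => by rw [hval (V i) (ρ i) g c h u n e hc hu]
  have hli : LinearIndependent k fun i => ev (traceFun (ρ i)) := by
    rw [Fintype.linearIndependent_iff]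
    intro a ha
    exact hinj a (by rw [map_sum]; simpa [map_smul] using ha)
  refine le_antisymm ?_ ?_
  · have := hli.fintype_card_le_finrank
    rw [Module.finrank_fintype_fun_eq_card, ← Nat.card_eq_fintype_card (α := C)] at this
    exact this
  -- the indicator of each class is a combination of traces
  have hspan : ∀ c : C, (Pi.single c (1 : k) : C → k) ∈ S.map ev := by
    intro c
    set y := x c with hy
    obtain ⟨P⟩ : Nonempty (Sylow p (Subgroup.centralizer ({x c} : Set G))) := inferInstance
    set P' : Subgroup G := (P : Subgroup (Subgroup.centralizer ({x c} : Set G))).map (Subgroup.subtype _)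
    have hP'c : ∀ z ∈ P', z * x c = x c * z := by
      rintro _ ⟨w, -, rfl⟩
      exact Subgroup.mem_centralizer_singleton_iff.mp w.2
    have hyP : ∀ z ∈ P', y * z = z * y := fun z hz => (hP'c z hz).symm
    -- right multiplication on the cosets of `P'`
    let R0 : G ⧸ P' → G ⧸ P' := Quotient.map' (fun g => g * y) fun g g' h => by
      rw [QuotientGroup.leftRel_apply] at h ⊢
      rw [mul_inv_rev, mul_assoc, ← mul_assoc g⁻¹]
      have := hyP _ h
      rw [← this, ← mul_assoc, inv_mul_cancel, one_mul]
      exact h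
    let Vc := (G ⧸ P') → k
    let σ : Representation k G Vc :=
      { toFun := fun g => LinearMap.funLeft k k (fun q => g⁻¹ • q)
        map_one' := by ext; simp [Vc]
        map_mul' := fun a b => by ext; simp [Vc, mul_smul] }
    let R : Module.End k Vc := LinearMap.funLeft k k R0
    have hR0 : ∀ (i : ℕ) (g : G), R0^[i] (QuotientGroup.mk g) = QuotientGroup.mk (g * y ^ i) := by
      intro i
      induction i with
      | zero => simp
      | succ i ih =>
        intro g
        rw [Function.iterate_succ_apply]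
        show R0^[i] (QuotientGroup.mk (g * y)) = _
        rw [ih, mul_assoc, ← pow_succ']
    haveI : NeZero ((orderOf y : ℕ) : k) := ⟨fun h => by
      rw [CharP.cast_eq_zero_iff k p, hy] at h
      exact (Nat.Prime.coprime_iff_not_dvd hpp).mp (hxp c).symm h⟩
    have hR : R ^ orderOf y = 1 := by
      have e : ∀ i, R ^ i = LinearMap.funLeft k k (R0^[i]) := by
        intro i
        induction i with
        | zero => rfl
        | succ i ih =>
          rw [pow_succ, ih, Module.End.mul_eq_comp, ← LinearMap.funLeft_comp, Function.iterate_succ']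
      rw [e]
      refine LinearMap.ext fun φ => funext fun q => ?_
      obtain ⟨g, rfl⟩ := QuotientGroup.mk_surjective q
      show φ _ = φ _
      rw [hR0, pow_orderOf_eq_one, mul_one]
    have hcomm : ∀ g, Commute R (σ g) := by
      intro g
      refine LinearMap.ext fun φ => funext fun q => ?_
      obtain ⟨h, rfl⟩ := QuotientGroup.mk_surjective q
      show φ (g⁻¹ • R0 (QuotientGroup.mk h)) = φ (R0 (g⁻¹ • QuotientGroup.mk h))
      show φ (QuotientGroup.mk (g⁻¹ * (h * y))) = φ (QuotientGroup.mk (g⁻¹ * h * y))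
      rw [mul_assoc]
    have hmem := trace_twist_mem σ (S := S) (fun W hW => by
      refine Submodule.span_le.mpr ?_ (traceFun_mem_span (k := k) (S := Set.range fun i => traceFun (ρ i))
        (fun U _ _ _ τ hτ => by obtain ⟨i, hi⟩ := hall U τ hτ; exact ⟨i, hi.symm⟩) W _)
      exact Submodule.subset_span) R hR hcomm
    -- its values
    have hF : ∀ g, LinearMap.trace k Vc (σ g * R) =
        (Nat.card {q : G ⧸ P' // R0 (g⁻¹ • q) = q} : k) := by
      intro g
      rw [LinearMap.trace_eq_matrix_trace k (Pi.basisFun k (G ⧸ P')), Matrix.trace, Nat.card_eq_fintype_card,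
        Fintype.card_subtype, ← Finset.sum_boole]
      refine Finset.sum_congr rfl fun q _ => ?_
      rw [Matrix.diag_apply, LinearMap.toMatrix_apply, Pi.basisFun_apply, Pi.basisFun_repr]
      show (Pi.single q (1 : k) : Vc) (R0 (g⁻¹ • q)) = _
      rw [Pi.single_apply]
    have hfix : ∀ (d : C) (g : G),
        R0 ((x d)⁻¹ • (QuotientGroup.mk g : G ⧸ P')) = QuotientGroup.mk g → g⁻¹ * x d * g = x c := by
      intro d g hq
      change (QuotientGroup.mk ((x d)⁻¹ * g * y) : G ⧸ P') = QuotientGroup.mk g at hq
      rw [QuotientGroup.eq] at hq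
      set z := ((x d)⁻¹ * g * y)⁻¹ * g with hz
      obtain ⟨w, hw, hwz⟩ := id hq
      obtain ⟨j, hj⟩ := P.isPGroup' ⟨w, hw⟩
      have hwj : w ^ p ^ j = 1 := congrArg Subtype.val hj
      have hzj : z ^ p ^ j = 1 := by rw [← hwz, ← map_pow, hwj, map_one]
      have hc2 : Commute (x c) z := (hP'c _ hq).symm
      have hxd : g⁻¹ * x d * g = x c * z := by rw [hz, hy]; group
      have hord : (x c * z) ^ (orderOf (x c) * orderOf (x d)) = 1 := by
        rw [← hxd, show g⁻¹ * x d * g = g⁻¹ * x d * g⁻¹⁻¹ by rw [inv_inv], conj_pow, mul_comm, pow_mul,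
          pow_orderOf_eq_one, one_pow, mul_one, mul_inv_cancel]
      rw [hc2.mul_pow, pow_mul, pow_orderOf_eq_one, one_pow, one_mul] at hord
      have hz1 : z = 1 := orderOf_eq_one_iff.mp (Nat.eq_one_of_dvd_coprimes
        (((hxp c).mul_left (hxp d)).symm.pow_left j) (orderOf_dvd_of_pow_eq_one hzj)
        (orderOf_dvd_of_pow_eq_one hord))
      rw [hxd, hz1, mul_one]
    have hval2 : ∀ d : C, d ≠ c → (Nat.card {q : G ⧸ P' // R0 ((x d)⁻¹ • q) = q} : k) = 0 := by
      intro d hd
      have : IsEmpty {q : G ⧸ P' // R0 ((x d)⁻¹ • q) = q} := ⟨fun ⟨q, hq⟩ => by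
        obtain ⟨g, rfl⟩ := QuotientGroup.mk_surjective q
        refine hd (Subtype.ext ((hx d).symm.trans (Eq.trans ?_ (hx c))))
        exact ConjClasses.mk_eq_mk_iff_isConj.mpr (isConj_iff.mpr ⟨g⁻¹, by rw [inv_inv]; exact hfix d g hq⟩)⟩
      rw [Nat.card_of_isEmpty, Nat.cast_zero]
    have hcard : Nat.card {q : G ⧸ P' // R0 ((x c)⁻¹ • q) = q} =
        (P : Subgroup (Subgroup.centralizer ({x c} : Set G))).index := by
      rw [Subgroup.index]
      let Φ : Subgroup.centralizer ({x c} : Set G) ⧸ (P : Subgroup (Subgroup.centralizer ({x c} : Set G))) →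
          {q : G ⧸ P' // R0 ((x c)⁻¹ • q) = q} := fun z => Quotient.liftOn' z
        (fun g => ⟨QuotientGroup.mk (g : G), by
          show (QuotientGroup.mk ((x c)⁻¹ * (g : G) * y) : G ⧸ P') = _
          rw [hy, mul_assoc, Subgroup.mem_centralizer_singleton_iff.mp g.2, inv_mul_cancel_left]⟩)
        fun g g' h => by
          rw [QuotientGroup.leftRel_apply] at h
          exact Subtype.ext (QuotientGroup.eq.mpr ⟨g⁻¹ * g', h, rfl⟩)
      refine (Nat.card_eq_of_bijective Φ ⟨?_, ?_⟩).symm
      · intro a b
        induction a using Quotient.inductionOn' with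
        | h a =>
        induction b using Quotient.inductionOn' with
        | h b =>
        intro h
        obtain ⟨w, hw, e⟩ := QuotientGroup.eq.mp (congrArg Subtype.val h)
        refine QuotientGroup.eq.mpr ?_
        rwa [← Subtype.ext (show (w : G) = ((a⁻¹ * b : Subgroup.centralizer ({x c} : Set G)) : G) from e)]
      · rintro ⟨q, hq⟩
        obtain ⟨g, rfl⟩ := QuotientGroup.mk_surjective q
        refine ⟨QuotientGroup.mk ⟨g, Subgroup.mem_centralizer_singleton_iff.mpr ?_⟩, rfl⟩
        calc g * x c = g * (g⁻¹ * x c * g) := by rw [hfix c g hq]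
          _ = x c * g := by group
    have hne0 : (Nat.card {q : G ⧸ P' // R0 ((x c)⁻¹ • q) = q} : k) ≠ 0 := by
      rw [hcard, Ne, CharP.cast_eq_zero_iff k p]
      exact P.not_dvd_index
    refine (Submodule.smul_mem_iff (S.map ev) hne0).mp ⟨_, hmem, ?_⟩
    funext d
    show LinearMap.trace k Vc (σ (x d) * R) = _
    rw [hF, Pi.smul_apply, smul_eq_mul]
    rcases eq_or_ne d c with rfl | hd
    · rw [Pi.single_eq_same, mul_one]
    · rw [Pi.single_eq_of_ne hd, mul_zero, hval2 d hd]
  have htop : S.map ev = ⊤ := by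
    rw [eq_top_iff, ← (Pi.basisFun k C).span_eq, Submodule.span_le]
    rintro _ ⟨c, rfl⟩
    rw [Pi.basisFun_apply]
    exact hspan c
  have h1 : finrank k ↥(S.map ev) ≤ Fintype.card ι := (Submodule.finrank_map_le ev S).trans (finrank_range_le_card _)
  rw [htop, finrank_top, Module.finrank_fintype_fun_eq_card, ← Nat.card_eq_fintype_card] at h1
  exact h1

end CfsgLib.SimpleTrace
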