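import Cfsg.Agent.Lib.Char.Induced
import Cfsg.Agent.Lib.Char.Linear

/-!
# Generalized characters: coefficients, integrality, norm two
-/

set_option autoImplicit false

open scoped ComplexConjugate

namespace CfsgLib.Char

variable {G : Type*} [Group G] [Fintype G]

theorem IsGeneralizedCharacter.classInner_int {θ η : G → ℂ}
    (hθ : Cfsg.IsGeneralizedCharacter G θ) (hη : Cfsg.IsGeneralizedCharacter G η) :
    ∃ z : ℤ, Cfsg.classInner θ η = z := by
  obtain ⟨a, b, ha, hb, rfl⟩ := hθ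
  obtain ⟨c, d, hc, hd, rfl⟩ := hη
  obtain ⟨p, hp⟩ := IsCharacter.classInner_nat ha hc
  obtain ⟨q, hq⟩ := IsCharacter.classInner_nat ha hd
  obtain ⟨r, hr⟩ := IsCharacter.classInner_nat hb hc
  obtain ⟨s, hs⟩ := IsCharacter.classInner_nat hb hd
  exact ⟨(p : ℤ) - q - r + s, by
    rw [classInner_sub_left, classInner_sub_right, classInner_sub_right, hp, hq, hr, hs]
    push_cast; ring⟩

theorem IsGeneralizedCharacter.sub {θ η : G → ℂ} (hθ : Cfsg.IsGeneralizedCharacter G θ)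
    (hη : Cfsg.IsGeneralizedCharacter G η) : Cfsg.IsGeneralizedCharacter G (θ - η) := by
  obtain ⟨a, b, ha, hb, rfl⟩ := hθ
  obtain ⟨c, d, hc, hd, rfl⟩ := hη
  exact ⟨a + d, b + c, IsCharacter.add ha hd, IsCharacter.add hb hc, by abel⟩

/-- The coefficients of a generalized character. -/
theorem IsGeneralizedCharacter.exists_coeff {θ : G → ℂ}
    (hθ : Cfsg.IsGeneralizedCharacter G θ) :
    ∃ z : Cfsg.IrrCharacter G → ℤ,
      (∀ φ : Cfsg.IrrCharacter G, Cfsg.classInner θ (φ : G → ℂ) = z φ) ∧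
      θ = ∑ φ : Cfsg.IrrCharacter G, (z φ : ℂ) • (φ : G → ℂ) ∧
      Cfsg.classInner θ θ = ((∑ φ : Cfsg.IrrCharacter G, z φ * z φ : ℤ) : ℂ) := by
  obtain ⟨hcf, hint⟩ := isGeneralizedCharacter_iff.1 hθ
  choose z hz using fun φ : Cfsg.IrrCharacter G => hint (φ : G → ℂ) φ.2
  refine ⟨z, hz, ?_, ?_⟩
  · conv_lhs => rw [IsClassFunction.eq_sum_irr hcf]
    exact Finset.sum_congr rfl fun φ _ => by rw [hz φ]
  · rw [classInner_eq_sum_irr hcf]
    push_cast
    refine Finset.sum_congr rfl fun φ _ => ?_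
    rw [← classInner_conj_symm θ (φ : G → ℂ)]
    simp [hz]

open scoped Classical in
theorem classInner_irr_sub {a b c d : G → ℂ} (ha : Cfsg.IsIrrCharacter G a)
    (hb : Cfsg.IsIrrCharacter G b) (hc : Cfsg.IsIrrCharacter G c)
    (hd : Cfsg.IsIrrCharacter G d) :
    Cfsg.classInner (a - b) (c - d) =
      (((if a = c then 1 else 0) - (if a = d then 1 else 0) - (if b = c then 1 else 0) +
        (if b = d then 1 else 0) : ℤ) : ℂ) := by
  rw [classInner_sub_left, classInner_sub_right, classInner_sub_right, classInner_irr ha hc,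
    classInner_irr ha hd, classInner_irr hb hc, classInner_irr hb hd]
  push_cast
  ring

/-- A generalized character of norm two vanishing at `1` is a difference of two irreducible
characters. -/
theorem IsGeneralizedCharacter.exists_sub_of_norm_two {θ : G → ℂ}
    (hθ : Cfsg.IsGeneralizedCharacter G θ) (h1 : θ 1 = 0) (h2 : Cfsg.classInner θ θ = 2) :
    ∃ a b : G → ℂ, Cfsg.IsIrrCharacter G a ∧ Cfsg.IsIrrCharacter G b ∧ a ≠ b ∧ θ = a - b := by
  classical
  obtain ⟨z, -, hexp, hn⟩ := IsGeneralizedCharacter.exists_coeff hθ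
  have hsum : ∑ φ : Cfsg.IrrCharacter G, z φ * z φ = 2 := by
    have h3 : ((∑ φ : Cfsg.IrrCharacter G, z φ * z φ : ℤ) : ℂ) = ((2 : ℤ) : ℂ) := by
      rw [← hn, h2]; norm_num
    exact_mod_cast h3
  set S : Finset (Cfsg.IrrCharacter G) := Finset.univ.filter fun φ => z φ ≠ 0 with hS
  have hone : ∀ φ ∈ S, z φ * z φ = 1 := by
    intro φ hφ
    have hle : z φ * z φ ≤ 2 := hsum ▸
      Finset.single_le_sum (f := fun ψ => z ψ * z ψ) (fun ψ _ => mul_self_nonneg (z ψ))
        (Finset.mem_univ φ)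
    have hne : z φ ≠ 0 := (Finset.mem_filter.mp hφ).2
    have hl : z φ ≤ 1 := by nlinarith
    have hg : -1 ≤ z φ := by nlinarith
    interval_cases z φ <;> simp_all
  have hcard : S.card = 2 := by
    have h4 : ∑ φ ∈ S, z φ * z φ = 2 := by
      rw [← hsum]
      exact Finset.sum_filter_of_ne fun φ _ h hz => h (by rw [hz, mul_zero])
    rw [Finset.sum_congr rfl hone, Finset.sum_const, nsmul_eq_mul, mul_one] at h4
    exact_mod_cast h4
  obtain ⟨φ, ψ, hne, hpair⟩ := Finset.card_eq_two.mp hcard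
  have hexp' : θ = (z φ : ℂ) • (φ : G → ℂ) + (z ψ : ℂ) • (ψ : G → ℂ) := by
    rw [hexp, ← Finset.sum_pair (f := fun t : Cfsg.IrrCharacter G => (z t : ℂ) • (t : G → ℂ)) hne,
      ← hpair]
    exact (Finset.sum_filter_of_ne (p := fun φ => z φ ≠ 0)
      fun t _ ht hz => ht (by rw [hz, Int.cast_zero, zero_smul])).symm
  obtain ⟨d, hd, hd'⟩ := IsIrrCharacter.apply_one_eq φ.2
  obtain ⟨e, he, he'⟩ := IsIrrCharacter.apply_one_eq ψ.2
  have h0 : z φ * (d : ℤ) + z ψ * (e : ℤ) = 0 := by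
    have h5 := congrFun hexp' 1
    rw [h1, Pi.add_apply, Pi.smul_apply, Pi.smul_apply, hd', he', smul_eq_mul, smul_eq_mul] at h5
    exact_mod_cast h5.symm
  have hφ' := hone φ (by rw [hpair]; exact Finset.mem_insert_self _ _)
  have hψ' := hone ψ (by rw [hpair]; exact Finset.mem_insert_of_mem (Finset.mem_singleton_self _))
  have hval : ∀ φ' ψ' : Cfsg.IrrCharacter G, φ' ≠ ψ' → (φ' : G → ℂ) ≠ (ψ' : G → ℂ) :=
    fun _ _ h h' => h (Subtype.ext h')
  rcases Int.eq_one_or_neg_one_of_mul_eq_one hφ' with hp | hp <;>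
    rcases Int.eq_one_or_neg_one_of_mul_eq_one hψ' with hq | hq
  · exfalso; rw [hp, hq] at h0; omega
  · exact ⟨φ, ψ, φ.2, ψ.2, hval _ _ hne, by rw [hexp', hp, hq]; push_cast; simp [sub_eq_add_neg]⟩
  · exact ⟨ψ, φ, ψ.2, φ.2, hval _ _ hne.symm,
      by rw [hexp', hp, hq]; push_cast; simp [sub_eq_add_neg, add_comm]⟩
  · exfalso; rw [hp, hq] at h0; omega

/-- Exceptional characters: a family of norm-two generalized characters vanishing at `1`, with
inner products one, is `ε (μ i - μ i₀)`. -/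
theorem exists_exceptional {ι : Type*} (i₀ : ι) (τ : ι → G → ℂ) (h0 : τ i₀ = 0)
    (hgen : ∀ i, Cfsg.IsGeneralizedCharacter G (τ i)) (hone : ∀ i, τ i 1 = 0)
    (hgram : ∀ i j, i ≠ i₀ → j ≠ i₀ →
      (i = j → Cfsg.classInner (τ i) (τ j) = 2) ∧ (i ≠ j → Cfsg.classInner (τ i) (τ j) = 1)) :
    ∃ ε : ℂ, (ε = 1 ∨ ε = -1) ∧ ∃ μ : ι → G → ℂ, (∀ i, Cfsg.IsIrrCharacter G (μ i)) ∧
      Function.Injective μ ∧ ∀ i, τ i = ε • (μ i - μ i₀) := by
  classical
  by_cases hj : ∀ i, i = i₀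
  · exact ⟨1, Or.inl rfl, fun _ _ => 1, fun _ => isIrrCharacter_one,
      fun a b _ => (hj a).trans (hj b).symm, fun i => by rw [hj i, h0]; simp⟩
  push Not at hj
  obtain ⟨j, hj⟩ := hj
  have hex : ∀ i, ∃ p : (G → ℂ) × (G → ℂ), i ≠ i₀ →
      Cfsg.IsIrrCharacter G p.1 ∧ Cfsg.IsIrrCharacter G p.2 ∧ p.1 ≠ p.2 ∧ τ i = p.1 - p.2 := by
    intro i
    by_cases hi : i = i₀
    · exact ⟨⟨0, 0⟩, fun h => absurd hi h⟩
    obtain ⟨a, b, h⟩ := IsGeneralizedCharacter.exists_sub_of_norm_two (hgen i) (hone i)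
      ((hgram i i hi hi).1 rfl)
    exact ⟨(a, b), fun _ => h⟩
  choose p hp using hex
  have key : ∀ i k, i ≠ i₀ → k ≠ i₀ → i ≠ k →
      ((p i).1 = (p k).1 ∧ (p i).2 ≠ (p k).2) ∨ ((p i).1 ≠ (p k).1 ∧ (p i).2 = (p k).2) := by
    intro i k hi hk hik
    obtain ⟨ha, hb, hab, e⟩ := hp i hi
    obtain ⟨hc, hd, hcd, e'⟩ := hp k hk
    have h := (hgram i k hi hk).2 hik
    rw [e, e', classInner_irr_sub ha hb hc hd] at h
    by_cases h1 : (p i).1 = (p k).1
    · refine Or.inl ⟨h1, fun h2 => ?_⟩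
      rw [if_pos h1, if_neg (h1 ▸ hcd), if_neg (h1 ▸ Ne.symm hab), if_pos h2] at h
      norm_num at h
    · refine Or.inr ⟨h1, ?_⟩
      by_contra h2
      rw [if_neg h1, if_neg h2] at h
      split_ifs at h <;> norm_num at h
  have hclaim : (∀ i, i ≠ i₀ → (p i).1 = (p j).1) ∨ (∀ i, i ≠ i₀ → (p i).2 = (p j).2) := by
    by_contra hc
    push Not at hc
    obtain ⟨⟨i, hi, hia⟩, k, hk, hkb⟩ := hc
    have hij : i ≠ j := fun h => hia (by rw [h])
    have hkj : k ≠ j := fun h => hkb (by rw [h])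
    have hib : (p i).2 = (p j).2 :=
      ((key i j hi hj hij).resolve_left fun h => hia h.1).2
    have hka : (p k).1 = (p j).1 :=
      ((key k j hk hj hkj).resolve_right fun h => hkb h.2).1
    have hik : i ≠ k := fun h => hia (h ▸ hka)
    rcases key i k hi hk hik with ⟨h, -⟩ | ⟨-, h⟩
    · exact hia (h.trans hka)
    · exact hkb (h.symm.trans hib)
  rcases hclaim with hA | hB
  · refine ⟨-1, Or.inr rfl, fun i => if i = i₀ then (p j).1 else (p i).2, fun i => ?_, ?_, fun i => ?_⟩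
    · dsimp only
      split_ifs with h
      · exact (hp j hj).1
      · exact (hp i h).2.1
    · intro i k h
      dsimp only at h
      split_ifs at h with h1 h2 h2
      · exact h1.trans h2.symm
      · exact absurd ((hA k h2).trans h) (hp k h2).2.2.1
      · exact absurd ((hA i h1).trans h.symm) (hp i h1).2.2.1
      · by_contra hne
        rcases key i k h1 h2 hne with ⟨-, h3⟩ | ⟨h3, -⟩
        · exact h3 h
        · exact h3 ((hA i h1).trans (hA k h2).symm)
    · dsimp only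
      rw [if_pos rfl]
      split_ifs with h
      · rw [h, h0]; simp
      · rw [(hp i h).2.2.2, hA i h]; simp
  · refine ⟨1, Or.inl rfl, fun i => if i = i₀ then (p j).2 else (p i).1, fun i => ?_, ?_, fun i => ?_⟩
    · dsimp only
      split_ifs with h
      · exact (hp j hj).2.1
      · exact (hp i h).1
    · intro i k h
      dsimp only at h
      split_ifs at h with h1 h2 h2
      · exact h1.trans h2.symm
      · exact absurd (h.symm.trans (hB k h2).symm) (hp k h2).2.2.1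
      · exact absurd (h.trans (hB i h1).symm) (hp i h1).2.2.1
      · by_contra hne
        rcases key i k h1 h2 hne with ⟨-, h3⟩ | ⟨h3, -⟩
        · exact h3 ((hB i h1).trans (hB k h2).symm)
        · exact h3 h
    · dsimp only
      rw [if_pos rfl]
      split_ifs with h
      · rw [h, h0]; simp
      · rw [(hp i h).2.2.2, hB i h]; simp

end CfsgLib.Char
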