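import Cfsg.Agent.Lib.Char.Constituent
import Cfsg.Agent.Lib.Char.Quotient

/-!
# Clifford theory for characters: conjugates, induction from normal subgroups
-/

set_option autoImplicit false

open scoped ComplexConjugate
open Module

namespace CfsgLib.Char

universe u

variable {G : Type u} [Group G] {H : Subgroup G} [hN : H.Normal]

/-- The conjugate of a function on a normal subgroup. -/
def conjG (θ : H → ℂ) (g : G) : H → ℂ := fun h => θ ⟨g * h * g⁻¹, hN.conj_mem h h.2 g⟩

theorem conjG_apply (θ : H → ℂ) (g : G) (h : H) :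
    conjG θ g h = θ ⟨g * h * g⁻¹, hN.conj_mem h h.2 g⟩ := rfl

theorem conjG_one (θ : H → ℂ) : conjG θ 1 = θ := by
  funext h; exact congrArg θ (Subtype.ext (by simp))

theorem conjG_mul (θ : H → ℂ) (a b : G) : conjG (conjG θ a) b = conjG θ (a * b) := by
  funext h; exact congrArg θ (Subtype.ext (by simp [mul_assoc]))

theorem conjG_eq_comp (θ : H → ℂ) (g : G) :
    conjG θ g = θ ∘ (MulAut.conjNormal g : MulAut H) := by
  funext h; exact congrArg θ (Subtype.ext rfl)

theorem conjG_coe {θ : G → ℂ} (hθ : Cfsg.IsClassFunction G θ) (g : G) :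
    conjG (fun h : H => θ h) g = fun h : H => θ h := by
  funext h; exact hθ (h : G) g

theorem conjG_of_mem {θ : H → ℂ} (hθ : Cfsg.IsClassFunction H θ) {g : G} (hg : g ∈ H) :
    conjG θ g = θ := by
  funext h
  rw [← hθ h ⟨g, hg⟩]
  rfl

theorem IsIrrCharacter.conjG {θ : H → ℂ} (hθ : Cfsg.IsIrrCharacter H θ) (g : G) :
    Cfsg.IsIrrCharacter H (CfsgLib.Char.conjG θ g) := by
  rw [conjG_eq_comp]
  exact IsIrrCharacter.comp_equiv hθ _

theorem classInner_conjG [Fintype H] (φ θ : H → ℂ) (g : G) :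
    Cfsg.classInner (conjG φ g) (conjG θ g) = Cfsg.classInner φ θ := by
  rw [conjG_eq_comp, conjG_eq_comp, classInner_reindex]

/-- The stabiliser of `θ` in `G`. -/
def stab (θ : H → ℂ) : Subgroup G where
  carrier := {g | conjG θ g = θ}
  one_mem' := conjG_one θ
  mul_mem' {a b} ha hb := by
    simp only [Set.mem_ofPred_eq] at ha hb ⊢
    rw [← conjG_mul, ha, hb]
  inv_mem' {a} ha := by
    simp only [Set.mem_ofPred_eq] at ha ⊢
    conv_lhs => rw [← ha]
    rw [conjG_mul, mul_inv_cancel, conjG_one]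

theorem mem_stab {θ : H → ℂ} {g : G} : g ∈ stab θ ↔ conjG θ g = θ := Iff.rfl

theorem le_stab {θ : H → ℂ} (hθ : Cfsg.IsClassFunction H θ) : H ≤ stab θ :=
  fun _ hg => conjG_of_mem hθ hg

theorem card_filter_conjG_eq [Fintype G] (θ : H → ℂ) (g₀ : G)
    [DecidablePred fun g : G => conjG θ g = conjG θ g₀] :
    (Finset.univ.filter fun g : G => conjG θ g = conjG θ g₀).card = Nat.card (stab θ) := by
  classical
  rw [Nat.card_eq_fintype_card, Fintype.card_subtype]
  refine Finset.card_equiv (Equiv.mulRight g₀⁻¹) fun g => ?_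
  simp only [Finset.mem_filter, Finset.mem_univ, true_and, Equiv.coe_mulRight, mem_stab]
  constructor
  · intro h
    rw [← conjG_mul, h, conjG_mul, mul_inv_cancel, conjG_one]
  · intro h
    conv_rhs => rw [← h]
    rw [conjG_mul, inv_mul_cancel_right]

/-- A sum over `G` of a function of the conjugates is `|stab|` times the sum over the orbit. -/
theorem sum_conjG [Fintype G] {M : Type*} [AddCommGroup M] [Module ℂ M] (θ : H → ℂ)
    (F : (H → ℂ) → M) :
    ∑ g : G, F (conjG θ g) =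
      (Nat.card (stab θ) : ℂ) • ∑ᶠ ψ ∈ {ψ : H → ℂ | ∃ g : G, ψ = conjG θ g}, F ψ := by
  classical
  have hset : {ψ : H → ℂ | ∃ g : G, ψ = conjG θ g} =
      ((Finset.univ.image fun g : G => conjG θ g : Finset (H → ℂ)) : Set (H → ℂ)) := by
    ext ψ; simp [eq_comm]
  rw [hset, finsum_mem_coe_finset, Finset.smul_sum,
    ← Finset.sum_fiberwise_of_maps_to (g := fun g : G => conjG θ g)
      (t := Finset.univ.image fun g : G => conjG θ g)
      (fun g _ => Finset.mem_image_of_mem _ (Finset.mem_univ g))]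
  refine Finset.sum_congr rfl fun ψ hψ => ?_
  obtain ⟨g₀, -, rfl⟩ := Finset.mem_image.mp hψ
  rw [Finset.sum_congr rfl fun g hg => by rw [(Finset.mem_filter.mp hg).2], Finset.sum_const,
    card_filter_conjG_eq, Nat.cast_smul_eq_nsmul]

section Ind

variable [Fintype G]

theorem indFun_restrict (θ : H → ℂ) :
    (fun h : H => Cfsg.indFun H θ h) = (Nat.card H : ℂ)⁻¹ • ∑ g : G, conjG θ g := by
  funext h
  rw [indFun_apply_of_normal]
  simp [Finset.sum_apply, conjG_apply]

theorem classInner_indFun_normal [Fintype H] (φ θ : H → ℂ) :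
    Cfsg.classInner (Cfsg.indFun H φ) (Cfsg.indFun H θ) =
      (Nat.card H : ℂ)⁻¹ * ∑ g : G, Cfsg.classInner φ (conjG θ g) := by
  rw [classInner_indFun H φ (indFun_isClassFunction H θ), indFun_restrict, classInner_smul_right,
    classInner_sum_right]
  simp

theorem classInner_indFun_irr [Fintype H] {φ θ : H → ℂ} (hφ : Cfsg.IsIrrCharacter H φ)
    (hθ : Cfsg.IsIrrCharacter H θ) :
    Cfsg.classInner (Cfsg.indFun H φ) (Cfsg.indFun H θ) =
      (Nat.card {g : G // conjG θ g = φ} : ℂ) / (Nat.card H : ℂ) := by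
  classical
  rw [classInner_indFun_normal, Nat.card_eq_fintype_card (α := {g : G // conjG θ g = φ}),
    Fintype.card_subtype, ← Finset.sum_boole, mul_comm, div_eq_mul_inv]
  congr 1
  refine Finset.sum_congr rfl fun g _ => ?_
  rw [classInner_irr hφ (IsIrrCharacter.conjG hθ g)]
  exact if_congr ⟨Eq.symm, Eq.symm⟩ rfl rfl

theorem indFun_conjG (θ : H → ℂ) (g : G) :
    Cfsg.indFun H (conjG θ g) = Cfsg.indFun H θ := by
  funext x
  by_cases hx : x ∈ H
  · have h1 := congrFun (indFun_restrict (conjG θ g)) ⟨x, hx⟩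
    have h2 := congrFun (indFun_restrict θ) ⟨x, hx⟩
    simp only [conjG_mul] at h1
    rw [h1, h2]
    simp only [Pi.smul_apply, Finset.sum_apply]
    congr 1
    exact Fintype.sum_equiv (Equiv.mulLeft g) _ _ fun _ => rfl
  · rw [indFun_eq_zero_of_normal H _ hx, indFun_eq_zero_of_normal H _ hx]

theorem classInner_indFun_eq_zero [Fintype H] {φ θ : H → ℂ} (hφ : Cfsg.IsIrrCharacter H φ)
    (hθ : Cfsg.IsIrrCharacter H θ) (h : ∀ g : G, φ ≠ conjG θ g) :
    Cfsg.classInner (Cfsg.indFun H φ) (Cfsg.indFun H θ) = 0 := by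
  rw [classInner_indFun_irr hφ hθ]
  have : IsEmpty {g : G // conjG θ g = φ} := ⟨fun x => h x.1 x.2.symm⟩
  simp

/-- If two induced characters share a constituent, the inducing characters are conjugate. -/
theorem exists_conjG_eq [Fintype H] {φ θ : H → ℂ} (hφ : Cfsg.IsIrrCharacter H φ)
    (hθ : Cfsg.IsIrrCharacter H θ) {χ : G → ℂ} (hχ : Cfsg.IsIrrCharacter G χ)
    (h1 : Cfsg.classInner (Cfsg.indFun H φ) χ ≠ 0) (h2 : Cfsg.classInner (Cfsg.indFun H θ) χ ≠ 0) :
    ∃ g : G, φ = conjG θ g := by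
  classical
  by_contra h
  push Not at h
  have hc1 := IsCharacter.indFun H (IsIrrCharacter.isCharacter hφ)
  have hc2 := IsCharacter.indFun H (IsIrrCharacter.isCharacter hθ)
  obtain ⟨m, hm, -⟩ := IsCharacter.exists_multiplicity hc1
  obtain ⟨m', hm', -⟩ := IsCharacter.exists_multiplicity hc2
  have h0 := classInner_indFun_eq_zero hφ hθ h
  rw [classInner_eq_sum_irr (IsCharacter.isClassFunction hc1)] at h0
  have hterm : ∀ ψ : Cfsg.IrrCharacter G,
      Cfsg.classInner (Cfsg.indFun H φ) ψ * Cfsg.classInner (ψ : G → ℂ) (Cfsg.indFun H θ) =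
        ((m ψ * m' ψ : ℕ) : ℂ) := fun ψ => by
    rw [hm, IsCharacter.classInner_comm (isCharacter_irr ψ) hc2, hm', Nat.cast_mul]
  rw [Finset.sum_congr rfl fun ψ _ => hterm ψ, ← Nat.cast_sum, Nat.cast_eq_zero] at h0
  have := Finset.sum_eq_zero_iff.mp h0 ⟨χ, hχ⟩ (Finset.mem_univ _)
  rcases Nat.mul_eq_zero.mp this with h' | h'
  · exact h1 ((hm ⟨χ, hχ⟩).trans (by rw [h', Nat.cast_zero]))
  · exact h2 ((hm' ⟨χ, hχ⟩).trans (by rw [h', Nat.cast_zero]))

/-- Clifford's theorem. -/
theorem restrict_eq_smul_orbit [Fintype H] {θ : G → ℂ} (hθ : Cfsg.IsIrrCharacter G θ)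
    {χ : H → ℂ} (hχ : Cfsg.IsIrrCharacter H χ)
    (h : Cfsg.classInner (fun n : H => θ n) χ ≠ 0) :
    (fun n : H => θ n) = Cfsg.classInner (fun n : H => θ n) χ •
      ∑ᶠ ψ ∈ {ψ : H → ℂ | ∃ g : G, ψ = conjG χ g}, ψ := by
  classical
  have hθc : Cfsg.IsClassFunction G θ := IsIrrCharacter.isClassFunction hθ
  have hres : Cfsg.IsCharacter H fun n : H => θ n :=
    IsCharacter.restrict (IsIrrCharacter.isCharacter hθ) H
  have hconj : ∀ φ, Cfsg.IsIrrCharacter H φ → Cfsg.classInner (fun n : H => θ n) φ ≠ 0 →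
      ∃ g : G, φ = conjG χ g := by
    intro φ hφ hne
    refine exists_conjG_eq hφ hχ hθ ?_ ?_
    · rw [classInner_indFun H φ hθc,
        IsCharacter.classInner_comm (IsIrrCharacter.isCharacter hφ) hres]
      exact hne
    · rw [classInner_indFun H χ hθc,
        IsCharacter.classInner_comm (IsIrrCharacter.isCharacter hχ) hres]
      exact h
  have hval : ∀ g : G, Cfsg.classInner (fun n : H => θ n) (conjG χ g) =
      Cfsg.classInner (fun n : H => θ n) χ := fun g => by
    conv_lhs => rw [← conjG_coe hθc g, classInner_conjG]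
  conv_lhs => rw [IsClassFunction.eq_sum_irr (IsCharacter.isClassFunction hres)]
  have hset : {ψ : H → ℂ | ∃ g : G, ψ = conjG χ g} =
      ((Finset.univ.image fun g : G => conjG χ g : Finset (H → ℂ)) : Set (H → ℂ)) := by
    ext ψ; simp [eq_comm]
  rw [hset, finsum_mem_coe_finset, Finset.smul_sum]
  symm
  refine Finset.sum_bij_ne_zero (fun ψ hψ _ => (⟨ψ, by
      obtain ⟨g, -, rfl⟩ := Finset.mem_image.mp hψ
      exact IsIrrCharacter.conjG hχ g⟩ : Cfsg.IrrCharacter H))
    (fun _ _ _ => Finset.mem_univ _) (fun a _ _ b _ _ hab => congrArg Subtype.val hab) ?_ ?_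
  · intro φ _ hne
    have hne' : Cfsg.classInner (fun n : H => θ n) (φ : H → ℂ) ≠ 0 := fun h0 => hne (by
      rw [h0, zero_smul])
    obtain ⟨g, hg⟩ := hconj φ φ.2 hne'
    refine ⟨φ, Finset.mem_image.mpr ⟨g, Finset.mem_univ g, hg.symm⟩, fun h0 => ?_, rfl⟩
    exact IsIrrCharacter.apply_one_ne_zero φ.2 (congrFun ((smul_eq_zero.mp h0).resolve_left h) 1)
  · intro ψ hψ _
    obtain ⟨g, -, rfl⟩ := Finset.mem_image.mp hψ
    exact congrArg (· • conjG χ g) (hval g).symm

end Ind

end CfsgLib.Char
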