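import Cfsg.Agent.Lib.Char.CliffordCorr
import Cfsg.Agent.Lib.Char.Quotient
import Cfsg.Agent.Lib.CharDeep.Brauer
import Cfsg.Agent.Lib.CharDeep.GenChar
import Cfsg.Agent.Lib.Solvable.FrattiniFitting
import Cfsg.Agent.S1488

/-!
# Monomial characters: nilpotent groups, Brauer's induction theorem
-/

set_option autoImplicit false

open scoped ComplexConjugate

namespace CfsgLib.Char

universe u

variable {G : Type u} [Group G] [Fintype G]

theorem indFun_congr {H H' : Subgroup G} (e : H = H') (f : H → ℂ) (f' : H' → ℂ)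
    (h : ∀ x : H, f x = f' ⟨x, e ▸ x.2⟩) : Cfsg.indFun H f = Cfsg.indFun H' f' := by
  subst e
  exact congrArg _ (funext h)

/-- Transitivity of induction along a subgroup of a subgroup. -/
theorem indFun_map_subtype (T : Subgroup G) [Fintype T] (H : Subgroup T) (f : H → ℂ) :
    Cfsg.indFun T (Cfsg.indFun H f) =
      Cfsg.indFun (H.map T.subtype)
        (fun x => f ((H.equivMapOfInjective T.subtype T.subtype_injective).symm x)) := by
  rw [← indFun_indFun (H.map T.subtype) _ T (Subgroup.map_subtype_le H)]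
  congr 1
  refine indFun_congr (Subgroup.comap_map_eq_self_of_injective T.subtype_injective H).symm _ _
    fun x => congrArg f ?_
  symm
  rw [MulEquiv.symm_apply_eq]
  rfl

theorem indFun_top_hom (f : G →* ℂˣ) :
    Cfsg.indFun (⊤ : Subgroup G) (fun h => ((f.comp (⊤ : Subgroup G).subtype) h : ℂ)) =
      fun g => (f g : ℂ) :=
  CfsgLib.CharDeep.Brauer.indFun_top _ (IsIrrCharacter.isClassFunction (isIrrCharacter_hom f))

omit [Fintype G] in
theorem exists_normal_abelian_not_central [Group.IsNilpotent G]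
    (hnc : ¬ ∀ a b : G, a * b = b * a) :
    ∃ A : Subgroup G, A.Normal ∧ (∀ a b : A, a * b = b * a) ∧ ¬ A ≤ Subgroup.center G := by
  have hne : Nontrivial (G ⧸ Subgroup.center G) := by
    rw [QuotientGroup.nontrivial_iff]
    exact fun h => hnc fun a b => ((Subgroup.mem_center_iff.mp (h ▸ Subgroup.mem_top a)) b).symm
  have hc : Subgroup.center (G ⧸ Subgroup.center G) ≠ ⊥ := by
    have h := CfsgLib.Solvable.FrattiniFitting.inf_center_ne_bot
      (⊤ : Subgroup (G ⧸ Subgroup.center G)) top_ne_bot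
    rwa [top_inf_eq] at h
  obtain ⟨q, hq, hq1⟩ := (Subgroup.ne_bot_iff_exists_ne_one.mp hc |> fun ⟨a, ha⟩ =>
    (⟨(a : G ⧸ Subgroup.center G), a.2, fun h => ha (Subtype.ext h)⟩ :
      ∃ q : G ⧸ Subgroup.center G, q ∈ Subgroup.center _ ∧ q ≠ 1))
  obtain ⟨x, rfl⟩ := QuotientGroup.mk'_surjective (Subgroup.center G) q
  have hxc : x ∉ Subgroup.center G := fun h => hq1 ((QuotientGroup.eq_one_iff x).mpr h)
  have hcl : ∀ g : G, g * x * g⁻¹ * x⁻¹ ∈ Subgroup.center G := fun g => by
    have := Subgroup.mem_center_iff.mp hq (QuotientGroup.mk' (Subgroup.center G) g)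
    rw [← QuotientGroup.eq_one_iff, ← QuotientGroup.mk'_apply, map_mul, map_mul, map_mul, map_inv,
      map_inv, this, mul_inv_cancel_right, mul_inv_cancel]
  refine ⟨Subgroup.zpowers x ⊔ Subgroup.center G, ⟨fun a ha g => ?_⟩, fun a b => ?_, fun h =>
    hxc (h (Subgroup.mem_sup_left (Subgroup.mem_zpowers x)))⟩
  · have hle : (Subgroup.zpowers x ⊔ Subgroup.center G).map (MulAut.conj g).toMonoidHom ≤
        Subgroup.zpowers x ⊔ Subgroup.center G := by
      rw [Subgroup.map_sup, MonoidHom.map_zpowers]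
      refine sup_le (Subgroup.zpowers_le.mpr ?_) ?_
      · have : g * x * g⁻¹ = g * x * g⁻¹ * x⁻¹ * x := by group
        show g * x * g⁻¹ ∈ _
        rw [this]
        exact Subgroup.mul_mem _ (Subgroup.mem_sup_right (hcl g))
          (Subgroup.mem_sup_left (Subgroup.mem_zpowers x))
      · rintro _ ⟨z, hz, rfl⟩
        exact Subgroup.mem_sup_right ((inferInstance : (Subgroup.center G).Normal).conj_mem z hz g)
    exact hle ⟨a, ha, rfl⟩
  · have h1 : Subgroup.zpowers x ⊔ Subgroup.center G ≤ Subgroup.centralizer ({x} : Set G) :=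
      sup_le (Subgroup.zpowers_le.mpr (Subgroup.mem_centralizer_singleton_iff.mpr rfl))
        (Subgroup.center_le_centralizer _)
    have h2 : Subgroup.zpowers x ⊔ Subgroup.center G ≤ Subgroup.centralizer
        ((Subgroup.zpowers x ⊔ Subgroup.center G : Subgroup G) : Set G) :=
      sup_le (Subgroup.zpowers_le.mpr fun y hy => by
        exact Subgroup.mem_centralizer_singleton_iff.mp (h1 hy))
        (Subgroup.center_le_centralizer _)
    exact Subtype.ext ((h2 a.2) b b.2).symm

/-- Nilpotent groups are monomial. -/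
theorem exists_monomial_aux : ∀ (n : ℕ) (G : Type u) [Group G] [Fintype G] [Group.IsNilpotent G],
    Nat.card G = n → ∀ χ : G → ℂ, Cfsg.IsIrrCharacter G χ →
      ∃ (H : Subgroup G) (lam : H →* ℂˣ), χ = Cfsg.indFun H (fun h => (lam h : ℂ)) := by
  intro n
  induction n using Nat.strong_induction_on with
  | _ n ih =>
    intro G _ _ _ hn χ hχ
    classical
    have hχc := IsIrrCharacter.isCharacter hχ
    by_cases hcomm : ∀ a b : G, a * b = b * a
    · obtain ⟨f, hf⟩ := exists_hom_of_apply_one_eq_one hχc (apply_one_eq_one_of_comm hcomm hχ)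
      exact ⟨⊤, f.comp (⊤ : Subgroup G).subtype, by
        rw [indFun_top_hom f]; exact hf⟩
    by_cases hker : charKer hχc = ⊥
    swap
    · set K := charKer hχc with hK
      have : K.Normal := charKer_normal hχc
      obtain ⟨ψ, hψ, hχψ⟩ := IsIrrCharacter.exists_deflate hχ K fun k hk => hk
      have : Fintype (G ⧸ K) := Fintype.ofFinite _
      have hlt : Nat.card (G ⧸ K) < n := by
        have h1 : 1 < Nat.card K := (Subgroup.one_lt_card_iff_ne_bot K).mpr hker
        have h2 := Subgroup.card_eq_card_quotient_mul_card_subgroup K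
        have h3 : 0 < Nat.card (G ⧸ K) := Nat.card_pos
        rw [← hn, h2]
        exact lt_mul_of_one_lt_right h3 h1
      obtain ⟨H', lam, hl⟩ := ih _ hlt (G ⧸ K) rfl ψ hψ
      set H := H'.comap (QuotientGroup.mk' K) with hH
      have hKH : K ≤ H := fun k hk => by
        show QuotientGroup.mk' K k ∈ H'
        rw [show QuotientGroup.mk' K k = 1 from (QuotientGroup.eq_one_iff k).mpr hk]
        exact H'.one_mem
      have hmap : H.map (QuotientGroup.mk' K) = H' :=
        Subgroup.map_comap_eq_self_of_surjective (QuotientGroup.mk'_surjective K) H'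
      refine ⟨H, lam.comp (((QuotientGroup.mk' K).comp H.subtype).codRestrict H' fun x => x.2),
        funext fun g => ?_⟩
      rw [hχψ, Function.comp_apply, hl,
        ← indFun_congr hmap (fun y => (lam ⟨y, hmap ▸ y.2⟩ : ℂ)) (fun y => (lam y : ℂ))
          (fun y => rfl)]
      exact Cfsg.Agent.S1488.indFun_quotient K H hKH _ _ (fun x => rfl) g
    · obtain ⟨A, hA, hAc, hAZ⟩ := exists_normal_abelian_not_central hcomm
      have hres : Cfsg.IsCharacter A (fun a : A => χ a) := IsCharacter.restrict hχc A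
      obtain ⟨θ, hθ, hθc⟩ := IsCharacter.exists_constituent hres fun h =>
        IsIrrCharacter.apply_one_ne_zero hχ (congrFun h 1)
      have hθ1 : θ 1 = 1 := apply_one_eq_one_of_comm hAc hθ
      obtain ⟨f, hf⟩ := exists_hom_of_apply_one_eq_one (IsIrrCharacter.isCharacter hθ) hθ1
      by_cases hT : stab θ = ⊤
      · exfalso
        refine hAZ fun a ha => ?_
        have hinv : ∀ (g : G) (x : A), θ ⟨g * x * g⁻¹, hA.conj_mem (x : G) x.2 g⟩ = θ x :=
          fun g x => congrFun (mem_stab.mp (hT ▸ Subgroup.mem_top g)) x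
        obtain ⟨e, -, -, he⟩ := CfsgLib.CharDeep.Clifford.restrict_eq_smul A hχ hθ hθc hinv
        obtain ⟨m, ρ, hρ, rfl⟩ := hχ
        have h1 := congrFun he 1
        have h2 := congrFun he ⟨a, ha⟩
        simp only [OneMemClass.coe_one, Representation.char_one, Pi.smul_apply, smul_eq_mul, hθ1,
          mul_one] at h1
        simp only [Pi.smul_apply, smul_eq_mul] at h2
        have hnorm : ‖ρ.character a‖ = (Module.finrank ℂ (Fin m → ℂ) : ℝ) := by
          rw [h2, norm_mul, ← h1, Complex.norm_natCast, hf,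
            norm_eq_one_of_pow_orderOf (g := (⟨a, ha⟩ : A)) (by
              rw [← Units.val_pow_eq_pow_val, ← map_pow, pow_orderOf_eq_one, map_one,
                Units.val_one]), mul_one]
        obtain ⟨ω, -, hω, -⟩ := exists_scalar_of_norm_char_eq ρ a hnorm
        rw [Subgroup.mem_center_iff]
        intro g
        have hc : ρ (g * a) = ρ (a * g) := by
          rw [map_mul, map_mul, hω]
          ext v; simp
        have hk : g * a * (a * g)⁻¹ ∈ charKer hχc := by
          rw [mem_charKer, Representation.char_one, char_eq_finrank_iff, map_mul, hc, ← map_mul,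
            mul_inv_cancel, map_one]
          rfl
        rw [hker, Subgroup.mem_bot, mul_inv_eq_one] at hk
        exact hk
      · set T := stab θ with hT'
        have hAT : A ≤ T := le_stab (IsIrrCharacter.isClassFunction hθ)
        obtain ⟨ψ, hψ, -, he⟩ := exists_eq_indFun_inertia hAT hθ (isInertia_stab θ) hχ hθc
        have hlt : Nat.card T < n := by
          refine hn ▸ lt_of_le_of_ne ?_ fun h => hT (Subgroup.eq_top_of_card_eq T h)
          exact Nat.le_of_dvd Nat.card_pos (Subgroup.card_subgroup_dvd_card T)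
        obtain ⟨H, lam, hl⟩ := ih _ hlt T rfl ψ hψ
        exact ⟨H.map T.subtype,
          lam.comp (H.equivMapOfInjective T.subtype T.subtype_injective).symm.toMonoidHom,
          by rw [he, hl, indFun_map_subtype]; rfl⟩

theorem exists_monomial [Group.IsNilpotent G] {χ : G → ℂ} (hχ : Cfsg.IsIrrCharacter G χ) :
    ∃ (H : Subgroup G) (lam : H →* ℂˣ), χ = Cfsg.indFun H (fun h => (lam h : ℂ)) :=
  exists_monomial_aux _ G rfl χ hχ

omit [Fintype G] in
theorem isNilpotent_of_isElementary [Finite G] {p : ℕ} (hp : p.Prime)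
    (h : Cfsg.IsElementary p G) : Group.IsNilpotent G := by
  obtain ⟨x, hx, -, k, hk⟩ := h
  have : Fact p.Prime := ⟨hp⟩
  have hxn : (Subgroup.zpowers x).Normal := ⟨fun a ha g => by
    have hac : a ∈ Subgroup.center G := Subgroup.zpowers_le.mpr hx ha
    rwa [Subgroup.mem_center_iff.mp hac g, mul_inv_cancel_right]⟩
  have : Group.IsNilpotent (G ⧸ Subgroup.zpowers x) :=
    (IsPGroup.of_card (show Nat.card (G ⧸ Subgroup.zpowers x) = p ^ k from hk)).isNilpotent
  refine isNilpotent_of_ker_le_center (QuotientGroup.mk' (Subgroup.zpowers x)) ?_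
  rw [QuotientGroup.ker_mk']
  exact Subgroup.zpowers_le.mpr hx

omit [Fintype G] in
theorem isElementary_subgroup [Finite G] {p : ℕ} (hp : p.Prime) (h : Cfsg.IsElementary p G)
    (F : Subgroup G) : Cfsg.IsElementary p F := by
  obtain ⟨x, hx, hco, k, hk⟩ := h
  set C := Subgroup.zpowers x with hC
  have hxn : C.Normal := ⟨fun a ha g => by
    rwa [Subgroup.mem_center_iff.mp (Subgroup.zpowers_le.mpr hx ha) g, mul_inv_cancel_right]⟩
  obtain ⟨y, hy⟩ : ∃ y : F, Subgroup.zpowers y = C.subgroupOf F := by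
    obtain ⟨⟨z, hz⟩, hzgen⟩ := (isCyclic_of_injective
      (((F.subtype.comp (C.subgroupOf F).subtype)).codRestrict C fun w => w.2)
      (fun a b h => Subtype.ext (Subtype.ext (congrArg (fun w : C => (w : G)) h :)))).exists_generator
      (α := C.subgroupOf F)
    refine ⟨z, le_antisymm (Subgroup.zpowers_le.mpr hz) fun w hw => ?_⟩
    obtain ⟨i, hi⟩ := hzgen ⟨w, hw⟩
    exact ⟨i, congrArg Subtype.val hi⟩
  have hyC : (y : G) ∈ C := by
    have : y ∈ C.subgroupOf F := hy ▸ Subgroup.mem_zpowers y
    exact this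
  refine ⟨y, Subgroup.mem_center_iff.mpr fun w =>
    Subtype.ext (Subgroup.mem_center_iff.mp (Subgroup.zpowers_le.mpr hx hyC) w), ?_, ?_⟩
  · rw [← Subgroup.orderOf_coe]
    refine hco.coprime_dvd_left ?_
    rw [← Nat.card_zpowers x]
    exact Subgroup.orderOf_dvd_natCard _ hyC
  · obtain ⟨j, -, hj⟩ := (Nat.dvd_prime_pow hp).mp (hk ▸ Subgroup.relIndex_dvd_index_of_normal C F)
    exact ⟨j, by rw [hy]; exact hj⟩

variable (G) in
/-- Functions induced from linear characters of elementary subgroups. -/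
def monoSpan : AddSubgroup (G → ℂ) :=
  AddSubgroup.closure {f | ∃ (E : Subgroup G) (lam : E →* ℂˣ) (p : ℕ), p.Prime ∧
    Cfsg.IsElementary p E ∧ f = Cfsg.indFun E (fun e => (lam e : ℂ))}

theorem indFun_elementary_mem {p : ℕ} (hp : p.Prime) (E : Subgroup G)
    (hE : Cfsg.IsElementary p E) {φ : E → ℂ} (hφ : Cfsg.IsCharacter E φ) :
    Cfsg.indFun E φ ∈ monoSpan G := by
  classical
  obtain ⟨m, -, hexp⟩ := IsCharacter.exists_multiplicity hφ
  rw [show φ = ∑ χ : Cfsg.IrrCharacter E, (m χ : ℂ) • (χ : E → ℂ) from funext fun g => by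
    rw [hexp g]; simp [Finset.sum_apply], indFun_sum]
  refine sum_mem fun χ _ => ?_
  rw [indFun_smul, Nat.cast_smul_eq_nsmul]
  refine AddSubgroup.nsmul_mem _ ?_ _
  have := isNilpotent_of_isElementary hp hE
  obtain ⟨H, lam, hl⟩ := exists_monomial χ.2
  rw [hl, indFun_map_subtype]
  exact AddSubgroup.subset_closure ⟨H.map E.subtype,
    lam.comp (H.equivMapOfInjective E.subtype E.subtype_injective).symm.toMonoidHom, p, hp,
    CfsgLib.CharDeep.Brauer.isElementary_map
      (H.equivMapOfInjective E.subtype E.subtype_injective).toMonoidHom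
      (H.equivMapOfInjective E.subtype E.subtype_injective).bijective
      (isElementary_subgroup hp hE H), rfl⟩

/-- **Brauer's induction theorem.** -/
theorem brauer_induction {χ : G → ℂ} (hχ : Cfsg.IsGeneralizedCharacter G χ) :
    χ ∈ monoSpan G := by
  classical
  have hchar : ∀ φ : G → ℂ, Cfsg.IsCharacter G φ → φ ∈ monoSpan G := by
    intro φ hφ
    let I : Ideal ℤ :=
      { carrier := {a | (a : ℂ) • φ ∈ monoSpan G}
        add_mem' := by
          intro a b ha hb
          show ((a + b : ℤ) : ℂ) • φ ∈ monoSpan G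
          rw [Int.cast_add, add_smul]
          exact AddSubgroup.add_mem _ ha hb
        zero_mem' := by
          show ((0 : ℤ) : ℂ) • φ ∈ monoSpan G
          rw [Int.cast_zero, zero_smul]
          exact AddSubgroup.zero_mem _
        smul_mem' := by
          intro c a ha
          show ((c * a : ℤ) : ℂ) • φ ∈ monoSpan G
          rw [Int.cast_mul, mul_smul, Int.cast_smul_eq_zsmul]
          exact AddSubgroup.zsmul_mem _ ha c }
    obtain ⟨m, hm⟩ := (inferInstance : I.IsPrincipal).principal
    have hu : IsUnit m := by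
      rw [Int.isUnit_iff_natAbs_eq]
      by_contra h
      obtain ⟨p, hpp, hpd⟩ := Nat.exists_prime_and_dvd h
      have : Fact p.Prime := ⟨hpp⟩
      obtain ⟨a, ha, hmem⟩ := CfsgLib.CharDeep.Brauer.exists_const_mem_span' (G := G) p
      have hle : CfsgLib.CharDeep.Brauer.span' G p ≤ monoSpan G := (AddSubgroup.closure_le _).2 (by
        rintro _ ⟨E, ψ, hE, hψ, rfl⟩
        exact indFun_elementary_mem hpp E hE hψ)
      have haI : a ∈ I := by
        show (a : ℂ) • φ ∈ monoSpan G
        rw [show (a : ℂ) • φ = φ * (fun _ => (a : ℂ)) from funext fun g => mul_comm _ _]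
        exact hle (CfsgLib.CharDeep.Brauer.mul_mem_span' hφ hmem)
      rw [hm, Ideal.submodule_span_eq, Ideal.mem_span_singleton] at haI
      exact ha ((Int.natCast_dvd.2 hpd).trans haI)
    have h1 : (1 : ℤ) ∈ I := by
      rw [hm, Ideal.submodule_span_eq, Ideal.mem_span_singleton]
      exact hu.dvd
    have h2 : ((1 : ℤ) : ℂ) • φ ∈ monoSpan G := h1
    rwa [Int.cast_one, one_smul] at h2
  obtain ⟨a, b, ha, hb, rfl⟩ := hχ
  exact AddSubgroup.sub_mem _ (hchar a ha) (hchar b hb)

/-- `g ↦ χ (g ^ k)` for `k` prime to `|G|` is a generalized character. -/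
theorem IsGeneralizedCharacter.comp_pow {χ : G → ℂ} (hχ : Cfsg.IsGeneralizedCharacter G χ) (k : ℕ)
    (hk : (Nat.card G).Coprime k) : Cfsg.IsGeneralizedCharacter G (fun g => χ (g ^ k)) := by
  classical
  have h := brauer_induction hχ
  clear hχ
  induction h using AddSubgroup.closure_induction with
  | mem f hf =>
    obtain ⟨E, lam, p, -, -, rfl⟩ := hf
    have hgoal : (fun g => Cfsg.indFun E (fun e => (lam e : ℂ)) (g ^ k)) =
        Cfsg.indFun E (fun e => ((lam ^ k) e : ℂ)) := by
      funext g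
      rw [indFun_def, indFun_def]
      congr 1
      refine Finset.sum_congr rfl fun x _ => ?_
      have hpow : x⁻¹ * g ^ k * x = (x⁻¹ * g * x) ^ k := by
        rw [show x⁻¹ * g * x = x⁻¹ * g * x⁻¹⁻¹ by rw [inv_inv], conj_pow, inv_inv]
      rw [hpow]
      by_cases hm : x⁻¹ * g * x ∈ E
      · rw [extendByZero_apply_mem E _ hm, extendByZero_apply_mem E _ (E.pow_mem hm k)]
        rw [show (⟨(x⁻¹ * g * x) ^ k, E.pow_mem hm k⟩ : E) = ⟨x⁻¹ * g * x, hm⟩ ^ k from rfl,
          map_pow, MonoidHom.pow_apply]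
      · rw [extendByZero_apply_notMem E _ hm, extendByZero_apply_notMem E _ fun hk' => hm ?_]
        obtain ⟨m, hm'⟩ := exists_pow_eq_self_of_coprime
          ((hk.coprime_dvd_left (orderOf_dvd_natCard (x⁻¹ * g * x))).symm)
        rw [← hm']
        exact E.pow_mem hk' m
    rw [hgoal]
    exact IsCharacter.isGeneralizedCharacter (IsCharacter.indFun E (isCharacter_hom _))
  | zero => exact ⟨0, 0, isCharacter_zero, isCharacter_zero, by funext g; simp⟩
  | add x y _ _ hx hy =>
    obtain ⟨a, b, ha, hb, e⟩ := hx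
    obtain ⟨c, d, hc, hd, e'⟩ := hy
    refine ⟨a + c, b + d, IsCharacter.add ha hc, IsCharacter.add hb hd, ?_⟩
    funext g
    have h1 := congrFun e g
    have h2 := congrFun e' g
    simp only [Pi.sub_apply, Pi.add_apply] at h1 h2 ⊢
    rw [h1, h2]; ring
  | neg x _ hx =>
    obtain ⟨a, b, ha, hb, e⟩ := hx
    refine ⟨b, a, hb, ha, ?_⟩
    funext g
    have h1 := congrFun e g
    simp only [Pi.sub_apply, Pi.neg_apply] at h1 ⊢
    rw [h1]; ring

/-- A Galois conjugate of an irreducible character. -/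
theorem IsIrrCharacter.comp_pow {χ : G → ℂ} (hχ : Cfsg.IsIrrCharacter G χ) (k : ℕ)
    (hk : (Nat.card G).Coprime k) : Cfsg.IsIrrCharacter G (fun g => χ (g ^ k)) := by
  classical
  obtain ⟨d, hd, hd'⟩ := IsIrrCharacter.apply_one_eq hχ
  refine CfsgLib.CharDeep.GenChar.isIrrCharacter_of_norm_one
    (IsGeneralizedCharacter.comp_pow
      (IsCharacter.isGeneralizedCharacter (IsIrrCharacter.isCharacter hχ)) k hk) ?_ ?_
  · rw [← classInner_irr_self hχ]
    simp only [Cfsg.classInner]
    congr 1
    exact Fintype.sum_equiv (powCoprime hk) _ _ fun g => rfl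
  · simp only [one_pow, hd', Complex.natCast_re]
    exact_mod_cast hd

theorem IsCharacter.comp_pow {χ : G → ℂ} (hχ : Cfsg.IsCharacter G χ) (k : ℕ)
    (hk : (Nat.card G).Coprime k) : Cfsg.IsCharacter G (fun g => χ (g ^ k)) := by
  classical
  obtain ⟨m, -, hexp⟩ := IsCharacter.exists_multiplicity hχ
  rw [show (fun g => χ (g ^ k)) = ∑ φ : Cfsg.IrrCharacter G, m φ • fun g => (φ : G → ℂ) (g ^ k) from
    funext fun g => by rw [hexp (g ^ k)]; simp [Finset.sum_apply, nsmul_eq_mul]]
  exact isCharacter_sum _ _ fun φ _ =>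
    IsCharacter.nsmul (IsIrrCharacter.isCharacter (IsIrrCharacter.comp_pow φ.2 k hk)) _

end CfsgLib.Char
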