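import Cfsg.Agent.Lib.Char.CyclicTIPair
import Cfsg.Agent.Lib.Char.Integral
import Cfsg.Agent.Lib.CharDeep.Galois.ComplexAut
import Cfsg.Agent.Lib.CharDeep.Galois.CharAut

/-!
# Field automorphisms and cyclic TI families

A cyclic TI family is unique, hence commutes with automorphisms of the complex field.
-/

set_option autoImplicit false

open scoped ComplexConjugate
open CfsgLib.CharDeep

namespace CfsgLib.Char.CyclicTI

/-- A class function which is, up to sign, an irreducible character. -/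
def Signed (G : Type*) [Group G] (a : G → ℂ) : Prop :=
  Cfsg.IsIrrCharacter G a ∨ Cfsg.IsIrrCharacter G (-a)

theorem Signed.exists_eq {G : Type*} [Group G] {a : G → ℂ} (ha : Signed G a) :
    ∃ (z : ℂ) (χ : G → ℂ), (z = 1 ∨ z = -1) ∧ Cfsg.IsIrrCharacter G χ ∧ a = z • χ := by
  rcases ha with h | h
  · exact ⟨1, a, Or.inl rfl, h, (one_smul _ _).symm⟩
  · exact ⟨-1, -a, Or.inr rfl, h, by simp⟩

theorem Signed.neg {G : Type*} [Group G] {a : G → ℂ} (ha : Signed G a) : Signed G (-a) :=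
  ha.elim (fun h => Or.inr (by rwa [neg_neg])) Or.inl

section

variable {G : Type*} [Group G] [Fintype G]

theorem Signed.eq_or_eq_neg {a b : G → ℂ} (ha : Signed G a) (hb : Signed G b)
    (h : Cfsg.classInner a b ≠ 0) : a = b ∨ a = -b := by
  obtain ⟨z, χ, hz, hχ, rfl⟩ := ha.exists_eq
  obtain ⟨w, ψ, hw, hψ, rfl⟩ := hb.exists_eq
  by_cases e : χ = ψ
  · subst e
    rcases hz with rfl | rfl <;> rcases hw with rfl | rfl <;> simp
  · rw [classInner_smul_left, classInner_smul_right, classInner_irr_ne hχ hψ e] at h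
    simp at h

theorem Signed.classInner_self {a : G → ℂ} (ha : Signed G a) : Cfsg.classInner a a = 1 := by
  obtain ⟨z, χ, hz, hχ, rfl⟩ := ha.exists_eq
  rw [classInner_smul_left, classInner_smul_right, classInner_irr_self hχ]
  rcases hz with rfl | rfl <;> simp

theorem Signed.apply_inv {a : G → ℂ} (ha : Signed G a) (g : G) : a g⁻¹ = conj (a g) := by
  obtain ⟨z, χ, hz, hχ, rfl⟩ := ha.exists_eq
  rw [Pi.smul_apply, Pi.smul_apply, IsIrrCharacter.apply_inv hχ g, smul_eq_mul, smul_eq_mul, map_mul]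
  rcases hz with rfl | rfl <;> simp

theorem Signed.map (σ : ℂ →+* ℂ) {a : G → ℂ} (ha : Signed G a) :
    Signed G (fun g => σ (a g)) :=
  ha.elim (fun h => Or.inl (Galois.isIrrCharacter_map σ h)) fun h => Or.inr (by
    have e : -(fun g => σ (a g)) = σ ∘ (-a) := funext fun g => (map_neg σ (a g)).symm
    rw [e]; exact Galois.isIrrCharacter_map σ h)

theorem Signed.classInner_map (σ : ℂ →+* ℂ) (a : G → ℂ) {b : G → ℂ} (hb : Signed G b) :
    Cfsg.classInner (fun g => σ (a g)) (fun g => σ (b g)) = σ (Cfsg.classInner a b) := by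
  simp only [Cfsg.classInner, map_mul, map_inv₀, map_natCast, map_sum]
  congr 1
  refine Finset.sum_congr rfl fun g _ => ?_
  congr 1
  rw [← hb.apply_inv g]
  exact ((hb.map σ).apply_inv g).symm

/-- One member of a signed orthonormal triple is common to two triples through it. -/
theorem eq_of_two_triples {v e a b c b' c' : G → ℂ} (hv : Signed G v) (hve : Cfsg.classInner e v = 0)
    (ha : Signed G a) (hb : Signed G b) (hc : Signed G c) (hb' : Signed G b') (hc' : Signed G c')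
    (hab : Cfsg.classInner a b = 0) (hac : Cfsg.classInner a c = 0)
    (hbc : Cfsg.classInner b c = 0) (hab' : Cfsg.classInner a b' = 0)
    (hac' : Cfsg.classInner a c' = 0)
    (hbb' : Cfsg.classInner b b' = 0) (hbc' : Cfsg.classInner b c' = 0)
    (hcb' : Cfsg.classInner c b' = 0) (hcc' : Cfsg.classInner c c' = 0)
    (h : Cfsg.classInner (e + a + b + c) v = 1) (h' : Cfsg.classInner (e + a + b' + c') v = 1) :
    v = a := by
  rw [classInner_add_left, classInner_add_left, classInner_add_left, hve, zero_add] at h h'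
  have sym : ∀ {x y : G → ℂ}, Cfsg.classInner x y = 0 → Cfsg.classInner y x = 0 := fun {x y} hxy => by
    rw [← classInner_conj_symm, hxy, map_zero]
  by_cases h1 : Cfsg.classInner a v = 0
  · exfalso
    rw [h1, zero_add] at h h'
    by_cases h2 : Cfsg.classInner b v = 0
    · have h3 : Cfsg.classInner c v ≠ 0 := fun h3 => by simp [h2, h3] at h
      rcases hc.eq_or_eq_neg hv h3 with e | e <;>
        simp [e, classInner_neg_left] at hcb' hcc' <;>
        simp [sym hcb', sym hcc'] at h'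
    · rcases hb.eq_or_eq_neg hv h2 with e | e <;>
        simp [e, classInner_neg_left] at hbb' hbc' <;>
        simp [sym hbb', sym hbc'] at h'
  · rcases ha.eq_or_eq_neg hv h1 with e | e
    · exact e.symm
    · exfalso
      simp [e, classInner_neg_left] at hab hac
      rw [e, classInner_neg_left, hv.classInner_self, sym hab, sym hac] at h
      norm_num at h

end

variable {G : Type*} [Group G] {W₁ W₂ : Subgroup G} [Fintype G]
  {χ χ' : (↥(W₁ ⊔ W₂) →* ℂˣ) → (G → ℂ)}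

theorem hom_mul_one (f : ↥(W₁ ⊔ W₂) →* ℂˣ) : f * 1 = f ∧ 1 * f = f :=
  ⟨MonoidHom.ext fun _ => mul_one _, MonoidHom.ext fun _ => one_mul _⟩

/-- The equation between two families at one pair. -/
theorem family_eq_at (hχ : Cfsg.IsCyclicTIFamily W₁ W₂ χ) (hχ' : Cfsg.IsCyclicTIFamily W₁ W₂ χ')
    {φ ψ : ↥(W₁ ⊔ W₂) →* ℂˣ} (hφ : φ ≠ 1) (hψ : ψ ≠ 1)
    (hφ₂ : ∀ w : ↥(W₁ ⊔ W₂), (w : G) ∈ W₂ → φ w = 1)
    (hψ₁ : ∀ w : ↥(W₁ ⊔ W₂), (w : G) ∈ W₁ → ψ w = 1) :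
    (fun _ : G => (1 : ℂ)) + (-χ φ) + (-χ ψ) + χ (φ * ψ) =
      (fun _ => (1 : ℂ)) + (-χ' φ) + (-χ' ψ) + χ' (φ * ψ) := by
  have h := (hχ.induced_eq φ ψ hφ hψ hφ₂ hψ₁).symm.trans (hχ'.induced_eq φ ψ hφ hψ hφ₂ hψ₁)
  funext g
  have := congrFun h g
  simp only [Pi.add_apply, Pi.neg_apply]
  linear_combination this

/-- A cyclic TI family is unique. -/
theorem family_unique (hW : Cfsg.IsSelfNormalizingCyclic W₁ W₂)
    (hodd : Odd (Nat.card ↥(W₁ ⊔ W₂))) (hχ : Cfsg.IsCyclicTIFamily W₁ W₂ χ)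
    (hχ' : Cfsg.IsCyclicTIFamily W₁ W₂ χ') : χ = χ' := by
  classical
  obtain ⟨hc1, hc2⟩ := card_fstChar hW
  have h3 : ∀ K : Subgroup G, K ≤ W₁ ⊔ W₂ → K ≠ ⊥ → 3 ≤ Nat.card K := by
    intro K hle hne
    obtain ⟨k, hk⟩ := hodd.of_dvd_nat (Subgroup.card_dvd_of_le hle)
    have := (Subgroup.one_lt_card_iff_ne_bot K).mpr hne
    omega
  have := finite_hom (W₁ := W₁) (W₂ := W₂)
  have hpick : ∀ {α : Type _} [Finite α] (x y : α), 3 ≤ Nat.card α → ∃ z, z ≠ x ∧ z ≠ y := by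
    intro α _ x y h
    cases nonempty_fintype α
    rw [Nat.card_eq_fintype_card] at h
    obtain ⟨z, hz⟩ := Finset.exists_mem_notMem_of_card_lt_card (s := ({x, y} : Finset α))
      (t := Finset.univ) (lt_of_le_of_lt Finset.card_le_two (by rw [Finset.card_univ]; omega))
    exact ⟨z, fun e => hz.2 (by simp [e]), fun e => hz.2 (by simp [e])⟩
  have hsg : ∀ ω, Signed G (χ ω) := hχ.irr_or_neg
  have hsg' : ∀ ω, Signed G (χ' ω) := hχ'.irr_or_neg
  have horth : ∀ {ω ω'}, ω ≠ ω' → Cfsg.classInner (χ ω) (χ ω') = 0 := fun {ω ω'} h => by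
    rw [hχ.orthonormal, if_neg h]
  have horth' : ∀ {ω ω'}, ω ≠ ω' → Cfsg.classInner (χ' ω) (χ' ω') = 0 := fun {ω ω'} h => by
    rw [hχ'.orthonormal, if_neg h]
  -- distinctness of products
  have dis : ∀ {f f' g g' : ↥(W₁ ⊔ W₂) →* ℂˣ}, (∀ w : ↥(W₁ ⊔ W₂), (w : G) ∈ W₂ → f w = 1 ∧ f' w = 1) →
      (∀ w : ↥(W₁ ⊔ W₂), (w : G) ∈ W₁ → g w = 1 ∧ g' w = 1) → (f ≠ f' ∨ g ≠ g') → f * g ≠ f' * g' := by
    intro f f' g g' hf hg hne e
    obtain ⟨e1, e2⟩ := sep hf hg e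
    exact hne.elim (fun h => h e1) (fun h => h e2)
  have hone : (fun _ : G => (1 : ℂ)) = χ' 1 := hχ'.map_one.symm
  have hA : ∀ φ : FstChar W₁ W₂, χ φ.1 = χ' φ.1 := by
    intro φ
    by_cases hφ : φ.1 = 1
    · rw [hφ, hχ.map_one, hχ'.map_one]
    obtain ⟨⟨ψ, hψ⟩, hψne, -⟩ := hpick (⟨1, fun _ _ => rfl⟩ : SndChar W₁ W₂) ⟨1, fun _ _ => rfl⟩
      (hc2 ▸ h3 W₂ le_sup_right hW.2.1)
    obtain ⟨⟨ψ', hψ'⟩, hψ'ne, hψψ'⟩ := hpick (⟨1, fun _ _ => rfl⟩ : SndChar W₁ W₂) ⟨ψ, hψ⟩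
      (hc2 ▸ h3 W₂ le_sup_right hW.2.1)
    have n1 : ψ ≠ 1 := fun e => hψne (Subtype.ext e)
    have n2 : ψ' ≠ 1 := fun e => hψ'ne (Subtype.ext e)
    have n3 : ψ' ≠ ψ := fun e => hψψ' (Subtype.ext e)
    have d1 : φ.1 * 1 ≠ 1 * ψ := dis (fun w hw => ⟨φ.2 w hw, rfl⟩) (fun w hw => ⟨rfl, hψ w hw⟩) (Or.inl hφ)
    have d2 : φ.1 * 1 ≠ φ.1 * ψ := dis (fun w hw => ⟨φ.2 w hw, φ.2 w hw⟩) (fun w hw => ⟨rfl, hψ w hw⟩)
      (Or.inr n1.symm)
    have d3 : 1 * ψ ≠ φ.1 * ψ := dis (fun w hw => ⟨rfl, φ.2 w hw⟩) (fun w hw => ⟨hψ w hw, hψ w hw⟩)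
      (Or.inl (Ne.symm hφ))
    have d1' : φ.1 * 1 ≠ 1 * ψ' := dis (fun w hw => ⟨φ.2 w hw, rfl⟩) (fun w hw => ⟨rfl, hψ' w hw⟩) (Or.inl hφ)
    have d2' : φ.1 * 1 ≠ φ.1 * ψ' := dis (fun w hw => ⟨φ.2 w hw, φ.2 w hw⟩) (fun w hw => ⟨rfl, hψ' w hw⟩)
      (Or.inr n2.symm)
    have d4 : 1 * ψ ≠ φ.1 * ψ' := dis (fun w hw => ⟨rfl, φ.2 w hw⟩) (fun w hw => ⟨hψ w hw, hψ' w hw⟩)
      (Or.inl (Ne.symm hφ))
    have d5 : φ.1 * ψ ≠ 1 * ψ' := dis (fun w hw => ⟨φ.2 w hw, rfl⟩) (fun w hw => ⟨hψ w hw, hψ' w hw⟩)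
      (Or.inl hφ)
    have d6 : φ.1 * ψ ≠ φ.1 * ψ' := dis (fun w hw => ⟨φ.2 w hw, φ.2 w hw⟩)
      (fun w hw => ⟨hψ w hw, hψ' w hw⟩) (Or.inr n3.symm)
    have d3' : 1 * ψ' ≠ φ.1 * ψ' := dis (fun w hw => ⟨rfl, φ.2 w hw⟩) (fun w hw => ⟨hψ' w hw, hψ' w hw⟩)
      (Or.inl (Ne.symm hφ))
    simp only [(hom_mul_one _).1, (hom_mul_one _).2] at d1 d2 d3 d1' d2' d3' d4 d5
    have hF : ∀ {ψ : ↥(W₁ ⊔ W₂) →* ℂˣ}, (∀ w : ↥(W₁ ⊔ W₂), (w : G) ∈ W₁ → ψ w = 1) → ψ ≠ 1 →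
        φ.1 ≠ ψ → φ.1 ≠ φ.1 * ψ → Cfsg.classInner
          ((fun _ : G => (1 : ℂ)) + (-χ φ.1) + (-χ ψ) + χ (φ.1 * ψ)) (-χ' φ.1) = 1 := by
      intro ψ hψ n e1 e2
      rw [family_eq_at hχ hχ' hφ n φ.2 hψ, classInner_add_left, classInner_add_left,
        classInner_add_left, hone, classInner_neg_right, classInner_neg_right, classInner_neg_right,
        classInner_neg_left, classInner_neg_left, classInner_neg_right,
        horth' (Ne.symm hφ), (hsg' _).classInner_self, horth' (Ne.symm e1), horth' (Ne.symm e2)]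
      ring
    refine neg_injective (eq_of_two_triples (hsg' φ.1).neg ?_ (hsg φ.1).neg (hsg ψ).neg
      (hsg (φ.1 * ψ)) (hsg ψ').neg (hsg (φ.1 * ψ')) ?_ ?_ ?_ ?_ ?_ ?_ ?_ ?_ ?_
      (hF hψ n1 d1 d2) (hF hψ' n2 d1' d2')).symm
    · rw [hone, classInner_neg_right, horth' (Ne.symm hφ), neg_zero]
    all_goals simp [classInner_neg_left, classInner_neg_right, horth d1, horth d2, horth d3,
      horth d1', horth d2', horth d4, horth d5, horth d6, horth n3.symm]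
  have hB : ∀ ψ : SndChar W₁ W₂, χ ψ.1 = χ' ψ.1 := by
    intro ψ
    by_cases hψ : ψ.1 = 1
    · rw [hψ, hχ.map_one, hχ'.map_one]
    obtain ⟨⟨φ, hφ⟩, hφne, -⟩ := hpick (⟨1, fun _ _ => rfl⟩ : FstChar W₁ W₂) ⟨1, fun _ _ => rfl⟩
      (hc1 ▸ h3 W₁ le_sup_left hW.1)
    obtain ⟨⟨φ', hφ'⟩, hφ'ne, hφφ'⟩ := hpick (⟨1, fun _ _ => rfl⟩ : FstChar W₁ W₂) ⟨φ, hφ⟩
      (hc1 ▸ h3 W₁ le_sup_left hW.1)
    have n1 : φ ≠ 1 := fun e => hφne (Subtype.ext e)
    have n2 : φ' ≠ 1 := fun e => hφ'ne (Subtype.ext e)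
    have n3 : φ' ≠ φ := fun e => hφφ' (Subtype.ext e)
    have d1 : 1 * ψ.1 ≠ φ * 1 := dis (fun w hw => ⟨rfl, hφ w hw⟩) (fun w hw => ⟨ψ.2 w hw, rfl⟩) (Or.inl n1.symm)
    have d2 : 1 * ψ.1 ≠ φ * ψ.1 := dis (fun w hw => ⟨rfl, hφ w hw⟩) (fun w hw => ⟨ψ.2 w hw, ψ.2 w hw⟩)
      (Or.inl n1.symm)
    have d3 : φ * 1 ≠ φ * ψ.1 := dis (fun w hw => ⟨hφ w hw, hφ w hw⟩) (fun w hw => ⟨rfl, ψ.2 w hw⟩)
      (Or.inr (Ne.symm hψ))
    have d1' : 1 * ψ.1 ≠ φ' * 1 := dis (fun w hw => ⟨rfl, hφ' w hw⟩) (fun w hw => ⟨ψ.2 w hw, rfl⟩) (Or.inl n2.symm)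
    have d2' : 1 * ψ.1 ≠ φ' * ψ.1 := dis (fun w hw => ⟨rfl, hφ' w hw⟩) (fun w hw => ⟨ψ.2 w hw, ψ.2 w hw⟩)
      (Or.inl n2.symm)
    have d4 : φ * 1 ≠ φ' * ψ.1 := dis (fun w hw => ⟨hφ w hw, hφ' w hw⟩) (fun w hw => ⟨rfl, ψ.2 w hw⟩)
      (Or.inr (Ne.symm hψ))
    have d5 : φ * ψ.1 ≠ φ' * 1 := dis (fun w hw => ⟨hφ w hw, hφ' w hw⟩) (fun w hw => ⟨ψ.2 w hw, rfl⟩)
      (Or.inr hψ)
    have d6 : φ * ψ.1 ≠ φ' * ψ.1 := dis (fun w hw => ⟨hφ w hw, hφ' w hw⟩)
      (fun w hw => ⟨ψ.2 w hw, ψ.2 w hw⟩) (Or.inl n3.symm)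
    simp only [(hom_mul_one _).1, (hom_mul_one _).2] at d1 d2 d3 d1' d2' d4 d5
    have hF : ∀ {φ : ↥(W₁ ⊔ W₂) →* ℂˣ}, (∀ w : ↥(W₁ ⊔ W₂), (w : G) ∈ W₂ → φ w = 1) → φ ≠ 1 →
        ψ.1 ≠ φ → ψ.1 ≠ φ * ψ.1 → Cfsg.classInner
          ((fun _ : G => (1 : ℂ)) + (-χ ψ.1) + (-χ φ) + χ (φ * ψ.1)) (-χ' ψ.1) = 1 := by
      intro φ hφ n e1 e2
      rw [show (fun _ : G => (1 : ℂ)) + (-χ ψ.1) + (-χ φ) + χ (φ * ψ.1) =
        (fun _ : G => (1 : ℂ)) + (-χ φ) + (-χ ψ.1) + χ (φ * ψ.1) by abel,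
        family_eq_at hχ hχ' n hψ hφ ψ.2, classInner_add_left, classInner_add_left,
        classInner_add_left, hone, classInner_neg_right, classInner_neg_right, classInner_neg_right,
        classInner_neg_left, classInner_neg_left, classInner_neg_right,
        horth' (Ne.symm hψ), (hsg' _).classInner_self, horth' (Ne.symm e1), horth' (Ne.symm e2)]
      ring
    refine neg_injective (eq_of_two_triples (hsg' ψ.1).neg ?_ (hsg ψ.1).neg (hsg φ).neg
      (hsg (φ * ψ.1)) (hsg φ').neg (hsg (φ' * ψ.1)) ?_ ?_ ?_ ?_ ?_ ?_ ?_ ?_ ?_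
      (hF hφ n1 d1 d2) (hF hφ' n2 d1' d2')).symm
    · rw [hone, classInner_neg_right, horth' (Ne.symm hψ), neg_zero]
    all_goals simp [classInner_neg_left, classInner_neg_right, horth d1, horth d2, horth d3,
      horth d1', horth d2', horth d4, horth d5, horth d6, horth n3.symm]
  funext ω
  obtain ⟨⟨φ, ψ⟩, rfl⟩ := (mul_bijective hW).2 ω
  show χ (φ.1 * ψ.1) = χ' (φ.1 * ψ.1)
  by_cases hφ : φ.1 = 1
  · rw [hφ, (hom_mul_one _).2, hB]
  by_cases hψ : ψ.1 = 1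
  · rw [hψ, (hom_mul_one _).1, hA]
  have h := family_eq_at hχ hχ' hφ hψ φ.2 ψ.2
  rw [hA φ, hB ψ] at h
  exact add_left_cancel h

/-- A cyclic TI family commutes with automorphisms of the complex field. -/
theorem family_map (hW : Cfsg.IsSelfNormalizingCyclic W₁ W₂)
    (hodd : Odd (Nat.card ↥(W₁ ⊔ W₂))) (hχ : Cfsg.IsCyclicTIFamily W₁ W₂ χ) (σ : ℂ ≃+* ℂ)
    (ω : ↥(W₁ ⊔ W₂) →* ℂˣ) (g : G) :
    σ (χ ω g) = χ ((Units.map (σ.toRingHom : ℂ →* ℂ)).comp ω) g := by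
  let S : (↥(W₁ ⊔ W₂) →* ℂˣ) → (↥(W₁ ⊔ W₂) →* ℂˣ) := fun f =>
    (Units.map (σ.toRingHom : ℂ →* ℂ)).comp f
  let T : (↥(W₁ ⊔ W₂) →* ℂˣ) → (↥(W₁ ⊔ W₂) →* ℂˣ) := fun f =>
    (Units.map (σ.symm.toRingHom : ℂ →* ℂ)).comp f
  have hTS : ∀ f, T (S f) = f := fun f => MonoidHom.ext fun w => Units.ext (by simp [S, T])
  have hST : ∀ f, S (T f) = f := fun f => MonoidHom.ext fun w => Units.ext (by simp [S, T])
  have hTv : ∀ f w, σ ((T f w : ℂˣ) : ℂ) = (f w : ℂ) := fun f w => by simp [T]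
  have hT1 : T 1 = 1 := MonoidHom.ext fun w => Units.ext (by simp [T])
  have hne : ∀ f, f ≠ 1 → T f ≠ 1 := fun f hf h => hf (by
    rw [← hST f, h]; exact MonoidHom.ext fun w => Units.ext (by simp [S]))
  have hfix : ∀ (K : Subgroup G) f, (∀ w : ↥(W₁ ⊔ W₂), (w : G) ∈ K → f w = 1) →
      ∀ w : ↥(W₁ ⊔ W₂), (w : G) ∈ K → T f w = 1 := fun K f h w hw => Units.ext (by simp [T, h w hw])
  have hfam : Cfsg.IsCyclicTIFamily W₁ W₂ (fun f g => σ (χ (T f) g)) := by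
    refine ⟨fun f => Signed.map σ.toRingHom (hχ.irr_or_neg (T f)), fun f f' => ?_, ?_, fun f w h1 h2 => ?_,
      fun φ ψ hφ hψ hφ₂ hψ₁ => ?_⟩
    · refine (Signed.classInner_map σ.toRingHom _ (hχ.irr_or_neg (T f'))).trans ?_
      rw [hχ.orthonormal]
      by_cases e : f = f'
      · rw [if_pos e, if_pos (by rw [e])]; exact map_one _
      · rw [if_neg e, if_neg fun h => e (by rw [← hST f, h, hST])]; exact map_zero _
    · funext x; rw [hT1, hχ.map_one]; exact map_one σ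
    · rw [hχ.eq_on _ w h1 h2, hTv]
    · have h := hχ.induced_eq (T φ) (T ψ) (hne _ hφ) (hne _ hψ) (hfix _ _ hφ₂) (hfix _ _ hψ₁)
      funext x
      have hx := congrArg σ (congrFun h x)
      rw [show T φ * T ψ = T (φ * ψ) from MonoidHom.ext fun w => Units.ext (by simp [T])] at hx
      simp only [map_add, map_sub, map_one] at hx
      rw [← hx]
      simp only [Cfsg.indFun, map_mul, map_inv₀, map_natCast, map_sum]
      congr 1
      refine Finset.sum_congr rfl fun y _ => ?_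
      simp only [Cfsg.extendByZero]
      by_cases hy : y⁻¹ * x * y ∈ W₁ ⊔ W₂
      · obtain ⟨w, hw⟩ : ∃ w : ↥(W₁ ⊔ W₂), (w : G) = y⁻¹ * x * y := ⟨⟨_, hy⟩, rfl⟩
        rw [← hw, Subtype.val_injective.extend_apply, Subtype.val_injective.extend_apply]
        simp only [map_add, map_sub, map_one, map_mul, hTv]
      · rw [Function.extend_apply' _ _ _ fun ⟨w, hw⟩ => hy (hw ▸ w.2),
          Function.extend_apply' _ _ _ fun ⟨w, hw⟩ => hy (hw ▸ w.2)]
        exact (map_zero σ).symm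
  have := congrFun (congrFun (family_unique hW hodd hχ hfam) (S ω)) g
  rw [hTS] at this
  exact this.symm

end CfsgLib.Char.CyclicTI

namespace CfsgLib.Char

/-- An algebraic number fixed by every automorphism of `ℂ` is rational. -/
theorem exists_rat_of_fixed {z : ℂ} (hz : IsIntegral ℚ z) (h : ∀ σ : ℂ ≃+* ℂ, σ z = z) :
    ∃ q : ℚ, z = q := by
  set p := minpoly ℚ z with hp
  have hirr : Irreducible p := minpoly.irreducible hz
  have hroot : ∀ y : ℂ, y ∈ (p.map (algebraMap ℚ ℂ)).roots → y = z := by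
    intro y hy
    rw [Polynomial.mem_roots_map (minpoly.ne_zero hz)] at hy
    haveI : Fact (Irreducible p) := ⟨hirr⟩
    haveI : FiniteDimensional ℚ (AdjoinRoot p) :=
      (AdjoinRoot.powerBasis (minpoly.ne_zero hz)).finite
    have hF : Cardinal.mk (AdjoinRoot p) ≤ Cardinal.aleph0 :=
      (Algebra.IsAlgebraic.cardinalMk_le_max ℚ (AdjoinRoot p)).trans (by simp)
    have h0 : Polynomial.eval₂ (algebraMap ℚ ℂ) z p = 0 := minpoly.aeval ℚ z
    obtain ⟨σ, hσ⟩ := CfsgLib.CharDeep.Galois.exists_extend hF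
      (AdjoinRoot.lift (algebraMap ℚ ℂ) z h0) (AdjoinRoot.lift (algebraMap ℚ ℂ) y hy)
    have := hσ (AdjoinRoot.root p)
    rw [AdjoinRoot.lift_root, AdjoinRoot.lift_root, h] at this
    exact this.symm
  have hnd : (p.map (algebraMap ℚ ℂ)).roots.Nodup :=
    Polynomial.nodup_roots (hirr.separable.map)
  have hcard : (p.map (algebraMap ℚ ℂ)).roots.card = p.natDegree := by
    rw [← (IsAlgClosed.splits _).natDegree_eq_card_roots, Polynomial.natDegree_map]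
  have hle : p.natDegree ≤ 1 := by
    rw [← hcard]
    by_contra hc
    push Not at hc
    obtain ⟨a, t, hat⟩ : ∃ a t, (p.map (algebraMap ℚ ℂ)).roots = a ::ₘ t :=
      Multiset.exists_cons_of_mem (Multiset.card_pos_iff_exists_mem.mp (by omega)).choose_spec |>
        fun ⟨t, ht⟩ => ⟨_, t, ht⟩
    rw [hat, Multiset.card_cons] at hc
    obtain ⟨b, hb⟩ := Multiset.card_pos_iff_exists_mem.mp (show 0 < t.card by omega)
    rw [hat, Multiset.nodup_cons] at hnd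
    have ha := hroot a (by rw [hat]; exact Multiset.mem_cons_self _ _)
    have hb' := hroot b (by rw [hat]; exact Multiset.mem_cons_of_mem hb)
    exact hnd.1 (by rw [ha, ← hb']; exact hb)
  have hdeg : p.natDegree = 1 := le_antisymm hle (minpoly.natDegree_pos hz)
  obtain ⟨q, hq⟩ := minpoly.natDegree_eq_one_iff.mp hdeg
  exact ⟨q, by rw [← hq]; simp⟩

/-- Character values move only with the roots of unity of the element order. -/
theorem IsCharacter.map_apply_eq {G : Type*} [Group G] [Finite G] {χ : G → ℂ}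
    (hχ : Cfsg.IsCharacter G χ) (g : G) (σ τ : ℂ →+* ℂ)
    (h : ∀ r : ℂ, r ^ orderOf g = 1 → σ r = τ r) : σ (χ g) = τ (χ g) := by
  classical
  cases nonempty_fintype G
  cases nonempty_fintype (Subgroup.zpowers g)
  have hres := IsCharacter.restrict hχ (Subgroup.zpowers g)
  have hcomm : ∀ a b : Subgroup.zpowers g, a * b = b * a := fun a b =>
    Subtype.ext (by
      obtain ⟨i, hi⟩ := a.2
      obtain ⟨j, hj⟩ := b.2
      show (a : G) * b = b * a
      rw [← hi, ← hj]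
      exact (Commute.zpow_zpow (Commute.refl g) i j).eq)
  have hexp := congrFun (IsClassFunction.eq_sum_irr (IsCharacter.isClassFunction hres))
    ⟨g, Subgroup.mem_zpowers g⟩
  simp only [Finset.sum_apply, Pi.smul_apply, smul_eq_mul] at hexp
  rw [hexp, map_sum, map_sum]
  refine Finset.sum_congr rfl fun φ _ => ?_
  obtain ⟨n, hn⟩ := IsCharacter.classInner_nat hres (IsIrrCharacter.isCharacter φ.2)
  obtain ⟨l, hl⟩ := exists_hom_of_apply_one_eq_one (IsIrrCharacter.isCharacter φ.2)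
    (apply_one_eq_one_of_comm hcomm φ.2)
  rw [hn, map_mul, map_mul, map_natCast, map_natCast, h _ ?_]
  rw [hl, ← Units.val_pow_eq_pow_val, ← map_pow,
    show (⟨g, Subgroup.mem_zpowers g⟩ : Subgroup.zpowers g) ^ orderOf g = 1 from
      Subtype.ext (pow_orderOf_eq_one g), map_one, Units.val_one]

namespace CyclicTI

variable {G : Type*} [Group G] [Fintype G] {W₁ W₂ : Subgroup G}
  {χ : (↥(W₁ ⊔ W₂) →* ℂˣ) → (G → ℂ)}

/-- A value of the family at an element of order coprime to that of the parameter is rational. -/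
theorem family_int (hW : Cfsg.IsSelfNormalizingCyclic W₁ W₂)
    (hodd : Odd (Nat.card ↥(W₁ ⊔ W₂))) (hχ : Cfsg.IsCyclicTIFamily W₁ W₂ χ)
    (ω : ↥(W₁ ⊔ W₂) →* ℂˣ) (g : G) (hg : Nat.Coprime (orderOf g) (orderOf ω)) :
    ∃ n : ℤ, χ ω g = n := by
  classical
  obtain ⟨z, θ, hz, hθ, he⟩ := Signed.exists_eq (hχ.irr_or_neg ω)
  have hint : IsIntegral ℤ (χ ω g) := by
    rw [he, Pi.smul_apply, smul_eq_mul]
    rcases hz with rfl | rfl
    · simpa using IsCharacter.isIntegral (IsIrrCharacter.isCharacter hθ) g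
    · simpa using (IsCharacter.isIntegral (IsIrrCharacter.isCharacter hθ) g).neg
  have := finite_hom (W₁ := W₁) (W₂ := W₂)
  set m := orderOf g with hm
  set n := orderOf ω with hn
  have hm0 : m ≠ 0 := (orderOf_pos g).ne'
  have hn0 : n ≠ 0 := (orderOf_pos ω).ne'
  have hω : ∀ w, ((ω w : ℂˣ) : ℂ) ^ n = 1 := fun w => by
    rw [← Units.val_pow_eq_pow_val, ← MonoidHom.pow_apply]
    have : ω ^ n = 1 := by convert pow_orderOf_eq_one ω
    rw [this]; simp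
  refine (exists_rat_of_fixed (hint.tower_top) fun σ => ?_).elim fun q hq =>
    exists_int_of_isIntegral_rat hint hq
  have hζm := Complex.isPrimitiveRoot_exp m hm0
  have hζn := Complex.isPrimitiveRoot_exp n hn0
  set a := Complex.exp (2 * Real.pi * Complex.I / m) with ha
  set b := Complex.exp (2 * Real.pi * Complex.I / n) with hb
  have hprim : ∀ {x : ℂ}, IsPrimitiveRoot x m → IsPrimitiveRoot (x * b) (m * n) := by
    intro x hx
    have : orderOf (x * b) = m * n := by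
      rw [Commute.orderOf_mul_eq_mul_orderOf_of_coprime (Commute.all x b)
        (by rw [← hx.eq_orderOf, ← hζn.eq_orderOf]; exact hg), ← hx.eq_orderOf, ← hζn.eq_orderOf]
    exact this ▸ IsPrimitiveRoot.orderOf (x * b)
  obtain ⟨τ, hτ⟩ := CfsgLib.CharDeep.Galois.exists_ringEquiv_primitive (mul_ne_zero hm0 hn0)
    (hprim hζm) (hprim (hζm.map_of_injective σ.injective))
  have hτm : ∀ r : ℂ, r ^ m = 1 → τ r = σ r := by
    intro r hr
    haveI : NeZero m := ⟨hm0⟩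
    obtain ⟨i, -, rfl⟩ := (hζm.pow_of_coprime n hg.symm).eq_pow_of_pow_eq_one hr
    have h := congrArg (fun t => t ^ n) hτ
    simp only [← map_pow, mul_pow, hζn.pow_eq_one, mul_one] at h
    rw [map_pow τ (a ^ n) i, map_pow σ (a ^ n) i, h]
  have hτn : ∀ r : ℂ, r ^ n = 1 → τ r = r := by
    intro r hr
    haveI : NeZero n := ⟨hn0⟩
    obtain ⟨i, -, rfl⟩ := (hζn.pow_of_coprime m hg).eq_pow_of_pow_eq_one hr
    have h := congrArg (fun t => t ^ m) hτ
    simp only [← map_pow, mul_pow, hζm.pow_eq_one, one_mul] at h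
    rw [map_one, one_mul] at h
    rw [map_pow τ (b ^ m) i, h]
  have h1 : τ (χ ω g) = χ ω g := by
    rw [family_map hW hodd hχ τ ω g]
    congr 2
    exact MonoidHom.ext fun w => Units.ext (hτn _ (hω w))
  have h2 : σ.toRingHom (θ g) = τ.toRingHom (θ g) :=
    IsCharacter.map_apply_eq (IsIrrCharacter.isCharacter hθ) g _ _ fun r hr => (hτm r hr).symm
  conv_rhs => rw [← h1]
  rw [he, Pi.smul_apply, smul_eq_mul, map_mul, map_mul]
  rw [show σ (θ g) = τ (θ g) from h2]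
  congr 1
  rcases hz with rfl | rfl <;> simp

end CyclicTI

end CfsgLib.Char
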