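import Cfsg.Agent.Lib.Char.CliffordCorr
import Cfsg.Agent.Lib.Char.Quotient
import Cfsg.Agent.Lib.CharDeep.Brauer
import Cfsg.Agent.Lib.CharDeep.Galois.CharAut

/-!
# Clifford theory over an abelian quotient
-/

set_option autoImplicit false

open scoped ComplexConjugate

namespace CfsgLib.Char

variable {G : Type*} [Group G] [Fintype G]

/-- A product of an irreducible and a linear character is irreducible. -/
theorem IsIrrCharacter.mul_hom {ψ : G → ℂ} (hψ : Cfsg.IsIrrCharacter G ψ) (f : G →* ℂˣ) :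
    Cfsg.IsIrrCharacter G (ψ * fun g => (f g : ℂ)) := by
  refine IsCharacter.isIrrCharacter_of_norm_one
    (IsCharacter.mul (IsIrrCharacter.isCharacter hψ) (isCharacter_hom f)) ?_
  rw [← classInner_irr_self hψ]
  simp only [Cfsg.classInner]
  congr 1
  refine Finset.sum_congr rfl fun g _ => ?_
  have h : (f g : ℂ) * conj (f g : ℂ) = 1 := by
    have h1 := IsCharacter.apply_inv (isCharacter_hom f) g
    rw [← h1, ← Units.val_mul, ← map_mul, mul_inv_cancel, map_one, Units.val_one]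
  rw [Pi.mul_apply, map_mul]
  linear_combination (ψ g * conj (ψ g)) * h

variable {H T : Subgroup G} [hN : H.Normal] (hHT : H ≤ T) [Fintype H] [Fintype T] {θ : H → ℂ}
  (hθ : Cfsg.IsIrrCharacter H θ) (hT : IsInertia θ T)
  (hab : ∀ x ∈ T, ∀ y ∈ T, x * y * x⁻¹ * y⁻¹ ∈ H)

include hθ hT hab

/-- Over an abelian quotient the characters above an invariant `θ` all have one multiplicity. -/
theorem exists_abelian_constituents :
    ∃ (e : ℕ) (C : Finset (T → ℂ)), 0 < e ∧ (∀ ψ ∈ C, Cfsg.IsIrrCharacter T ψ) ∧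
      (∀ ψ ∈ C, Cfsg.classInner (resLe hHT ψ) θ = e ∧ ψ 1 = (e : ℂ) * θ 1) ∧
      (∀ ψ, Cfsg.IsIrrCharacter T ψ → Cfsg.classInner (resLe hHT ψ) θ ≠ 0 → ψ ∈ C) ∧
      e ^ 2 * C.card * Nat.card H = Nat.card T ∧
      Cfsg.indFun H θ = (e : ℂ) • ∑ ψ ∈ C, Cfsg.indFun T ψ := by
  classical
  let θ₀ : H.subgroupOf T → ℂ := fun x => θ ⟨(x : T), Subgroup.mem_subgroupOf.mp x.2⟩
  have : (H.subgroupOf T).Normal := inferInstance
  let e₀ : H.subgroupOf T ≃* H := Subgroup.subgroupOfEquivOfLe hHT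
  have hθ₀ : Cfsg.IsIrrCharacter (H.subgroupOf T) θ₀ := IsIrrCharacter.comp_equiv hθ e₀
  have hθ₀c := IsIrrCharacter.isCharacter hθ₀
  set I := Cfsg.indFun (H.subgroupOf T) θ₀ with hI
  have hIc : Cfsg.IsCharacter T I := IsCharacter.indFun _ hθ₀c
  have hmult : ∀ ψ, Cfsg.IsIrrCharacter T ψ →
      Cfsg.classInner I ψ = Cfsg.classInner (resLe hHT ψ) θ := fun ψ hψ => by
    rw [IsCharacter.classInner_comm hIc (IsIrrCharacter.isCharacter hψ), hI,
      classInner_indFun_right _ _ (IsIrrCharacter.isClassFunction hψ), classInner_resLe hHT ψ θ]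
  have hinv : ∀ (g : T) (n : H.subgroupOf T),
      θ₀ ⟨g * n * g⁻¹, (inferInstance : (H.subgroupOf T).Normal).conj_mem _ n.2 g⟩ = θ₀ n :=
    fun g n => (hT g).mp g.2 ⟨((n : T) : G), Subgroup.mem_subgroupOf.mp n.2⟩
  -- restrictions are multiples
  have hres : ∀ ψ, Cfsg.IsIrrCharacter T ψ → Cfsg.classInner (resLe hHT ψ) θ ≠ 0 →
      (fun x : H.subgroupOf T => ψ x) = Cfsg.classInner (resLe hHT ψ) θ • θ₀ := by
    intro ψ hψ h
    obtain ⟨e, -, he, hr⟩ := CfsgLib.CharDeep.Clifford.restrict_eq_smul (H.subgroupOf T) hψ hθ₀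
      (by rw [classInner_resLe hHT ψ θ]; exact h) hinv
    rw [hr, ← classInner_resLe hHT ψ θ, he]
  -- any two differ by a linear character
  set π := Cfsg.indFun (H.subgroupOf T) (fun _ => (1 : ℂ)) with hπ
  have hπc : Cfsg.IsCharacter T π := IsCharacter.indFun _ isCharacter_one
  obtain ⟨m, hm, hmexp⟩ := IsCharacter.exists_multiplicity hπc
  have hlin : ∀ φ : Cfsg.IrrCharacter T, m φ ≠ 0 → ∃ f : T →* ℂˣ,
      (φ : T → ℂ) = (fun g => (f g : ℂ)) ∧ ∀ n ∈ H.subgroupOf T, f n = 1 := by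
    intro φ hφ
    have hker : ∀ n ∈ H.subgroupOf T, (φ : T → ℂ) n = (φ : T → ℂ) 1 := by
      intro n hn
      refine IsCharacter.constituent_apply_eq_one hπc φ.2 (by rw [hm]; exact_mod_cast hφ) ?_
      have h1 := indFun_apply_of_normal (H.subgroupOf T) (fun _ => (1 : ℂ)) ⟨n, hn⟩
      have h2 := indFun_apply_of_normal (H.subgroupOf T) (fun _ => (1 : ℂ)) 1
      exact h1.trans h2.symm
    obtain ⟨χ, hχ, hχφ⟩ := IsIrrCharacter.exists_deflate φ.2 (H.subgroupOf T) hker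
    have hcomm : ∀ a b : T ⧸ H.subgroupOf T, a * b = b * a := by
      intro a b
      obtain ⟨a, rfl⟩ := QuotientGroup.mk'_surjective _ a
      obtain ⟨b, rfl⟩ := QuotientGroup.mk'_surjective _ b
      rw [← map_mul, ← map_mul, QuotientGroup.mk'_eq_mk']
      refine ⟨(a * b)⁻¹ * (b * a), ?_, by group⟩
      rw [Subgroup.mem_subgroupOf]
      have := hab _ (T.inv_mem b.2) _ (T.inv_mem a.2)
      simpa [mul_assoc] using this
    have h1 : (φ : T → ℂ) 1 = 1 := by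
      rw [hχφ, Function.comp_apply, map_one]
      have : Fintype (T ⧸ H.subgroupOf T) := Fintype.ofFinite _
      exact apply_one_eq_one_of_comm hcomm hχ
    obtain ⟨f, hf⟩ := exists_hom_of_apply_one_eq_one (IsIrrCharacter.isCharacter φ.2) h1
    refine ⟨f, hf, fun n hn => Units.ext ?_⟩
    have := hker n hn
    rw [h1, hf] at this
    simpa using this
  have hkey : ∀ ψ ψ', Cfsg.IsIrrCharacter T ψ → Cfsg.IsIrrCharacter T ψ' →
      Cfsg.classInner (resLe hHT ψ) θ ≠ 0 → Cfsg.classInner (resLe hHT ψ') θ ≠ 0 →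
      Cfsg.classInner (resLe hHT ψ') θ = Cfsg.classInner (resLe hHT ψ) θ := by
    intro ψ ψ' hψ hψ' hc hc'
    have hmul : Cfsg.classInner (resLe hHT ψ) θ • I = ψ * π := by
      rw [hπ, CfsgLib.CharDeep.Brauer.indFun_mul (IsIrrCharacter.isClassFunction hψ), hI,
        ← indFun_smul, ← hres ψ hψ hc]
      simp
    have hne : Cfsg.classInner (ψ * π) ψ' ≠ 0 := by
      rw [← hmul, classInner_smul_left, hmult ψ' hψ']
      exact mul_ne_zero hc hc'
    rw [show ψ * π = ∑ φ : Cfsg.IrrCharacter T, (m φ : ℂ) • (ψ * (φ : T → ℂ)) from funext fun g => by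
      rw [Pi.mul_apply, hmexp g, Finset.mul_sum]
      simp [Finset.sum_apply]
      exact Finset.sum_congr rfl fun φ _ => by ring,
      classInner_sum_left] at hne
    obtain ⟨φ, -, hφ⟩ := Finset.exists_ne_zero_of_sum_ne_zero hne
    rw [classInner_smul_left] at hφ
    obtain ⟨f, hf, hfH⟩ := hlin φ fun h0 => hφ (by rw [h0, Nat.cast_zero, zero_mul])
    have heq : ψ * (fun g => (f g : ℂ)) = ψ' := by
      by_contra h
      exact right_ne_zero_of_mul hφ
        (hf ▸ classInner_irr_ne (IsIrrCharacter.mul_hom hψ f) hψ' h)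
    congr 1
    funext h
    rw [← heq, resLe, resLe, Pi.mul_apply, hfH _ (Subgroup.mem_subgroupOf.mpr h.2), Units.val_one,
      mul_one]
  -- assembling
  obtain ⟨ψ₀, hψ₀, hne₀⟩ := IsCharacter.exists_constituent hIc fun h0 => by
    have h1 : I 1 = ((H.subgroupOf T).index : ℂ) * θ₀ 1 := indFun_one _ θ₀
    rw [h0, Pi.zero_apply] at h1
    exact mul_ne_zero (Nat.cast_ne_zero.mpr (Subgroup.index_ne_zero_of_finite))
      (IsIrrCharacter.apply_one_ne_zero hθ₀) h1.symm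
  rw [hmult ψ₀ hψ₀] at hne₀
  obtain ⟨e, he⟩ := IsCharacter.classInner_nat
    (IsCharacter.resLe hHT (IsIrrCharacter.isCharacter hψ₀)) (IsIrrCharacter.isCharacter hθ)
  have he0 : e ≠ 0 := fun h => hne₀ (by rw [he, h, Nat.cast_zero])
  set C := ((Finset.univ : Finset (Cfsg.IrrCharacter T)).filter
    fun φ : Cfsg.IrrCharacter T => Cfsg.classInner (resLe hHT (φ : T → ℂ)) θ ≠ 0).image
    Subtype.val with hC
  have hmem : ∀ ψ, ψ ∈ C ↔ Cfsg.IsIrrCharacter T ψ ∧ Cfsg.classInner (resLe hHT ψ) θ ≠ 0 := by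
    intro ψ
    simp only [hC, Finset.mem_image, Finset.mem_filter, Finset.mem_univ, true_and]
    exact ⟨fun ⟨φ, h1, h2⟩ => h2 ▸ ⟨φ.2, h1⟩, fun ⟨h1, h2⟩ => ⟨⟨ψ, h1⟩, h2, rfl⟩⟩
  have hCe : ∀ ψ ∈ C, Cfsg.classInner (resLe hHT ψ) θ = e ∧ ψ 1 = (e : ℂ) * θ 1 := by
    intro ψ hψ
    obtain ⟨h1, h2⟩ := (hmem ψ).mp hψ
    have h3 := (hkey ψ₀ ψ hψ₀ h1 hne₀ h2).trans he
    exact ⟨h3, by rw [apply_one_inertia hHT hθ hT h1 h2, h3]⟩
  have hIexp : I = (e : ℂ) • ∑ ψ ∈ C, ψ := by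
    conv_lhs => rw [IsClassFunction.eq_sum_irr (IsCharacter.isClassFunction hIc)]
    rw [Finset.smul_sum, hC, Finset.sum_image (fun _ _ _ _ h => Subtype.ext h), Finset.sum_filter]
    refine Finset.sum_congr rfl fun φ _ => ?_
    rw [hmult φ φ.2]
    split_ifs with h
    · rw [(hkey ψ₀ φ hψ₀ φ.2 hne₀ h).trans he]
    · rw [not_not.mp h, zero_smul]
  refine ⟨e, C, Nat.pos_of_ne_zero he0, fun ψ h => ((hmem ψ).mp h).1, hCe,
    fun ψ h1 h2 => (hmem ψ).mpr ⟨h1, h2⟩, ?_, ?_⟩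
  · have h1 := congrFun hIexp 1
    rw [hI, indFun_one, Pi.smul_apply, Finset.sum_apply,
      Finset.sum_congr rfl fun ψ hψ => (hCe ψ hψ).2, Finset.sum_const, nsmul_eq_mul,
      smul_eq_mul] at h1
    have hθ1 : θ₀ 1 = θ 1 := rfl
    rw [hθ1] at h1
    have h2 : ((H.subgroupOf T).index : ℂ) = ((e ^ 2 * C.card : ℕ) : ℂ) := by
      refine mul_right_cancel₀ (IsIrrCharacter.apply_one_ne_zero hθ) ?_
      rw [h1]; push_cast; ring
    rw [Nat.cast_inj] at h2
    rw [← h2, ← Nat.card_congr e₀.toEquiv, Subgroup.index_mul_card]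
  · rw [← indFun_indFun H θ T hHT, show Cfsg.indFun (H.subgroupOf T)
      (fun x => θ ⟨(x : T), Subgroup.mem_subgroupOf.mp x.2⟩) = (e : ℂ) • ∑ ψ ∈ C, ψ from hIexp,
      indFun_smul, indFun_sum]

/-- With a quotient of order prime to `|H|` the multiplicity is one. -/
theorem multiplicity_eq_one_of_coprime (hcop : Nat.Coprime (Nat.card H) (H.relIndex T))
    {e : ℕ} {C : Finset (T → ℂ)}
    (hCe : ∀ ψ ∈ C, Cfsg.classInner (resLe hHT ψ) θ = e ∧ ψ 1 = (e : ℂ) * θ 1)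
    (hall : ∀ ψ, Cfsg.IsIrrCharacter T ψ → Cfsg.classInner (resLe hHT ψ) θ ≠ 0 → ψ ∈ C) :
    e = 1 := by
  classical
  let e₀ : H.subgroupOf T ≃* H := Subgroup.subgroupOfEquivOfLe hHT
  have hθ₀ : Cfsg.IsIrrCharacter (H.subgroupOf T) (θ ∘ e₀) := IsIrrCharacter.comp_equiv hθ e₀
  obtain ⟨χ, hχ, hχθ, -⟩ := CfsgLib.CharDeep.Galois.exists_canonical
    (N := H.subgroupOf T) (by rw [Nat.card_congr e₀.toEquiv]; exact hcop.symm) hθ₀
    (fun g n => (hT g).mp g.2 ⟨((n : T) : G), Subgroup.mem_subgroupOf.mp n.2⟩)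
  have hres : resLe hHT χ = θ := funext fun h =>
    (hχθ ⟨⟨h, hHT h.2⟩, Subgroup.mem_subgroupOf.mpr h.2⟩).trans rfl
  have h1 : Cfsg.classInner (resLe hHT χ) θ = 1 := by rw [hres, classInner_irr_self hθ]
  have h2 := (hCe χ (hall χ hχ (by rw [h1]; exact one_ne_zero))).1
  rw [h1] at h2
  exact_mod_cast h2.symm

end CfsgLib.Char
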