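import Cfsg.Agent.Lib.Char.CliffordAbelian
import Cfsg.Agent.Lib.CharDeep.ProjExt
import Cfsg.Agent.Lib.CharDeep.Clifford

/-!
# Fully ramified characters in a Frobenius section with cyclic complement
-/

set_option autoImplicit false

open scoped ComplexConjugate

namespace CfsgLib.Char.RamifiedFrobenius

/-- The integer lemma: `n ∑ a² = (∑ a)² + n - 1` forces `∑ a ≡ ±1 (mod n)`. -/
theorem dvd_of_sums {ι : Type*} [Fintype ι] (n : ℕ) (hn : 2 ≤ n) (hι : Fintype.card ι = n)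
    (a : ι → ℤ) (e : ℤ) (h1 : ∑ i, a i = e) (h2 : (n : ℤ) * ∑ i, a i ^ 2 = e ^ 2 + n - 1) :
    (n : ℤ) ∣ e - 1 ∨ (n : ℤ) ∣ e + 1 := by
  set q := e / (n : ℤ) with hq
  set r := e % (n : ℤ) with hr
  have he : e = q * n + r := by rw [hq, hr]; linarith [Int.emod_add_mul_ediv e n]
  have hn0 : (0 : ℤ) < n := by omega
  have hr0 : 0 ≤ r := Int.emod_nonneg _ hn0.ne'
  have hrn : r < n := Int.emod_lt_of_pos _ hn0
  set b : ι → ℤ := fun i => a i - q with hb
  have hb1 : ∑ i, b i = r := by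
    rw [hb, Finset.sum_sub_distrib, h1, Finset.sum_const, Finset.card_univ, hι, nsmul_eq_mul, he]
    ring
  have hb2 : (n : ℤ) * ∑ i, b i ^ 2 = r ^ 2 + n - 1 := by
    have e1 : ∑ i, b i ^ 2 = ∑ i, a i ^ 2 - 2 * q * e + n * q ^ 2 := by
      simp only [hb, sub_sq, Finset.sum_add_distrib, Finset.sum_sub_distrib, Finset.sum_const,
        Finset.card_univ, hι, nsmul_eq_mul]
      rw [← Finset.sum_mul, ← Finset.mul_sum, h1]
      ring
    rw [e1, mul_add, mul_sub, h2, he]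
    ring
  have hge : r ≤ ∑ i, b i ^ 2 := by
    rw [← hb1]
    exact Finset.sum_le_sum fun i _ => Int.le_self_sq (b i)
  have key : (r - 1) * (n - 1 - r) ≤ 0 := by nlinarith
  have : r = 1 ∨ r = n - 1 := by
    by_contra hne
    push Not at hne
    rcases Nat.eq_zero_or_pos r.toNat with h0 | h0
    · have hr' : r = 0 := by omega
      have hs : ∑ i, b i ^ 2 = 0 ∨ 1 ≤ ∑ i, b i ^ 2 := by
        have : 0 ≤ ∑ i, b i ^ 2 := Finset.sum_nonneg fun i _ => sq_nonneg _
        omega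
      rcases hs with hs | hs
      · rw [hs, hr'] at hb2; omega
      · nlinarith
    · have h3 : 2 ≤ r := by omega
      have h4 : r ≤ n - 2 := by omega
      nlinarith
  rcases this with h | h
  · exact Or.inl ⟨q, by rw [he, h]; ring⟩
  · exact Or.inr ⟨q + 1, by rw [he, h]; ring⟩

variable {Γ : Type*} [Group Γ] [Fintype Γ]

theorem sum_sq_norm {χ : Γ → ℂ} (hχ : Cfsg.IsIrrCharacter Γ χ) :
    ∑ g, χ g * conj (χ g) = (Nat.card Γ : ℂ) := by
  have h := classInner_irr_self hχ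
  rw [Cfsg.classInner, inv_mul_eq_iff_eq_mul₀ (Nat.cast_ne_zero.mpr Nat.card_pos.ne'),
    mul_one] at h
  exact h

theorem sum_split (G : Subgroup Γ) [Fintype G] [DecidablePred (· ∈ G)] (f : Γ → ℂ) :
    ∑ g, f g = (∑ g : G, f g) + ∑ g ∈ Finset.univ.filter (· ∉ G), f g := by
  rw [← Finset.sum_filter_add_sum_filter_not Finset.univ (· ∈ G) f]
  congr 1
  exact (Finset.sum_subtype _ (fun g => by simp) f)

/-- An invariant irreducible character extends over a cyclic quotient. -/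
theorem exists_extend {K : Subgroup Γ} [K.Normal] [Fintype K] {φ : K → ℂ}
    (hφ : Cfsg.IsIrrCharacter K φ) (x : Γ) (hx : ∀ g : Γ, ∃ (k : K) (i : ℤ), g = k * x ^ i)
    (hinv : ∀ (g : Γ) (k : K), φ (MulAut.conjNormal g k) = φ k) :
    ∃ ψ : Γ → ℂ, Cfsg.IsIrrCharacter Γ ψ ∧ ∀ k : K, ψ k = φ k := by
  obtain ⟨d, ρ, hρ, rfl⟩ := hφ
  obtain ⟨σ, hσ⟩ := CharDeep.ProjExt.exists_extension_of_zpowers ρ hinv x hx
  exact CharDeep.ProjExt.exists_character_of_extension ρ σ hσ

/-- The induced function of an invariant one is invariant. -/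
theorem indFun_invariant (G N : Subgroup Γ) [G.Normal] [hN : N.Normal] [Fintype G] (θ : N → ℂ)
    (hinv : ∀ (x : Γ) (n : N), θ ⟨x * n * x⁻¹, hN.conj_mem n n.2 x⟩ = θ n) (x : Γ) (g : G) :
    Cfsg.indFun (N.subgroupOf G) (fun n : N.subgroupOf G => θ ⟨((n : G) : Γ), n.2⟩)
        (MulAut.conjNormal x g) =
      Cfsg.indFun (N.subgroupOf G) (fun n : N.subgroupOf G => θ ⟨((n : G) : Γ), n.2⟩) g := by
  simp only [indFun_def]
  congr 1
  set c : G ≃* G := MulAut.conjNormal x with hc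
  refine (Fintype.sum_equiv c.toEquiv _ _ fun y => ?_).symm
  have e : (c y)⁻¹ * c g * c y = c (y⁻¹ * g * y) := by simp only [map_mul, map_inv]
  simp only [MulEquiv.toEquiv_eq_coe, EquivLike.coe_coe, e]
  set w := y⁻¹ * g * y
  have hcw : ((c w : G) : Γ) = x * (w : Γ) * x⁻¹ := rfl
  have hiff : c w ∈ N.subgroupOf G ↔ w ∈ N.subgroupOf G := by
    simp only [Subgroup.mem_subgroupOf, hcw]
    exact (Subgroup.Normal.mem_comm_iff hN).trans (by rw [inv_mul_cancel_left])
  by_cases hw : w ∈ N.subgroupOf G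
  · rw [extendByZero_apply_mem _ _ (hiff.mpr hw), extendByZero_apply_mem _ _ hw]
    exact (hinv x ⟨(w : Γ), hw⟩).symm
  · rw [extendByZero_apply_notMem _ _ (mt hiff.mp hw), extendByZero_apply_notMem _ _ hw]

variable {G N : Subgroup Γ} [hG : G.Normal] [hN : N.Normal]

/-- A class function summed off the kernel is a multiple of its sum over a complement. -/
theorem sum_off_kernel [DecidablePred (· ∈ G)] {H : Subgroup Γ} [Fintype H] [DecidableEq Γ]
    (hNG : N ≤ G) (hHN : H ⊓ G = N) {n : ℕ} (hn : G.index = n) (hcardH : Nat.card H = Nat.card N * n)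
    (hfrob : ∀ x : Γ, x ∉ G → ∀ g : Γ, g ∈ G → x * g * x⁻¹ * g⁻¹ ∈ N → g ∈ N) {f : Γ → ℂ}
    (hf : Cfsg.IsClassFunction Γ f) :
    ∑ g ∈ Finset.univ.filter (· ∉ G), f g =
      (N.relIndex G : ℂ) * ∑ h ∈ Finset.univ.filter (fun h : H => (h : Γ) ∉ G), f h := by
  classical
  set Q := G ⧸ N.subgroupOf G
  haveI : Fintype Q := Fintype.ofFinite Q
  set S := Finset.univ.filter (fun h : H => (h : Γ) ∉ G) with hS
  let Ψ : Q × H → Γ := fun p => (p.1.out : Γ) * p.2 * (p.1.out : Γ)⁻¹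
  have hmem : ∀ p ∈ Finset.univ ×ˢ S, Ψ p ∈ Finset.univ.filter (· ∉ G) := by
    intro p hp
    rw [Finset.mem_product, hS, Finset.mem_filter] at hp
    rw [Finset.mem_filter]
    refine ⟨Finset.mem_univ _, fun hc => hp.2.2 ?_⟩
    have := hG.conj_mem _ hc (p.1.out : Γ)⁻¹
    simpa [Ψ, mul_assoc] using this
  have hinj : Set.InjOn Ψ (Finset.univ ×ˢ S : Finset (Q × H)) := by
    rintro ⟨q, h⟩ hp ⟨q', h'⟩ hp' he
    rw [Finset.mem_coe, Finset.mem_product, hS, Finset.mem_filter] at hp hp'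
    set k : Γ := (q'.out : Γ)⁻¹ * (q.out : Γ) with hk
    have hkG : k ∈ G := G.mul_mem (inv_mem q'.out.2) q.out.2
    have hconj : k * h * k⁻¹ = h' := by
      simp only [Ψ] at he
      calc k * h * k⁻¹ = (q'.out : Γ)⁻¹ * ((q.out : Γ) * h * (q.out : Γ)⁻¹) * q'.out := by
            rw [hk]; group
        _ = h' := by rw [he]; group
    have hN' : (h' : Γ) * (h : Γ)⁻¹ ∈ N := by
      rw [← hHN]
      refine ⟨H.mul_mem h'.2 (inv_mem h.2), ?_⟩
      have e : (h' : Γ) * (h : Γ)⁻¹ = k * ((h : Γ) * k⁻¹ * (h : Γ)⁻¹) := by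
        rw [← hconj]; group
      rw [e]
      exact G.mul_mem hkG (hG.conj_mem _ (inv_mem hkG) _)
    have hkN : k ∈ N := hfrob h hp.2.2 k hkG (by
      have e : (h : Γ) * k * (h : Γ)⁻¹ * k⁻¹ = ((h' : Γ) * (h : Γ)⁻¹)⁻¹ := by
        rw [← hconj]; group
      rw [e]; exact inv_mem hN')
    have hq : q' = q := by
      rw [← QuotientGroup.out_eq' q', ← QuotientGroup.out_eq' q, QuotientGroup.eq,
        Subgroup.mem_subgroupOf]
      exact hkN
    subst hq
    have hk1 : k = 1 := by rw [hk, inv_mul_cancel]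
    rw [hk1, one_mul, inv_one, mul_one] at hconj
    exact Prod.ext rfl (Subtype.ext hconj)
  have hQ : Fintype.card Q = N.relIndex G := by
    rw [Fintype.card_eq_nat_card]; rfl
  have hGN : Nat.card G = Nat.card N * N.relIndex G := by
    rw [← Nat.card_congr (Subgroup.subgroupOfEquivOfLe hNG).toEquiv]
    exact (Subgroup.card_mul_index _).symm
  have hScard : S.card = Nat.card N * n - Nat.card N := by
    have h1 := Finset.card_filter_add_card_filter_not (s := (Finset.univ : Finset H))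
      (fun h : H => (h : Γ) ∈ G)
    rw [Finset.card_univ, Fintype.card_eq_nat_card, hcardH] at h1
    have h2 : (Finset.univ.filter fun h : H => (h : Γ) ∈ G).card = Nat.card N := by
      rw [← Fintype.card_subtype, Fintype.card_eq_nat_card]
      exact Nat.card_congr
        { toFun := fun h => ⟨h.1, hHN ▸ ⟨h.1.2, h.2⟩⟩
          invFun := fun u => ⟨⟨u, (hHN.ge u.2).1⟩, (hHN.ge u.2).2⟩
          left_inv := fun _ => rfl
          right_inv := fun _ => rfl }
    rw [hS]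
    omega
  have hTcard : (Finset.univ.filter (· ∉ G)).card = Nat.card G * n - Nat.card G := by
    have h1 := Finset.card_filter_add_card_filter_not (s := (Finset.univ : Finset Γ)) (· ∈ G)
    rw [Finset.card_univ, Fintype.card_eq_nat_card, ← G.card_mul_index, hn] at h1
    have h2 : (Finset.univ.filter (· ∈ G)).card = Nat.card G := by
      rw [← Fintype.card_subtype, Fintype.card_eq_nat_card]
    omega
  have himg : (Finset.univ ×ˢ S).image Ψ = Finset.univ.filter (· ∉ G) := by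
    refine Finset.eq_of_subset_of_card_le (Finset.image_subset_iff.mpr hmem) ?_
    rw [Finset.card_image_of_injOn hinj, Finset.card_product, Finset.card_univ, hQ, hScard, hTcard,
      hGN, Nat.mul_sub, mul_comm (N.relIndex G) (Nat.card N * n), mul_right_comm,
      mul_comm (N.relIndex G) (Nat.card N)]
  rw [← himg, Finset.sum_image hinj, Finset.sum_product]
  rw [Finset.sum_congr rfl fun q _ => Finset.sum_congr rfl fun (h : H) (_ : h ∈ S) =>
    show f (Ψ (q, h)) = f h from hf (h : Γ) _]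
  rw [Finset.sum_const, Finset.card_univ, hQ, nsmul_eq_mul]

/-- The main statement. -/
theorem main [Fintype G] [Fintype N] (hNG : N ≤ G) (hGlt : G ≠ ⊤) (hcyc : IsCyclic (Γ ⧸ G))
    (hfrob : ∀ x : Γ, x ∉ G → ∀ g : Γ, g ∈ G → x * g * x⁻¹ * g⁻¹ ∈ N → g ∈ N)
    {θ : N → ℂ} (hθ : Cfsg.IsIrrCharacter N θ)
    (hinv : ∀ (x : Γ) (n : N), θ ⟨x * n * x⁻¹, hN.conj_mem n n.2 x⟩ = θ n)
    {χ : G → ℂ} (hχ : Cfsg.IsIrrCharacter G χ) (e : ℕ)
    (hram : Cfsg.indFun (N.subgroupOf G) (fun n : N.subgroupOf G => θ ⟨((n : G) : Γ), n.2⟩) =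
      fun g => (e : ℂ) * χ g) :
    (G.index : ℤ) ∣ (e : ℤ) - 1 ∨ (G.index : ℤ) ∣ (e : ℤ) + 1 := by
  classical
  set θ' : N.subgroupOf G → ℂ := fun n => θ ⟨((n : G) : Γ), n.2⟩ with hθ'
  have hθ'i : Cfsg.IsIrrCharacter (N.subgroupOf G) θ' :=
    IsIrrCharacter.comp_equiv hθ (Subgroup.subgroupOfEquivOfLe hNG)
  obtain ⟨d, hd0, hd⟩ := IsIrrCharacter.apply_one_eq hθ
  have hd1 : θ' 1 = (d : ℂ) := hd
  obtain ⟨c, hc0, hc⟩ := IsIrrCharacter.apply_one_eq hχ
  have hat1 := congrFun hram 1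
  rw [indFun_one, hd1, hc] at hat1
  have he0 : e ≠ 0 := by
    rintro rfl
    rw [Nat.cast_zero, zero_mul, mul_eq_zero] at hat1
    rcases hat1 with h | h
    · exact Subgroup.index_ne_zero_of_finite (Nat.cast_eq_zero.mp h)
    · exact hd0.ne' (Nat.cast_eq_zero.mp h)
  have he0' : (e : ℂ) ≠ 0 := Nat.cast_ne_zero.mpr he0
  have hres : Cfsg.classInner (fun n : N.subgroupOf G => χ n) θ' = e := by
    have h1 := classInner_indFun (N.subgroupOf G) θ' (IsIrrCharacter.isClassFunction hχ)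
    rw [hram, show (fun g : G => (e : ℂ) * χ g) = (e : ℂ) • χ from rfl, classInner_smul_left,
      classInner_irr_self hχ, mul_one, IsCharacter.classInner_comm
        (IsIrrCharacter.isCharacter hθ'i)
        (IsCharacter.restrict (IsIrrCharacter.isCharacter hχ) _)] at h1
    exact h1.symm
  obtain ⟨e', -, he', hχN⟩ := CharDeep.Clifford.restrict_eq_smul (N.subgroupOf G) hχ hθ'i
    (by rw [hres]; exact he0') (fun g n => hinv (g : Γ) ⟨((n : G) : Γ), n.2⟩)
  rw [hres, Nat.cast_inj] at he'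
  subst he'
  have hχ1 : (c : ℂ) = e * d := by
    rw [← hc, ← hd1]
    exact congrFun hχN 1
  have hsq : N.relIndex G = e * e := by
    rw [hχ1, ← mul_assoc] at hat1
    have := mul_right_cancel₀ (Nat.cast_ne_zero.mpr hd0.ne') hat1
    exact_mod_cast this
  -- extension to the whole group
  have hχinv : ∀ (x : Γ) (g : G), χ (MulAut.conjNormal x g) = χ g := by
    intro x g
    have h1 := indFun_invariant G N θ hinv x g
    rw [hram] at h1
    exact mul_left_cancel₀ he0' h1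
  haveI := hcyc
  obtain ⟨q, hq⟩ := IsCyclic.exists_generator (α := Γ ⧸ G)
  obtain ⟨x, rfl⟩ := QuotientGroup.mk_surjective q
  have hxG : ∀ g : Γ, ∃ i : ℤ, g * (x ^ i)⁻¹ ∈ G := by
    intro g
    obtain ⟨i, hi⟩ := Subgroup.mem_zpowers_iff.mp (hq (g : Γ ⧸ G))
    refine ⟨i, ?_⟩
    rw [← QuotientGroup.eq_one_iff, QuotientGroup.mk_mul, QuotientGroup.mk_inv,
      QuotientGroup.mk_zpow, hi, mul_inv_cancel]
  obtain ⟨χh, hχh, hext⟩ := exists_extend hχ x (fun g => by
    obtain ⟨i, hi⟩ := hxG g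
    exact ⟨⟨_, hi⟩, i, (inv_mul_cancel_right g (x ^ i)).symm⟩) hχinv
  set n := G.index with hn
  have hn2 : 2 ≤ n := by
    have h1 : n ≠ 1 := fun h => hGlt (Subgroup.index_eq_one.mp h)
    have h0 : n ≠ 0 := Subgroup.index_ne_zero_of_finite
    omega
  have hxnG : x ∉ G := fun hx => hGlt <| by
    refine eq_top_iff.mpr fun g _ => ?_
    obtain ⟨i, hi⟩ := hxG g
    have := G.mul_mem hi (G.zpow_mem hx i)
    rwa [inv_mul_cancel_right] at this
  -- the complement
  have hxpow : ∀ i : ℤ, x ^ i ∈ G → x ^ i ∈ N := fun i hi =>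
    hfrob x hxnG _ hi (by
      rw [show x * x ^ i * x⁻¹ * (x ^ i)⁻¹ = 1 by group]; exact one_mem N)
  set H : Subgroup Γ := N ⊔ Subgroup.zpowers x with hH
  have hNH : N ≤ H := le_sup_left
  have hHmem : ∀ h ∈ H, ∃ u ∈ N, ∃ i : ℤ, h = u * x ^ i := by
    intro h hh
    rw [hH, ← SetLike.mem_coe, Subgroup.normal_mul] at hh
    obtain ⟨u, hu, v, hv, rfl⟩ := Set.mem_mul.mp hh
    obtain ⟨i, rfl⟩ := Subgroup.mem_zpowers_iff.mp hv
    exact ⟨u, hu, i, rfl⟩
  have hHG : H ⊓ G = N := by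
    refine le_antisymm ?_ (le_inf hNH hNG)
    rintro h ⟨hh, hhG⟩
    obtain ⟨u, hu, i, rfl⟩ := hHmem h hh
    have h1 : x ^ i ∈ G := by
      have := G.mul_mem (inv_mem (hNG hu)) hhG
      rwa [inv_mul_cancel_left] at this
    exact N.mul_mem hu (hxpow i h1)
  have hcardH : Nat.card H = Nat.card N * n := by
    set π : H →* Γ ⧸ G := (QuotientGroup.mk' G).comp H.subtype with hπ
    have hsurj : Function.Surjective π := by
      intro q
      obtain ⟨i, hi⟩ := Subgroup.mem_zpowers_iff.mp (hq q)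
      exact ⟨⟨x ^ i, Subgroup.mem_sup_right (Subgroup.zpow_mem _ (Subgroup.mem_zpowers x) i)⟩,
        by rw [← hi]; rfl⟩
    have hker : Nat.card π.ker = Nat.card N := Nat.card_congr
      { toFun := fun h => ⟨(h.1 : Γ), hHG ▸ ⟨h.1.2, (QuotientGroup.eq_one_iff _).mp h.2⟩⟩
        invFun := fun u => ⟨⟨u, hNH u.2⟩, (QuotientGroup.eq_one_iff _).mpr (hNG u.2)⟩
        left_inv := fun _ => rfl
        right_inv := fun _ => rfl }
    rw [← Subgroup.card_mul_index π.ker, hker, Subgroup.index_ker,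
      MonoidHom.range_eq_top.mpr hsurj, Subgroup.card_top, hn]
    rfl
  haveI : Fintype H := Fintype.ofFinite H
  set f : Γ → ℂ := fun g => χh g * conj (χh g) with hf
  have hfcl : Cfsg.IsClassFunction Γ f := fun g k => by
    simp only [hf]; rw [IsIrrCharacter.isClassFunction hχh g k]
  have hGsum : ∑ g : G, f g = (Nat.card G : ℂ) := by
    rw [← sum_sq_norm hχ]
    exact Finset.sum_congr rfl fun g _ => by simp only [hf, hext]
  have htot : ∑ g, f g = (Nat.card Γ : ℂ) := sum_sq_norm hχh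
  rw [sum_split G f, hGsum, sum_off_kernel hNG hHG hn.symm hcardH hfrob hfcl,
    ← G.card_mul_index, ← hn, hsq] at htot
  -- the restriction to the complement
  have hGcard : Nat.card G = Nat.card N * (e * e) := by
    rw [← hsq, ← Nat.card_congr (Subgroup.subgroupOfEquivOfLe hNG).toEquiv]
    exact (Subgroup.card_mul_index _).symm
  rw [hGcard] at htot
  push_cast at htot
  have hoff : ∑ h ∈ Finset.univ.filter (fun h : H => (h : Γ) ∉ G), f h =
      (Nat.card N : ℂ) * ((n : ℂ) - 1) := by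
    refine mul_left_cancel₀ (mul_ne_zero he0' he0') ?_
    linear_combination htot
  set R : H → ℂ := fun h => χh h with hR
  have hRN : ∀ u : N, R ⟨u, hNH u.2⟩ = (e : ℂ) * θ u := fun u =>
    (hext ⟨(u : Γ), hNG u.2⟩).trans (congrFun hχN ⟨⟨(u : Γ), hNG u.2⟩, u.2⟩)
  have hHnorm : (n : ℂ) * Cfsg.classInner R R = (e : ℂ) * e + n - 1 := by
    have hNsum : ∑ u : N, θ u * conj (θ u) = (Nat.card N : ℂ) := sum_sq_norm hθ
    have h1 : ∑ h : H, f h = (e : ℂ) * e * (Nat.card N : ℂ) + (Nat.card N : ℂ) * ((n : ℂ) - 1) := by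
      rw [← hoff, ← Finset.sum_filter_add_sum_filter_not Finset.univ (fun h : H => (h : Γ) ∈ G),
        ← hNsum, Finset.mul_sum]
      congr 1
      refine Finset.sum_bij' (fun h hh => ⟨(h : Γ), hHG ▸ ⟨h.2, (Finset.mem_filter.mp hh).2⟩⟩)
        (fun u _ => ⟨u, hNH u.2⟩) (fun _ _ => Finset.mem_univ _)
        (fun u _ => Finset.mem_filter.mpr ⟨Finset.mem_univ _, hNG u.2⟩)
        (fun _ _ => rfl) (fun _ _ => rfl) fun h hh => ?_
      have h2 := hRN ⟨(h : Γ), hHG ▸ ⟨h.2, (Finset.mem_filter.mp hh).2⟩⟩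
      simp only [hR] at h2
      simp only [hf]
      rw [h2, map_mul, map_natCast]
      ring
    show (n : ℂ) * ((Nat.card H : ℂ)⁻¹ * ∑ h : H, f h) = _
    rw [h1, hcardH, Nat.cast_mul]
    have hN0 : (Nat.card N : ℂ) ≠ 0 := Nat.cast_ne_zero.mpr Nat.card_pos.ne'
    have hn0 : (n : ℂ) ≠ 0 := Nat.cast_ne_zero.mpr (by omega)
    field_simp
    ring
  -- characters of the complement over `θ`
  set θH : N.subgroupOf H → ℂ := fun u => θ ⟨((u : H) : Γ), u.2⟩ with hθH
  have hθHi : Cfsg.IsIrrCharacter (N.subgroupOf H) θH :=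
    IsIrrCharacter.comp_equiv hθ (Subgroup.subgroupOfEquivOfLe hNH)
  have hab : ∀ a ∈ (⊤ : Subgroup H), ∀ b ∈ (⊤ : Subgroup H),
      a * b * a⁻¹ * b⁻¹ ∈ N.subgroupOf H := by
    intro a _ b _
    rw [Subgroup.mem_subgroupOf]
    obtain ⟨u, hu, i, ha⟩ := hHmem a a.2
    obtain ⟨v, hv, j, hb⟩ := hHmem b b.2
    rw [← QuotientGroup.eq_one_iff]
    simp only [Subgroup.coe_mul, Subgroup.coe_inv, ha, hb, QuotientGroup.mk_mul,
      QuotientGroup.mk_inv, QuotientGroup.mk_zpow, (QuotientGroup.eq_one_iff u).mpr hu,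
      (QuotientGroup.eq_one_iff v).mpr hv, one_mul]
    group
  have hinH : ∀ (g : H) (u : N.subgroupOf H),
      θH ⟨g * u * g⁻¹, (inferInstance : (N.subgroupOf H).Normal).conj_mem _ u.2 g⟩ = θH u :=
    fun g u => hinv (g : Γ) ⟨((u : H) : Γ), u.2⟩
  have hT : IsInertia θH (⊤ : Subgroup H) := fun g => ⟨fun _ => hinH g, fun _ => trivial⟩
  obtain ⟨e₀, C, he₀, hCirr, hCval, hCall, hCcard, -⟩ :=
    exists_abelian_constituents (le_top : N.subgroupOf H ≤ ⊤) hθHi hT hab
  obtain ⟨ψ₀, hψ₀, hψ₀ext⟩ := exists_extend (Γ := H) hθHi ⟨x, Subgroup.mem_sup_right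
      (Subgroup.mem_zpowers x)⟩ (fun g => by
    obtain ⟨u, hu, i, hi⟩ := hHmem g g.2
    exact ⟨⟨⟨u, hNH hu⟩, hu⟩, i, Subtype.ext (by simpa using hi)⟩)
    (fun g u => hinH g u)
  have htop : ∀ {ψ : H → ℂ}, Cfsg.IsIrrCharacter H ψ →
      Cfsg.IsIrrCharacter (⊤ : Subgroup H) (ψ ∘ (Subgroup.topEquiv : (⊤ : Subgroup H) ≃* H)) :=
    fun h => IsIrrCharacter.comp_equiv h _
  have he₀1 : e₀ = 1 := by
    have hres0 : resLe (le_top : N.subgroupOf H ≤ ⊤)
        (ψ₀ ∘ (Subgroup.topEquiv : (⊤ : Subgroup H) ≃* H)) = θH := funext fun u => hψ₀ext u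
    have hmem := hCall _ (htop hψ₀) (by
      rw [hres0, classInner_irr_self hθHi]; exact one_ne_zero)
    have h2 := (hCval _ hmem).1
    rw [hres0, classInner_irr_self hθHi, eq_comm, Nat.cast_eq_one] at h2
    exact h2
  subst he₀1
  have hCn : C.card = n := by
    rw [one_pow, one_mul, Nat.card_congr (Subgroup.subgroupOfEquivOfLe hNH).toEquiv,
      Subgroup.card_top, hcardH, mul_comm] at hCcard
    exact Nat.eq_of_mul_eq_mul_left Nat.card_pos hCcard
  have hRc : Cfsg.IsCharacter H R := IsCharacter.restrict (IsIrrCharacter.isCharacter hχh) H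
  obtain ⟨m, hm, hexp⟩ := IsCharacter.exists_multiplicity hRc
  let P : Finset (Cfsg.IrrCharacter H) := Finset.univ.filter fun ψ =>
    ((ψ : H → ℂ) ∘ (Subgroup.topEquiv : (⊤ : Subgroup H) ≃* H)) ∈ C
  have hPcard : P.card = n := by
    rw [← hCn]
    refine Finset.card_bij (fun ψ _ => (ψ : H → ℂ) ∘ (Subgroup.topEquiv : (⊤ : Subgroup H) ≃* H))
      (fun ψ hψ => (Finset.mem_filter.mp hψ).2) (fun a _ b _ hab => ?_) fun ψ hψ => ?_
    · refine Subtype.ext (funext fun h => ?_)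
      simpa using congrFun hab ⟨h, trivial⟩
    · have hcomp : (ψ ∘ (Subgroup.topEquiv : (⊤ : Subgroup H) ≃* H).symm) ∘
          (Subgroup.topEquiv : (⊤ : Subgroup H) ≃* H) = ψ :=
        funext fun t => congrArg ψ ((Subgroup.topEquiv : (⊤ : Subgroup H) ≃* H).symm_apply_apply t)
      exact ⟨⟨ψ ∘ (Subgroup.topEquiv : (⊤ : Subgroup H) ≃* H).symm,
        IsIrrCharacter.comp_equiv (hCirr ψ hψ) _⟩,
        Finset.mem_filter.mpr ⟨Finset.mem_univ _, hcomp.symm ▸ hψ⟩, hcomp⟩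
  have hP1 : ∀ ψ ∈ P, (ψ : H → ℂ) 1 = (d : ℂ) := by
    intro ψ hψ
    have h2 := (hCval _ (Finset.mem_filter.mp hψ).2).2
    simp only [Function.comp_apply, map_one, Nat.cast_one, one_mul] at h2
    rw [h2, ← hd]
    rfl
  have hoffP : ∀ ψ : Cfsg.IrrCharacter H, ψ ∉ P → m ψ = 0 := by
    intro ψ hψ
    by_contra hmz
    refine hψ (Finset.mem_filter.mpr ⟨Finset.mem_univ _, hCall _ (htop ψ.2) fun hz => ?_⟩)
    have hψc : Cfsg.IsCharacter (N.subgroupOf H) (fun u => (ψ : H → ℂ) u) :=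
      IsCharacter.restrict (IsIrrCharacter.isCharacter ψ.2) _
    obtain ⟨φ, hφ, hφne⟩ := IsCharacter.exists_constituent hψc fun h0 => by
      have := congrFun h0 1
      simp only [Subgroup.coe_one, Pi.zero_apply] at this
      exact IsIrrCharacter.apply_one_ne_zero ψ.2 this
    have h1 := CharDeep.Clifford.classInner_ne_zero_trans hRc ψ.2
      (by rw [hm]; exact Nat.cast_ne_zero.mpr hmz) (N.subgroupOf H).subtype
      (IsIrrCharacter.isCharacter hφ) hφne
    have hRθ : R ∘ (N.subgroupOf H).subtype = (e : ℂ) • θH :=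
      funext fun u => hRN ⟨((u : H) : Γ), u.2⟩
    rw [hRθ, classInner_smul_left] at h1
    have hφθ : φ = θH := by
      by_contra hne
      exact (right_ne_zero_of_mul h1) (classInner_irr_ne hθHi hφ (Ne.symm hne))
    subst hφθ
    exact hφne hz
  have hsum : ∑ ψ ∈ P, m ψ = e := by
    have h1 : R 1 = (e : ℂ) * d := by rw [← hd]; exact hRN 1
    rw [hexp 1, ← Finset.sum_subset (Finset.subset_univ P) (fun ψ _ hψ => by
      rw [hoffP ψ hψ, Nat.cast_zero, zero_mul]),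
      Finset.sum_congr rfl fun ψ hψ => by rw [hP1 ψ hψ], ← Finset.sum_mul] at h1
    have := mul_right_cancel₀ (Nat.cast_ne_zero.mpr hd0.ne') h1
    exact_mod_cast this
  have hnormsum : Cfsg.classInner R R = ((∑ ψ ∈ P, m ψ ^ 2 : ℕ) : ℂ) := by
    nth_rw 1 [show R = ∑ ψ : Cfsg.IrrCharacter H, (m ψ : ℂ) • (ψ : H → ℂ) from funext fun h => by
      simp [hexp h, Finset.sum_apply]]
    rw [classInner_sum_left]
    rw [← Finset.sum_subset (Finset.subset_univ P) (fun ψ _ hψ => by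
      rw [classInner_smul_left, hoffP ψ hψ, Nat.cast_zero, zero_mul])]
    push_cast
    refine Finset.sum_congr rfl fun ψ _ => ?_
    rw [classInner_smul_left, IsCharacter.classInner_comm (IsIrrCharacter.isCharacter ψ.2) hRc, hm]
    ring
  rw [hnormsum] at hHnorm
  have hint : (n : ℤ) * ∑ ψ : P, (m ψ.1 : ℤ) ^ 2 = (e : ℤ) ^ 2 + n - 1 := by
    rw [Finset.sum_coe_sort P (fun ψ => (m ψ : ℤ) ^ 2)]
    have : (n : ℤ) * ((∑ ψ ∈ P, m ψ ^ 2 : ℕ) : ℤ) = (e : ℤ) * e + n - 1 := by exact_mod_cast hHnorm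
    push_cast at this
    rw [this]; ring
  exact dvd_of_sums n hn2 (by rw [Fintype.card_coe, hPcard]) (fun ψ : P => (m ψ.1 : ℤ)) e
    (by rw [Finset.sum_coe_sort P (fun ψ => (m ψ : ℤ))]; exact_mod_cast hsum) hint

end CfsgLib.Char.RamifiedFrobenius
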