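import Cfsg.Agent.Lib.Char.DihedralCentralizer

/-!
# An involution with centralizer `GL(2, 3)`

Five exceptional virtual characters, supported on the roots of the involution, determine eight
irreducible characters on these classes; two class equations then give the order of the group.
-/

set_option autoImplicit false

open scoped ComplexConjugate

namespace CfsgLib.Char

variable {G : Type*} [Group G] [Fintype G]

/-- Counting factorizations with both factors in given classes. -/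
theorem card_class_pairs (x y g : G) :
    (Nat.card {v : G // IsConj v x ∧ IsConj (v⁻¹ * g) y} : ℂ) *
        Nat.card (Subgroup.centralizer ({x} : Set G)) *
        Nat.card (Subgroup.centralizer ({y} : Set G)) =
      (Nat.card G : ℂ) * ∑ χ : Cfsg.IrrCharacter G,
        (χ : G → ℂ) x * (χ : G → ℂ) y * conj ((χ : G → ℂ) g) / (χ : G → ℂ) 1 := by
  classical
  have hcount : ∀ z v : G, ((Finset.univ.filter fun h : G => h * z * h⁻¹ = v).card) =
      if IsConj v z then Nat.card (Subgroup.centralizer ({z} : Set G)) else 0 := by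
    intro z v
    split_ifs with hv
    · obtain ⟨c, hc⟩ := isConj_iff.mp hv.symm
      rw [Nat.card_eq_fintype_card, Fintype.card_subtype]
      refine Finset.card_equiv (Equiv.mulLeft c⁻¹) fun h => ?_
      simp only [Finset.mem_filter, Finset.mem_univ, true_and, Equiv.coe_mulLeft,
        Subgroup.mem_centralizer_singleton_iff, ← hc]
      constructor
      · intro e
        calc c⁻¹ * h * z = c⁻¹ * (h * z * h⁻¹) * h := by group
          _ = z * (c⁻¹ * h) := by rw [e]; group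
      · intro e
        calc h * z * h⁻¹ = c * (c⁻¹ * h * z) * h⁻¹ := by group
          _ = c * z * c⁻¹ := by rw [e]; group
    · refine Finset.card_eq_zero.mpr (Finset.filter_eq_empty_iff.mpr fun h _ e => hv ?_)
      exact (isConj_iff.mpr ⟨h, e⟩).symm
  rw [← sum_conj_mul_eq]
  have hrow : ∀ h : G, (∑ k : G, if h * x * h⁻¹ * (k * y * k⁻¹) = g then (1 : ℂ) else 0) =
      if IsConj ((h * x * h⁻¹)⁻¹ * g) y then
        (Nat.card (Subgroup.centralizer ({y} : Set G)) : ℂ) else 0 := by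
    intro h
    rw [Finset.sum_boole, show (Finset.univ.filter fun k : G => h * x * h⁻¹ * (k * y * k⁻¹) = g) =
      Finset.univ.filter fun k : G => k * y * k⁻¹ = (h * x * h⁻¹)⁻¹ * g from
      Finset.filter_congr fun k _ => by rw [eq_inv_mul_iff_mul_eq], hcount]
    split_ifs <;> simp
  rw [Finset.sum_congr rfl fun h _ => hrow h, ← Finset.sum_filter, Finset.sum_const, nsmul_eq_mul,
    ← Nat.cast_mul]
  congr 2
  rw [Finset.card_eq_sum_card_fiberwise (f := fun h : G => h * x * h⁻¹)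
    (t := Finset.univ.filter fun v : G => IsConj v x ∧ IsConj (v⁻¹ * g) y)
    (fun h hh => by
      simp only [Finset.coe_filter, Finset.mem_univ, true_and, Set.mem_setOf_eq] at hh ⊢
      exact ⟨(isConj_iff.mpr ⟨h, rfl⟩).symm, hh⟩)]
  rw [Finset.sum_congr rfl (g := fun _ => Nat.card (Subgroup.centralizer ({x} : Set G)))
    fun v hv => ?_, Finset.sum_const, smul_eq_mul, ← Fintype.card_subtype,
    ← Nat.card_eq_fintype_card (α := {v : G // IsConj v x ∧ IsConj (v⁻¹ * g) y})]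
  simp only [Finset.mem_filter, Finset.mem_univ, true_and] at hv
  rw [Finset.filter_filter, ← if_pos hv.1 (t := Nat.card (Subgroup.centralizer ({x} : Set G)))
    (e := 0), ← hcount x v]
  refine congrArg Finset.card (Finset.filter_congr fun h _ => ⟨fun h' => h'.2, fun h' => ?_⟩)
  exact ⟨by rw [h']; exact hv.2, h'⟩

/-- A sum of squares equal to two. -/
theorem exists_two {ι : Type*} [Fintype ι] [DecidableEq ι] (z : ι → ℤ)
    (h : ∑ i, z i * z i = 2) :
    ∃ a b, a ≠ b ∧ (z a = 1 ∨ z a = -1) ∧ (z b = 1 ∨ z b = -1) ∧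
      ∀ i, i ≠ a → i ≠ b → z i = 0 := by
  have hle : ∀ i, z i * z i ≤ 2 := fun i =>
    h ▸ Finset.single_le_sum (fun j _ => mul_self_nonneg (z j)) (Finset.mem_univ i)
  have h1 : ∀ i, z i ≠ 0 → z i = 1 ∨ z i = -1 := fun i hi => by
    have := hle i
    have : -2 < z i ∧ z i < 2 := ⟨by nlinarith, by nlinarith⟩
    omega
  have hc : (Finset.univ.filter fun i => z i ≠ 0).card = 2 := by
    have : ((Finset.univ.filter fun i => z i ≠ 0).card : ℤ) = 2 := by
      rw [Finset.natCast_card_filter, ← h]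
      refine Finset.sum_congr rfl fun i _ => ?_
      by_cases hi : z i = 0
      · simp [hi]
      · rw [if_pos hi]; rcases h1 i hi with e | e <;> simp [e]
    exact_mod_cast this
  obtain ⟨a, b, hab, he⟩ := Finset.card_eq_two.mp hc
  have hm : ∀ i ∈ ({a, b} : Finset ι), z i = 1 ∨ z i = -1 := fun i hi =>
    h1 i (Finset.mem_filter.mp
      (show i ∈ Finset.univ.filter fun i => z i ≠ 0 by rw [he]; exact hi)).2
  refine ⟨a, b, hab, hm a (by simp), hm b (by simp), fun i ha hb => ?_⟩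
  by_contra hi
  have : i ∈ ({a, b} : Finset ι) := he ▸ Finset.mem_filter.mpr ⟨Finset.mem_univ i, hi⟩
  simp at this
  tauto

namespace GLTwoThree

/-- The finite list of solutions of the final equation. -/
theorem solutions : ∀ D ∈ Finset.Icc (-64 : ℤ) 80, (8 - D) ∣ 72 →
    (D - 2) ^ 2 ∣ 288 * D * (D + 1) → (288 * D * (D + 1) / (D - 2) ^ 2) % 2 = 1 →
      D = 10 ∨ D = 26 := by decide +kernel

/-- The support pattern of the eight exceptional characters. -/
def pattern : Fin 8 → Fin 5 → Bool :=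
  ![![false, false, true, false, true],
    ![true, true, true, true, false],
    ![true, false, false, false, false],
    ![false, true, false, false, false],
    ![false, false, true, false, false],
    ![false, false, false, true, false],
    ![false, false, false, true, true],
    ![false, false, false, false, true]]

theorem pattern_injective : Function.Injective pattern := by decide

set_option maxHeartbeats 1000000 in
/-- The facts about the centralizer that the character computation uses. -/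
theorem card_eq_of_data (t a u : G) (ha4 : a ^ 4 = t) (hao : orderOf a = 8)
    (hu3 : u ^ 3 = t) (huo : orderOf u = 6)
    (hCt : Nat.card (Subgroup.centralizer ({t} : Set G)) = 48)
    (hCi : Nat.card (Subgroup.centralizer ({a ^ 2} : Set G)) = 8)
    (hCa : Nat.card (Subgroup.centralizer ({a} : Set G)) = 8)
    (hCu : Nat.card (Subgroup.centralizer ({u} : Set G)) = 6)
    (ha3 : IsConj (a ^ 3) a) (ha6 : IsConj (a ^ 6) (a ^ 2)) (hu5 : IsConj (u ^ 5) u)
    (hna : ¬ IsConj a⁻¹ a)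
    (hpa : Nat.card {x : G // IsConj x t ∧ IsConj (x⁻¹ * a) t} = 0)
    (hpu : Nat.card {x : G // IsConj x t ∧ IsConj (x⁻¹ * u) t} = 6)
    (hodd : ∃ k, Nat.card G = 16 * k ∧ Odd k) (hperf : commutator G = ⊤) :
    Nat.card G = 5616 ∨ Nat.card G = 7920 := by
  classical
  have ha8 : a ^ 8 = 1 := by rw [← hao]; exact pow_orderOf_eq_one a
  have hu6 : u ^ 6 = 1 := by rw [← huo]; exact pow_orderOf_eq_one u
  have ha7 : a ^ 7 = a⁻¹ := eq_inv_of_mul_eq_one_left (by rw [← pow_succ]; exact ha8)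
  -- the five classes
  let X : Fin 5 → G := ![t, a ^ 2, a, a ^ 7, u]
  let nX : Fin 5 → ℕ := ![48, 8, 8, 8, 6]
  have hX1 : ∀ i, X i ≠ 1 := by
    intro i
    fin_cases i <;> simp only [X] <;> simp
    · rw [← ha4]
      intro h
      have := Nat.le_of_dvd (by norm_num) (orderOf_dvd_of_pow_eq_one h)
      omega
    · intro h
      have := Nat.le_of_dvd (by norm_num) (orderOf_dvd_of_pow_eq_one h)
      omega
    · intro h
      rw [h, orderOf_one] at hao
      omega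
    · intro h
      have := Nat.le_of_dvd (by norm_num) (orderOf_dvd_of_pow_eq_one h)
      omega
    · intro h
      rw [h, orderOf_one] at huo
      omega
  have hXn : ∀ i, Nat.card (Subgroup.centralizer ({X i} : Set G)) = nX i := by
    intro i
    fin_cases i
    · exact hCt
    · exact hCi
    · exact hCa
    · show Nat.card (Subgroup.centralizer ({a ^ 7} : Set G)) = 8
      have he : Subgroup.centralizer ({a⁻¹} : Set G) = Subgroup.centralizer ({a} : Set G) := by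
        ext x
        simp only [Subgroup.mem_centralizer_singleton_iff]
        exact ⟨fun h => by simpa using (Commute.inv_right (h : Commute x a⁻¹)).eq,
          fun h => (Commute.inv_right (h : Commute x a)).eq⟩
      rw [ha7, he]
      exact hCa
    · exact hCu
  have ho : ∀ i, orderOf (X i) = (![2, 4, 8, 8, 6] : Fin 5 → ℕ) i := by
    intro i
    fin_cases i <;> simp only [X] <;> simp
    · rw [← ha4, orderOf_pow, hao]; rfl
    · rw [orderOf_pow, hao]; rfl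
    · exact hao
    · rw [orderOf_pow, hao]; rfl
    · exact huo
  have hXd : ∀ i j, IsConj (X i) (X j) → i = j := by
    intro i j h
    have ho' : orderOf (X i) = orderOf (X j) := by
      obtain ⟨c, hc⟩ := isConj_iff.mp h
      rw [← hc, ← MulAut.conj_apply, MulEquiv.orderOf_eq]
    rw [ho, ho] at ho'
    fin_cases i <;> fin_cases j <;> simp at ho' ⊢
    · exact hna (by simpa [X, ha7] using h.symm)
    · exact hna (by simpa [X, ha7] using h)
  let V : Fin 5 → Cfsg.IrrCharacter G → ℂ := fun i χ => conj ((χ : G → ℂ) (X i))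
  have horth : ∀ i j, ∑ χ : Cfsg.IrrCharacter G, V i χ * conj (V j χ) =
      if i = j then (nX i : ℂ) else 0 := by
    intro i j
    simp only [V, Complex.conj_conj]
    rw [show (∑ χ : Cfsg.IrrCharacter G, conj ((χ : G → ℂ) (X i)) * (χ : G → ℂ) (X j)) =
      ∑ χ : Cfsg.IrrCharacter G, (χ : G → ℂ) (X j) * conj ((χ : G → ℂ) (X i)) from
        Finset.sum_congr rfl fun χ _ => mul_comm _ _, sum_irr_mul_conj]
    by_cases h : i = j
    · subst h; rw [if_pos (IsConj.refl _), if_pos rfl, hXn]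
    · rw [if_neg (fun hc => h (hXd j i hc).symm), if_neg h]
  -- roots of unity
  obtain ⟨ζ, hζ⟩ := IsAlgClosed.exists_pow_nat_eq Complex.I (n := 2) (by norm_num)
  set r : ℂ := ζ + ζ ^ 3 with hr
  have hζ4 : ζ ^ 4 = -1 := by
    calc ζ ^ 4 = (ζ ^ 2) ^ 2 := by ring
      _ = -1 := by rw [hζ, Complex.I_sq]
  have hζ8 : ζ ^ 8 = 1 := by
    calc ζ ^ 8 = (ζ ^ 4) ^ 2 := by ring
      _ = 1 := by rw [hζ4]; norm_num
  have hr2 : r ^ 2 = -2 := by
    calc r ^ 2 = ζ ^ 2 * (1 + ζ ^ 4) + 2 * ζ ^ 4 := by rw [hr]; ring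
      _ = -2 := by rw [hζ4]; ring
  have hrc : conj r = -r := by
    have h1 := congrArg Complex.re hr2
    have h2 := congrArg Complex.im hr2
    simp [sq] at h1 h2
    have hre : r.re = 0 := by
      rcases mul_eq_zero.mp (show r.re * r.im = 0 by linarith) with h | h
      · exact h
      · rw [h] at h1; nlinarith [mul_self_nonneg r.re]
    exact Complex.ext (by simp [hre]) (by simp)
  obtain ⟨η, hη⟩ : ∃ η : ℂ, η ^ 2 = η - 1 := by
    obtain ⟨s, hs⟩ := IsAlgClosed.exists_pow_nat_eq (-3 : ℂ) (n := 2) (by norm_num)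
    exact ⟨(1 + s) / 2, by linear_combination hs / 4⟩
  have hη3 : η ^ 3 = -1 := by linear_combination (η + 1) * hη
  have hη6 : η ^ 6 = 1 := by
    calc η ^ 6 = (η ^ 3) ^ 2 := by ring
      _ = 1 := by rw [hη3]; norm_num
  -- integral combinations from the two cyclic subgroups
  have hint : ∀ (g : G) (n : ℕ) (w : ℂ), orderOf g = n → 0 < n → w ^ n = 1 →
      ∀ (e f : ℕ) (χ : Cfsg.IrrCharacter G), ∃ m : ℤ,
        (n : ℂ)⁻¹ * ∑ k ∈ Finset.range n,
          ((w ^ k) ^ e - (w ^ k) ^ f) * conj ((χ : G → ℂ) (g ^ k)) = m := by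
    intro g n w hg hn hw e f χ
    set A := Subgroup.zpowers g with hA
    cases nonempty_fintype A
    set g₀ : A := ⟨g, Subgroup.mem_zpowers g⟩ with hg₀
    have hg₀o : orderOf g₀ = n := by rw [hg₀, Subgroup.orderOf_mk, hg]
    have hgen₀ : ∀ x : A, x ∈ Subgroup.zpowers g₀ := fun x => by
      obtain ⟨k, hk⟩ := Subgroup.mem_zpowers_iff.mp x.2
      exact Subgroup.mem_zpowers_iff.mpr ⟨k, Subtype.ext (by simp [hg₀, hk])⟩
    have hw0 : w ≠ 0 := fun h => by rw [h, zero_pow hn.ne'] at hw; exact zero_ne_one hw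
    let v : ℂˣ := Units.mk0 w hw0
    have hv : orderOf v ∣ orderOf g₀ := by
      rw [hg₀o]
      refine orderOf_dvd_of_pow_eq_one (Units.ext ?_)
      simp [v, Units.val_pow_eq_pow_val, hw]
    let lam : A →* ℂˣ := monoidHomOfForallMemZpowers hgen₀ hv
    have hlam : ∀ k : ℕ, (lam (g₀ ^ k) : ℂ) = w ^ k := fun k => by
      rw [map_pow, monoidHomOfForallMemZpowers_apply_gen, Units.val_pow_eq_pow_val]
      rfl
    have hgc : Cfsg.IsGeneralizedCharacter A fun x => (lam x : ℂ) ^ e - (lam x : ℂ) ^ f :=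
      ⟨_, _, isCharacter_hom (lam ^ e), isCharacter_hom (lam ^ f), funext fun x => by
        simp [Units.val_pow_eq_pow_val]⟩
    have hχc : Cfsg.IsGeneralizedCharacter A fun x => (χ : G → ℂ) x :=
      ⟨_, 0, IsCharacter.restrict (isCharacter_irr χ) A, isCharacter_zero, by
        funext x; simp⟩
    obtain ⟨m, hm⟩ := IsGeneralizedCharacter.classInner_int hgc hχc
    refine ⟨m, ?_⟩
    rw [← hm, Cfsg.classInner]
    congr 1
    · rw [hA, Nat.card_zpowers, hg]
    · rw [← Fin.sum_univ_eq_sum_range fun k =>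
        ((w ^ k) ^ e - (w ^ k) ^ f) * conj ((χ : G → ℂ) (g ^ k))]
      have hbij : Function.Bijective fun i : Fin n => g₀ ^ (i : ℕ) := by
        refine (Fintype.bijective_iff_injective_and_card _).2 ⟨fun i j hij => ?_, ?_⟩
        · exact Fin.ext (pow_injOn_Iio_orderOf (by simp [hg₀o]) (by simp [hg₀o]) hij)
        · rw [Fintype.card_fin, ← Nat.card_eq_fintype_card, Nat.card_zpowers, hg]
      refine Fintype.sum_bijective _ hbij _ _ fun i => ?_
      simp only [hlam]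
      simp [hg₀]
  have hcf : ∀ χ : Cfsg.IrrCharacter G, Cfsg.IsClassFunction G (χ : G → ℂ) := fun χ =>
    IsIrrCharacter.isClassFunction χ.2
  have hA : ∀ (e f : ℕ) (χ : Cfsg.IrrCharacter G), ∃ m : ℤ,
      (8 : ℂ)⁻¹ * (((ζ ^ 1) ^ e - (ζ ^ 1) ^ f + ((ζ ^ 3) ^ e - (ζ ^ 3) ^ f)) * V 2 χ +
        ((ζ ^ 5) ^ e - (ζ ^ 5) ^ f + ((ζ ^ 7) ^ e - (ζ ^ 7) ^ f)) * V 3 χ +
        ((ζ ^ 2) ^ e - (ζ ^ 2) ^ f + ((ζ ^ 6) ^ e - (ζ ^ 6) ^ f)) * V 1 χ +
        ((ζ ^ 4) ^ e - (ζ ^ 4) ^ f) * V 0 χ) = m := by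
    intro e f χ
    obtain ⟨m, hm⟩ := hint a 8 ζ hao (by norm_num) hζ8 e f χ
    refine ⟨m, Eq.trans ?_ hm⟩
    have h3 : (χ : G → ℂ) (a ^ 3) = (χ : G → ℂ) a :=
      IsClassFunction.apply_eq_of_isConj (hcf χ) ha3
    have h6 : (χ : G → ℂ) (a ^ 6) = (χ : G → ℂ) (a ^ 2) :=
      IsClassFunction.apply_eq_of_isConj (hcf χ) ha6
    have h5 : (χ : G → ℂ) (a ^ 5) = (χ : G → ℂ) (a ^ 7) :=
      (IsClassFunction.apply_eq_of_isConj (hcf χ) (by
        have h := ha3.pow 5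
        rwa [← pow_mul, show a ^ (3 * 5) = a ^ 7 by
          rw [show 3 * 5 = 8 + 7 from rfl, pow_add, ha8, one_mul]] at h)).symm
    rw [Finset.sum_range_succ, Finset.sum_range_succ, Finset.sum_range_succ, Finset.sum_range_succ,
      Finset.sum_range_succ, Finset.sum_range_succ, Finset.sum_range_succ, Finset.sum_range_succ,
      Finset.sum_range_zero, h3, h5, h6, ha4]
    simp [V, X]
    ring
  have hB : ∀ χ : Cfsg.IrrCharacter G, ∃ m : ℤ, (V 4 χ - V 0 χ) / 3 = m := by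
    intro χ
    obtain ⟨m, hm⟩ := hint u 6 η huo (by norm_num) hη6 1 4 χ
    refine ⟨m, Eq.trans ?_ hm⟩
    have h5 : (χ : G → ℂ) (u ^ 5) = (χ : G → ℂ) u :=
      IsClassFunction.apply_eq_of_isConj (hcf χ) hu5
    have e4 : η ^ 4 = -η := by linear_combination η * hη3
    simp only [Finset.sum_range_succ, Finset.sum_range_zero, ← pow_mul, h5, hu3]
    simp [V, X]
    have e8 : η ^ 8 = η ^ 2 := by linear_combination η ^ 2 * hη6
    have e12 : η ^ 12 = 1 := by linear_combination (η ^ 6 + 1) * hη6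
    have e16 : η ^ 16 = -η := by linear_combination (η ^ 10 + η ^ 4) * hη6 + η * hη3
    have e20 : η ^ 20 = η ^ 2 := by linear_combination (η ^ 14 + η ^ 8 + η ^ 2) * hη6
    have e5 : η ^ 5 = -η ^ 2 := by linear_combination η ^ 2 * hη3
    rw [e4, e5, e8, e12, e16, e20, hη3, hη]
    ring
  -- the five coefficient functions
  let c : Fin 5 → Fin 5 → ℂ :=
    ![![0, 0, r / 4, -r / 4, 0],
      ![-1 / 12, -1 / 4, r / 8, -r / 8, 1 / 3],
      ![-1 / 12, 1 / 4, (2 + r) / 8, (2 - r) / 8, 1 / 3],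
      ![-1 / 12, 1 / 4, (r - 2) / 8, (-r - 2) / 8, 1 / 3],
      ![1 / 6, 0, 1 / 4, 1 / 4, 1 / 3]]
  have hz : ∀ (k : Fin 5) (χ : Cfsg.IrrCharacter G), ∃ m : ℤ, ∑ j, c k j * V j χ = m := by
    intro k χ
    obtain ⟨z₁, h1⟩ := hA 0 1 χ
    obtain ⟨z₅, h5⟩ := hA 0 5 χ
    obtain ⟨z₂, h2⟩ := hA 0 2 χ
    obtain ⟨z₄, h4⟩ := hA 0 4 χ
    obtain ⟨zb, hb⟩ := hB χ
    have e2 : ζ ^ 2 = Complex.I := hζ
    have e5 : ζ ^ 5 = -ζ := by linear_combination ζ * hζ4
    have e6 : ζ ^ 6 = -Complex.I := by linear_combination ζ ^ 2 * hζ4 - hζ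
    have e7 : ζ ^ 7 = -ζ ^ 3 := by linear_combination ζ ^ 3 * hζ4
    have q1 : (z₁ : ℂ) = ((2 - r) * V 2 χ + (2 + r) * V 3 χ + 2 * V 1 χ + 2 * V 0 χ) / 8 := by
      rw [← h1]
      simp only [pow_zero, pow_one, e2, e5, e6, e7, hζ4, hr]
      ring
    have q2 : (z₂ : ℂ) = (2 * V 2 χ + 2 * V 3 χ + 4 * V 1 χ) / 8 := by
      rw [← h2]
      simp only [pow_zero, ← pow_mul]
      rw [show ζ ^ (1 * 2) = Complex.I from e2, show ζ ^ (3 * 2) = -Complex.I from e6,
        show ζ ^ (5 * 2) = Complex.I by linear_combination ζ ^ 2 * hζ8 + hζ,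
        show ζ ^ (7 * 2) = -Complex.I by linear_combination ζ ^ 6 * hζ8 + e6,
        show ζ ^ (2 * 2) = -1 from hζ4,
        show ζ ^ (6 * 2) = -1 by linear_combination ζ ^ 4 * hζ8 + hζ4,
        show ζ ^ (4 * 2) = 1 from hζ8]
      ring
    have q4 : (z₄ : ℂ) = (4 * V 2 χ + 4 * V 3 χ) / 8 := by
      rw [← h4]
      simp only [pow_zero, ← pow_mul]
      rw [show ζ ^ (1 * 4) = -1 from hζ4,
        show ζ ^ (3 * 4) = -1 by linear_combination ζ ^ 4 * hζ8 + hζ4,
        show ζ ^ (5 * 4) = -1 by linear_combination (ζ ^ 12 + ζ ^ 4) * hζ8 + hζ4,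
        show ζ ^ (7 * 4) = -1 by linear_combination (ζ ^ 20 + ζ ^ 12 + ζ ^ 4) * hζ8 + hζ4,
        show ζ ^ (2 * 4) = 1 from hζ8,
        show ζ ^ (6 * 4) = 1 by linear_combination (ζ ^ 16 + ζ ^ 8 + 1) * hζ8,
        show ζ ^ (4 * 4) = 1 by linear_combination (ζ ^ 8 + 1) * hζ8]
      ring
    have q5 : (z₅ : ℂ) = ((2 + r) * V 2 χ + (2 - r) * V 3 χ + 2 * V 1 χ + 2 * V 0 χ) / 8 := by
      rw [← h5]
      simp only [pow_zero, ← pow_mul]
      rw [show ζ ^ (1 * 5) = -ζ from e5,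
        show ζ ^ (3 * 5) = -ζ ^ 3 by linear_combination ζ ^ 7 * hζ8 + e7,
        show ζ ^ (5 * 5) = ζ by linear_combination (ζ ^ 17 + ζ ^ 9 + ζ) * hζ8,
        show ζ ^ (7 * 5) = ζ ^ 3 by
          linear_combination (ζ ^ 27 + ζ ^ 19 + ζ ^ 11 + ζ ^ 3) * hζ8,
        show ζ ^ (2 * 5) = Complex.I by linear_combination ζ ^ 2 * hζ8 + hζ,
        show ζ ^ (6 * 5) = -Complex.I by
          linear_combination (ζ ^ 22 + ζ ^ 14 + ζ ^ 6) * hζ8 + e6,
        show ζ ^ (4 * 5) = -1 by linear_combination (ζ ^ 12 + ζ ^ 4) * hζ8 + hζ4, hr]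
      ring
    fin_cases k
    · exact ⟨z₅ - z₁, by push_cast; rw [q5, q1]; simp [c, Fin.sum_univ_five]; ring⟩
    · exact ⟨z₅ - z₂ + zb, by
        push_cast; rw [q5, q2, ← hb]; simp [c, Fin.sum_univ_five]; ring⟩
    · exact ⟨z₅ + zb, by push_cast; rw [q5, ← hb]; simp [c, Fin.sum_univ_five]; ring⟩
    · exact ⟨z₅ - z₄ + zb, by
        push_cast; rw [q5, q4, ← hb]; simp [c, Fin.sum_univ_five]; ring⟩
    · exact ⟨z₁ + z₅ - z₂ + zb, by
        push_cast; rw [q1, q5, q2, ← hb]; simp [c, Fin.sum_univ_five]; ring⟩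
  choose z hz using hz
  -- the Gram matrix
  have hgram : ∀ k l, ((∑ χ, z k χ * z l χ : ℤ) : ℂ) = ∑ j, c k j * conj (c l j) * nX j := by
    intro k l
    push_cast
    have hl : ∀ χ, (z l χ : ℂ) = ∑ j, conj (c l j) * conj (V j χ) := fun χ => by
      rw [← map_intCast (starRingEnd ℂ) (z l χ), ← hz l χ, map_sum]
      simp only [map_mul]
    calc ∑ χ, (z k χ : ℂ) * z l χ
        = ∑ χ, (∑ i, c k i * V i χ) * ∑ j, conj (c l j) * conj (V j χ) :=
          Finset.sum_congr rfl fun χ _ => by rw [hl, hz]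
      _ = ∑ χ, ∑ i, ∑ j, c k i * conj (c l j) * (V i χ * conj (V j χ)) := by
          refine Finset.sum_congr rfl fun χ _ => ?_
          rw [Finset.sum_mul_sum]
          exact Finset.sum_congr rfl fun i _ => Finset.sum_congr rfl fun j _ => by ring
      _ = ∑ i, ∑ j, c k i * conj (c l j) * ∑ χ, V i χ * conj (V j χ) := by
          rw [Finset.sum_comm]
          refine Finset.sum_congr rfl fun i _ => ?_
          rw [Finset.sum_comm]
          simp only [Finset.mul_sum]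
      _ = _ := by simp [horth]
  have hg : ∀ k l, ∑ χ, z k χ * z l χ =
      (![![2, 1, 1, 1, 0], ![1, 2, 1, 1, 0], ![1, 1, 3, 1, 1], ![1, 1, 1, 3, -1],
        ![0, 0, 1, -1, 3]] : Fin 5 → Fin 5 → ℤ) k l := by
    intro k l
    apply Int.cast_injective (α := ℂ)
    rw [hgram]
    fin_cases k <;> fin_cases l <;>
      simp [c, nX, Fin.sum_univ_five, map_div₀, map_ofNat, map_sub, map_add, map_neg, hrc] <;>
      ring_nf <;> rw [hr2] <;> norm_num
  -- degrees
  choose d hd0 hd using fun φ : Cfsg.IrrCharacter G => IsIrrCharacter.apply_one_eq φ.2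
  have hdeg : ∀ k, ∑ χ, z k χ * (d χ : ℤ) = 0 := by
    intro k
    have h0 : ∀ j, ∑ χ : Cfsg.IrrCharacter G, V j χ * (d χ : ℂ) = 0 := by
      intro j
      have h := sum_irr_mul_conj (1 : G) (X j)
      rw [if_neg (fun hc => hX1 j (isConj_one_left.mp hc.symm))] at h
      rw [← h]
      exact Finset.sum_congr rfl fun χ _ => by rw [hd, mul_comm]
    apply Int.cast_injective (α := ℂ)
    push_cast
    simp only [← hz, Finset.sum_mul, mul_assoc]
    rw [Finset.sum_comm]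
    simp [← Finset.mul_sum, h0]
  -- the values, recovered from the coefficients
  have hval : ∀ χ : Cfsg.IrrCharacter G,
      V 0 χ = (2 * z 0 χ - 2 * z 1 χ - 3 * z 2 χ + z 3 χ + 4 * z 4 χ : ℂ) ∧
      V 2 χ = (-r * z 0 χ + z 2 χ - z 3 χ : ℂ) ∧
      V 4 χ = (-(z 0 χ : ℂ) + z 1 χ + z 3 χ + z 4 χ) := by
    intro χ
    rw [← hz 0 χ, ← hz 1 χ, ← hz 2 χ, ← hz 3 χ, ← hz 4 χ]
    simp [c, Fin.sum_univ_five]
    refine ⟨by ring, ?_, by ring⟩
    linear_combination ((V 2 χ - V 3 χ) / 4) * hr2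
  let one : Cfsg.IrrCharacter G := ⟨fun _ => 1, isIrrCharacter_one⟩
  have hone : z 0 one = 0 ∧ z 1 one = 0 ∧ z 2 one = 1 ∧ z 3 one = 0 ∧ z 4 one = 1 := by
    have h : ∀ k, (z k one : ℂ) = ∑ j, c k j := fun k => by
      rw [← hz k one]
      simp [V, one]
    refine ⟨?_, ?_, ?_, ?_, ?_⟩ <;> apply Int.cast_injective (α := ℂ) <;> rw [h] <;>
      simp [c, Fin.sum_univ_five] <;> ring
  obtain ⟨hone0, hone1, hone2, hone3, hone4⟩ := hone
  have hd1 : d one = 1 := by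
    have h : ((1 : ℕ) : ℂ) = (d one : ℂ) := by rw [Nat.cast_one]; exact hd one
    exact (Nat.cast_injective h).symm
  have hdpos : ∀ χ, (0 : ℤ) < d χ := fun χ => by exact_mod_cast hd0 χ
  -- identification of the eight characters
  obtain ⟨a₀, b₀, hab₀, ha₀, hb₀, hP0₀⟩ := exists_two (z 0) (hg 0 0)
  obtain ⟨c₁, c₂, hcc, hc₁, hc₂, hQ0₀⟩ := exists_two (z 1) (hg 1 1)
  obtain ⟨A, B, Z, hAB, hAZ, hBZ, hPA, hPB, hQA, hQB, hQZ, hPZ, hP0, hQ0⟩ :
      ∃ A B Z, A ≠ B ∧ A ≠ Z ∧ B ≠ Z ∧ (z 0 A = 1 ∨ z 0 A = -1) ∧ (z 0 B = 1 ∨ z 0 B = -1) ∧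
        z 1 A = z 0 A ∧ z 1 B = 0 ∧ (z 1 Z = 1 ∨ z 1 Z = -1) ∧ z 0 Z = 0 ∧
        (∀ i, i ≠ A → i ≠ B → z 0 i = 0) ∧ (∀ i, i ≠ A → i ≠ Z → z 1 i = 0) := by
    have hsum : z 0 a₀ * z 1 a₀ + z 0 b₀ * z 1 b₀ = 1 := by
      rw [← Finset.sum_pair hab₀ (f := fun i => z 0 i * z 1 i)]
      rw [Finset.sum_subset (Finset.subset_univ _) fun i _ hi => by
        simp only [Finset.mem_insert, Finset.mem_singleton, not_or] at hi
        rw [hP0₀ i hi.1 hi.2, zero_mul]]
      exact hg 0 1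
    have hq : ∀ i, z 1 i = 1 ∨ z 1 i = -1 ∨ z 1 i = 0 := fun i => by
      by_cases e1 : i = c₁; · subst e1; rcases hc₁ with h | h <;> simp [h]
      by_cases e2 : i = c₂; · subst e2; rcases hc₂ with h | h <;> simp [h]
      simp [hQ0₀ i e1 e2]
    have hcase : (z 1 a₀ = z 0 a₀ ∧ z 1 b₀ = 0) ∨ (z 1 b₀ = z 0 b₀ ∧ z 1 a₀ = 0) := by
      rcases ha₀ with e1 | e1 <;> rcases hb₀ with e2 | e2 <;> rw [e1, e2] at hsum ⊢ <;>
        rcases hq a₀ with e3 | e3 | e3 <;> rcases hq b₀ with e4 | e4 | e4 <;>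
        rw [e3, e4] at hsum ⊢ <;> omega
    obtain ⟨A, B, hAB, hA', hB', hPP, hQQ, hP⟩ : ∃ A B, A ≠ B ∧ (z 0 A = 1 ∨ z 0 A = -1) ∧
        (z 0 B = 1 ∨ z 0 B = -1) ∧ z 1 A = z 0 A ∧ z 1 B = 0 ∧
        ∀ i, i ≠ A → i ≠ B → z 0 i = 0 := by
      rcases hcase with ⟨h1, h2⟩ | ⟨h1, h2⟩
      · exact ⟨a₀, b₀, hab₀, ha₀, hb₀, h1, h2, hP0₀⟩
      · exact ⟨b₀, a₀, hab₀.symm, hb₀, ha₀, h1, h2, fun i x y => hP0₀ i y x⟩
    obtain ⟨Z, hZ, hAZ, hQ⟩ : ∃ Z, (z 1 Z = 1 ∨ z 1 Z = -1) ∧ A ≠ Z ∧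
        ∀ i, i ≠ A → i ≠ Z → z 1 i = 0 := by
      by_cases h1 : A = c₁
      · exact ⟨c₂, hc₂, h1 ▸ hcc, h1 ▸ hQ0₀⟩
      by_cases h2 : A = c₂
      · exact ⟨c₁, hc₁, h1, fun i x y => hQ0₀ i y (h2 ▸ x)⟩
      have := hQ0₀ A h1 h2
      omega
    have hBZ : B ≠ Z := fun h => by rw [h] at hQQ; omega
    exact ⟨A, B, Z, hAB, hAZ, hBZ, hA', hB', hPP, hQQ, hZ, hP Z hAZ.symm hBZ.symm, hP, hQ⟩
  set s : ℤ := z 0 A with hs
  set D : ℤ := s * d A with hD
  have hdeg2 : ∀ (k : Fin 5) (x y : Cfsg.IrrCharacter G), x ≠ y →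
      (∀ i, i ≠ x → i ≠ y → z k i = 0) → z k x * d x + z k y * d y = 0 := by
    intro k x y hxy h0
    rw [← Finset.sum_pair hxy (f := fun i => z k i * (d i : ℤ)), Finset.sum_subset
      (Finset.subset_univ _) fun i _ hi => by
        simp only [Finset.mem_insert, Finset.mem_singleton, not_or] at hi
        rw [h0 i hi.1 hi.2, zero_mul]]
    exact hdeg k
  have hdB : z 0 B * d B = -D := by
    have := hdeg2 0 A B hAB hP0
    rw [← hs] at this
    omega
  have hdZ : z 1 Z * d Z = -D := by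
    have := hdeg2 1 A Z hAZ hQ0
    rw [hQA] at this
    omega
  have hpair : ∀ (k : Fin 5), ∑ χ, z k χ * z 0 χ = z k A * s + z k B * z 0 B ∧
      ∑ χ, z k χ * z 1 χ = z k A * s + z k Z * z 1 Z := by
    intro k
    constructor
    · rw [hs, ← Finset.sum_pair hAB (f := fun i => z k i * z 0 i)]
      refine (Finset.sum_subset (Finset.subset_univ _) fun i _ hi => ?_).symm
      simp only [Finset.mem_insert, Finset.mem_singleton, not_or] at hi
      rw [hP0 i hi.1 hi.2, mul_zero]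
    · rw [← hQA, ← Finset.sum_pair hAZ (f := fun i => z k i * z 1 i)]
      refine (Finset.sum_subset (Finset.subset_univ _) fun i _ hi => ?_).symm
      simp only [Finset.mem_insert, Finset.mem_singleton, not_or] at hi
      rw [hQ0 i hi.1 hi.2, mul_zero]
  have hk3 : ∀ k : Fin 5, ∑ χ, z k χ * z k χ = 3 → ∀ w, z k w = 1 ∨ z k w = -1 ∨ z k w = 0 := by
    intro k hk w
    obtain ⟨p, q, v, -, -, -, hp, hq, hv, h0⟩ := exists_three (z k) hk
    by_cases e1 : w = p; · subst e1; rcases hp with h | h <;> simp [h]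
    by_cases e2 : w = q; · subst e2; rcases hq with h | h <;> simp [h]
    by_cases e3 : w = v; · subst e3; rcases hv with h | h <;> simp [h]
    simp [h0 w e1 e2 e3]
  -- three distinguished points in a support of size three
  have hthree : ∀ k : Fin 5, ∑ χ, z k χ * z k χ = 3 → ∀ p q v, p ≠ q → p ≠ v → q ≠ v →
      z k p ≠ 0 → z k q ≠ 0 → z k v ≠ 0 → ∀ i, i ≠ p → i ≠ q → i ≠ v → z k i = 0 := by
    intro k hk p q v hpq hpv hqv h1 h2 h3 i i1 i2 i3
    by_contra h4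
    have hle := Finset.sum_le_sum_of_subset_of_nonneg
      (Finset.subset_univ ({i, p, q, v} : Finset _))
      (fun j _ _ => mul_self_nonneg (z k j))
    rw [hk, Finset.sum_insert (by simp [i1, i2, i3]), Finset.sum_insert (by simp [hpq, hpv]),
      Finset.sum_pair hqv] at hle
    have q1 : ∀ w : ℤ, w ≠ 0 → 1 ≤ w * w := fun w hw => by
      rcases lt_or_gt_of_ne hw with h | h <;> nlinarith
    have := q1 _ h1; have := q1 _ h2; have := q1 _ h3; have := q1 _ h4
    omega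
  have hthird : ∀ k : Fin 5, ∑ χ, z k χ * z k χ = 3 → ∀ p q, p ≠ q → z k p ≠ 0 → z k q ≠ 0 →
      ∃ v, v ≠ p ∧ v ≠ q ∧ z k v ≠ 0 ∧ (∀ i, i ≠ p → i ≠ q → i ≠ v → z k i = 0) ∧
        z k p * d p + z k q * d q + z k v * d v = 0 := by
    intro k hk p q hpq hp hq
    obtain ⟨v, hv1, hv2, hv⟩ : ∃ v, v ≠ p ∧ v ≠ q ∧ z k v ≠ 0 := by
      by_contra hc
      push Not at hc
      have hsum : ∑ χ, z k χ * z k χ = z k p * z k p + z k q * z k q := by
        rw [← Finset.sum_pair hpq (f := fun i => z k i * z k i)]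
        refine (Finset.sum_subset (Finset.subset_univ _) fun i _ hi => ?_).symm
        simp only [Finset.mem_insert, Finset.mem_singleton, not_or] at hi
        rw [hc i hi.1 hi.2, mul_zero]
      rw [hk] at hsum
      rcases hk3 k hk p with e | e | e <;> rcases hk3 k hk q with e' | e' | e' <;>
        rw [e, e'] at hsum <;> omega
    have h0 := hthree k hk p q v hpq hv1.symm hv2.symm hp hq hv
    refine ⟨v, hv1, hv2, hv, h0, ?_⟩
    have h := hdeg k
    rw [← Finset.sum_subset (Finset.subset_univ ({p, q, v} : Finset _)) fun i _ hi => by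
      simp only [Finset.mem_insert, Finset.mem_singleton, not_or] at hi
      rw [h0 i hi.1 hi.2.1 hi.2.2, zero_mul],
      Finset.sum_insert (by simp [hpq, hv1.symm]), Finset.sum_pair hv2.symm] at h
    omega
  have honeA : one ≠ A := fun h => by rw [← h] at hs; omega
  have honeB : one ≠ B := fun h => by rw [← h, hone0] at hPB; omega
  have honeZ : one ≠ Z := fun h => by rw [← h, hone1] at hQZ; omega
  -- the third function
  have hR : z 2 A = s ∧ z 2 B = 0 ∧ z 2 Z = 0 := by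
    have h1 := (hpair 2).1.symm.trans (hg 2 0)
    have h2 := (hpair 2).2.symm.trans (hg 2 1)
    have h1' : z 2 A * s + z 2 B * z 0 B = 1 := h1
    have h2' : z 2 A * s + z 2 Z * z 1 Z = 1 := h2
    by_cases hA0 : z 2 A = 0
    · exfalso
      rw [hA0, zero_mul, zero_add] at h1' h2'
      obtain ⟨v, hv1, hv2, hv, h0, hsum⟩ := hthird 2 (hg 2 2) B Z hBZ
        (fun h => by rw [h, zero_mul] at h1'; omega) (fun h => by rw [h, zero_mul] at h2'; omega)
      by_cases hv' : v = one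
      · subst hv'
        have e1 : z 2 B = z 0 B := by
          rcases hPB with e | e <;> rw [e] at h1' ⊢ <;> omega
        have e2 : z 2 Z = z 1 Z := by
          rcases hQZ with e | e <;> rw [e] at h2' ⊢ <;> omega
        rw [e1, e2, hone2, hd1, hdB, hdZ] at hsum
        push_cast at hsum
        omega
      · have := h0 one honeB honeZ (Ne.symm hv')
        omega
    · rcases hPA with e | e <;> rcases hPB with e' | e' <;> rcases hQZ with e'' | e'' <;>
        rw [e] at h1' h2' ⊢ <;> rw [e'] at h1' <;> rw [e''] at h2' <;>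
        rcases hk3 2 (hg 2 2) A with u1 | u1 | u1 <;> rcases hk3 2 (hg 2 2) B with u2 | u2 | u2 <;>
        rcases hk3 2 (hg 2 2) Z with u3 | u3 | u3 <;> omega
  obtain ⟨hRA, hRB, hRZ⟩ := hR
  have hs0 : s ≠ 0 := by rcases hPA with e | e <;> omega
  obtain ⟨W, hW1, hWA, hRW, hR0, hRdeg⟩ := hthird 2 (hg 2 2) one A honeA (by omega) (by omega)
  have hDW : z 2 W * d W = -(1 + D) := by
    rw [hone2, hd1, hRA] at hRdeg
    push_cast at hRdeg
    omega
  have hpairR : ∀ k : Fin 5, ∑ χ, z k χ * z 2 χ = z k one + z k A * s + z k W * z 2 W := by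
    intro k
    rw [← Finset.sum_subset (Finset.subset_univ ({one, A, W} : Finset _)) fun i _ hi => by
      simp only [Finset.mem_insert, Finset.mem_singleton, not_or] at hi
      rw [hR0 i hi.1 hi.2.1 hi.2.2, mul_zero],
      Finset.sum_insert (by simp [honeA, hW1.symm]), Finset.sum_pair hWA.symm, hone2, hRA]
    ring
  have hWB : W ≠ B := fun h => hRW (h ▸ hRB)
  have hWZ : W ≠ Z := fun h => hRW (h ▸ hRZ)
  -- the fourth function
  have hT : z 3 A = s ∧ z 3 B = 0 ∧ z 3 Z = 0 ∧ z 3 W = 0 := by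
    have h1 : z 3 A * s + z 3 B * z 0 B = 1 := (hpair 3).1.symm.trans (hg 3 0)
    have h2 : z 3 A * s + z 3 Z * z 1 Z = 1 := (hpair 3).2.symm.trans (hg 3 1)
    have h3 : z 3 one + z 3 A * s + z 3 W * z 2 W = 1 := (hpairR 3).symm.trans (hg 3 2)
    rw [hone3, zero_add] at h3
    have hRW' := hk3 2 (hg 2 2) W
    by_cases hA0 : z 3 A = 0
    · exfalso
      rw [hA0, zero_mul, zero_add] at h1 h2 h3
      obtain ⟨v, hv1, hv2, hv, h0, hsum⟩ := hthird 3 (hg 3 3) B Z hBZ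
        (fun h => by rw [h, zero_mul] at h1; omega) (fun h => by rw [h, zero_mul] at h2; omega)
      by_cases hv' : v = W
      · subst hv'
        have e1 : z 3 B = z 0 B := by
          rcases hPB with e | e <;> rw [e] at h1 ⊢ <;> omega
        have e2 : z 3 Z = z 1 Z := by
          rcases hQZ with e | e <;> rw [e] at h2 ⊢ <;> omega
        have e3 : z 3 v = z 2 v := by
          rcases hRW' with e | e | e <;> rw [e] at h3 ⊢ <;> omega
        rw [e1, e2, e3, hdB, hdZ, hDW] at hsum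
        omega
      · rw [h0 W hWB hWZ (Ne.symm hv'), zero_mul] at h3
        omega
    · rcases hPA with e | e <;> rcases hPB with e' | e' <;> rcases hQZ with e'' | e'' <;>
        rw [e] at h1 h2 h3 ⊢ <;> rw [e'] at h1 <;> rw [e''] at h2 <;>
        rcases hk3 3 (hg 3 3) A with u1 | u1 | u1 <;>
        rw [u1] at h1 h2 h3 ⊢ <;>
        rcases hRW' with u4 | u4 | u4 <;> rw [u4] at h3 <;>
        rcases hk3 3 (hg 3 3) B with u2 | u2 | u2 <;>
        rcases hk3 3 (hg 3 3) Z with u3 | u3 | u3 <;> omega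
  obtain ⟨hTA, hTB, hTZ, hTW⟩ := hT
  -- the fifth function
  have hU : z 4 A = 0 ∧ z 4 B = 0 ∧ z 4 Z = 0 ∧ z 4 W = 0 := by
    have h1 : z 4 A * s + z 4 B * z 0 B = 0 := (hpair 4).1.symm.trans (hg 4 0)
    have h2 : z 4 A * s + z 4 Z * z 1 Z = 0 := (hpair 4).2.symm.trans (hg 4 1)
    have h3 : z 4 one + z 4 A * s + z 4 W * z 2 W = 1 := (hpairR 4).symm.trans (hg 4 2)
    have hA0 : z 4 A = 0 := by
      by_contra hA0
      have hB0 : z 4 B ≠ 0 := fun h => by
        rw [h, zero_mul, add_zero] at h1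
        exact mul_ne_zero hA0 hs0 h1
      have hZ0 : z 4 Z ≠ 0 := fun h => by
        rw [h, zero_mul, add_zero] at h2
        exact mul_ne_zero hA0 hs0 h2
      have := hthree 4 (hg 4 4) A B Z hAB hAZ hBZ hA0 hB0 hZ0 one honeA honeB honeZ
      omega
    rw [hA0, zero_mul, zero_add] at h1 h2
    rw [hA0, zero_mul, add_zero, hone4, add_eq_left] at h3
    exact ⟨hA0, (mul_eq_zero.mp h1).resolve_right (by omega),
      (mul_eq_zero.mp h2).resolve_right (by omega), (mul_eq_zero.mp h3).resolve_right hRW⟩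
  obtain ⟨hUA, hUB, hUZ, hUW⟩ := hU
  obtain ⟨Y, hTY, hUY, hYs⟩ : ∃ Y, z 3 Y ≠ 0 ∧ z 4 Y ≠ 0 ∧ z 4 Y = -z 3 Y := by
    by_contra hc
    push Not at hc
    have h : ∀ i, 0 ≤ z 3 i * z 4 i := by
      intro i
      rcases hk3 3 (hg 3 3) i with e | e | e <;> rcases hk3 4 (hg 4 4) i with e' | e' | e' <;>
        first
        | (simp [e, e']; done)
        | exact absurd (show z 4 i = -z 3 i by omega) (hc i (by omega) (by omega))
    have := Finset.sum_nonneg fun i (_ : i ∈ Finset.univ) => h i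
    rw [show ∑ i, z 3 i * z 4 i = -1 from hg 3 4] at this
    omega
  have hYA : A ≠ Y := fun h => hUY (h ▸ hUA)
  have hY1 : one ≠ Y := fun h => hTY (h ▸ hone3)
  obtain ⟨S₀, hS₀A, hS₀Y, hTS, hT0, hTdeg⟩ := hthird 3 (hg 3 3) A Y hYA (by omega) hTY
  obtain ⟨E₀, hE₀1, hE₀Y, hUE, hU0, hUdeg⟩ := hthird 4 (hg 4 4) one Y hY1 (by omega) hUY
  have hS₀U : z 4 S₀ = 0 := by
    have hsum : z 3 Y * z 4 Y + z 3 S₀ * z 4 S₀ = -1 := by
      rw [← Finset.sum_pair hS₀Y.symm (f := fun i => z 3 i * z 4 i)]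
      rw [Finset.sum_subset (Finset.subset_univ _) fun i _ hi => by
        simp only [Finset.mem_insert, Finset.mem_singleton, not_or] at hi
        by_cases e : i = A
        · subst e; rw [hUA, mul_zero]
        · rw [hT0 i e hi.1 hi.2, zero_mul]]
      exact hg 3 4
    rcases hk3 3 (hg 3 3) Y with e | e | e <;> rcases hk3 3 (hg 3 3) S₀ with e' | e' | e' <;>
      rw [hYs, e, e'] at hsum <;> omega
  have hE₀T : z 3 E₀ = 0 := by
    by_cases e : E₀ = A
    · exact absurd (e ▸ hUA) hUE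
    · exact hT0 E₀ e hE₀Y fun h => hUE (h ▸ hS₀U)
  -- the vectors
  have hS₀1 : S₀ ≠ one := fun h => hTS (h ▸ hone3)
  have hE₀A : E₀ ≠ A := fun h => hUE (h ▸ hUA)
  let v : Fin 8 → Cfsg.IrrCharacter G := ![one, A, B, Z, W, S₀, Y, E₀]
  have hpat : ∀ (i : Fin 8) (k : Fin 5), (pattern i k = true ↔ z k (v i) ≠ 0) := by
    have hY0 : z 0 Y = 0 := hP0 Y hYA.symm fun h => hTY (h ▸ hTB)
    have hY1' : z 1 Y = 0 := hQ0 Y hYA.symm fun h => hTY (h ▸ hTZ)
    have hY2 : z 2 Y = 0 := hR0 Y hY1.symm hYA.symm fun h => hTY (h ▸ hTW)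
    have hS0 : z 0 S₀ = 0 := hP0 S₀ hS₀A fun h => hTS (h ▸ hTB)
    have hS1 : z 1 S₀ = 0 := hQ0 S₀ hS₀A fun h => hTS (h ▸ hTZ)
    have hS2 : z 2 S₀ = 0 := hR0 S₀ hS₀1 hS₀A fun h => hTS (h ▸ hTW)
    have hE0 : z 0 E₀ = 0 := hP0 E₀ hE₀A fun h => hUE (h ▸ hUB)
    have hE1 : z 1 E₀ = 0 := hQ0 E₀ hE₀A fun h => hUE (h ▸ hUZ)
    have hE2 : z 2 E₀ = 0 := hR0 E₀ hE₀1 hE₀A fun h => hUE (h ▸ hUW)
    have hW0 : z 0 W = 0 := hP0 W hWA hWB
    have hW1' : z 1 W = 0 := hQ0 W hWA hWZ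
    have hB0 : z 0 B ≠ 0 := by omega
    have hZ0 : z 1 Z ≠ 0 := by omega
    intro i k
    fin_cases i <;> fin_cases k <;>
      simp [pattern, v, hone0, hone1, hone2, hone3, hone4, ← hs, hQA, hQB, hPZ, hRA, hRB, hRZ, hTA,
        hTB, hTZ, hTW, hUA, hUB, hUZ, hUW, hY0, hY1', hY2, hS0, hS1, hS2, hS₀U, hE0, hE1, hE2,
        hE₀T, hW0, hW1', hs0, hB0, hZ0, hRW, hTY, hUY, hTS, hUE]
  have hvinj : Function.Injective v := fun i j h => pattern_injective (funext fun k => by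
    rw [Bool.eq_iff_iff, hpat, hpat, h])
  have hsum8 : ∀ f : Cfsg.IrrCharacter G → ℂ, (∀ i, (∀ k, z k i = 0) → f i = 0) →
      ∑ i, f i = f one + f A + f B + f Z + f W + f S₀ + f Y + f E₀ := by
    intro f hf
    rw [← Finset.sum_subset (Finset.subset_univ (Finset.univ.image v)) fun i _ hi => by
      refine hf i fun k => ?_
      have hi' : ∀ j, i ≠ v j := fun j h => hi (Finset.mem_image.mpr ⟨j, Finset.mem_univ j, h.symm⟩)
      fin_cases k
      · exact hP0 i (hi' 1) (hi' 2)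
      · exact hQ0 i (hi' 1) (hi' 3)
      · exact hR0 i (hi' 0) (hi' 1) (hi' 4)
      · exact hT0 i (hi' 1) (hi' 6) (hi' 5)
      · exact hU0 i (hi' 0) (hi' 6) (hi' 7),
      Finset.sum_image hvinj.injOn, Fin.sum_univ_eight]
    simp [v]
  have hz00 : ∀ i k, pattern i k = false → z k (v i) = 0 := fun i k h => by
    by_contra hne
    rw [(hpat i k).mpr hne] at h
    exact Bool.noConfusion h
  -- signed degrees
  set S : ℤ := z 3 S₀ * d S₀ with hS
  set Yd : ℤ := z 4 Y * d Y with hYd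
  set Ed : ℤ := -(z 4 E₀ * d E₀) with hEd
  have hYD : Yd = D + S := by
    rw [hTA] at hTdeg
    rw [hYd, hYs, hS, hD]
    linear_combination -hTdeg
  have hED : Ed = 1 + D + S := by
    rw [hone4, hd1] at hUdeg
    push_cast at hUdeg
    omega
  have hsgn : ∀ x : ℤ, x = 1 ∨ x = -1 → ∀ m : ℕ, ((x * m : ℤ) : ℂ)⁻¹ = (x : ℂ) / m := by
    rintro x (rfl | rfl) m <;> simp [inv_neg, neg_div]
  have hsq : ∀ x : ℤ, x = 1 ∨ x = -1 → (x : ℂ) ^ 3 = x := by
    rintro x (rfl | rfl) <;> norm_num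
  have hpm : ∀ (k : Fin 5) x, ∑ χ, z k χ * z k χ = 3 → z k x ≠ 0 → z k x = 1 ∨ z k x = -1 := by
    intro k x h1 h2
    rcases hk3 k h1 x with e | e | e
    · exact Or.inl e
    · exact Or.inr e
    · exact absurd e h2
  -- the two class equations
  have hVt : ∀ χ : Cfsg.IrrCharacter G, (χ : G → ℂ) t = V 0 χ := fun χ => by
    show (χ : G → ℂ) t = conj ((χ : G → ℂ) t)
    have h : conj ((χ : G → ℂ) t) = ((2 * z 0 χ - 2 * z 1 χ - 3 * z 2 χ + z 3 χ + 4 * z 4 χ : ℤ) : ℂ) := by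
      push_cast
      exact (hval χ).1
    rw [h, ← Complex.conj_conj ((χ : G → ℂ) t), h, map_intCast]
  have heqn : ∀ (g : G) (n : ℕ), Nat.card {x : G // IsConj x t ∧ IsConj (x⁻¹ * g) t} = n →
      (2304 * n : ℂ) = (Nat.card G : ℂ) * ∑ χ : Cfsg.IrrCharacter G,
        V 0 χ * V 0 χ * conj ((χ : G → ℂ) g) / (d χ : ℂ) := by
    intro g n hn
    have h := card_class_pairs t t g
    rw [hn, hCt] at h
    rw [Finset.sum_congr rfl fun χ _ => show V 0 χ * V 0 χ * conj ((χ : G → ℂ) g) / (d χ : ℂ) =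
      (χ : G → ℂ) t * (χ : G → ℂ) t * conj ((χ : G → ℂ) g) / (χ : G → ℂ) 1 by rw [hVt, hd], ← h]
    push_cast
    ring
  have hterm0 : ∀ (g : G) (i : Cfsg.IrrCharacter G), (∀ k, z k i = 0) →
      V 0 i * V 0 i * conj ((i : G → ℂ) g) / (d i : ℂ) = 0 := by
    intro g i h
    rw [(hval i).1]
    simp [h]
  have hEa := heqn a 0 hpa
  have hEu := heqn u 6 hpu
  rw [hsum8 _ (hterm0 a)] at hEa
  rw [hsum8 _ (hterm0 u)] at hEu
  have hca : ∀ χ : Cfsg.IrrCharacter G, conj ((χ : G → ℂ) a) = V 2 χ := fun χ => rfl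
  have hcu : ∀ χ : Cfsg.IrrCharacter G, conj ((χ : G → ℂ) u) = V 4 χ := fun χ => rfl
  have z00 := hz00 1 4 rfl; have zB1 := hz00 2 1 rfl; have zB2 := hz00 2 2 rfl
  have zB3 := hz00 2 3 rfl; have zB4 := hz00 2 4 rfl
  have zZ0 := hz00 3 0 rfl; have zZ2 := hz00 3 2 rfl; have zZ3 := hz00 3 3 rfl
  have zZ4 := hz00 3 4 rfl
  have zW0 := hz00 4 0 rfl; have zW1 := hz00 4 1 rfl; have zW3 := hz00 4 3 rfl
  have zW4 := hz00 4 4 rfl
  have zS0 := hz00 5 0 rfl; have zS1 := hz00 5 1 rfl; have zS2 := hz00 5 2 rfl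
  have zS4 := hz00 5 4 rfl
  have zY0 := hz00 6 0 rfl; have zY1 := hz00 6 1 rfl; have zY2 := hz00 6 2 rfl
  have zE0 := hz00 7 0 rfl; have zE1 := hz00 7 1 rfl; have zE2 := hz00 7 2 rfl
  have zE3 := hz00 7 3 rfl
  simp only [v, Matrix.cons_val] at z00 zB1 zB2 zB3 zB4 zZ0 zZ2 zZ3 zZ4 zW0 zW1 zW3 zW4 zS0 zS1 zS2 zS4 zY0 zY1 zY2 zE0 zE1 zE2 zE3
  have hT3Y : z 3 Y = -z 4 Y := by omega
  simp only [hca, hcu, (hval _).1, (hval _).2.1, (hval _).2.2, hone0, hone1, hone2, hone3, hone4,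
    ← hs, hQA, hRA, hTA, z00, zB1, zB2, zB3, zB4, zZ0, zZ2, zZ3, zZ4, zW0, zW1, zW3, zW4, zS0, zS1,
    zS2, zS4, zY0, zY1, zY2, zE0, zE1, zE2, zE3, hT3Y, hd1] at hEa hEu
  push_cast at hEa hEu
  have iA : (D : ℂ)⁻¹ = (s : ℂ) / d A := hsgn s hPA (d A)
  have iB : (D : ℂ)⁻¹ = -((z 0 B : ℂ) / d B) := by
    rw [show D = -(z 0 B * d B) by omega, Int.cast_neg, inv_neg, hsgn _ hPB]
  have iZ : (D : ℂ)⁻¹ = -((z 1 Z : ℂ) / d Z) := by
    rw [show D = -(z 1 Z * d Z) by omega, Int.cast_neg, inv_neg, hsgn _ hQZ]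
  have iW : ((1 + D : ℤ) : ℂ)⁻¹ = -((z 2 W : ℂ) / d W) := by
    rw [show (1 + D : ℤ) = -(z 2 W * d W) by omega, Int.cast_neg, inv_neg,
      hsgn _ (hpm 2 W (hg 2 2) hRW)]
  have iS : (S : ℂ)⁻¹ = (z 3 S₀ : ℂ) / d S₀ := hsgn _ (hpm 3 S₀ (hg 3 3) hTS) (d S₀)
  have iY : ((D + S : ℤ) : ℂ)⁻¹ = (z 4 Y : ℂ) / d Y := by
    rw [← hYD, hYd, hsgn _ (hpm 4 Y (hg 4 4) hUY)]
  have iE : ((1 + D + S : ℤ) : ℂ)⁻¹ = -((z 4 E₀ : ℂ) / d E₀) := by
    rw [← hED, hEd, Int.cast_neg, inv_neg, hsgn _ (hpm 4 E₀ (hg 4 4) hUE)]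
  have cA := hsq s hPA
  have cB := hsq (z 0 B) hPB
  have cZ := hsq (z 1 Z) hQZ
  have cW := hsq (z 2 W) (hpm 2 W (hg 2 2) hRW)
  have cS := hsq (z 3 S₀) (hpm 3 S₀ (hg 3 3) hTS)
  have cY := hsq (z 4 Y) (hpm 4 Y (hg 4 4) hUY)
  have cE := hsq (z 4 E₀) (hpm 4 E₀ (hg 4 4) hUE)
  have hGne : (Nat.card G : ℂ) ≠ 0 := card_ne_zero
  have hRa : 1 - 9 * ((1 + D : ℤ) : ℂ)⁻¹ - (S : ℂ)⁻¹ + 9 * ((D + S : ℤ) : ℂ)⁻¹ = 0 := by
    apply (mul_eq_zero.mp (show (Nat.card G : ℂ) * _ = 0 from ?_)).resolve_left hGne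
    rw [iW, iS, iY]
    have iA' : (s : ℂ) / d A = -((z 0 B : ℂ) / d B) := iA.symm.trans iB
    linear_combination -hEa + (Nat.card G : ℂ) * (4 * r) * iA' +
      (Nat.card G : ℂ) * (4 * r / (d A : ℂ)) * cA + (Nat.card G : ℂ) * (4 * r / (d B : ℂ)) * cB -
      (Nat.card G : ℂ) * (9 / (d W : ℂ)) * cW + (Nat.card G : ℂ) * (1 / (d S₀ : ℂ)) * cS -
      (Nat.card G : ℂ) * (9 / (d Y : ℂ)) * cY
  have hRu : (13824 : ℂ) = (Nat.card G : ℂ) *
      (1 + 4 * (D : ℂ)⁻¹ + (S : ℂ)⁻¹ - 16 * ((1 + D + S : ℤ) : ℂ)⁻¹) := by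
    rw [iA, iS, iE]
    have iA' : (s : ℂ) / d A = -((z 0 B : ℂ) / d B) := iA.symm.trans iB
    have iZ' : (s : ℂ) / d A = -((z 1 Z : ℂ) / d Z) := iA.symm.trans iZ
    linear_combination hEu + (Nat.card G : ℂ) * (4 / (d A : ℂ)) * cA -
      (Nat.card G : ℂ) * (4 / (d B : ℂ)) * cB + (Nat.card G : ℂ) * (4 / (d Z : ℂ)) * cZ +
      (Nat.card G : ℂ) * (1 / (d S₀ : ℂ)) * cS + (Nat.card G : ℂ) * (16 / (d E₀ : ℂ)) * cE +
      (-(Nat.card G : ℂ) * 4) * iA' + (Nat.card G : ℂ) * 4 * iZ'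
  -- integrality
  have hD0 : D ≠ 0 := mul_ne_zero hs0 (hdpos A).ne'
  have hD1 : (1 + D : ℤ) ≠ 0 := by
    intro h
    have h' : z 2 W * d W = 0 := by omega
    rcases mul_eq_zero.mp h' with e | e
    · exact hRW e
    · exact absurd e (hdpos W).ne'
  have hS0 : S ≠ 0 := mul_ne_zero hTS (hdpos S₀).ne'
  have hDS : (D + S : ℤ) ≠ 0 := hYD ▸ mul_ne_zero hUY (hdpos Y).ne'
  have hE0 : (1 + D + S : ℤ) ≠ 0 := hED ▸ neg_ne_zero.mpr (mul_ne_zero hUE (hdpos E₀).ne')
  have c1 : ((1 + D : ℤ) : ℂ) ≠ 0 := Int.cast_ne_zero.mpr hD1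
  have c2 : (S : ℂ) ≠ 0 := Int.cast_ne_zero.mpr hS0
  have c3 : ((D + S : ℤ) : ℂ) ≠ 0 := Int.cast_ne_zero.mpr hDS
  have c4 : ((1 + D + S : ℤ) : ℂ) ≠ 0 := Int.cast_ne_zero.mpr hE0
  have c5 : (D : ℂ) ≠ 0 := Int.cast_ne_zero.mpr hD0
  push_cast at c1 c3 c4 hRa hRu
  have hrel : (S - 1) * ((1 + D) * (D + S) - 9 * S) = 0 := by
    apply Int.cast_injective (α := ℂ)
    push_cast
    field_simp at hRa
    linear_combination hRa
  have hS1 : S ≠ 1 := by
    intro h
    have hdS : d S₀ = 1 := by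
      have h' : (z 3 S₀).natAbs * d S₀ = 1 := by
        have := congrArg Int.natAbs h
        rwa [hS, Int.natAbs_mul, Int.natAbs_natCast, Int.natAbs_one] at this
      exact Nat.eq_one_of_mul_eq_one_left h'
    refine hS₀1 (Subtype.ext ?_)
    obtain ⟨φ, hφ⟩ := exists_hom_of_apply_one_eq_one (isCharacter_irr S₀)
      (by rw [hd, hdS, Nat.cast_one])
    funext g
    have hg' : g ∈ φ.ker := Abelianization.commutator_subset_ker φ (hperf ▸ Subgroup.mem_top g)
    rw [hφ]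
    show (φ g : ℂ) = 1
    rw [MonoidHom.mem_ker.mp hg', Units.val_one]
  have hrel' : S * (8 - D) = D * (D + 1) := by
    have := (mul_eq_zero.mp hrel).resolve_left (by omega)
    linear_combination -this
  obtain ⟨k, hk, hkodd⟩ := hodd
  have hEq : (Nat.card G : ℤ) * (D * S * (1 + D + S) + 4 * S * (1 + D + S) + D * (1 + D + S) -
      16 * D * S) = 13824 * (D * S * (1 + D + S)) := by
    apply Int.cast_injective (α := ℂ)
    push_cast
    rw [hRu]
    field_simp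
  have h8 : (8 - D : ℤ) ≠ 0 := by
    intro h
    rw [h, mul_zero] at hrel'
    rcases mul_eq_zero.mp hrel'.symm with e | e <;> omega
  have hkey : (k : ℤ) * (D - 2) ^ 2 = 288 * D * (D + 1) := by
    have e1 : (1 + D + S) * (8 - D) = 8 * (D + 1) := by linear_combination hrel'
    have h2 : (Nat.card G : ℤ) * (D * (D * (D + 1)) * (8 * (D + 1)) +
        4 * (D * (D + 1)) * (8 * (D + 1)) + D * (8 * (D + 1)) * (8 - D) -
        16 * D * (D * (D + 1)) * (8 - D)) = 13824 * (D * (D * (D + 1)) * (8 * (D + 1))) := by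
      rw [← e1, ← hrel']
      linear_combination (8 - D) ^ 2 * hEq
    rw [hk] at h2
    push_cast at h2
    refine mul_left_cancel₀ (show (16 * 24 * (D * (D + 1)) : ℤ) ≠ 0 from
      mul_ne_zero (by norm_num) (mul_ne_zero hD0 (by omega))) ?_
    linear_combination h2
  have hdvd : (8 - D) ∣ 72 := ⟨S + D + 9, by linear_combination -hrel'⟩
  have hb := Int.le_of_dvd (by norm_num) hdvd
  have hb' := Int.le_of_dvd (by norm_num) ((neg_dvd).mpr hdvd)
  have hD2 : D - 2 ≠ 0 := by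
    intro h
    rw [show D = 2 by omega] at hkey
    norm_num at hkey
  have hp2 : ((D - 2) ^ 2 : ℤ) ≠ 0 := pow_ne_zero _ hD2
  have hquot : 288 * D * (D + 1) / (D - 2) ^ 2 = (k : ℤ) := by
    rw [← hkey, Int.mul_ediv_cancel _ hp2]
  have hk2 : (k : ℤ) % 2 = 1 := by
    have := Nat.odd_iff.mp hkodd
    omega
  rcases solutions D (Finset.mem_Icc.mpr ⟨by omega, by omega⟩) hdvd
    ⟨k, by linear_combination -hkey⟩ (hquot ▸ hk2) with e | e <;> rw [e] at hkey <;>
    norm_num at hkey <;> omega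

end GLTwoThree

end CfsgLib.Char
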