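import Cfsg.Agent.Lib.Char.CliffordCorr
import Cfsg.Agent.Lib.CharDeep.Galois.CharAut
import Cfsg.Agent.Lib.CharDeep.Clifford
import Mathlib.GroupTheory.Coset.Card

/-!
# Determinants over a normal subgroup inside the derived subgroup

Determinantal characters of sums, and characters lying over linear characters of a normal subgroup.
-/

set_option autoImplicit false

open scoped ComplexConjugate

namespace CfsgLib.Char.LinearOverNormal

open CfsgLib

universe u

section Pow

variable {H : Type*} [Group H] (x y : H →* ℂˣ)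

theorem lp_zero : x ^ 0 = 1 := by ext n; simp

theorem lp_one : x ^ 1 = x := by ext n; simp

theorem lp_succ (k : ℕ) : x ^ (k + 1) = x ^ k * x := by ext n; simp [pow_succ]

theorem lp_mul (a b : ℕ) : x ^ (a * b) = (x ^ a) ^ b := by ext n; simp [pow_mul]

theorem lp_one_pow (a : ℕ) : (1 : H →* ℂˣ) ^ a = 1 := by ext n; simp

theorem lp_mul_pow (a : ℕ) : (x * y) ^ a = x ^ a * y ^ a := by ext n; simp [mul_pow]

theorem lp_add (a b : ℕ) : x ^ (a + b) = x ^ a * x ^ b := by ext n; simp [pow_add]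

theorem lp_sum {ι : Type*} (s : Finset ι) (m : ι → ℕ) : x ^ (∑ i ∈ s, m i) = ∏ i ∈ s, x ^ m i := by
  classical
  induction s using Finset.induction_on with
  | empty => rw [Finset.sum_empty, Finset.prod_empty, lp_zero]
  | insert a s ha ih => rw [Finset.sum_insert ha, Finset.prod_insert ha, lp_add, ih]

theorem lp_prod {ι : Type*} (s : Finset ι) (F : ι → (H →* ℂˣ)) (a : ℕ) :
    (∏ i ∈ s, F i) ^ a = ∏ i ∈ s, F i ^ a := by
  classical
  induction s using Finset.induction_on with
  | empty => rw [Finset.prod_empty, Finset.prod_empty, lp_one_pow]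
  | insert c s hc ih => rw [Finset.prod_insert hc, Finset.prod_insert hc, lp_mul_pow, ih]

end Pow

section Det

variable {G : Type u} [Group G] [Finite G]

theorem detChar_add {χ ψ : G → ℂ} (hχ : Cfsg.IsCharacter G χ) (hψ : Cfsg.IsCharacter G ψ) :
    Cfsg.detChar (χ + ψ) = Cfsg.detChar χ * Cfsg.detChar ψ := by
  obtain ⟨n, ρ, rfl⟩ := hχ
  obtain ⟨m, σ, rfl⟩ := hψ
  rw [CharDeep.Galois.detChar_of_rep (ρ.prod σ) _
      (IsCharacter.add ⟨n, ρ, rfl⟩ ⟨m, σ, rfl⟩) (char_prod ρ σ),
    CharDeep.Galois.detChar_of_rep ρ _ ⟨n, ρ, rfl⟩ rfl,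
    CharDeep.Galois.detChar_of_rep σ _ ⟨m, σ, rfl⟩ rfl]
  funext g
  exact LinearMap.det_prodMap (ρ g) (σ g)

theorem detChar_zero : Cfsg.detChar (0 : G → ℂ) = 1 := by
  obtain ⟨n, ρ, h⟩ := (isCharacter_zero (G := G))
  rw [CharDeep.Galois.detChar_of_rep ρ _ isCharacter_zero h]
  have hn : n = 0 := by
    have := congrFun h 1
    rw [Representation.char_one, Module.finrank_fin_fun, Pi.zero_apply] at this
    exact_mod_cast this
  subst hn
  funext g
  exact LinearMap.det_eq_one_of_subsingleton _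

theorem exists_detHom {χ : G → ℂ} (hχ : Cfsg.IsCharacter G χ) :
    ∃ δ : G →* ℂˣ, Cfsg.detChar χ = fun g => (δ g : ℂ) := by
  obtain ⟨n, ρ, rfl⟩ := hχ
  exact ⟨CharDeep.DetExt.detHom ρ, CharDeep.Galois.detChar_of_rep ρ _ ⟨n, ρ, rfl⟩ rfl⟩

/-- The determinant of a character, as a homomorphism. -/
noncomputable def det {χ : G → ℂ} (hχ : Cfsg.IsCharacter G χ) : G →* ℂˣ :=
  Classical.choose (exists_detHom hχ)

theorem coe_det {χ : G → ℂ} (hχ : Cfsg.IsCharacter G χ) :
    Cfsg.detChar χ = fun g => (det hχ g : ℂ) :=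
  Classical.choose_spec (exists_detHom hχ)

theorem det_congr {χ ψ : G → ℂ} (hχ : Cfsg.IsCharacter G χ) (hψ : Cfsg.IsCharacter G ψ) (h : χ = ψ) :
    det hχ = det hψ := by subst h; rfl

theorem det_add {χ ψ : G → ℂ} (hχ : Cfsg.IsCharacter G χ) (hψ : Cfsg.IsCharacter G ψ)
    (h : Cfsg.IsCharacter G (χ + ψ)) : det h = det hχ * det hψ := by
  refine MonoidHom.ext fun g => Units.ext ?_
  have := congrFun (detChar_add hχ hψ) g
  rw [Pi.mul_apply, congrFun (coe_det h) g, congrFun (coe_det hχ) g, congrFun (coe_det hψ) g] at this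
  exact this

theorem det_zero (h : Cfsg.IsCharacter G (0 : G → ℂ)) : det h = 1 := by
  refine MonoidHom.ext fun g => Units.ext ?_
  have := congrFun (detChar_zero (G := G)) g
  rw [congrFun (coe_det h) g] at this
  exact this

theorem det_nsmul {χ : G → ℂ} (hχ : Cfsg.IsCharacter G χ) : ∀ (k : ℕ) (h : Cfsg.IsCharacter G (k • χ)),
    det h = det hχ ^ k := by
  intro k
  induction k with
  | zero => intro h; rw [lp_zero, det_congr h isCharacter_zero (zero_nsmul χ), det_zero]
  | succ k ih =>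
    intro h
    have hk := IsCharacter.nsmul hχ k
    rw [det_congr h (IsCharacter.add hk hχ) (succ_nsmul χ k), det_add hk hχ, ih hk, lp_succ]

theorem det_sum {ι : Type*} (s : Finset ι) (f : ι → G → ℂ) (hf : ∀ i, Cfsg.IsCharacter G (f i))
    (h : Cfsg.IsCharacter G (∑ i ∈ s, f i)) : det h = ∏ i ∈ s, det (hf i) := by
  classical
  induction s using Finset.induction_on with
  | empty => rw [Finset.prod_empty, det_congr h isCharacter_zero Finset.sum_empty, det_zero]
  | insert a s ha ih =>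
    have hs := isCharacter_sum s f fun i _ => hf i
    rw [det_congr h (IsCharacter.add (hf a) hs) (Finset.sum_insert ha), det_add (hf a) hs, ih hs,
      Finset.prod_insert ha]

theorem det_comp {H : Type u} [Group H] [Finite H] {χ : G → ℂ} (hχ : Cfsg.IsCharacter G χ) (f : H →* G)
    (h : Cfsg.IsCharacter H (χ ∘ f)) : det h = (det hχ).comp f := by
  obtain ⟨n, ρ, rfl⟩ := id hχ
  refine MonoidHom.ext fun g => Units.ext ?_
  have e1 := congrFun (coe_det h) g
  rw [CharDeep.Galois.detChar_of_rep (ρ.comp f) (ρ.character ∘ f) h rfl] at e1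
  have e2 := congrFun (coe_det hχ) (f g)
  rw [CharDeep.Galois.detChar_of_rep ρ ρ.character hχ rfl] at e2
  exact e1.symm.trans e2

theorem det_linear (φ : G →* ℂˣ) (h : Cfsg.IsCharacter G fun g => (φ g : ℂ)) : det h = φ := by
  refine MonoidHom.ext fun g => Units.ext ?_
  have e1 := congrFun (coe_det h) g
  rw [CharDeep.Galois.detChar_of_rep (linRep φ) _ h (linRep_character φ)] at e1
  exact e1.symm.trans (LinearMap.det_ring _ |>.trans (by simp [linRep]))

theorem det_mul_linear {χ : G → ℂ} (hχ : Cfsg.IsCharacter G χ) (φ : G →* ℂˣ) {d : ℕ} (hd : χ 1 = d)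
    (h : Cfsg.IsCharacter G (χ * fun g => (φ g : ℂ))) : det h = det hχ * φ ^ d := by
  obtain ⟨n, ρ, rfl⟩ := id hχ
  have hn : n = d := by
    rw [Representation.char_one, Module.finrank_fin_fun] at hd
    exact_mod_cast hd
  subst hn
  refine MonoidHom.ext fun g => Units.ext ?_
  have e1 := congrFun (coe_det h) g
  rw [CharDeep.Galois.detChar_of_rep (CharDeep.DetExt.twistHom ρ φ) _ h (funext fun x => by
    show LinearMap.trace ℂ _ ((φ x : ℂ) • ρ x) = _
    rw [map_smul, smul_eq_mul, mul_comm]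
    rfl)] at e1
  have e2 := congrFun (coe_det hχ) g
  rw [CharDeep.Galois.detChar_of_rep ρ ρ.character hχ rfl] at e2
  refine e1.symm.trans ?_
  show LinearMap.det ((φ g : ℂ) • ρ g) = _
  rw [LinearMap.det_smul, Module.finrank_fin_fun, MonoidHom.mul_apply, Units.val_mul, ← e2, mul_comm]
  simp

end Det

section Over

variable {G : Type u} [Group G] [Fintype G] {N : Subgroup G} [hN : N.Normal] [Fintype N]

/-- A linear character as a class function. -/
abbrev fn {H : Type*} [Group H] (μ : H →* ℂˣ) : H → ℂ := fun x => (μ x : ℂ)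

/-- `χ` lies over `θ`. -/
def Over (χ : G → ℂ) (θ : N → ℂ) : Prop := Cfsg.classInner (fun n : N => χ n) θ ≠ 0

/-- The conjugate of a linear character. -/
noncomputable def cj (g : G) (μ : N →* ℂˣ) : N →* ℂˣ := μ.comp (MulAut.conjNormal g : MulAut N).toMonoidHom

omit [Fintype G] [Fintype N] in
theorem fn_cj (g : G) (μ : N →* ℂˣ) : fn (cj g μ) = conjG (fn μ) g := by
  rw [conjG_eq_comp]
  rfl

omit [Fintype G] [Fintype N] in
theorem mem_stab_fn {g : G} {μ : N →* ℂˣ} : g ∈ stab (fn μ) ↔ cj g μ = μ := by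
  rw [mem_stab, ← fn_cj]
  exact coe_hom_injective.eq_iff

omit [Fintype G] [Fintype N] in
theorem cj_mul (g : G) (μ ν : N →* ℂˣ) : cj g (μ * ν) = cj g μ * cj g ν := rfl

omit [Fintype G] [Fintype N] in
theorem cj_pow (g : G) (μ : N →* ℂˣ) (k : ℕ) : cj g (μ ^ k) = cj g μ ^ k := by
  ext x
  simp [cj]

omit [Fintype G] [Fintype N] in
theorem cj_comp (x y : G) (μ : N →* ℂˣ) : cj (x * y) μ = cj y (cj x μ) := by
  ext n; simp [cj]

omit [Fintype G] [Fintype N] in
theorem cj_one (μ : N →* ℂˣ) : cj (1 : G) μ = μ := by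
  ext n; simp [cj]

omit [Fintype G] [Fintype N] in
theorem stab_le_pow (μ : N →* ℂˣ) (k : ℕ) : stab (G := G) (fn μ) ≤ stab (fn (μ ^ k)) := fun g hg => by
  rw [mem_stab_fn] at hg ⊢
  rw [cj_pow, hg]

theorem det_conjG {θ : N → ℂ} (hθ : Cfsg.IsCharacter N θ) (g : G) (h : Cfsg.IsCharacter N (conjG θ g)) :
    det h = cj g (det hθ) := by
  have h' : Cfsg.IsCharacter N (θ ∘ (MulAut.conjNormal g : MulAut N).toMonoidHom) :=
    IsCharacter.comp hθ _
  rw [det_congr h h' (conjG_eq_comp θ g), det_comp hθ _ h']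
  rfl

theorem stab_le_stab_det {θ : N → ℂ} (hθ : Cfsg.IsCharacter N θ) :
    stab (G := G) θ ≤ stab (fn (det hθ)) := fun g hg => by
  have h : Cfsg.IsCharacter N (conjG θ g) := by rw [mem_stab.1 hg]; exact hθ
  rw [mem_stab_fn, ← det_conjG hθ g h]
  exact det_congr h hθ (mem_stab.1 hg)

theorem exists_over {θ : N → ℂ} (hθ : Cfsg.IsIrrCharacter N θ) :
    ∃ χ : G → ℂ, Cfsg.IsIrrCharacter G χ ∧ Over χ θ := by
  have hI : Cfsg.IsCharacter G (Cfsg.indFun N θ) := IsCharacter.indFun N (IsIrrCharacter.isCharacter hθ)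
  obtain ⟨χ, hχ, hne⟩ := IsCharacter.exists_constituent hI fun h0 => by
    have h1 := indFun_one N θ
    rw [h0, Pi.zero_apply] at h1
    exact mul_ne_zero (Nat.cast_ne_zero.mpr N.index_ne_zero_of_finite)
      (IsIrrCharacter.apply_one_ne_zero hθ) h1.symm
  refine ⟨χ, hχ, ?_⟩
  rw [Over, IsCharacter.classInner_comm (IsCharacter.restrict (IsIrrCharacter.isCharacter hχ) N)
    (IsIrrCharacter.isCharacter hθ), ← classInner_indFun N θ (IsIrrCharacter.isClassFunction hχ)]
  exact hne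

theorem index_stab_mul_dvd {χ : G → ℂ} (hχ : Cfsg.IsIrrCharacter G χ) {θ : N → ℂ}
    (hθ : Cfsg.IsIrrCharacter N θ) (h : Over χ θ) {d k : ℕ} (hd : χ 1 = d) (hk : θ 1 = k) :
    (stab (G := G) θ).index * k ∣ d := by
  have h1 := CharDeep.Clifford.apply_one_eq hχ hθ h (stab θ) (fun g => isInertia_stab θ g)
  obtain ⟨e, he⟩ := IsCharacter.classInner_nat (IsCharacter.restrict (IsIrrCharacter.isCharacter hχ) N)
    (IsIrrCharacter.isCharacter hθ)
  rw [hd, he, hk] at h1
  have h2 : d = (stab (G := G) θ).index * e * k := by exact_mod_cast h1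
  exact ⟨e, by rw [h2]; ring⟩

/-- If a power of the determinant of `θ` is invariant, its order divides the degree of every character
over `θ` (here `N` is inside the derived subgroup). -/
theorem det_pow_pow_eq_one (hNG : N ≤ commutator G) {χ : G → ℂ} (hχ : Cfsg.IsIrrCharacter G χ)
    {θ : N → ℂ} (hθ : Cfsg.IsIrrCharacter N θ) (h : Over χ θ) {d : ℕ} (hd : χ 1 = d) (s : ℕ)
    (hinv : ∀ g : G, cj g (det (IsIrrCharacter.isCharacter hθ) ^ s) = det (IsIrrCharacter.isCharacter hθ) ^ s) :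
    (det (IsIrrCharacter.isCharacter hθ) ^ s) ^ d = 1 := by
  classical
  have hχc := IsIrrCharacter.isCharacter hχ
  set δ := det (IsIrrCharacter.isCharacter hθ) with hδ
  have hres : Cfsg.IsCharacter N (χ ∘ N.subtype) := IsCharacter.comp hχc _
  have htriv : det hres = 1 := by
    rw [det_comp hχc]
    refine MonoidHom.ext fun x => ?_
    exact (Abelianization.commutator_subset_ker (det hχc) (hNG x.2))
  obtain ⟨m, hm, hsum⟩ := IsCharacter.exists_multiplicity hres
  obtain ⟨k, -, hk⟩ := IsIrrCharacter.apply_one_eq hθ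
  have hφ : ∀ φ : Cfsg.IrrCharacter N, m φ ≠ 0 →
      det (isCharacter_irr φ) ^ s = δ ^ s ∧ (φ : N → ℂ) 1 = k := by
    intro φ hne
    obtain ⟨g, hg⟩ := CharDeep.Clifford.exists_conj_of_constituent N hχ hθ φ.2 h (by
      rw [show (fun n : N => χ n) = χ ∘ N.subtype from rfl, hm φ]
      exact_mod_cast hne)
    have e : (φ : N → ℂ) = conjG θ g := by
      rw [hg, conjG_eq_comp]; rfl
    refine ⟨?_, ?_⟩
    · rw [det_congr (isCharacter_irr φ) (e ▸ isCharacter_irr φ) e, det_conjG (IsIrrCharacter.isCharacter hθ),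
        ← cj_pow, hinv]
    · rw [e, conjG_apply, ← hk]
      exact congrArg θ (Subtype.ext (by simp))
  have heq : χ ∘ N.subtype = ∑ φ : Cfsg.IrrCharacter N, m φ • (φ : N → ℂ) := by
    funext x
    rw [hsum x, Finset.sum_apply]
    simp
  have hdet : det hres = ∏ φ : Cfsg.IrrCharacter N, det (isCharacter_irr φ) ^ m φ := by
    rw [det_congr hres (heq ▸ hres) heq,
      det_sum _ _ (fun φ => IsCharacter.nsmul (isCharacter_irr φ) (m φ))]
    exact Finset.prod_congr rfl fun φ _ => det_nsmul _ _ _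
  have hM : (1 : N →* ℂˣ) = (δ ^ s) ^ (∑ φ : Cfsg.IrrCharacter N, m φ) := by
    rw [lp_sum, ← lp_one_pow (H := N) s, ← htriv, hdet, lp_prod]
    refine Finset.prod_congr rfl fun φ _ => ?_
    rcases eq_or_ne (m φ) 0 with h0 | h0
    · rw [h0, lp_zero, lp_zero, lp_one_pow]
    · rw [← lp_mul, mul_comm, lp_mul, (hφ φ h0).1]
  have hdeg : d = (∑ φ : Cfsg.IrrCharacter N, m φ) * k := by
    have h1 := hsum 1
    rw [Function.comp_apply, map_one, hd] at h1
    have h2 : (d : ℂ) = (((∑ φ : Cfsg.IrrCharacter N, m φ) * k : ℕ) : ℂ) := by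
      rw [h1, Nat.cast_mul, Nat.cast_sum, Finset.sum_mul]
      refine Finset.sum_congr rfl fun φ _ => ?_
      rcases eq_or_ne (m φ) 0 with h0 | h0
      · simp [h0]
      · rw [(hφ φ h0).2]
    exact_mod_cast h2
  rw [hdeg, lp_mul, ← hM, lp_one_pow]

/-- A linear character of prime order `r` with a character of `r'`-degree over it is not invariant. -/
theorem one_lt_index_stab (hNG : N ≤ commutator G) {μ : N →* ℂˣ} {r : ℕ} (hμ : orderOf μ = r)
    {χ : G → ℂ} (hχ : Cfsg.IsIrrCharacter G χ) (h : Over χ (fn μ)) {d : ℕ} (hd : χ 1 = d)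
    (hrd : ¬ r ∣ d) : 1 < (stab (G := G) (fn μ)).index := by
  rcases Nat.lt_or_ge 1 (stab (G := G) (fn μ)).index with h1 | h1
  · exact h1
  exfalso
  refine hrd ?_
  have htop : stab (G := G) (fn μ) = ⊤ := Subgroup.index_eq_one.1
    (le_antisymm h1 (Nat.one_le_iff_ne_zero.2 Subgroup.index_ne_zero_of_finite))
  have e := det_linear μ (IsIrrCharacter.isCharacter (isIrrCharacter_hom μ))
  have h2 := det_pow_pow_eq_one hNG hχ (isIrrCharacter_hom μ) h hd 1 fun g => by
    rw [e, lp_one]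
    exact mem_stab_fn.1 (htop ▸ Subgroup.mem_top g)
  rw [e, lp_one] at h2
  exact hμ ▸ orderOf_dvd_of_pow_eq_one h2

theorem exists_constituent_not_dvd {H : Type u} [Group H] [Fintype H] {X : H → ℂ}
    (hX : Cfsg.IsCharacter H X) {k : ℕ} (hk : X 1 = k) {r : ℕ} (hrk : ¬ r ∣ k) :
    ∃ (ξ : H → ℂ) (f : ℕ), Cfsg.IsIrrCharacter H ξ ∧ Cfsg.classInner X ξ ≠ 0 ∧ ξ 1 = f ∧ ¬ r ∣ f := by
  classical
  obtain ⟨m, hm, hsum⟩ := IsCharacter.exists_multiplicity hX
  choose f hf0 hf using fun φ : Cfsg.IrrCharacter H => IsIrrCharacter.apply_one_eq φ.2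
  by_contra hcon
  push Not at hcon
  refine hrk ?_
  have h2 : k = ∑ φ : Cfsg.IrrCharacter H, m φ * f φ := by
    have h1 := hsum 1
    rw [hk] at h1
    simp only [hf] at h1
    exact_mod_cast h1
  rw [h2]
  refine Finset.dvd_sum fun φ _ => ?_
  rcases eq_or_ne (m φ) 0 with h0 | h0
  · simp [h0]
  · exact Dvd.dvd.mul_left (hcon φ (f φ) φ.2 (by rw [hm φ]; exact_mod_cast h0) (hf φ)) _

/-- From `r'`-degree over `θ` with `r` dividing the determinantal order, a linear character of order `r`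
with `r'`-degree over it, whose index of stabiliser shares with the degree. -/
theorem exists_linear_of_det {χ : G → ℂ} (hχ : Cfsg.IsIrrCharacter G χ) {θ : N → ℂ}
    (hθ : Cfsg.IsIrrCharacter N θ) (h : Over χ θ) {d : ℕ} (hd : χ 1 = d) {r : ℕ} (hr : r.Prime)
    (hrd : ¬ r ∣ d) (hδ : r ∣ orderOf (det (IsIrrCharacter.isCharacter hθ))) :
    ∃ (μ : N →* ℂˣ) (ξ : G → ℂ) (f : ℕ), orderOf μ = r ∧ Cfsg.IsIrrCharacter G ξ ∧ Over ξ (fn μ) ∧
      ξ 1 = f ∧ ¬ r ∣ f ∧ (stab (G := G) (fn μ)).index ∣ d := by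
  classical
  have hθc := IsIrrCharacter.isCharacter hθ
  set δ := det hθc with hδdef
  set S := stab (G := G) θ with hS
  have hNS : N ≤ S := le_stab (IsIrrCharacter.isClassFunction hθ)
  obtain ⟨ψ, hψ, hc, he⟩ := exists_eq_indFun_inertia hNS hθ (isInertia_stab θ) hχ h
  obtain ⟨e, hce⟩ := IsCharacter.classInner_nat (IsCharacter.resLe hNS (IsIrrCharacter.isCharacter hψ)) hθc
  have hψ1 := apply_one_inertia hNS hθ (isInertia_stab θ) hψ hc
  obtain ⟨k, -, hk⟩ := IsIrrCharacter.apply_one_eq hθ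
  have hdek : d = S.index * e * k := by
    have h1 := indFun_one S ψ
    rw [← he, hd, hψ1, hce, hk, ← mul_assoc] at h1
    exact_mod_cast h1
  have hre : ¬ r ∣ e := fun hh => hrd (hdek ▸ Dvd.dvd.mul_right (Dvd.dvd.mul_left hh _) _)
  have hrS : ¬ r ∣ S.index := fun hh => hrd (hdek ▸ Dvd.dvd.mul_right (Dvd.dvd.mul_right hh _) _)
  -- the restriction of `ψ` is `e • θ`
  have hresψ : resLe hNS ψ = e • θ := by
    obtain ⟨m, hm, hsum⟩ := IsCharacter.exists_multiplicity
      (IsCharacter.resLe hNS (IsIrrCharacter.isCharacter hψ))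
    have hmθ : m ⟨θ, hθ⟩ = e := by
      have := hm ⟨θ, hθ⟩
      rw [hce] at this
      exact_mod_cast this.symm
    choose f hf0 hf using fun φ : Cfsg.IrrCharacter N => IsIrrCharacter.apply_one_eq φ.2
    have hfθ : f ⟨θ, hθ⟩ = k := by
      have : θ 1 = (f ⟨θ, hθ⟩ : ℂ) := hf ⟨θ, hθ⟩
      rw [hk] at this
      exact_mod_cast this.symm
    have htot : ∑ φ : Cfsg.IrrCharacter N, m φ * f φ = e * k := by
      have h1 := hsum 1
      simp only [hf] at h1
      have h2 : resLe hNS ψ 1 = ψ 1 := rfl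
      rw [h2, hψ1, hce, hk] at h1
      exact_mod_cast h1.symm
    have hzero : ∀ φ : Cfsg.IrrCharacter N, φ ≠ ⟨θ, hθ⟩ → m φ = 0 := by
      intro φ hne
      have h1 : m ⟨θ, hθ⟩ * f ⟨θ, hθ⟩ + ∑ x ∈ Finset.univ.erase (⟨θ, hθ⟩ : Cfsg.IrrCharacter N), m x * f x =
          ∑ x : Cfsg.IrrCharacter N, m x * f x :=
        Finset.add_sum_erase Finset.univ (fun φ => m φ * f φ) (Finset.mem_univ _)
      rw [htot, hmθ, hfθ] at h1
      have h2 : ∑ x ∈ Finset.univ.erase (⟨θ, hθ⟩ : Cfsg.IrrCharacter N), m x * f x = 0 := by omega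
      have h3 := (Finset.sum_eq_zero_iff.1 h2) φ (Finset.mem_erase.2 ⟨hne, Finset.mem_univ φ⟩)
      exact (Nat.mul_eq_zero.1 h3).resolve_right (hf0 φ).ne'
    funext x
    rw [hsum x, Finset.sum_eq_single (⟨θ, hθ⟩ : Cfsg.IrrCharacter N) (fun φ _ hne => by simp [hzero φ hne])
      (fun hh => absurd (Finset.mem_univ _) hh), hmθ]
    simp
  set ε := det (IsIrrCharacter.isCharacter hψ) with hε
  have hεres : ε.comp (Subgroup.inclusion hNS) = δ ^ e := by
    rw [← det_comp (IsIrrCharacter.isCharacter hψ) _ (IsCharacter.comp (IsIrrCharacter.isCharacter hψ) _),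
      ← det_nsmul hθc e (IsCharacter.nsmul hθc e)]
    exact det_congr _ _ hresψ
  set s := orderOf δ / r with hs
  set μ : N →* ℂˣ := δ ^ (e * s) with hμdef
  have hμ : orderOf μ = r := by
    have hpos : orderOf δ ≠ 0 := (orderOf_pos δ).ne'
    have h1 : orderOf (δ ^ s) = r := orderOf_pow_orderOf_div hpos hδ
    rw [hμdef, mul_comm, lp_mul, Nat.Coprime.orderOf_pow, h1]
    rw [h1]
    exact hr.coprime_iff_not_dvd.2 hre
  have hSμ : S ≤ stab (fn μ) := (stab_le_stab_det hθc).trans (stab_le_pow δ _)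
  -- induce a linear character of `S` restricting to `μ`
  set ω : S →* ℂˣ := ε ^ s with hω
  have hωres : ∀ x : N, ω ⟨x, hNS x.2⟩ = μ x := by
    intro x
    have := DFunLike.congr_fun hεres x
    rw [hμdef, lp_mul, hω]
    simp only [MonoidHom.pow_apply] at this ⊢
    exact congrArg (· ^ s) this
  have hX : Cfsg.IsCharacter G (Cfsg.indFun S (fn ω)) := IsCharacter.indFun S (isCharacter_hom ω)
  obtain ⟨ξ, f, hξ, hne, hf, hrf⟩ := exists_constituent_not_dvd hX (k := S.index)
    (by rw [indFun_one]; simp [fn]) hrS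
  obtain ⟨φ, hφ, hφne⟩ := IsCharacter.exists_constituent
    (IsCharacter.restrict (IsIrrCharacter.isCharacter hξ) N) (fun h0 => IsIrrCharacter.apply_one_ne_zero hξ
      (congrFun h0 1))
  have hXφ : Cfsg.classInner (fun n : N => Cfsg.indFun S (fn ω) n) φ ≠ 0 :=
    CharDeep.Clifford.classInner_ne_zero_trans hX hξ hne N.subtype (IsIrrCharacter.isCharacter hφ) hφne
  obtain ⟨g, hg⟩ : ∃ g : G, φ = conjG (fn μ) g := by
    by_contra hno
    push Not at hno
    refine hXφ ?_
    have hval : (fun n : N => Cfsg.indFun S (fn ω) n) =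
        (Nat.card S : ℂ)⁻¹ • ∑ g : G, conjG (fn μ) g⁻¹ := by
      funext n
      rw [indFun_def, Pi.smul_apply, smul_eq_mul, Finset.sum_apply]
      congr 1
      refine Finset.sum_congr rfl fun g _ => ?_
      have hmem : g⁻¹ * (n : G) * g ∈ N := by
        simpa using hN.conj_mem (n : G) n.2 g⁻¹
      rw [extendByZero_apply_mem S _ (hNS hmem), conjG_apply]
      show (ω ⟨_, hNS hmem⟩ : ℂ) = _
      rw [hωres ⟨_, hmem⟩]
      simp [fn]
    rw [hval]
    simp only [Cfsg.classInner, Pi.smul_apply, smul_eq_mul, Finset.sum_apply]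
    rw [mul_eq_zero]; right
    simp only [mul_assoc, ← Finset.mul_sum, mul_eq_zero]; right
    simp only [Finset.sum_mul]
    rw [Finset.sum_comm]
    refine Finset.sum_eq_zero fun g _ => ?_
    have h0 := classInner_irr_ne (IsIrrCharacter.conjG (isIrrCharacter_hom μ) g⁻¹) hφ
      (fun e => hno g⁻¹ e.symm)
    rw [Cfsg.classInner, mul_eq_zero] at h0
    exact h0.resolve_left (inv_ne_zero (by exact_mod_cast Nat.card_pos.ne'))
  refine ⟨μ, ξ, f, hμ, hξ, ?_, hf, hrf, ?_⟩
  · rw [Over, ← classInner_conjG _ _ g, conjG_coe (IsIrrCharacter.isClassFunction hξ), ← hg]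
    exact hφne
  · exact (Subgroup.index_dvd_of_le hSμ).trans (hdek ▸ Dvd.dvd.mul_right (Dvd.intro e rfl) _)

/-- Two linear characters of order `r` with stabilisers of coprime `r'`-index: the product's index
shares a factor with both. -/
theorem not_coprime_index_mul {μ ν : N →* ℂˣ} {r : ℕ} (hr : r.Prime) (hμ : orderOf μ = r)
    (hν : orderOf ν = r) (hμ1 : 1 < (stab (G := G) (fn μ)).index) (hrν : ¬ r ∣ (stab (G := G) (fn ν)).index)
    (hcop : ((stab (G := G) (fn μ)).index).Coprime (stab (G := G) (fn ν)).index) :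
    ¬ ((stab (G := G) (fn μ)).index).Coprime (stab (G := G) (fn (μ * ν))).index := by
  classical
  intro hc
  set A := stab (G := G) (fn μ) with hA
  set B := stab (G := G) (fn ν) with hB
  set C := stab (G := G) (fn (μ * ν)) with hC
  have hAB : A ⊓ B ≤ C := fun g hg => by
    rw [hC, mem_stab_fn, cj_mul, mem_stab_fn.1 hg.1, mem_stab_fn.1 hg.2]
  have hABi : (A ⊓ B).index ∣ A.index * B.index := by
    have h1 : A.index ∣ (A ⊓ B).index := Subgroup.index_dvd_of_le inf_le_left
    have h2 : B.index ∣ (A ⊓ B).index := Subgroup.index_dvd_of_le inf_le_right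
    have h3 := hcop.mul_dvd_of_dvd_of_dvd h1 h2
    have h4 : (A ⊓ B).index ≤ A.index * B.index := Subgroup.index_inf_le
    rw [le_antisymm h4 (Nat.le_of_dvd (Nat.pos_of_ne_zero Subgroup.index_ne_zero_of_finite) h3)]
  have hCB : C.index ∣ B.index :=
    (Nat.Coprime.symm hc).dvd_of_dvd_mul_left ((Subgroup.index_dvd_of_le hAB).trans hABi)
  -- every pair of conjugates is a simultaneous conjugate
  have hprod : ∀ g : G, ∃ a ∈ A, ∃ b ∈ B, g = a * b := by
    intro g
    have hcard : Nat.card (G ⧸ B) ≤ Nat.card (A ⧸ B.subgroupOf A) := by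
      show B.index ≤ B.relIndex A
      have h1 : B.relIndex A * A.index = (A ⊓ B).index := by
        rw [← Subgroup.inf_relIndex_left, Subgroup.relIndex_mul_index inf_le_left]
      have h3 := hcop.mul_dvd_of_dvd_of_dvd (Subgroup.index_dvd_of_le (inf_le_left : A ⊓ B ≤ A))
        (Subgroup.index_dvd_of_le (inf_le_right : A ⊓ B ≤ B))
      have h4 := Nat.le_of_dvd (Nat.pos_of_ne_zero Subgroup.index_ne_zero_of_finite) h3
      rw [← h1, mul_comm A.index] at h4
      exact Nat.le_of_mul_le_mul_right h4 (Nat.pos_of_ne_zero Subgroup.index_ne_zero_of_finite)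
    have hinj := (Subgroup.quotientSubgroupOfEmbeddingOfLE B (le_top : A ≤ ⊤)).injective
    let f : A ⧸ B.subgroupOf A → G ⧸ B := Quotient.map' (fun a : A => (a : G)) fun a b hab => by
      rw [QuotientGroup.leftRel_apply] at hab ⊢
      exact Subgroup.mem_subgroupOf.1 hab
    have hfinj : Function.Injective f := by
      rintro ⟨a⟩ ⟨b⟩ hab
      refine Quotient.sound' ?_
      rw [QuotientGroup.leftRel_apply, Subgroup.mem_subgroupOf]
      exact (QuotientGroup.leftRel_apply (s := B)).1 (Quotient.exact' hab)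
    obtain ⟨⟨a⟩, ha⟩ := (hfinj.bijective_of_nat_card_le hcard).2 (g : G ⧸ B)
    refine ⟨(a : G), a.2, (a : G)⁻¹ * g, ?_, by group⟩
    exact (QuotientGroup.leftRel_apply (s := B)).1 (Quotient.exact' ha)
  let O : Set (N →* ℂˣ) := Set.range fun g : G => cj g ν
  let P : Set (N →* ℂˣ) := Set.range fun g : G => cj g (μ * ν)
  have horb : ∀ x : N →* ℂˣ, Nat.card (Set.range fun g : G => cj g x) = (stab (G := G) (fn x)).index := by
    intro x
    let F : G ⧸ stab (G := G) (fn x) → Set.range fun g : G => cj g⁻¹ x :=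
      Quotient.lift (fun g => ⟨cj g⁻¹ x, g, rfl⟩) fun a b hab => Subtype.ext (by
        have hm : a⁻¹ * b ∈ stab (G := G) (fn x) := QuotientGroup.leftRel_apply.1 hab
        have := mem_stab_fn.1 hm
        show cj a⁻¹ x = cj b⁻¹ x
        conv_rhs => rw [← this]
        rw [← cj_comp]
        congr 1
        group)
    have hb : Function.Bijective F := by
      refine ⟨?_, fun ⟨y, g, hg⟩ => ⟨(g : G ⧸ _), Subtype.ext hg⟩⟩
      rintro ⟨a⟩ ⟨b⟩ hab
      refine Quotient.sound' ?_
      rw [QuotientGroup.leftRel_apply, mem_stab_fn]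
      have h1 : cj a⁻¹ x = cj b⁻¹ x := congrArg Subtype.val hab
      rw [cj_comp, h1, ← cj_comp, inv_mul_cancel, cj_one]
    rw [show Set.range (fun g : G => cj g x) = Set.range (fun g : G => cj g⁻¹ x) from
      (inv_surjective.range_comp (fun g : G => cj g x)).symm]
    exact (Nat.card_congr (Equiv.ofBijective F hb)).symm
  have himg : ∀ g : G, (fun y => cj g μ * y) '' O = P := by
    intro g
    have hsub : (fun y => cj g μ * y) '' O ⊆ P := by
      rintro _ ⟨_, ⟨h, rfl⟩, rfl⟩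
      obtain ⟨a, ha, b, hb, hab⟩ := hprod (g * h⁻¹)
      refine ⟨a⁻¹ * g, ?_⟩
      have h2 : a⁻¹ * g = b * h := by
        calc a⁻¹ * g = a⁻¹ * (g * h⁻¹) * h := by group
          _ = b * h := by rw [hab]; group
      have ecomp : ∀ (x y : G) (z : N →* ℂˣ), cj (x * y) z = cj y (cj x z) := fun x y z => by
        ext n; simp [cj, mul_assoc]
      show cj (a⁻¹ * g) (μ * ν) = cj g μ * cj h ν
      rw [cj_mul]
      congr 1
      · rw [ecomp, mem_stab_fn.1 (inv_mem ha)]
      · rw [h2, ecomp, mem_stab_fn.1 hb]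
    refine Set.eq_of_subset_of_ncard_le hsub ?_ (Set.toFinite _)
    rw [Set.ncard_image_of_injective _ (mul_right_injective _), ← Nat.card_coe_set_eq,
      ← Nat.card_coe_set_eq, horb, horb]
    exact Nat.le_of_dvd (Nat.pos_of_ne_zero Subgroup.index_ne_zero_of_finite) hCB
  obtain ⟨g, hg⟩ : ∃ g : G, cj g μ ≠ μ := by
    by_contra hall
    push Not at hall
    have : A = ⊤ := eq_top_iff.2 fun g _ => mem_stab_fn.2 (hall g)
    rw [this, Subgroup.index_top] at hμ1
    omega
  set τ := (cj g μ)⁻¹ * μ with hτ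
  have hτ1 : τ ≠ 1 := fun h => hg (inv_mul_eq_one.1 h)
  have hτr : orderOf τ = r := by
    haveI := Fact.mk hr
    refine orderOf_eq_prime ?_ hτ1
    have hp : μ ^ r = 1 := hμ ▸ pow_orderOf_eq_one μ
    have hq : cj g μ ^ r = 1 := by rw [← cj_pow, hp]; ext n; simp [cj]
    ext n
    have e1 := DFunLike.congr_fun hp n
    have e2 := DFunLike.congr_fun hq n
    simp only [MonoidHom.pow_apply, MonoidHom.one_apply] at e1 e2
    simp [hτ, mul_pow, inv_pow, e1, e2]
  have hτO : ∀ y ∈ O, τ * y ∈ O := by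
    intro y hy
    have h1 : μ * y ∈ P := by
      rw [← himg 1]
      exact ⟨y, hy, by congr 1; ext n; simp [cj]⟩
    rw [← himg g] at h1
    obtain ⟨z, hz, he⟩ := h1
    have : τ * y = z := by
      refine MonoidHom.ext fun n => ?_
      have e1 : cj g μ n * z n = μ n * y n := DFunLike.congr_fun he n
      show (cj g μ n)⁻¹ * μ n * y n = z n
      rw [mul_assoc, ← e1, inv_mul_cancel_left]
    exact this ▸ hz
  refine hrν ?_
  rw [hB, ← horb ν, ← hτr, ← Nat.card_zpowers]
  set H := Subgroup.zpowers τ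
  have hclosed : ∀ y ∈ O, ∀ h ∈ H, y * h ∈ O := by
    intro y hy h hh
    obtain ⟨k, rfl⟩ := (IsOfFinOrder.mem_powers_iff_mem_zpowers (isOfFinOrder_of_finite τ)).2 hh
    induction k with
    | zero => simpa using hy
    | succ k ih =>
      have := hτO _ (ih ((Subgroup.zpowers τ).pow_mem (Subgroup.mem_zpowers τ) k))
      have e : τ * (y * τ ^ k) = y * τ ^ (k + 1) := MonoidHom.ext fun n => by
        show τ n * (y n * (τ ^ k) n) = y n * (τ ^ (k + 1)) n
        simp only [MonoidHom.pow_apply, pow_succ]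
        rw [mul_left_comm, mul_comm ((τ n) ^ k)]
      exact e ▸ this
  have hpre : QuotientGroup.mk ⁻¹' ((QuotientGroup.mk : (N →* ℂˣ) → (N →* ℂˣ) ⧸ H) '' O) = O := by
    refine Set.Subset.antisymm (fun y hy => ?_) (Set.subset_preimage_image _ _)
    obtain ⟨z, hz, he⟩ := hy
    have := hclosed z hz _ (QuotientGroup.eq.1 he)
    simpa using this
  show Nat.card H ∣ Nat.card O
  rw [← hpre, Nat.card_congr (QuotientGroup.preimageMkEquivSubgroupProdSet _ _), Nat.card_prod]
  exact Dvd.intro _ rfl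

end Over

end CfsgLib.Char.LinearOverNormal
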