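import Cfsg.Agent.Lib.Char.Perm

/-!
# The Frobenius-Schur indicator
-/

set_option autoImplicit false

open scoped ComplexConjugate
open Module Matrix

namespace CfsgLib.Char

universe u

variable {G : Type u} [Group G] [Fintype G]

theorem stdBasis_repr_apply {n : ℕ} (X : Matrix (Fin n) (Fin n) ℂ) (i j : Fin n) :
    (Matrix.stdBasis ℂ (Fin n) (Fin n)).repr X (i, j) = X i j := by
  have h := congrFun (congrFun ((Matrix.stdBasis ℂ (Fin n) (Fin n)).sum_repr X) i) j
  simpa [Matrix.sum_apply, Matrix.stdBasis_eq_single, Matrix.single_apply,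
    Fintype.sum_prod_type, ite_and] using h

theorem trace_transpose_mul_mul {n : ℕ} (A : Matrix (Fin n) (Fin n) ℂ) :
    LinearMap.trace ℂ (Matrix (Fin n) (Fin n) ℂ)
      ((LinearMap.mulLeft ℂ A.transpose).comp (LinearMap.mulRight ℂ A)) = A.trace * A.trace := by
  rw [LinearMap.trace_eq_matrix_trace ℂ (Matrix.stdBasis ℂ (Fin n) (Fin n)), Matrix.trace,
    Fintype.sum_prod_type, Matrix.trace, Finset.sum_mul_sum]
  refine Finset.sum_congr rfl fun i _ => Finset.sum_congr rfl fun j _ => ?_
  rw [Matrix.diag_apply, LinearMap.toMatrix_apply, stdBasis_repr_apply, Matrix.stdBasis_eq_single,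
    LinearMap.comp_apply, LinearMap.mulLeft_apply, LinearMap.mulRight_apply]
  simp [Matrix.mul_apply, Matrix.single_apply, ite_and]

theorem trace_swap_mul_mul {n : ℕ} (A : Matrix (Fin n) (Fin n) ℂ) :
    LinearMap.trace ℂ (Matrix (Fin n) (Fin n) ℂ)
      (((LinearMap.mulLeft ℂ A.transpose).comp (LinearMap.mulRight ℂ A)).comp
        (Matrix.transposeLinearEquiv (Fin n) (Fin n) ℂ ℂ).toLinearMap) = (A * A).trace := by
  rw [LinearMap.trace_eq_matrix_trace ℂ (Matrix.stdBasis ℂ (Fin n) (Fin n)), Matrix.trace,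
    Fintype.sum_prod_type, Matrix.trace]
  refine Finset.sum_congr rfl fun i _ => ?_
  rw [Matrix.diag_apply, Matrix.mul_apply]
  refine Finset.sum_congr rfl fun j _ => ?_
  rw [Matrix.diag_apply, LinearMap.toMatrix_apply, stdBasis_repr_apply, Matrix.stdBasis_eq_single,
    LinearMap.comp_apply, LinearMap.comp_apply,
    show (Matrix.transposeLinearEquiv (Fin n) (Fin n) ℂ ℂ).toLinearMap (Matrix.single i j (1 : ℂ)) =
      Matrix.single j i 1 from Matrix.transpose_single i j 1,
    LinearMap.mulLeft_apply, LinearMap.mulRight_apply]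
  simp [Matrix.mul_apply, Matrix.single_apply, ite_and, mul_comm]

theorem fs_of_matrix {n : ℕ} (M : G →* Matrix (Fin n) (Fin n) ℂ)
    :
    let ν := (Nat.card G : ℂ)⁻¹ * ∑ g, (M (g * g)).trace
    ((Nat.card G : ℂ)⁻¹ * ∑ g, (M g⁻¹).trace * (M g⁻¹).trace = 0 → ν = 0) ∧
      ((Nat.card G : ℂ)⁻¹ * ∑ g, (M g⁻¹).trace * (M g⁻¹).trace = 1 → ν = 1 ∨ ν = -1) := by
  intro ν
  have : Invertible (Fintype.card G : ℂ) := invertibleOfNonzero (by simp)
  let τ : Representation ℂ G (Matrix (Fin n) (Fin n) ℂ) :=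
    { toFun := fun g => (LinearMap.mulLeft ℂ (M g⁻¹).transpose).comp (LinearMap.mulRight ℂ (M g⁻¹))
      map_one' := LinearMap.ext fun X => by simp
      map_mul' := fun a b => LinearMap.ext fun X => by simp [mul_assoc] }
  let T : Module.End ℂ (Matrix (Fin n) (Fin n) ℂ) :=
    (Matrix.transposeLinearEquiv (Fin n) (Fin n) ℂ ℂ).toLinearMap
  have hTT : T * T = 1 := LinearMap.ext fun X => by simp [T]
  let P : Module.End ℂ (Matrix (Fin n) (Fin n) ℂ) := τ.averageMap
  have hP : P = (Nat.card G : ℂ)⁻¹ • ∑ g, τ g := by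
    simp [P, Representation.averageMap, GroupAlgebra.average, _root_.map_sum, Finset.smul_sum]
  have hcomm : T * P = P * T := by
    rw [hP, mul_smul_comm, smul_mul_assoc, Finset.mul_sum, Finset.sum_mul]
    congr 1
    exact Finset.sum_congr rfl fun g _ => LinearMap.ext fun X => by
      simp [T, τ, mul_assoc]
  have hproj := Representation.isProj_averageMap τ
  have htrP : LinearMap.trace ℂ _ P = (Nat.card G : ℂ)⁻¹ * ∑ g, (M g⁻¹).trace * (M g⁻¹).trace := by
    rw [hP, map_smul, map_sum, smul_eq_mul]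
    exact congrArg _ (Finset.sum_congr rfl fun g _ => trace_transpose_mul_mul _)
  have htrPT : LinearMap.trace ℂ _ (P * T) = ν := by
    rw [hP, smul_mul_assoc, Finset.sum_mul, map_smul, map_sum, smul_eq_mul]
    refine congrArg _ ((Finset.sum_congr rfl fun g _ => ?_).trans
      (Fintype.sum_equiv (Equiv.inv G) (fun g => (M (g⁻¹ * g⁻¹)).trace) _ fun g => rfl))
    rw [map_mul M]
    exact trace_swap_mul_mul _
  have htr : LinearMap.trace ℂ _ P = (finrank ℂ τ.invariants : ℂ) := hproj.trace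
  constructor
  · intro h0
    rw [htrP.symm.trans htr, Nat.cast_eq_zero] at h0
    have hbot : τ.invariants = ⊥ := Submodule.finrank_eq_zero.mp h0
    have hP0 : P = 0 := LinearMap.ext fun X => by
      have := hproj.map_mem X
      rw [hbot, Submodule.mem_bot] at this
      exact this
    rw [← htrPT, hP0, zero_mul, map_zero]
  · intro h1
    rw [htrP.symm.trans htr, Nat.cast_eq_one] at h1
    obtain ⟨v, hv, hall⟩ := finrank_eq_one_iff'.mp h1
    have hv0 : (v : Matrix (Fin n) (Fin n) ℂ) ≠ 0 := fun h => hv (Subtype.ext h)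
    have hPv : P (v : Matrix (Fin n) (Fin n) ℂ) = v := hproj.map_id _ v.2
    have hTv : T (v : Matrix (Fin n) (Fin n) ℂ) ∈ τ.invariants := by
      have h2 := LinearMap.congr_fun hcomm (v : Matrix (Fin n) (Fin n) ℂ)
      simp only [Module.End.mul_apply, hPv] at h2
      rw [h2]
      exact hproj.map_mem _
    obtain ⟨ε, hε⟩ := hall ⟨_, hTv⟩
    have hε' : T (v : Matrix (Fin n) (Fin n) ℂ) = ε • (v : Matrix (Fin n) (Fin n) ℂ) :=
      (congrArg Subtype.val hε).symm
    have hTP : T * P = ε • P := LinearMap.ext fun X => by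
      obtain ⟨c, hc⟩ := hall ⟨P X, hproj.map_mem X⟩
      have hc' : c • (v : Matrix (Fin n) (Fin n) ℂ) = P X := congrArg Subtype.val hc
      rw [Module.End.mul_apply, LinearMap.smul_apply, ← hc', map_smul, hε', smul_comm]
    have hεsq : ε * ε = 1 := by
      have h2 := LinearMap.congr_fun hTT (v : Matrix (Fin n) (Fin n) ℂ)
      rw [Module.End.mul_apply, hε', map_smul, hε', smul_smul, Module.End.one_apply] at h2
      exact smul_left_injective ℂ hv0 (h2.trans (one_smul ℂ _).symm)
    have hν : ν = ε := by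
      rw [← htrPT, ← hcomm, hTP, map_smul, htr, h1, Nat.cast_one, smul_eq_mul, mul_one]
    rw [hν]
    exact mul_self_eq_one_iff.mp hεsq

/-- The Frobenius-Schur indicator theorem. -/
theorem frobeniusSchur {V : Type*} [AddCommGroup V] [Module ℂ V] [FiniteDimensional ℂ V]
    (ρ : Representation ℂ G V) [ρ.IsIrreducible] :
    ((Nat.card G : ℂ)⁻¹ * ∑ s : G, ρ.character (s * s) = 0 ∨
      (Nat.card G : ℂ)⁻¹ * ∑ s : G, ρ.character (s * s) = 1 ∨
      (Nat.card G : ℂ)⁻¹ * ∑ s : G, ρ.character (s * s) = -1) ∧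
    ((Nat.card G : ℂ)⁻¹ * ∑ s : G, ρ.character (s * s) = 0 ↔
      ∃ s : G, (ρ.character s).im ≠ 0) := by
  classical
  have hirr := isIrrCharacter_of_rep ρ
  let b := Module.finBasis ℂ V
  let M : G →* Matrix (Fin (finrank ℂ V)) (Fin (finrank ℂ V)) ℂ :=
    { toFun := fun g => LinearMap.toMatrix b b (ρ g)
      map_one' := by rw [map_one]; exact LinearMap.toMatrix_one b
      map_mul' := fun g h => by rw [map_mul]; exact LinearMap.toMatrix_mul b _ _ }
  have hM : ∀ g, (M g).trace = ρ.character g := fun g =>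
    (LinearMap.trace_eq_matrix_trace ℂ b _).symm
  have hval : (Nat.card G : ℂ)⁻¹ * ∑ g, (M g⁻¹).trace * (M g⁻¹).trace =
      Cfsg.classInner ρ.character (fun g => conj (ρ.character g)) := by
    simp only [hM, Cfsg.classInner, Complex.conj_conj]
    exact congrArg _ (Fintype.sum_equiv (Equiv.inv G) _ _ fun g => by simp)
  have hcases := classInner_irr hirr (IsIrrCharacter.conj' hirr)
  have h := fs_of_matrix M
  simp only [hM] at h
  simp only [hM] at hval
  rw [hval, hcases] at h
  by_cases hr : ρ.character = fun g => conj (ρ.character g)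
  · rw [if_pos hr] at h
    have hreal : ¬ ∃ s : G, (ρ.character s).im ≠ 0 := fun ⟨s, hs⟩ =>
      hs (Complex.conj_eq_iff_im.mp (congrFun hr s).symm)
    rcases h.2 rfl with h1 | h1 <;> rw [h1] <;> simp [hreal]
  · rw [if_neg hr] at h
    refine ⟨Or.inl (h.1 rfl), fun _ => ?_, fun _ => h.1 rfl⟩
    by_contra hs
    push Not at hs
    exact hr (funext fun g => (Complex.conj_eq_iff_im.mpr (hs g)).symm)

end CfsgLib.Char
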