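import Mathlib
import Cfsg.Agent.Lib.Coprime.SchurZassenhaus

/-!
# Elements of a coset of a subgroup normalised by an element of coprime order
-/

set_option autoImplicit false

namespace CfsgLib.Char

variable {G : Type*} [Group G] [Finite G]

/-- In a coset `H g`, with `g` normalising `H` of coprime order, every element is `H`-conjugate
to `c * g` for some `c ∈ H` commuting with `g`. -/
theorem exists_conj_commuting (H : Subgroup G) (g : G) (hg : g ∈ Subgroup.normalizer (H : Set G))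
    (hcop : Nat.Coprime (orderOf g) (Nat.card H)) (h : G) (hh : h ∈ H) :
    ∃ x ∈ H, ∃ c ∈ H, c * g = g * c ∧ x * (h * g) * x⁻¹ = c * g := by
  have hgn : Subgroup.zpowers g ≤ Subgroup.normalizer (H : Set G) := Subgroup.zpowers_le.mpr hg
  have hpow : ∀ k : ℕ, ∃ m ∈ H, (h * g) ^ k = m * g ^ k := by
    intro k
    induction k with
    | zero => exact ⟨1, H.one_mem, by simp⟩
    | succ k ih =>
      obtain ⟨m, hm, e⟩ := ih
      refine ⟨m * (g ^ k * h * (g ^ k)⁻¹), H.mul_mem hm ?_, by rw [pow_succ, e, pow_succ]; group⟩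
      exact (Subgroup.mem_normalizer_iff.mp (Subgroup.pow_mem _ hg k) h).mp hh
  set n := orderOf g
  set u := h * g with hu
  obtain ⟨m, hm, hmn⟩ := hpow n
  rw [pow_orderOf_eq_one, mul_one] at hmn
  set a := orderOf (u ^ n) with ha
  have han : Nat.Coprime a n := by
    refine (Nat.Coprime.coprime_dvd_right ?_ hcop).symm
    rw [ha, hmn]
    exact Subgroup.orderOf_dvd_natCard H hm
  obtain ⟨s, hs1, hs2⟩ : ∃ s : ℕ, s ≡ 1 [MOD n] ∧ s ≡ 0 [MOD a] := by
    obtain ⟨s, hs⟩ := Nat.chineseRemainder han.symm 1 0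
    exact ⟨s, hs⟩
  set b := u ^ s with hb
  have hbn : b ^ n = 1 := by
    rw [hb, ← pow_mul, mul_comm, pow_mul]
    exact orderOf_dvd_iff_pow_eq_one.mp (Nat.modEq_zero_iff_dvd.mp hs2)
  have hgs : g ^ s = g := by
    conv_rhs => rw [← pow_one g]
    exact pow_eq_pow_iff_modEq.mpr hs1
  obtain ⟨m₁, hm₁, hbg⟩ := hpow s
  rw [hgs, ← hb] at hbg
  have hdis : ∀ y : G, y ∈ H → y ∈ Subgroup.zpowers g → y = 1 := fun y h1 h2 => by
    have := (Nat.Coprime.coprime_dvd_left (Subgroup.orderOf_dvd_natCard _ h2)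
      (by rwa [Nat.card_zpowers])).coprime_dvd_right (Subgroup.orderOf_dvd_natCard _ h1)
    exact orderOf_eq_one_iff.mp ((Nat.coprime_self _).mp this)
  have hbord : orderOf b = n := by
    refine Nat.dvd_antisymm (orderOf_dvd_of_pow_eq_one hbn) ?_
    obtain ⟨m₂, hm₂, e⟩ : ∃ m₂ ∈ H, b ^ orderOf b = m₂ * g ^ orderOf b := by
      obtain ⟨m₃, hm₃, e₃⟩ := hpow (s * orderOf b)
      refine ⟨m₃, hm₃, ?_⟩
      rw [hb, ← pow_mul, e₃, pow_mul g, hgs]
    rw [pow_orderOf_eq_one] at e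
    refine orderOf_dvd_of_pow_eq_one (hdis _ ?_ (Subgroup.pow_mem _ (Subgroup.mem_zpowers g) _))
    rw [(mul_eq_one_iff_inv_eq.mp e.symm).symm]
    exact H.inv_mem hm₂
  have hbN : Subgroup.zpowers b ≤ Subgroup.normalizer (H : Set G) := Subgroup.zpowers_le.mpr (by
    rw [hbg]; exact Subgroup.mul_mem _ (Subgroup.le_normalizer hm₁) hg)
  have hble : Subgroup.zpowers b ≤ H ⊔ Subgroup.zpowers g := Subgroup.zpowers_le.mpr (by
    rw [hbg]; exact Subgroup.mul_mem_sup hm₁ (Subgroup.mem_zpowers g))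
  obtain ⟨x, hx, hxe⟩ := CfsgLib.Coprime.exists_conj_eq
    (Or.inr (Group.isSolvable_of_comm fun p q => mul_comm' p q)) hbN hgn hble
    (by rw [Nat.card_zpowers, Nat.card_zpowers, hbord])
    (by rw [Nat.card_zpowers, hbord]; exact hcop.symm)
  have hxb : x * b * x⁻¹ = g := by
    have h1 : x * b * x⁻¹ ∈ Subgroup.zpowers g := hxe ▸ ⟨b, Subgroup.mem_zpowers b, rfl⟩
    refine mul_inv_eq_one.mp (hdis (x * b * x⁻¹ * g⁻¹) ?_
      (Subgroup.mul_mem _ h1 (Subgroup.inv_mem _ (Subgroup.mem_zpowers g))))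
    have h2 : x * b * x⁻¹ * g⁻¹ = x * m₁ * (g * x⁻¹ * g⁻¹) := by rw [hbg]; group
    rw [h2]
    exact H.mul_mem (H.mul_mem hx hm₁) ((Subgroup.mem_normalizer_iff.mp hg _).mp (H.inv_mem hx))
  set w := x * u * x⁻¹ with hw
  have hwg : w * g = g * w := by
    have : Commute u b := Commute.self_pow u s
    have h3 := congrArg (fun t => x * t * x⁻¹) this.eq
    rw [hw, ← hxb]
    simpa [mul_assoc] using h3
  refine ⟨x, hx, w * g⁻¹, ?_, ?_, ?_⟩
  · have h2 : w * g⁻¹ = x * h * (g * x⁻¹ * g⁻¹) := by rw [hw, hu]; group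
    rw [h2]
    exact H.mul_mem (H.mul_mem hx hh) ((Subgroup.mem_normalizer_iff.mp hg _).mp (H.inv_mem hx))
  · rw [inv_mul_cancel_right, ← mul_assoc, ← hwg, mul_inv_cancel_right]
  · rw [inv_mul_cancel_right]

/-- A class of a normal subgroup fixed by an element of coprime order meets the centraliser. -/
theorem exists_centralized_of_fixed_class (K : Subgroup G) [K.Normal] (x : G)
    (hx : Nat.Coprime (orderOf x) (Nat.card K)) (k m : G) (hk : k ∈ K) (hm : m ∈ K)
    (hfix : x * k * x⁻¹ = m * k * m⁻¹) :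
    ∃ z ∈ K, z * k * z⁻¹ * x = x * (z * k * z⁻¹) := by
  have hxn : x ∈ Subgroup.normalizer (K : Set G) := by
    rw [Subgroup.normalizer_eq_top]; exact Subgroup.mem_top x
  obtain ⟨z, hz, c, hc, hcx, he⟩ := exists_conj_commuting K x hxn hx m⁻¹ (K.inv_mem hm)
  refine ⟨z, hz, ?_⟩
  set g := m⁻¹ * x
  have hgk : Commute g k := by
    change m⁻¹ * x * k = k * (m⁻¹ * x)
    rw [mul_assoc m⁻¹ x k, show x * k = x * k * x⁻¹ * x by group, hfix]
    group
  set k' := z * k * z⁻¹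
  have hck : Commute (c * x) k' := by
    rw [← he]
    have h3 := congrArg (fun t => z * t * z⁻¹) hgk.eq
    simpa [k', mul_assoc, Commute, SemiconjBy] using h3
  obtain ⟨s, hs⟩ := Nat.chineseRemainder
    (Nat.Coprime.coprime_dvd_right (Subgroup.orderOf_dvd_natCard K hc) hx) 1 0
  have hpow : (c * x) ^ s = x := by
    rw [(show Commute c x from hcx).mul_pow,
      orderOf_dvd_iff_pow_eq_one.mp (Nat.modEq_zero_iff_dvd.mp hs.2), one_mul]
    conv_rhs => rw [← pow_one x]
    exact pow_eq_pow_iff_modEq.mpr hs.1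
  exact ((hpow ▸ hck.pow_left s : Commute x k')).eq.symm

end CfsgLib.Char
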