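import Cfsg.Agent.Lib.Char.DadeGen
import Cfsg.Agent.Lib.Char.Virtual
import Cfsg.Agent.Lib.Char.Constituent
import Cfsg.Agent.Lib.Char.Linear

/-!
# A degree bound from an abelian subgroup with separated centralizers
-/

set_option autoImplicit false

open scoped ComplexConjugate

namespace CfsgLib.Char.DegreeBound

variable {G : Type*} [Group G] [Fintype G]

/-- A central element scales an irreducible character by a root of unity. -/
theorem apply_central_mul {χ : G → ℂ} (hχ : Cfsg.IsIrrCharacter G χ) {z : G}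
    (hz : z ∈ Subgroup.center G) : ∃ ω : ℂ, ‖ω‖ = 1 ∧ ∀ g, χ (z * g) = ω * χ g := by
  obtain ⟨n, ρ, hρ, rfl⟩ := hχ
  obtain ⟨ω, hω⟩ := exists_eq_smul_of_commute ρ (ρ z) fun g => by
    rw [← Module.End.mul_eq_comp, ← Module.End.mul_eq_comp, ← map_mul, ← map_mul,
      Subgroup.mem_center_iff.mp hz g]
  refine ⟨ω, ?_, fun g => ?_⟩
  · haveI := hρ
    have h1 : (ω ^ orderOf z) • (1 : Module.End ℂ (Fin n → ℂ)) = 1 := by
      rw [← one_pow (M := Module.End ℂ (Fin n → ℂ)) (orderOf z), ← smul_pow, one_pow]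
      rw [Module.End.one_eq_id, ← hω, ← map_pow, pow_orderOf_eq_one, map_one]
      rfl
    have h2 := congrArg (LinearMap.trace ℂ (Fin n → ℂ)) h1
    rw [map_smul, LinearMap.trace_one, smul_eq_mul] at h2
    have hn : (Module.finrank ℂ (Fin n → ℂ) : ℂ) ≠ 0 :=
      Nat.cast_ne_zero.mpr (irreducible_finrank_pos (ρ := ρ)).ne'
    exact norm_eq_one_of_pow_orderOf (g := z) (mul_right_cancel₀ hn (h2.trans (one_mul _).symm))
  · show LinearMap.trace ℂ _ (ρ (z * g)) = ω * LinearMap.trace ℂ _ (ρ g)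
    rw [map_mul, hω, smul_mul_assoc, ← Module.End.one_eq_id, one_mul, map_smul, smul_eq_mul]

variable (H : Subgroup G) [Fintype H]

/-- Separated centralizers: a non-central element centralises a non-identity element of at most
one conjugate of `H`. -/
def Separated : Prop :=
  ∀ g : G, g ∉ Subgroup.center G → ∀ a b : G,
    Subgroup.centralizer ({g} : Set G) ⊓ H.map (MulAut.conj a).toMonoidHom ≠ ⊥ →
    Subgroup.centralizer ({g} : Set G) ⊓ H.map (MulAut.conj b).toMonoidHom ≠ ⊥ →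
    H.map (MulAut.conj a).toMonoidHom = H.map (MulAut.conj b).toMonoidHom

theorem sq_gt (hab : ∀ a ∈ H, ∀ b ∈ H, a * b = b * a) (hZ : H ⊓ Subgroup.center G = ⊥)
    (hsep : Separated H) {χ : G → ℂ} (hχ : Cfsg.IsIrrCharacter G χ)
    (hker : ∃ h ∈ H, χ h ≠ χ 1) {d c : ℕ} (hd : χ 1 = (d : ℂ))
    (hc : Cfsg.classInner (fun h : H => χ h) (fun _ => 1) = (c : ℂ)) :
    (Nat.card H : ℝ) * (c : ℝ) ^ 2 < (d : ℝ) ^ 2 := by
  classical
  have hdp : 0 < d := by
    obtain ⟨k, hk, hk'⟩ := IsIrrCharacter.apply_one_eq hχ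
    rw [hd, Nat.cast_inj] at hk'
    omega
  have hdR : (0 : ℝ) < (d : ℝ) ^ 2 := pow_pos (Nat.cast_pos.mpr hdp) 2
  rcases Nat.eq_zero_or_pos c with rfl | hcp
  · simpa using hdR
  have hχc := IsIrrCharacter.isCharacter hχ
  have hcf := IsIrrCharacter.isClassFunction hχ
  set N := Subgroup.normalizer (H : Set G) with hN
  cases nonempty_fintype N
  have hHN : H ≤ N := Subgroup.le_normalizer
  have hconj : ∀ (n : N) (u : G), u ∈ H → (N.subtype n) * u * (N.subtype n)⁻¹ ∈ H := fun n u hu =>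
    (Subgroup.mem_normalizer_iff.mp n.2 u).mp hu
  let f0 : N → ℂ := fun n => (Nat.card H : ℂ)⁻¹ * ∑ u : H, χ ((u : G) * N.subtype n)
  have hf0 : Cfsg.IsCharacter N f0 := Dade.isCharacter_avg hχc N.subtype H hconj
  have hH0 : (Nat.card H : ℂ) ≠ 0 := Nat.cast_ne_zero.mpr Nat.card_pos.ne'
  let χN : N → ℂ := fun n => χ n
  let f1 : N → ℂ := χN - f0
  have hf1g : Cfsg.IsGeneralizedCharacter N f1 :=
    IsGeneralizedCharacter.sub (IsCharacter.isGeneralizedCharacter (IsCharacter.restrict hχc N))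
      (IsCharacter.isGeneralizedCharacter hf0)
  have hinv : ∀ (u : H) (n : N), f0 (⟨(u : G), hHN u.2⟩ * n) = f0 n := fun u n => by
    simp only [f0]
    congr 1
    exact Fintype.sum_equiv (Equiv.mulRight u) _ _ fun v => by simp [mul_assoc]
  have hχf0 : Cfsg.classInner χN f0 = Cfsg.classInner f0 f0 := by
    simp only [Cfsg.classInner]
    congr 1
    symm
    calc ∑ n : N, f0 n * conj (f0 n)
        = (Nat.card H : ℂ)⁻¹ * ∑ u : H, ∑ n : N, χ ((u : G) * n) * conj (f0 n) := by
          rw [Finset.sum_comm, Finset.mul_sum]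
          exact Finset.sum_congr rfl fun n _ => by
            simp only [f0]; rw [mul_assoc, Finset.sum_mul]; rfl
      _ = (Nat.card H : ℂ)⁻¹ * ∑ _u : H, ∑ n : N, χN n * conj (f0 n) := by
          congr 1
          refine Finset.sum_congr rfl fun u _ => ?_
          refine Fintype.sum_equiv (Equiv.mulLeft (⟨(u : G), hHN u.2⟩ : N)) _ _ fun n => ?_
          show _ = χN (⟨(u : G), hHN u.2⟩ * n) * conj (f0 (⟨(u : G), hHN u.2⟩ * n))
          rw [hinv]; rfl
      _ = ∑ n : N, χN n * conj (f0 n) := by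
          rw [Finset.sum_const, Finset.card_univ, nsmul_eq_mul, ← Nat.card_eq_fintype_card,
            ← mul_assoc, inv_mul_cancel₀ hH0, one_mul]
  have hsplit : Cfsg.classInner χN χN = Cfsg.classInner f1 f1 + Cfsg.classInner f0 f0 := by
    have h1 : Cfsg.classInner f0 χN = Cfsg.classInner f0 f0 := by
      rw [← classInner_conj_symm, hχf0, classInner_conj_symm]
    simp only [f1, classInner_sub_left, classInner_sub_right, hχf0, h1]
    ring
  have hsumsq : ∑ n : N, ‖χ n‖ ^ 2 = ∑ n : N, ‖f1 n‖ ^ 2 + ∑ n : N, ‖f0 n‖ ^ 2 := by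
    have h := hsplit
    rw [classInner_self, classInner_self, classInner_self, ← Complex.ofReal_add,
      Complex.ofReal_inj, ← mul_add] at h
    exact mul_left_cancel₀ (inv_ne_zero (Nat.cast_ne_zero.mpr Nat.card_pos.ne')) h
  obtain ⟨h₀, hh₀, hne₀⟩ := hker
  -- the average at points of `H`
  have hf0H : ∀ (z : G), z ∈ Subgroup.center G → ∀ (k : G) (hk : k ∈ H) (n : N), (n : G) = z * k →
      ‖f0 n‖ = (c : ℝ) := by
    intro z hz k hk n hn
    obtain ⟨ω, hω, hmul⟩ := apply_central_mul hχ hz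
    have : f0 n = ω * (c : ℂ) := by
      rw [← hc, classInner_fun_one_right]
      simp only [f0, Subgroup.subtype_apply, hn]
      have hu : ∀ u : H, χ ((u : G) * (z * k)) = ω * χ ((u : G) * k) := fun u => by
        rw [← mul_assoc, Subgroup.mem_center_iff.mp hz (u : G), mul_assoc, hmul]
      simp only [hu]
      rw [← Finset.mul_sum]
      rw [Fintype.sum_equiv (Equiv.mulRight (⟨k, hk⟩ : H)) (fun u : H => χ ((u : G) * k))
        (fun u : H => χ u) fun u => rfl]
      ring
    rw [this, norm_mul, hω, one_mul, Complex.norm_natCast]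
  have hf1ne : f1 ≠ 0 := by
    intro h
    have key : ∀ k : G, ∀ hk : k ∈ H, χ k = f0 ⟨k, hHN hk⟩ := fun k hk =>
      sub_eq_zero.mp (congrFun h ⟨k, hHN hk⟩)
    refine hne₀ ((key h₀ hh₀).trans ((?_ : f0 ⟨h₀, hHN hh₀⟩ = f0 1).trans (key 1 H.one_mem).symm))
    have := hinv ⟨h₀, hh₀⟩ 1
    rwa [mul_one] at this
  have hf1 : (Nat.card N : ℝ) ≤ ∑ n : N, ‖f1 n‖ ^ 2 := by
    obtain ⟨t, ht⟩ := IsGeneralizedCharacter.classInner_int hf1g hf1g
    have ht0 : t ≠ 0 := fun h => hf1ne (classInner_self_eq_zero.mp (by rw [ht, h, Int.cast_zero]))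
    rw [classInner_self, ← Complex.ofReal_intCast, Complex.ofReal_inj] at ht
    have hN0 : (0 : ℝ) < Nat.card N := Nat.cast_pos.mpr Nat.card_pos
    have : (0 : ℝ) ≤ (t : ℝ) := ht ▸ by positivity
    have h1 : (1 : ℤ) ≤ t := by
      have : (0 : ℤ) ≤ t := by exact_mod_cast this
      omega
    rw [inv_mul_eq_iff_eq_mul₀ hN0.ne'] at ht
    rw [ht]
    exact le_mul_of_one_le_right hN0.le (by exact_mod_cast h1)
  -- elements of the normaliser centralising some non-identity element of `H`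
  set S : Finset N := Finset.univ.filter (fun n : N => ∃ k ∈ H, k ≠ 1 ∧ k * (n : G) = (n : G) * k)
    with hS
  have hout : ∀ n : N, n ∉ S → f0 n = χ n := by
    intro n hn
    have hn' : ∀ k ∈ H, k * (n : G) = n * k → k = 1 := fun k hk e => by
      by_contra hk1
      exact hn (Finset.mem_filter.mpr ⟨Finset.mem_univ _, k, hk, hk1, e⟩)
    let ψ : H → H := fun k => ⟨(k : G) * ((n : G) * (k : G)⁻¹ * (n : G)⁻¹),
      H.mul_mem k.2 ((Subgroup.mem_normalizer_iff.mp n.2 _).mp (H.inv_mem k.2))⟩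
    have hinj : Function.Injective ψ := fun a b e => by
      have e' := congrArg Subtype.val e
      simp only [ψ] at e'
      have h1 : ((b : G)⁻¹ * a) * n = n * ((b : G)⁻¹ * a) := by
        calc ((b : G)⁻¹ * a) * n
            = (b : G)⁻¹ * ((a : G) * ((n : G) * (a : G)⁻¹ * (n : G)⁻¹)) * n * a := by group
          _ = (b : G)⁻¹ * ((b : G) * ((n : G) * (b : G)⁻¹ * (n : G)⁻¹)) * n * a := by rw [e']
          _ = n * ((b : G)⁻¹ * a) := by group
      exact Subtype.ext (inv_mul_eq_one.mp (hn' _ (H.mul_mem (H.inv_mem b.2) a.2) h1)).symm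
    have hall : ∀ u : H, χ ((u : G) * n) = χ n := fun u => by
      obtain ⟨k, rfl⟩ := Finite.injective_iff_surjective.mp hinj u
      show χ ((k : G) * ((n : G) * (k : G)⁻¹ * (n : G)⁻¹) * n) = χ n
      rw [show (k : G) * ((n : G) * (k : G)⁻¹ * (n : G)⁻¹) * n = (k : G) * n * (k : G)⁻¹ by group]
      exact hcf _ _
    simp only [f0, Subgroup.subtype_apply, hall, Finset.sum_const, Finset.card_univ, nsmul_eq_mul,
      ← Nat.card_eq_fintype_card]
    rw [← mul_assoc, inv_mul_cancel₀ hH0, one_mul]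
  have hh₀1 : h₀ ≠ 1 := fun h => hne₀ (by rw [h])
  have hcN : Subgroup.center G ≤ N := fun z hz => Subgroup.mem_normalizer_iff.mpr fun u => by
    rw [← Subgroup.mem_center_iff.mp hz u]; simp
  -- lower bound on `S`
  have hSlow : (Nat.card N : ℝ) + (Nat.card H * Nat.card (Subgroup.center G) : ℕ) * (c : ℝ) ^ 2 ≤
      ∑ n ∈ S, ‖χ n‖ ^ 2 := by
    have h1 : ∑ n ∈ S, ‖χ n‖ ^ 2 = ∑ n : N, ‖f1 n‖ ^ 2 + ∑ n ∈ S, ‖f0 n‖ ^ 2 := by
      rw [← Finset.sum_add_sum_compl S (fun n => ‖χ n‖ ^ 2),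
        ← Finset.sum_add_sum_compl S (fun n => ‖f0 n‖ ^ 2),
        Finset.sum_congr rfl (s₁ := Sᶜ) (f := fun n => ‖f0 n‖ ^ 2) fun n hn => by
          rw [hout n (Finset.mem_compl.mp hn)]] at hsumsq
      linarith
    rw [h1]
    refine add_le_add hf1 ?_
    let φ : H × Subgroup.center G → N := fun p =>
      ⟨(p.2 : G) * p.1, N.mul_mem (hcN p.2.2) (hHN p.1.2)⟩
    have hφ : Function.Injective φ := fun p q e => by
      have e' : (p.2 : G) * p.1 = q.2 * q.1 := congrArg Subtype.val e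
      have hx : (q.2 : G)⁻¹ * p.2 = (q.1 : G) * (p.1 : G)⁻¹ := by
        calc (q.2 : G)⁻¹ * p.2 = (q.2 : G)⁻¹ * ((p.2 : G) * p.1) * (p.1 : G)⁻¹ := by group
          _ = _ := by rw [e']; group
      have h1' : (q.2 : G)⁻¹ * p.2 ∈ H ⊓ Subgroup.center G :=
        ⟨hx ▸ H.mul_mem q.1.2 (H.inv_mem p.1.2),
          (Subgroup.center G).mul_mem ((Subgroup.center G).inv_mem q.2.2) p.2.2⟩
      rw [hZ, Subgroup.mem_bot] at h1'
      have h2 : p.2 = q.2 := Subtype.ext (inv_mul_eq_one.mp h1').symm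
      rw [h2] at e'
      exact Prod.ext (Subtype.ext (mul_left_cancel e')) h2
    have himg : (Finset.univ : Finset (H × Subgroup.center G)).image φ ⊆ S := by
      intro n hn
      obtain ⟨⟨k, z⟩, -, rfl⟩ := Finset.mem_image.mp hn
      refine Finset.mem_filter.mpr ⟨Finset.mem_univ _, h₀, hh₀, hh₀1, ?_⟩
      show h₀ * ((z : G) * k) = (z : G) * k * h₀
      rw [← mul_assoc, Subgroup.mem_center_iff.mp z.2 h₀, mul_assoc, hab _ hh₀ _ k.2, mul_assoc]
    refine le_trans (le_of_eq ?_) (Finset.sum_le_sum_of_subset_of_nonneg himg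
      fun n _ _ => by positivity)
    rw [Finset.sum_image fun p _ q _ e => hφ e, Finset.sum_congr rfl fun p _ => by
      rw [hf0H p.2 p.2.2 p.1 p.1.2 (φ p) rfl], Finset.sum_const, Finset.card_univ, nsmul_eq_mul,
      ← Nat.card_eq_fintype_card, Nat.card_prod]
  -- the count over the group
  have hgZ : ∀ z ∈ Subgroup.center G, ‖χ z‖ = (d : ℝ) := fun z hz => by
    obtain ⟨ω, hω, hmul⟩ := apply_central_mul hχ hz
    have := hmul 1
    rw [mul_one] at this
    rw [this, hd, norm_mul, hω, one_mul, Complex.norm_natCast]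
  set T : Finset N := S.filter (fun n : N => (n : G) ∉ Subgroup.center G) with hT
  have hST : ∑ n ∈ S, ‖χ n‖ ^ 2 =
      ∑ n ∈ T, ‖χ n‖ ^ 2 + (Nat.card (Subgroup.center G) : ℝ) * (d : ℝ) ^ 2 := by
    rw [hT, ← Finset.sum_filter_add_sum_filter_not S (fun n : N => (n : G) ∉ Subgroup.center G)]
    congr 1
    have hset : S.filter (fun n : N => ¬ (n : G) ∉ Subgroup.center G) =
        (Finset.univ : Finset (Subgroup.center G)).image fun z => (⟨z.1, hcN z.2⟩ : N) := by
      ext n
      simp only [Finset.mem_filter, not_not, Finset.mem_image, Finset.mem_univ, true_and]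
      refine ⟨fun h => ⟨⟨n, h.2⟩, rfl⟩, ?_⟩
      rintro ⟨z, rfl⟩
      exact ⟨Finset.mem_filter.mpr ⟨Finset.mem_univ _, h₀, hh₀, hh₀1,
        Subgroup.mem_center_iff.mp z.2 h₀⟩, z.2⟩
    rw [hset, Finset.sum_image fun a _ b _ e =>
      Subtype.ext (congrArg (fun x : N => (x : G)) e : (a : G) = b),
      Finset.sum_congr rfl fun z _ => by rw [hgZ _ z.2], Finset.sum_const, Finset.card_univ,
      nsmul_eq_mul, ← Nat.card_eq_fintype_card]
  haveI : Fintype (G ⧸ N) := Fintype.ofFinite _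
  have hG : (N.index : ℝ) * ∑ n ∈ T, ‖χ n‖ ^ 2 +
      (Nat.card (Subgroup.center G) : ℝ) * (d : ℝ) ^ 2 ≤ (Nat.card G : ℝ) := by
    have hnorm : ∑ g : G, ‖χ g‖ ^ 2 = (Nat.card G : ℝ) := by
      have h := classInner_irr_self hχ
      rw [classInner_self, Complex.ofReal_eq_one,
        inv_mul_eq_one₀ (Nat.cast_ne_zero.mpr Nat.card_pos.ne')] at h
      exact h.symm
    let φ : (G ⧸ N) × N → G := fun p => p.1.out * p.2 * p.1.out⁻¹
    set D := ((Finset.univ : Finset (G ⧸ N)) ×ˢ T) with hD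
    have hmem : ∀ p ∈ D, φ p ∉ Subgroup.center G ∧
        Subgroup.centralizer ({φ p} : Set G) ⊓
          H.map (MulAut.conj p.1.out).toMonoidHom ≠ ⊥ := by
      intro p hp
      simp only [hD, hT, hS, Finset.mem_product, Finset.mem_filter, Finset.mem_univ, true_and] at hp
      obtain ⟨⟨k, hk, hk1, hcomm⟩, hnc⟩ := hp
      refine ⟨fun hh => hnc ?_, fun hb => hk1 ?_⟩
      · have h := (inferInstance : (Subgroup.center G).Normal).conj_mem _ hh p.1.out⁻¹
        simpa [φ, mul_assoc] using h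
      · have : p.1.out * k * p.1.out⁻¹ ∈ Subgroup.centralizer ({φ p} : Set G) ⊓
            H.map (MulAut.conj p.1.out).toMonoidHom := by
          refine ⟨Subgroup.mem_centralizer_singleton_iff.mpr ?_, k, hk, rfl⟩
          simp only [φ]
          calc p.1.out * k * p.1.out⁻¹ * (p.1.out * p.2 * p.1.out⁻¹)
              = p.1.out * (k * p.2) * p.1.out⁻¹ := by group
            _ = _ := by rw [hcomm]; group
        rw [hb, Subgroup.mem_bot] at this
        simpa using this
    have hinj : Set.InjOn φ D := by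
      intro p hp q hq e
      obtain ⟨h1, h2⟩ := hmem p hp
      obtain ⟨-, h3⟩ := hmem q hq
      rw [← e] at h3
      have hK := hsep _ h1 _ _ h2 h3
      have hpq : p.1 = q.1 := by
        rw [← QuotientGroup.out_eq' p.1, ← QuotientGroup.out_eq' q.1, QuotientGroup.eq]
        refine Subgroup.mem_normalizer_iff.mpr fun u => ⟨fun hu => ?_, fun hu => ?_⟩
        · have hu' : (MulAut.conj q.1.out) u ∈ H.map (MulAut.conj p.1.out).toMonoidHom :=
            hK ▸ ⟨u, hu, rfl⟩
          obtain ⟨w, hw, hwe⟩ := hu'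
          simp only [MulEquiv.coe_toMonoidHom, MulAut.conj_apply] at hwe
          rwa [show p.1.out⁻¹ * q.1.out * u * (p.1.out⁻¹ * q.1.out)⁻¹ =
            p.1.out⁻¹ * (q.1.out * u * q.1.out⁻¹) * p.1.out by group, ← hwe,
            show p.1.out⁻¹ * (p.1.out * w * p.1.out⁻¹) * p.1.out = w by group]
        · have hu' : (MulAut.conj p.1.out) (p.1.out⁻¹ * q.1.out * u * (p.1.out⁻¹ * q.1.out)⁻¹) ∈
              H.map (MulAut.conj q.1.out).toMonoidHom := hK ▸ ⟨_, hu, rfl⟩
          obtain ⟨w, hw, hwe⟩ := hu'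
          simp only [MulEquiv.coe_toMonoidHom, MulAut.conj_apply] at hwe
          rwa [show w = u by
            calc w = q.1.out⁻¹ * (q.1.out * w * q.1.out⁻¹) * q.1.out := by group
              _ = u := by rw [hwe]; group] at hw
      obtain ⟨p1, p2⟩ := p
      obtain ⟨q1, q2⟩ := q
      subst hpq
      simp only [φ, mul_left_inj, mul_right_inj, SetLike.coe_eq_coe] at e
      rw [e]
    have hdisj : Disjoint (D.image φ)
        ((Finset.univ : Finset G).filter fun g => g ∈ Subgroup.center G) := by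
      rw [Finset.disjoint_left]
      intro g hg hg'
      obtain ⟨p, hp, rfl⟩ := Finset.mem_image.mp hg
      exact (hmem p hp).1 (Finset.mem_filter.mp hg').2
    refine le_trans (le_of_eq ?_) ((Finset.sum_le_sum_of_subset_of_nonneg
      (Finset.subset_univ (D.image φ ∪ Finset.univ.filter fun g => g ∈ Subgroup.center G))
      fun g _ _ => by positivity).trans hnorm.le)
    rw [Finset.sum_union hdisj, Finset.sum_image hinj, hD, Finset.sum_product,
      Finset.sum_congr rfl fun x _ => Finset.sum_congr rfl fun n _ =>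
        show ‖χ (φ (x, n))‖ ^ 2 = ‖χ n‖ ^ 2 by rw [show χ (φ (x, n)) = χ n from hcf _ _],
      Finset.sum_const, Finset.card_univ, nsmul_eq_mul, ← Nat.card_eq_fintype_card,
      Finset.sum_congr rfl (s₁ := Finset.univ.filter fun g => g ∈ Subgroup.center G)
        fun g hg => by rw [hgZ g (Finset.mem_filter.mp hg).2],
      Finset.sum_const, nsmul_eq_mul]
    congr 2
    rw [Nat.card_eq_fintype_card]
    exact_mod_cast Fintype.card_subtype _
  rw [← Subgroup.index_mul_card N] at hG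
  push_cast at hG hSlow
  have hm : (1 : ℝ) ≤ (N.index : ℝ) := by
    exact_mod_cast Nat.one_le_iff_ne_zero.mpr Subgroup.index_ne_zero_of_finite
  have hcc : (0 : ℝ) < (Nat.card H : ℝ) * (c : ℝ) ^ 2 :=
    mul_pos (Nat.cast_pos.mpr Nat.card_pos) (pow_pos (Nat.cast_pos.mpr hcp) 2)
  have hkey : (N.index : ℝ) * ((Nat.card H : ℝ) * (c : ℝ) ^ 2) ≤
      ((N.index : ℝ) - 1) * (d : ℝ) ^ 2 := by
    refine le_of_mul_le_mul_left ?_
      (Nat.cast_pos.mpr Nat.card_pos : (0 : ℝ) < Nat.card (Subgroup.center G))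
    have := mul_le_mul_of_nonneg_left hSlow (le_trans zero_le_one hm)
    rw [hST] at this
    linarith
  nlinarith

theorem one_add_sq_gt (hab : ∀ a ∈ H, ∀ b ∈ H, a * b = b * a) (hZ : H ⊓ Subgroup.center G = ⊥)
    (hsep : Separated H) {χ : G → ℂ} (hχ : Cfsg.IsIrrCharacter G χ)
    (hker : ∃ h ∈ H, χ h ≠ χ 1) {d : ℕ} (hd : χ 1 = (d : ℂ)) (hd1 : χ 1 ≠ 1)
    (hgen : ∀ M : Subgroup G, M.Normal → H ≤ M → M = ⊤) :
    (Nat.card H : ℝ) < (1 + (d : ℝ)) ^ 2 := by
  classical
  have hχc := IsIrrCharacter.isCharacter hχ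
  have hd2 : (2 : ℝ) ≤ d := by
    obtain ⟨k, hk, hk'⟩ := IsIrrCharacter.apply_one_eq hχ
    rw [hd, Nat.cast_inj] at hk'
    have : d ≠ 1 := fun h => hd1 (by rw [hd, h, Nat.cast_one])
    exact_mod_cast (by omega : 2 ≤ d)
  -- the norm on `H` is at least the degree
  have hres : Cfsg.IsCharacter H (fun h : H => χ h) := IsCharacter.restrict hχc H
  obtain ⟨n₂, hn₂⟩ := IsCharacter.classInner_nat hres hres
  have hn₂d : (d : ℝ) ≤ n₂ := by
    obtain ⟨a, ha, -⟩ := IsCharacter.exists_multiplicity hres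
    have hcfH := IsCharacter.isClassFunction hres
    have hnn : ((n₂ : ℕ) : ℂ) = ((∑ φ, a φ * a φ : ℕ) : ℂ) := by
      rw [← hn₂, classInner_eq_sum_irr hcfH, Nat.cast_sum]
      exact Finset.sum_congr rfl fun φ _ => by
        rw [ha, IsCharacter.classInner_comm (isCharacter_irr φ) hres, ha, Nat.cast_mul]
    have hdd : ((d : ℕ) : ℂ) = ((∑ φ, a φ : ℕ) : ℂ) := by
      have h := congrFun (IsClassFunction.eq_sum_irr hcfH) 1
      simp only [Subgroup.coe_one, Finset.sum_apply, Pi.smul_apply, smul_eq_mul] at h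
      rw [← hd, h, Nat.cast_sum]
      exact Finset.sum_congr rfl fun φ _ => by
        rw [ha, apply_one_eq_one_of_comm (fun x y => Subtype.ext (hab _ x.2 _ y.2)) φ.2, mul_one]
    rw [Nat.cast_inj] at hnn hdd
    rw [hnn, hdd]
    exact_mod_cast Finset.sum_le_sum fun φ _ => Nat.le_mul_self (a φ)
  -- constituents of `χ · conj χ`
  set ξ : G → ℂ := χ * fun g => conj (χ g) with hξ
  have hξc : Cfsg.IsCharacter G ξ := IsCharacter.mul hχc (IsCharacter.conj' hχc)
  have hξcf := IsCharacter.isClassFunction hξc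
  obtain ⟨m, hm, -⟩ := IsCharacter.exists_multiplicity hξc
  let one : Cfsg.IrrCharacter G := ⟨fun _ => 1, isIrrCharacter_one⟩
  have hm1 : m one = 1 := by
    have h : Cfsg.classInner ξ (fun _ => 1) = Cfsg.classInner χ χ := by
      rw [classInner_fun_one_right]; rfl
    rw [classInner_irr_self hχ, hm one] at h
    exact_mod_cast h
  choose dg hdg hdg' using fun φ : Cfsg.IrrCharacter G => IsIrrCharacter.apply_one_eq φ.2
  choose cg hcg using fun φ : Cfsg.IrrCharacter G =>
    IsCharacter.classInner_nat (IsCharacter.restrict (isCharacter_irr φ) H) isCharacter_one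
  have hexp := IsClassFunction.eq_sum_irr hξcf
  have hsumd : (d : ℝ) ^ 2 = ∑ φ, (m φ : ℝ) * dg φ := by
    have h := congrFun hexp 1
    simp only [hξ, Pi.mul_apply, hd, map_natCast, Finset.sum_apply, Pi.smul_apply,
      smul_eq_mul] at h
    rw [← hξ, Finset.sum_congr rfl fun φ _ => show _ = (((m φ : ℝ) * dg φ : ℝ) : ℂ) by
      rw [hm, hdg']; push_cast; rfl, ← Complex.ofReal_sum] at h
    have h' : (((d : ℝ) ^ 2 : ℝ) : ℂ) = ((∑ φ, (m φ : ℝ) * dg φ : ℝ) : ℂ) := by
      rw [← h]; push_cast; ring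
    exact Complex.ofReal_injective h'
  have hsumc : (n₂ : ℝ) = ∑ φ, (m φ : ℝ) * cg φ := by
    have h : ((n₂ : ℕ) : ℂ) = ((∑ φ, m φ * cg φ : ℕ) : ℂ) := by
      have h1 : Cfsg.classInner (fun h : H => χ h) (fun h : H => χ h) =
          Cfsg.classInner (fun h : H => ξ h) (fun _ => 1) := by
        rw [classInner_fun_one_right]; rfl
      rw [← hn₂, h1, show (fun h : H => ξ h) = ∑ φ : Cfsg.IrrCharacter G,
          Cfsg.classInner ξ (φ : G → ℂ) • fun h : H => (φ : G → ℂ) h by
        funext x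
        conv_lhs => rw [hexp]
        simp only [Finset.sum_apply, Pi.smul_apply],
        classInner_sum_left, Nat.cast_sum]
      exact Finset.sum_congr rfl fun φ _ => by
        rw [classInner_smul_left, hm, hcg, Nat.cast_mul]
    rw [Nat.cast_inj] at h
    exact_mod_cast h
  set s := Real.sqrt (Nat.card H : ℝ) with hs
  have hs0 : (0 : ℝ) ≤ s := Real.sqrt_nonneg _
  have hss : s ^ 2 = (Nat.card H : ℝ) := Real.sq_sqrt (Nat.cast_nonneg _)
  have hbound : ∀ φ, φ ≠ one → s * cg φ < dg φ := by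
    intro φ hφ
    have hkerφ : ∃ h ∈ H, (φ : G → ℂ) h ≠ (φ : G → ℂ) 1 := by
      by_contra hc'
      push Not at hc'
      have htop := hgen _ (charKer_normal (isCharacter_irr φ))
        fun x hx => (mem_charKer (isCharacter_irr φ)).mpr (hc' x hx)
      refine hφ (Subtype.ext (funext fun g => ?_))
      have hconst : ∀ g, (φ : G → ℂ) g = (φ : G → ℂ) 1 := fun g =>
        (mem_charKer (isCharacter_irr φ)).mp (htop ▸ Subgroup.mem_top g)
      have hn := classInner_irr_self φ.2
      simp only [Cfsg.classInner] at hn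
      rw [Finset.sum_congr rfl fun g _ => by rw [hconst g], Finset.sum_const, Finset.card_univ,
        nsmul_eq_mul, ← Nat.card_eq_fintype_card, ← mul_assoc,
        inv_mul_cancel₀ (card_ne_zero (G := G)), one_mul, hdg', map_natCast] at hn
      have : dg φ = 1 := by
        have h' : dg φ * dg φ = 1 := by exact_mod_cast hn
        exact Nat.eq_one_of_mul_eq_one_left h'
      show (φ : G → ℂ) g = 1
      rw [hconst g, hdg', this, Nat.cast_one]
    have h := sq_gt H hab hZ hsep φ.2 hkerφ (hdg' φ) (hcg φ)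
    rw [← hss, ← mul_pow] at h
    exact lt_of_pow_lt_pow_left₀ 2 (Nat.cast_nonneg _) h
  have hone : dg one = 1 ∧ cg one = 1 := by
    refine ⟨?_, ?_⟩
    · have h := (hdg' one).symm
      exact_mod_cast (show ((dg one : ℕ) : ℂ) = ((1 : ℕ) : ℂ) by rw [h, Nat.cast_one])
    have h := hcg one
    rw [classInner_irr_self isIrrCharacter_one] at h
    exact_mod_cast h.symm
  have hlt : s * ((n₂ : ℝ) - 1) < (d : ℝ) ^ 2 - 1 := by
    rw [hsumd, hsumc, ← Finset.add_sum_erase Finset.univ _ (Finset.mem_univ one),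
      ← Finset.add_sum_erase Finset.univ (fun φ => (m φ : ℝ) * dg φ) (Finset.mem_univ one),
      hm1, hone.1, hone.2, Nat.cast_one, mul_one, add_sub_cancel_left, add_sub_cancel_left,
      Finset.mul_sum]
    refine Finset.sum_lt_sum (fun φ hφ => ?_) ?_
    · rw [mul_left_comm]
      exact mul_le_mul_of_nonneg_left (hbound φ (Finset.ne_of_mem_erase hφ)).le (Nat.cast_nonneg _)
    · by_contra hc'
      push Not at hc'
      have hz : ∀ φ ∈ Finset.univ.erase one, (m φ : ℝ) * dg φ = 0 := fun φ hφ => by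
        by_contra hne
        have : (0 : ℝ) < m φ := lt_of_le_of_ne (Nat.cast_nonneg _)
          fun h => hne (by rw [← h, zero_mul])
        have h1 := hc' φ hφ
        rw [mul_left_comm] at h1
        exact absurd (mul_lt_mul_of_pos_left (hbound φ (Finset.ne_of_mem_erase hφ)) this) h1.not_gt
      have := hsumd
      rw [← Finset.add_sum_erase Finset.univ _ (Finset.mem_univ one), Finset.sum_eq_zero hz, hm1,
        hone.1, Nat.cast_one, mul_one, add_zero] at this
      nlinarith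
  have h2 : s * ((d : ℝ) - 1) ≤ s * ((n₂ : ℝ) - 1) :=
    mul_le_mul_of_nonneg_left (by linarith) hs0
  have hsd : s < (d : ℝ) + 1 := lt_of_mul_lt_mul_right
    (show s * ((d : ℝ) - 1) < ((d : ℝ) + 1) * ((d : ℝ) - 1) by nlinarith) (by linarith)
  rw [← hss, add_comm]
  exact pow_lt_pow_left₀ hsd hs0 two_ne_zero

end CfsgLib.Char.DegreeBound
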