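import Cfsg.Agent.Lib.Char.Monomial
import Cfsg.Agent.Lib.Char.Virtual

/-!
# Artin's induction theorem
-/

set_option autoImplicit false

open scoped ComplexConjugate

namespace CfsgLib.Char.Artin

universe u

variable (G : Type u) [Group G] [Fintype G]

open scoped Classical in
/-- The function `|G|` on generators of `G`. -/
noncomputable def theta : G → ℂ :=
  fun x => if Subgroup.zpowers x = ⊤ then (Nat.card G : ℂ) else 0

theorem theta_gen_aux : ∀ (n : ℕ) (C : Type u) [Group C] [Fintype C], Nat.card C = n →
    (∀ a b : C, a * b = b * a) → Cfsg.IsGeneralizedCharacter C (theta C) := by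
  intro n
  induction n using Nat.strong_induction_on with
  | _ n ih =>
    intro C _ _ hn hab
    classical
    have hsub : ∀ B ∈ (Finset.univ : Finset (Subgroup C)).filter (· ≠ ⊤),
        Cfsg.IsGeneralizedCharacter C (Cfsg.indFun B (theta B)) := by
      intro B hB
      have hlt : Nat.card B < n :=
        hn ▸ lt_of_le_of_ne (Nat.le_of_dvd Nat.card_pos (Subgroup.card_subgroup_dvd_card B))
          fun h => (Finset.mem_filter.mp hB).2 (Subgroup.eq_top_of_card_eq B h)
      exact IsGeneralizedCharacter.indFun B (ih _ hlt B rfl fun a b => Subtype.ext (hab a b))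
    have hval : ∀ (B : Subgroup C) (x : C), Cfsg.indFun B (theta B) x =
        if Subgroup.zpowers x = B then (Nat.card C : ℂ) else 0 := by
      intro B x
      rw [indFun_def, Finset.sum_congr rfl fun y _ => by
        rw [show y⁻¹ * x * y = x by rw [hab y⁻¹ x, inv_mul_cancel_right]],
        Finset.sum_const, Finset.card_univ, nsmul_eq_mul, ← Nat.card_eq_fintype_card]
      by_cases hx : x ∈ B
      · rw [extendByZero_apply_mem B _ hx, theta]
        have hiff : Subgroup.zpowers (⟨x, hx⟩ : B) = ⊤ ↔ Subgroup.zpowers x = B := by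
          rw [← (Subgroup.map_injective B.subtype_injective).eq_iff, MonoidHom.map_zpowers,
            ← MonoidHom.range_eq_map, Subgroup.range_subtype]
          rfl
        simp only [hiff]
        split_ifs with h
        · rw [← mul_assoc, mul_comm (Nat.card B : ℂ)⁻¹, mul_assoc,
            inv_mul_cancel₀ (Nat.cast_ne_zero.mpr Nat.card_pos.ne'), mul_one]
        · simp
      · rw [extendByZero_apply_notMem B _ hx, if_neg (show ¬ Subgroup.zpowers x = B from fun h => hx (h ▸ Subgroup.mem_zpowers x))]
        simp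
    have heq : theta C = Nat.card C • (fun _ : C => (1 : ℂ)) -
        ∑ B ∈ (Finset.univ : Finset (Subgroup C)).filter (· ≠ ⊤), Cfsg.indFun B (theta B) := by
      funext x
      simp only [Pi.sub_apply, Pi.smul_apply, Finset.sum_apply, hval, nsmul_eq_mul, mul_one]
      rw [Finset.sum_ite_eq]
      simp only [Finset.mem_filter, Finset.mem_univ, true_and, theta]
      split_ifs with h <;> simp_all
    rw [heq]
    refine IsGeneralizedCharacter.sub
      (IsCharacter.isGeneralizedCharacter (IsCharacter.nsmul isCharacter_one _)) ?_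
    refine Finset.sum_induction _ (Cfsg.IsGeneralizedCharacter C) (fun a b ha hb => ?_)
      ⟨0, 0, isCharacter_zero, isCharacter_zero, (sub_zero 0).symm⟩ hsub
    obtain ⟨p, q, hp, hq, rfl⟩ := ha
    obtain ⟨r, s, hr, hs, rfl⟩ := hb
    exact ⟨p + r, q + s, IsCharacter.add hp hr, IsCharacter.add hq hs, by abel⟩

/-- Functions induced from linear characters of cyclic subgroups. -/
def cycSpan : AddSubgroup (G → ℂ) :=
  AddSubgroup.closure {f | ∃ (A : Subgroup G) (lam : A →* ℂˣ), IsCyclic A ∧
    f = Cfsg.indFun A (fun a => (lam a : ℂ))}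

variable {G}

theorem indFun_cyclic_mem {A : Subgroup G} (hA : IsCyclic A) {φ : A → ℂ}
    (hφ : Cfsg.IsGeneralizedCharacter A φ) : Cfsg.indFun A φ ∈ cycSpan G := by
  classical
  have hchar : ∀ φ : A → ℂ, Cfsg.IsCharacter A φ → Cfsg.indFun A φ ∈ cycSpan G := by
    intro φ hφ
    obtain ⟨m, -, hexp⟩ := IsCharacter.exists_multiplicity hφ
    rw [show φ = ∑ χ : Cfsg.IrrCharacter A, (m χ : ℂ) • (χ : A → ℂ) from funext fun g => by
      rw [hexp g]; simp [Finset.sum_apply], indFun_sum]
    refine sum_mem fun χ _ => ?_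
    rw [indFun_smul, Nat.cast_smul_eq_nsmul]
    refine AddSubgroup.nsmul_mem _ ?_ _
    let _ : CommGroup A := hA.commGroup
    obtain ⟨f, hf⟩ := exists_hom_of_apply_one_eq_one (IsIrrCharacter.isCharacter χ.2)
      (apply_one_eq_one_of_comm (fun a b => mul_comm a b) χ.2)
    exact AddSubgroup.subset_closure ⟨A, f, hA, by rw [hf]⟩
  obtain ⟨a, b, ha, hb, rfl⟩ := hφ
  rw [indFun_sub]
  exact AddSubgroup.sub_mem _ (hchar a ha) (hchar b hb)

/-- **Artin's induction theorem.** -/
theorem artin {χ : G → ℂ} (hχ : Cfsg.IsCharacter G χ) : (Nat.card G : ℂ) • χ ∈ cycSpan G := by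
  classical
  have heq : (Nat.card G : ℂ) • χ =
      ∑ A ∈ (Finset.univ : Finset (Subgroup G)).filter (fun A : Subgroup G => IsCyclic A),
        Cfsg.indFun A (theta A * fun a : A => χ a) := by
    funext g
    have hterm : ∀ (A : Subgroup G) (x : G),
        Cfsg.extendByZero A (theta A * fun a : A => χ a) (x⁻¹ * g * x) =
          (if Subgroup.zpowers (x⁻¹ * g * x) = A then (Nat.card A : ℂ) else 0) * χ g := by
      intro A x
      by_cases hm : x⁻¹ * g * x ∈ A
      · rw [extendByZero_apply_mem A _ hm, Pi.mul_apply, theta]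
        have hiff : Subgroup.zpowers (⟨_, hm⟩ : A) = ⊤ ↔ Subgroup.zpowers (x⁻¹ * g * x) = A := by
          rw [← (Subgroup.map_injective A.subtype_injective).eq_iff, MonoidHom.map_zpowers,
            ← MonoidHom.range_eq_map, Subgroup.range_subtype]
          rfl
        simp only [hiff]
        congr 1
        have := IsCharacter.isClassFunction hχ g x⁻¹
        rwa [inv_inv] at this
      · rw [extendByZero_apply_notMem A _ hm, if_neg (show ¬ Subgroup.zpowers (x⁻¹ * g * x) = A from
          fun h => hm (h ▸ Subgroup.mem_zpowers _)),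
          zero_mul]
    simp only [Finset.sum_apply, indFun_def, hterm, Pi.smul_apply, smul_eq_mul, Finset.mul_sum]
    rw [Finset.sum_comm]
    have hin : ∀ x : G,
        ∑ A ∈ (Finset.univ : Finset (Subgroup G)).filter (fun A : Subgroup G => IsCyclic A),
          (Nat.card A : ℂ)⁻¹ *
            ((if Subgroup.zpowers (x⁻¹ * g * x) = A then (Nat.card A : ℂ) else 0) * χ g) = χ g := by
      intro x
      rw [Finset.sum_eq_single (Subgroup.zpowers (x⁻¹ * g * x))]
      · rw [if_pos rfl, ← mul_assoc, inv_mul_cancel₀ (Nat.cast_ne_zero.mpr Nat.card_pos.ne'),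
          one_mul]
      · intro A _ hne
        rw [if_neg (Ne.symm hne)]
        simp
      · intro h
        refine absurd ?_ h
        simp only [Finset.mem_filter, Finset.mem_univ, true_and]
        infer_instance
    rw [Finset.sum_congr rfl fun x _ => hin x, Finset.sum_const, Finset.card_univ, nsmul_eq_mul,
      ← Nat.card_eq_fintype_card]
  rw [heq]
  refine sum_mem fun A hA => indFun_cyclic_mem (Finset.mem_filter.mp hA).2 ?_
  have hcyc : IsCyclic A := (Finset.mem_filter.mp hA).2
  obtain ⟨a, b, ha, hb, he⟩ := theta_gen_aux _ A rfl fun a b => by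
    let _ : CommGroup A := hcyc.commGroup
    exact mul_comm a b
  rw [he, sub_mul]
  exact ⟨_, _, IsCharacter.mul ha (IsCharacter.restrict hχ A),
    IsCharacter.mul hb (IsCharacter.restrict hχ A), rfl⟩

end CfsgLib.Char.Artin
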