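import Cfsg.Agent.Lib.Char.ClassSum
import Cfsg.Agent.Lib.Char.Constituent
import Cfsg.Prelude.Def_OddOrderLocal
import Mathlib.GroupTheory.Sylow
import Mathlib.GroupTheory.GroupAction.Quotient

/-!
# Character values on a central TI subgroup of a Sylow normaliser of odd order
-/

set_option autoImplicit false

open scoped ComplexConjugate

namespace CfsgLib.Char.CentralTI

/-- A sum of an invariant function over a set with a free action is a multiple of the order. -/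
theorem exists_mul_of_free {A S : Type*} [Group A] [Finite A] [MulAction A S] [Fintype S]
    (hfree : ∀ (s : S) (a : A), a • s = s → a = 1) (f : S → ℂ) (hf : ∀ (a : A) s, f (a • s) = f s)
    (hint : ∀ s, IsIntegral ℤ (f s)) :
    ∃ β : ℂ, IsIntegral ℤ β ∧ ∑ s, f s = (Nat.card A : ℂ) * β := by
  classical
  cases nonempty_fintype A
  letI : Fintype (Quotient (MulAction.orbitRel A S)) := Fintype.ofFinite _
  refine ⟨∑ q : Quotient (MulAction.orbitRel A S), f q.out, IsIntegral.sum _ fun q _ => hint _, ?_⟩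
  rw [Finset.mul_sum, ← Finset.sum_fiberwise Finset.univ
    (Quotient.mk (MulAction.orbitRel A S)) f]
  refine Finset.sum_congr rfl fun q _ => ?_
  have hset : Finset.univ.filter (fun s => Quotient.mk (MulAction.orbitRel A S) s = q) =
      Finset.univ.image fun a : A => a • q.out := by
    ext s
    simp only [Finset.mem_filter, Finset.mem_univ, true_and, Finset.mem_image]
    constructor
    · rintro rfl
      obtain ⟨a, ha⟩ := Quotient.mk_out (s := MulAction.orbitRel A S) s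
      exact ⟨a⁻¹, by rw [← show a • s = _ from ha, inv_smul_smul]⟩
    · rintro ⟨a, rfl⟩
      conv_rhs => rw [← Quotient.out_eq q]
      exact Quotient.sound ⟨a, rfl⟩
  rw [hset, Finset.sum_image fun a _ b _ h => ?_, Finset.sum_congr rfl fun a _ => hf a q.out,
    Finset.sum_const, Finset.card_univ, nsmul_eq_mul, ← Nat.card_eq_fintype_card]
  exact (inv_mul_eq_one.mp (hfree q.out (b⁻¹ * a) (by
    rw [mul_smul]; show b⁻¹ • (a • q.out) = q.out; rw [show a • q.out = b • q.out from h, inv_smul_smul]))).symm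

variable {G : Type*} [Group G] [Fintype G]

/-- The value on the central TI subgroup is an integer congruent to the degree. -/
theorem exists_int_congr {p : ℕ} [Fact p.Prime] (P : Sylow p G)
    (hTI : Cfsg.IsTISubset ((P : Subgroup G) : Set G))
    (hodd : Odd (Nat.card (Subgroup.normalizer ((P : Subgroup G) : Set G)))) (Z : Subgroup G)
    (hZP : Z ≤ P)
    (hZn : ∀ x ∈ Subgroup.normalizer ((P : Subgroup G) : Set G), ∀ z ∈ Z, x * z * x⁻¹ ∈ Z)
    (hZc : ∀ z ∈ Z, ∀ y ∈ (P : Subgroup G), z * y = y * z) {ψ : G → ℂ}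
    (hψ : Cfsg.IsIrrCharacter G ψ)
    (hconst : ∀ z ∈ Z, ∀ z' ∈ Z, z ≠ 1 → z' ≠ 1 → ψ z = ψ z') (z : G) (hz : z ∈ Z) (hz1 : z ≠ 1) :
    ∃ n d : ℤ, ψ z = n ∧ ψ 1 = d ∧ (Nat.card (P : Subgroup G) : ℤ) ∣ d - n := by
  classical
  set L := Subgroup.normalizer ((P : Subgroup G) : Set G) with hL
  have hψc := IsIrrCharacter.isCharacter hψ
  obtain ⟨d, hd⟩ := IsCharacter.apply_one_eq hψc
  -- rationality of the common value
  obtain ⟨n, hn⟩ : ∃ n : ℤ, ψ z = n := by
    cases nonempty_fintype Z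
    have hne : Z ≠ ⊥ := fun h => hz1 (by rw [h] at hz; exact Subgroup.mem_bot.mp hz)
    obtain ⟨lam, hlam⟩ : ∃ lam : Cfsg.IrrCharacter Z, (lam : Z → ℂ) ≠ fun _ => 1 := by
      by_contra hc
      push Not at hc
      exact hz1 (congrArg Subtype.val (eq_one_of_forall_irr (g := (⟨z, hz⟩ : Z))
        fun φ => by rw [hc φ]))
    have hres := IsCharacter.restrict hψc Z
    obtain ⟨a, ha⟩ := IsCharacter.classInner_nat hres (IsIrrCharacter.isCharacter lam.2)
    obtain ⟨b, hb⟩ := IsCharacter.classInner_nat hres (isCharacter_one (G := Z))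
    have hlam1 : (lam : Z → ℂ) 1 = 1 := apply_one_eq_one_of_comm
      (fun u v => Subtype.ext (hZc u u.2 v (hZP v.2))) lam.2
    have hdecomp : (fun u : Z => ψ u) = ψ z • (fun _ => (1 : ℂ)) +
        (ψ 1 - ψ z) • fun u : Z => if u = 1 then (1 : ℂ) else 0 := by
      funext u
      simp only [Pi.add_apply, Pi.smul_apply, smul_eq_mul, mul_one]
      by_cases hu : u = 1
      · simp [hu]
      · rw [if_neg hu, mul_zero, add_zero]
        exact hconst u u.2 z hz (fun h => hu (Subtype.ext h)) hz1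
    have hdelta : ∀ θ : Z → ℂ, θ 1 = 1 →
        Cfsg.classInner (fun u : Z => if u = 1 then (1 : ℂ) else 0) θ = (Nat.card Z : ℂ)⁻¹ := by
      intro θ hθ
      simp [Cfsg.classInner, hθ]
    rw [hdecomp, classInner_add_left, classInner_smul_left, classInner_smul_left,
      hdelta _ hlam1, classInner_irr_ne isIrrCharacter_one lam.2 (Ne.symm hlam), mul_zero,
      zero_add] at ha
    rw [hdecomp, classInner_add_left, classInner_smul_left, classInner_smul_left,
      hdelta _ rfl, classInner_irr_self isIrrCharacter_one, mul_one, ha] at hb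
    exact ⟨(b : ℤ) - a, by push_cast; linear_combination hb⟩
  refine ⟨n, d, hn, by simpa using hd, ?_⟩
  -- centralisers
  set C : Subgroup G := L ⊓ Subgroup.centralizer ({z} : Set G)
  have hPL : (P : Subgroup G) ≤ L := Subgroup.le_normalizer
  have hPC : (P : Subgroup G) ≤ C := fun y hy => Subgroup.mem_inf.mpr
    ⟨hPL hy, Subgroup.mem_centralizer_singleton_iff.mpr (hZc z hz y hy).symm⟩
  have hpL : ∀ x ∈ L, ∀ k : ℕ, x ^ p ^ k = 1 → x ∈ (P : Subgroup G) := by
    intro x hx k hk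
    have hp' : IsPGroup p (Subgroup.zpowers x) := by
      obtain ⟨j, -, hj⟩ := (Nat.dvd_prime_pow (Fact.out : p.Prime)).mp (orderOf_dvd_of_pow_eq_one hk)
      exact IsPGroup.of_card (n := j) (by rw [Nat.card_zpowers, hj])
    have hsup : IsPGroup p ↥(Subgroup.zpowers x ⊔ (P : Subgroup G)) :=
      hp'.to_sup_of_normal_right' P.2 (Subgroup.zpowers_le.mpr hx)
    exact (P.3 hsup le_sup_right) ▸ Subgroup.mem_sup_left (Subgroup.mem_zpowers x)
  have hzLinv : ∀ h ∈ L, h * z * h⁻¹ ≠ z⁻¹ := by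
    intro h hh he
    have h2 : h ^ 2 * z * (h ^ 2)⁻¹ = z := by
      rw [sq, show h * h * z * (h * h)⁻¹ = h * (h * z * h⁻¹) * h⁻¹ by group, he,
        show h * z⁻¹ * h⁻¹ = (h * z * h⁻¹)⁻¹ by group, he, inv_inv]
    obtain ⟨j, hj⟩ : Odd (orderOf h) := hodd.of_dvd_nat (Subgroup.orderOf_dvd_natCard L hh)
    have hc : h ^ 2 ∈ Subgroup.centralizer ({z} : Set G) :=
      Subgroup.mem_centralizer_singleton_iff.mpr (mul_inv_eq_iff_eq_mul.mp h2)
    have hh' : h = (h ^ 2) ^ (j + 1) := by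
      rw [← pow_mul, show 2 * (j + 1) = orderOf h + 1 by omega, pow_succ, pow_orderOf_eq_one, one_mul]
    have hcz := Subgroup.mem_centralizer_singleton_iff.mp (hh' ▸ Subgroup.pow_mem _ hc (j + 1) :
      h ∈ Subgroup.centralizer ({z} : Set G))
    rw [show h * z * h⁻¹ = z by rw [hcz, mul_inv_cancel_right]] at he
    have hz2 : z ^ 2 = 1 := by rw [sq]; nth_rw 1 [he]; exact inv_mul_cancel z
    obtain ⟨i, hi⟩ := hodd.of_dvd_nat (Subgroup.orderOf_dvd_natCard L (hPL (hZP hz)))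
    have := orderOf_dvd_of_pow_eq_one hz2
    rcases (Nat.dvd_prime Nat.prime_two).mp this with h1 | h1
    · exact hz1 (orderOf_eq_one_iff.mp h1)
    · omega
  -- the free action of `P × C` off the normaliser
  let S := {h : G // h ∉ L}
  letI : MulAction (↥(P : Subgroup G) × ↥C) S :=
    { smul := fun a h => ⟨(a.1 : G) * h.1 * (a.2 : G)⁻¹, fun hh => h.2 (by
        have := mul_mem (mul_mem (inv_mem (hPL a.1.2)) hh) (Subgroup.mem_inf.mp a.2.2).1
        simpa [mul_assoc] using this)⟩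
      one_smul := fun h => Subtype.ext (by
        show ((1 : (P : Subgroup G)) : G) * h.1 * ((1 : C) : G)⁻¹ = h.1
        simp)
      mul_smul := fun a b h => Subtype.ext (by
        show ((a.1 * b.1 : (P : Subgroup G)) : G) * h.1 * ((a.2 * b.2 : C) : G)⁻¹ =
          (a.1 : G) * ((b.1 : G) * h.1 * (b.2 : G)⁻¹) * (a.2 : G)⁻¹
        simp [mul_assoc]) }
  have hfree : ∀ (s : S) (a : ↥(P : Subgroup G) × ↥C), a • s = s → a = 1 := by
    intro s a ha
    have ha' : (a.1 : G) * s.1 * (a.2 : G)⁻¹ = s.1 := congrArg Subtype.val ha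
    have he : (a.2 : G) = s.1⁻¹ * a.1 * s.1 := by
      rw [mul_assoc, eq_inv_mul_iff_mul_eq]; exact (mul_inv_eq_iff_eq_mul.mp ha').symm
    have h1 : (a.1 : G) = 1 := by
      obtain ⟨k, hk⟩ := P.2 a.1
      have hk' : (a.1 : G) ^ p ^ k = 1 := congrArg Subtype.val hk
      have h2P : (a.2 : G) ∈ (P : Subgroup G) := hpL _ (Subgroup.mem_inf.mp a.2.2).1 k (by
        have hconj : (s.1⁻¹ * (a.1 : G) * s.1) ^ p ^ k = s.1⁻¹ * (a.1 : G) ^ p ^ k * s.1 := by
          conv_lhs => rw [show s.1⁻¹ * (a.1 : G) * s.1 = s.1⁻¹ * (a.1 : G) * s.1⁻¹⁻¹ by rw [inv_inv]]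
          rw [conj_pow, inv_inv]
        rw [he, hconj, hk', mul_one, inv_mul_cancel])
      by_contra hne
      exact hne (hTI s.1⁻¹ (fun hh => s.2 (inv_mem_iff.mp hh)) (a.1 : G) a.1.2
        (by rw [inv_inv, ← he]; exact h2P))
    refine Prod.ext (Subtype.ext h1) (Subtype.ext ?_)
    rw [he, h1, mul_one, inv_mul_cancel]; rfl
  have hint : ∀ g, IsIntegral ℤ (ψ g) := IsCharacter.isIntegral hψc
  have hcl := IsIrrCharacter.isClassFunction hψ
  have hβ : ∀ w : G, w ∈ Z → (∀ c ∈ C, c * w * c⁻¹ = w) →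
      ∃ β : ℂ, IsIntegral ℤ β ∧ ∑ h : S, ψ (z * (h.1 * w * h.1⁻¹)) =
        ((Nat.card (P : Subgroup G) * Nat.card C : ℕ) : ℂ) * β := by
    intro w _ hwc
    rw [← Nat.card_prod]
    refine exists_mul_of_free hfree _ (fun a h => ?_) (fun h => hint _)
    show ψ (z * (((a.1 : G) * h.1 * (a.2 : G)⁻¹) * w * ((a.1 : G) * h.1 * (a.2 : G)⁻¹)⁻¹)) =
      ψ (z * (h.1 * w * h.1⁻¹))
    have e1 : (a.2 : G)⁻¹ * w * (a.2 : G) = w := by
      simpa using hwc _ (inv_mem a.2.2)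
    have e2 : z * (a.1 : G) = (a.1 : G) * z := hZc z hz _ a.1.2
    rw [show z * (((a.1 : G) * h.1 * (a.2 : G)⁻¹) * w * ((a.1 : G) * h.1 * (a.2 : G)⁻¹)⁻¹) =
      z * (a.1 : G) * (h.1 * ((a.2 : G)⁻¹ * w * (a.2 : G)) * h.1⁻¹) * (a.1 : G)⁻¹ by group,
      e1, e2, mul_assoc (a.1 : G) z]
    exact hcl _ _
  have hCz : ∀ c ∈ C, c * z * c⁻¹ = z := fun c hc => by
    rw [Subgroup.mem_centralizer_singleton_iff.mp (Subgroup.mem_inf.mp hc).2, mul_inv_cancel_right]
  obtain ⟨β₁, hβ₁, e₁⟩ := hβ z hz hCz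
  obtain ⟨β₂, hβ₂, e₂⟩ := hβ z⁻¹ (inv_mem hz) fun c hc => by
    rw [show c * z⁻¹ * c⁻¹ = (c * z * c⁻¹)⁻¹ by group, hCz c hc]
  -- the two sums over the normaliser
  have hval : ∀ x ∈ Z, ψ x = if x = 1 then ψ 1 else (n : ℂ) := fun x hx => by
    split_ifs with h
    · rw [h]
    · rw [← hn]; exact hconst x hx z hz h hz1
  have hs₁ : ∑ h : {h : G // h ∈ L}, ψ (z * (h.1 * z * h.1⁻¹)) = (Nat.card L : ℂ) * n := by
    rw [Finset.sum_congr rfl fun (h : {h : G // h ∈ L}) _ => show ψ (z * (h.1 * z * h.1⁻¹)) = (n : ℂ) by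
      rw [hval _ (mul_mem hz (hZn _ h.2 z hz)), if_neg fun e => hzLinv _ h.2 (eq_inv_of_mul_eq_one_right e)],
      Finset.sum_const, Finset.card_univ, ← Nat.card_eq_fintype_card, nsmul_eq_mul]
  have hs₂ : ∑ h : {h : G // h ∈ L}, ψ (z * (h.1 * z⁻¹ * h.1⁻¹)) =
      (Nat.card L : ℂ) * n + (Nat.card C : ℂ) * (ψ 1 - n) := by
    rw [Finset.sum_congr rfl fun (h : {h : G // h ∈ L}) _ => show ψ (z * (h.1 * z⁻¹ * h.1⁻¹)) =
        (n : ℂ) + if h.1 ∈ Subgroup.centralizer ({z} : Set G) then ψ 1 - n else 0 by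
      rw [hval _ (mul_mem hz (hZn _ h.2 _ (inv_mem hz)))]
      have hiff : z * (h.1 * z⁻¹ * h.1⁻¹) = 1 ↔ h.1 ∈ Subgroup.centralizer ({z} : Set G) := by
        rw [Subgroup.mem_centralizer_singleton_iff, show h.1 * z⁻¹ * h.1⁻¹ = (h.1 * z * h.1⁻¹)⁻¹ by group,
          mul_inv_eq_one, eq_mul_inv_iff_mul_eq, eq_comm]
      by_cases hc : h.1 ∈ Subgroup.centralizer ({z} : Set G)
      · rw [if_pos (hiff.mpr hc), if_pos hc]; ring
      · rw [if_neg (hiff.not.mpr hc), if_neg hc]; ring,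
      Finset.sum_add_distrib, Finset.sum_const, Finset.card_univ, ← Nat.card_eq_fintype_card,
      nsmul_eq_mul, ← Finset.sum_filter, Finset.sum_const, nsmul_eq_mul,
      ← Fintype.card_subtype, ← Nat.card_eq_fintype_card]
    have hcC : Nat.card {h : {h : G // h ∈ L} // h.1 ∈ Subgroup.centralizer ({z} : Set G)} =
        Nat.card C := Nat.card_congr
      { toFun := fun h => (⟨h.1.1, Subgroup.mem_inf.mpr ⟨h.1.2, h.2⟩⟩ : C)
        invFun := fun h => ⟨⟨h.1, (Subgroup.mem_inf.mp h.2).1⟩, (Subgroup.mem_inf.mp h.2).2⟩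
        left_inv := fun h => rfl
        right_inv := fun h => rfl }
    rw [hcC]
  have key : ∑ h : G, ψ (z * (h * z * h⁻¹)) = ∑ h : G, ψ (z * (h * z⁻¹ * h⁻¹)) := by
    rw [IsIrrCharacter.sum_mul_conjugate hψ, IsIrrCharacter.sum_mul_conjugate hψ,
      hconst z⁻¹ (inv_mem hz) z hz (by simpa using hz1) hz1]
  rw [← Fintype.sum_subtype_add_sum_subtype (fun h => h ∈ L) (fun h => ψ (z * (h * z * h⁻¹))),
    ← Fintype.sum_subtype_add_sum_subtype (fun h => h ∈ L) (fun h => ψ (z * (h * z⁻¹ * h⁻¹))),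
    hs₁, hs₂] at key
  rw [show ∑ h : {h : G // h ∉ L}, ψ (z * (h.1 * z * h.1⁻¹)) = _ from e₁,
    show ∑ h : {h : G // h ∉ L}, ψ (z * (h.1 * z⁻¹ * h.1⁻¹)) = _ from e₂] at key
  push_cast at key
  have hC0 : (Nat.card C : ℂ) ≠ 0 := Nat.cast_ne_zero.mpr Nat.card_pos.ne'
  have hP0 : (Nat.card (P : Subgroup G) : ℂ) ≠ 0 := Nat.cast_ne_zero.mpr Nat.card_pos.ne'
  have hdiff : ψ 1 - n = (Nat.card (P : Subgroup G) : ℂ) * (β₁ - β₂) := by
    refine mul_left_cancel₀ hC0 ?_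
    linear_combination -key
  obtain ⟨k, hk⟩ := exists_int_of_isIntegral_rat (hβ₁.sub hβ₂)
    (q := (((d : ℤ) - n : ℤ) : ℚ) / (Nat.card (P : Subgroup G) : ℚ)) (by
      push_cast
      rw [eq_div_iff hP0, mul_comm, ← hdiff, hd])
  refine ⟨k, ?_⟩
  have : ((((d : ℤ) - n) : ℤ) : ℂ) = (((Nat.card (P : Subgroup G) : ℤ) * k : ℤ) : ℂ) := by
    push_cast
    rw [← hk, ← hdiff, hd]
  exact_mod_cast this

end CfsgLib.Char.CentralTI
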