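import Cfsg.Agent.Lib.Char.CliffordCorr
import Cfsg.Agent.Lib.Char.CliffordAbelian
import Cfsg.Agent.Lib.Char.Quotient
import Cfsg.Agent.Lib.DegreeTools.CentralSupport
import Cfsg.Agent.Lib.Solvable.Basic
import Mathlib.Algebra.Field.ZMod
import Mathlib.GroupTheory.FiniteAbelian.Basic

/-!
# Solvable groups inside the quotient of a group of central type

A Heisenberg group over a permutation module of `K ⧸ Z(K)`, extended by `K`, is again of central
type and receives every extension of a subgroup of `K ⧸ Z(K)` by an elementary abelian group.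
-/

set_option autoImplicit false
set_option linter.unusedSectionVars false

universe u

namespace CfsgLib.Char.CentralTypeEmbed

open Cfsg CfsgLib CfsgLib.Char

/-- The Heisenberg group on the permutation module of `X`, extended by `K`. -/
structure HK (p : ℕ) (X : Type u) (K : Type u) : Type u where
  a : X → ZMod p
  b : X → ZMod p
  c : ZMod p
  k : K

namespace HK

variable {p : ℕ} {X K : Type u}

theorem ext' {g h : HK p X K} (h1 : g.a = h.a) (h2 : g.b = h.b) (h3 : g.c = h.c)
    (h4 : g.k = h.k) : g = h := by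
  cases g; cases h; simp_all

/-- The components. -/
def equiv : HK p X K ≃ (X → ZMod p) × (X → ZMod p) × ZMod p × K where
  toFun g := (g.a, g.b, g.c, g.k)
  invFun t := ⟨t.1, t.2.1, t.2.2.1, t.2.2.2⟩
  left_inv _ := rfl
  right_inv _ := rfl

variable [Group K] [MulAction K X]

/-- Translation of functions. -/
def shift (g : K) (f : X → ZMod p) : X → ZMod p := fun x => f (g⁻¹ • x)

theorem shift_one (f : X → ZMod p) : shift (1 : K) f = f := by funext x; simp [shift]

theorem shift_mul (g h : K) (f : X → ZMod p) : shift (g * h) f = shift g (shift h f) := by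
  funext x; simp [shift, mul_smul]

theorem shift_add (g : K) (f f' : X → ZMod p) : shift g (f + f') = shift g f + shift g f' := rfl

theorem shift_neg (g : K) (f : X → ZMod p) : shift g (-f) = -shift g f := rfl

theorem shift_zero (g : K) : shift g (0 : X → ZMod p) = 0 := rfl

variable [Fintype X]

/-- The pairing. -/
def dot (f f' : X → ZMod p) : ZMod p := ∑ x, f x * f' x

theorem dot_shift (g : K) (f f' : X → ZMod p) : dot (shift g f) (shift g f') = dot f f' :=
  Fintype.sum_equiv (MulAction.toPerm g⁻¹) _ _ fun _ => rfl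

theorem dot_add_left (f f' h : X → ZMod p) : dot (f + f') h = dot f h + dot f' h := by
  simp [dot, add_mul, Finset.sum_add_distrib]

theorem dot_add_right (h f f' : X → ZMod p) : dot h (f + f') = dot h f + dot h f' := by
  simp [dot, mul_add, Finset.sum_add_distrib]

theorem dot_neg_left (f h : X → ZMod p) : dot (-f) h = -dot f h := by
  simp [dot, Finset.sum_neg_distrib]

theorem dot_zero_left (h : X → ZMod p) : dot 0 h = 0 := by simp [dot]

theorem dot_zero_right (h : X → ZMod p) : dot h 0 = 0 := by simp [dot]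

instance : Mul (HK p X K) :=
  ⟨fun g h => ⟨g.a + shift g.k h.a, g.b + shift g.k h.b, g.c + h.c + dot g.a (shift g.k h.b),
    g.k * h.k⟩⟩

instance : One (HK p X K) := ⟨⟨0, 0, 0, 1⟩⟩

instance : Inv (HK p X K) :=
  ⟨fun g => ⟨shift g.k⁻¹ (-g.a), shift g.k⁻¹ (-g.b), -g.c + dot g.a g.b, g.k⁻¹⟩⟩

theorem mul_def (g h : HK p X K) : g * h = ⟨g.a + shift g.k h.a, g.b + shift g.k h.b,
    g.c + h.c + dot g.a (shift g.k h.b), g.k * h.k⟩ := rfl

theorem one_def : (1 : HK p X K) = ⟨0, 0, 0, 1⟩ := rfl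

theorem inv_def (g : HK p X K) : g⁻¹ = ⟨shift g.k⁻¹ (-g.a), shift g.k⁻¹ (-g.b),
    -g.c + dot g.a g.b, g.k⁻¹⟩ := rfl

instance : Group (HK p X K) := Group.ofLeftAxioms
  (fun g h l => by
    simp only [mul_def]
    refine ext' ?_ ?_ ?_ ?_
    · simp [shift_mul, shift_add, add_assoc]
    · simp [shift_mul, shift_add, add_assoc]
    · simp only [shift_mul, shift_add, dot_add_left, dot_add_right, dot_shift]
      ring
    · exact mul_assoc _ _ _)
  (fun g => by
    simp only [one_def, mul_def]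
    refine ext' ?_ ?_ ?_ ?_ <;> simp [shift_one, dot_zero_left])
  (fun g => by
    simp only [one_def, inv_def, mul_def]
    refine ext' ?_ ?_ ?_ ?_
    · simp [shift_neg]
    · simp [shift_neg]
    · simp only [shift_neg, dot_neg_left, dot_shift]; ring
    · exact inv_mul_cancel _)

noncomputable instance [Fintype K] [NeZero p] : Fintype (HK p X K) :=
  letI : DecidableEq X := Classical.decEq X
  Fintype.ofEquiv _ equiv.symm

theorem card_eq [Fintype K] [NeZero p] :
    Nat.card (HK p X K) = p ^ (2 * Fintype.card X + 1) * Nat.card K := by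
  rw [Nat.card_congr equiv, Nat.card_prod, Nat.card_prod, Nat.card_prod, Nat.card_fun,
    Nat.card_zmod, Nat.card_eq_fintype_card (α := X)]
  ring

/-- The projection to `K`. -/
def proj : HK p X K →* K where
  toFun g := g.k
  map_one' := rfl
  map_mul' _ _ := rfl

variable (p X K) in
/-- The inertia group. -/
def inertia : Subgroup (HK p X K) where
  carrier := {g | g.a = 0}
  one_mem' := rfl
  mul_mem' := fun {g h} (hg : g.a = 0) (hh : h.a = 0) => by
    show (g * h).a = 0
    simp [mul_def, hg, hh, shift_zero]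
  inv_mem' := fun {g} (hg : g.a = 0) => by
    show (g⁻¹).a = 0
    simp [inv_def, hg, shift_zero]

variable (p X K) in
/-- The abelian normal subgroup. -/
def base : Subgroup (HK p X K) where
  carrier := {g | g.a = 0 ∧ g.k = 1}
  one_mem' := ⟨rfl, rfl⟩
  mul_mem' := fun {g h} (hg : g.a = 0 ∧ g.k = 1) (hh : h.a = 0 ∧ h.k = 1) => by
    refine ⟨?_, ?_⟩ <;> simp [mul_def, hg.1, hg.2, hh.1, hh.2, shift_zero]
  inv_mem' := fun {g} (hg : g.a = 0 ∧ g.k = 1) => by
    refine ⟨?_, ?_⟩ <;> simp [inv_def, hg.1, hg.2, shift_zero]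

theorem conj_base (g h : HK p X K) (hh : h ∈ base p X K) :
    g * h * g⁻¹ = ⟨0, shift g.k h.b, h.c + dot g.a (shift g.k h.b), 1⟩ := by
  obtain ⟨ha, hk⟩ := hh
  have hs : ∀ f : X → ZMod p, shift g.k (shift g.k⁻¹ f) = f := fun f => by
    rw [← shift_mul, mul_inv_cancel, shift_one]
  simp only [mul_def, inv_def, ha, hk, shift_zero, mul_one, add_zero]
  refine ext' ?_ ?_ ?_ ?_
  · simp [hs]
  · simp [hs]
  · simp only [hs]
    rw [← neg_one_smul (ZMod p) g.b]
    simp [dot, Finset.sum_neg_distrib, mul_comm]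
    ring
  · simp

instance : (base p X K).Normal := ⟨fun h hh g => by rw [conj_base g h hh]; exact ⟨rfl, rfl⟩⟩

theorem base_le : base p X K ≤ inertia p X K := fun _ h => h.1

end HK

section Data

variable {p : ℕ} [hp : Fact p.Prime]

/-- A primitive character of `ZMod p`. -/
theorem exists_zmod_hom : ∃ e : Multiplicative (ZMod p) →* ℂˣ, Function.Injective e := by
  haveI : NeZero p := ⟨hp.out.ne_zero⟩
  refine ⟨(ZMod.stdAddChar (N := p)).toMonoidHom.toHomUnits, fun a c h => ?_⟩
  have h' := congrArg (fun u : ℂˣ => (u : ℂ)) h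
  exact Multiplicative.toAdd.injective (ZMod.injective_stdAddChar h')

open HK in
/-- The central type group over `K`. -/
theorem exists_faithful {X : Type u} [Fintype X] {K : Type u} [Group K] [Fintype K] [MulAction K X]
    (hact : ∀ z ∈ Subgroup.center K, ∀ x : X, z • x = x) (φ : IrrCharacter K)
    (hφ : charDegree (φ : K → ℂ) ^ 2 = (Subgroup.center K).index) :
    ∃ χ : IrrCharacter (HK p X K),
      (∀ (z : K) (c : ZMod p), z ∈ Subgroup.center K →
        (⟨0, 0, c, z⟩ : HK p X K) ∈ Subgroup.center (HK p X K)) ∧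
      charDegree (χ : HK p X K → ℂ) = p ^ Fintype.card X * charDegree (φ : K → ℂ) ∧
      (χ : HK p X K → ℂ) ⟨0, 0, 1, 1⟩ ≠ (χ : HK p X K → ℂ) 1 ∧
      ∀ z ∈ Subgroup.center K, (φ : K → ℂ) z ≠ (φ : K → ℂ) 1 →
        (χ : HK p X K → ℂ) ⟨0, 0, 0, z⟩ ≠ (χ : HK p X K → ℂ) 1 := by
  classical
  haveI : NeZero p := ⟨hp.out.ne_zero⟩
  obtain ⟨e, he⟩ := exists_zmod_hom (p := p)
  set T := inertia p X K
  set A := base p X K
  letI : Fintype T := Fintype.ofFinite _
  letI : Fintype A := Fintype.ofFinite _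
  -- the linear character of the inertia group
  let lam : T →* ℂˣ :=
    { toFun := fun g => e (Multiplicative.ofAdd (g : HK p X K).c)
      map_one' := by
        show e (Multiplicative.ofAdd (1 : HK p X K).c) = 1
        simp [one_def]
      map_mul' := fun g h => by
        show e (Multiplicative.ofAdd ((g : HK p X K) * h).c) = _
        have hg : (g : HK p X K).a = 0 := g.2
        simp [mul_def, hg, dot_zero_left, ofAdd_add] }
  let prT : T →* K := HK.proj.comp T.subtype
  have hprT : Function.Surjective prT := fun k => ⟨⟨⟨0, 0, 0, k⟩, rfl⟩, rfl⟩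
  set ψ : T → ℂ := fun t => ((lam t : ℂˣ) : ℂ) * ((φ : K → ℂ) (prT t))
  have hψ : IsIrrCharacter T ψ := by
    have h := IsIrrCharacter.mul_hom (IsIrrCharacter.comp_surjective φ.2 prT hprT) lam
    convert h using 1
    funext t
    simp [ψ, mul_comm]
  let θh : A →* ℂˣ := lam.comp (Subgroup.inclusion base_le)
  have hθ : IsIrrCharacter A fun a => ((θh a : ℂˣ) : ℂ) := isIrrCharacter_hom θh
  have hres : resLe base_le ψ = fun a : A => (φ : K → ℂ) 1 * ((θh a : ℂˣ) : ℂ) := by
    funext a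
    show ((lam _ : ℂˣ) : ℂ) * (φ : K → ℂ) (prT _) = _
    rw [show prT ⟨(a : HK p X K), base_le a.2⟩ = 1 from a.2.2, mul_comm]
    rfl
  have hc : classInner (resLe base_le ψ) (fun a => ((θh a : ℂˣ) : ℂ)) ≠ 0 := by
    rw [hres, show (fun a : A => (φ : K → ℂ) 1 * ((θh a : ℂˣ) : ℂ))
      = (φ : K → ℂ) 1 • fun a : A => ((θh a : ℂˣ) : ℂ) from rfl, classInner_smul_left,
      classInner_irr_self hθ, mul_one]
    exact IsIrrCharacter.apply_one_ne_zero φ.2
  have hT : IsInertia (fun a : A => ((θh a : ℂˣ) : ℂ)) T := by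
    intro g
    constructor
    · intro hg a
      show ((e (Multiplicative.ofAdd (g * (a : HK p X K) * g⁻¹).c) : ℂˣ) : ℂ)
        = ((e (Multiplicative.ofAdd (a : HK p X K).c) : ℂˣ) : ℂ)
      rw [conj_base g a a.2, show g.a = 0 from hg, dot_zero_left, add_zero]
    · intro h
      show g.a = 0
      funext x
      have h1 := h ⟨⟨0, HK.shift g.k⁻¹ (Pi.single x 1), 0, 1⟩, rfl, rfl⟩
      have h2 : g * (⟨0, HK.shift g.k⁻¹ (Pi.single x 1), 0, 1⟩ : HK p X K) * g⁻¹
          = ⟨0, Pi.single x 1, g.a x, 1⟩ := by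
        rw [conj_base g _ ⟨rfl, rfl⟩]
        simp only [← HK.shift_mul, mul_inv_cancel, HK.shift_one, zero_add]
        refine ext' rfl rfl ?_ rfl
        simp [HK.dot, Pi.single_apply]
      change ((e (Multiplicative.ofAdd (g * (⟨0, HK.shift g.k⁻¹ (Pi.single x 1), 0, 1⟩ : HK p X K)
        * g⁻¹).c) : ℂˣ) : ℂ) = ((e (Multiplicative.ofAdd (0 : ZMod p)) : ℂˣ) : ℂ) at h1
      rw [h2, Units.val_inj] at h1
      exact Multiplicative.ofAdd.injective (he h1)
  obtain ⟨hχ, -⟩ := indFun_inertia base_le hθ hT hψ hc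
  set χ : IrrCharacter (HK p X K) := ⟨indFun T ψ, hχ⟩
  have hcentral : ∀ (z : K) (c : ZMod p), z ∈ Subgroup.center K →
      (⟨0, 0, c, z⟩ : HK p X K) ∈ Subgroup.center (HK p X K) := by
    intro z c hz
    refine Subgroup.mem_center_iff.2 fun g => ?_
    have hsz : ∀ f : X → ZMod p, HK.shift z f = f := fun f =>
      funext fun x => congrArg f (hact _ (inv_mem hz) x)
    simp only [mul_def, hsz, HK.shift_zero, HK.dot_zero_left, HK.dot_zero_right, add_zero, zero_add,
      Subgroup.mem_center_iff.1 hz g.k]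
    exact ext' rfl rfl (add_comm _ _) rfl
  have hval : ∀ (z : K) (c : ZMod p), z ∈ Subgroup.center K →
      (χ : HK p X K → ℂ) ⟨0, 0, c, z⟩
        = (T.index : ℂ) * (((e (Multiplicative.ofAdd c) : ℂˣ) : ℂ) * (φ : K → ℂ) z) := by
    intro z c hz
    have hzc := hcentral z c hz
    show indFun T ψ _ = _
    rw [indFun, Finset.sum_congr rfl fun x _ => by
      rw [mul_assoc, ← Subgroup.mem_center_iff.1 hzc x, inv_mul_cancel_left]]
    have hmem : (⟨0, 0, c, z⟩ : HK p X K) ∈ T := rfl
    rw [Finset.sum_const, Finset.card_univ, nsmul_eq_mul, extendByZero_apply_mem _ _ hmem,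
      ← Nat.card_eq_fintype_card, ← Subgroup.card_mul_index T]
    have : (Nat.card T : ℂ) ≠ 0 := Nat.cast_ne_zero.2 Nat.card_pos.ne'
    push_cast
    field_simp
    exact (mul_assoc _ _ _).symm
  have hidx : T.index = p ^ Fintype.card X := by
    have hTcard : Nat.card T = p ^ (Fintype.card X + 1) * Nat.card K := by
      rw [Nat.card_congr (α := T) (β := (X → ZMod p) × ZMod p × K)
        { toFun := fun t => ((t : HK p X K).b, (t : HK p X K).c, (t : HK p X K).k)
          invFun := fun t => ⟨⟨0, t.1, t.2.1, t.2.2⟩, rfl⟩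
          left_inv := fun t => Subtype.ext (ext' (Eq.symm t.2) rfl rfl rfl)
          right_inv := fun _ => rfl }, Nat.card_prod, Nat.card_prod, Nat.card_fun, Nat.card_zmod,
        Nat.card_eq_fintype_card (α := X)]
      ring
    have h := Subgroup.card_mul_index T
    rw [hTcard, HK.card_eq, show p ^ (2 * Fintype.card X + 1) * Nat.card K
      = p ^ (Fintype.card X + 1) * Nat.card K * p ^ Fintype.card X by ring] at h
    exact Nat.eq_of_mul_eq_mul_left (Nat.mul_pos (pow_pos hp.out.pos _) Nat.card_pos) h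
  have hone : (χ : HK p X K → ℂ) 1 = ((p ^ Fintype.card X : ℕ) : ℂ) * (φ : K → ℂ) 1 := by
    rw [show (1 : HK p X K) = ⟨0, 0, 0, 1⟩ from rfl, hval 1 0 (one_mem _), hidx]
    simp
  have hne : (T.index : ℂ) ≠ 0 := Nat.cast_ne_zero.2 Subgroup.index_ne_zero_of_finite
  refine ⟨χ, hcentral, ?_, ?_, fun z hz hzne => ?_⟩
  · obtain ⟨n, hn⟩ : ∃ n : ℕ, (φ : K → ℂ) 1 = n :=
      ⟨_, (DegreeTools.charDegree_cast (isCharacter_irr φ)).symm⟩
    rw [charDegree, charDegree, hone, hn, ← Nat.cast_mul, Complex.natCast_re, Complex.natCast_re,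
      Nat.floor_natCast, Nat.floor_natCast]
  · intro h
    rw [show (1 : HK p X K) = ⟨0, 0, 0, 1⟩ from rfl, hval 1 1 (one_mem _),
      hval 1 0 (one_mem _)] at h
    have h1 := mul_left_cancel₀ hne h
    rw [mul_left_inj' (IsIrrCharacter.apply_one_ne_zero φ.2), Units.val_inj] at h1
    exact one_ne_zero (Multiplicative.ofAdd.injective (he h1))
  · intro h
    rw [show (1 : HK p X K) = ⟨0, 0, 0, 1⟩ from rfl, hval z 0 hz, hval 1 0 (one_mem _)] at h
    simp only [ofAdd_zero, map_one, Units.val_one, one_mul] at h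
    exact hzne (mul_left_cancel₀ hne h)

end Data

/-- The centre of a group with a faithful irreducible character is cyclic. -/
theorem isCyclic_center {H : Type*} [Group H] [Finite H] (χ : IrrCharacter H)
    (hf : ∀ h : H, (χ : H → ℂ) h = (χ : H → ℂ) 1 → h = 1) : IsCyclic (Subgroup.center H) := by
  refine isCyclic_of_subgroup_isDomain (DegreeTools.centralHom χ)
    ((injective_iff_map_eq_one _).2 fun z hz => Subtype.ext (hf z ?_))
  rw [DegreeTools.apply_center_eq, hz, one_mul]

/-- Coordinates in a vector space over `ZMod p`. -/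
theorem exists_coords_of_module {p : ℕ} [Fact p.Prime] {A : Type u} [AddCommGroup A] [Finite A]
    [Module (ZMod p) A] : ∃ r, Nonempty (A ≃+ (Fin r → ZMod p)) :=
  ⟨_, ⟨(Module.finBasis (ZMod p) A).equivFun.toAddEquiv⟩⟩

/-- Coordinates in an elementary abelian group. -/
theorem exists_coords {p : ℕ} [Fact p.Prime] {A : Type u} [AddCommGroup A] [Finite A]
    (h : ∀ a : A, p • a = 0) : ∃ r, Nonempty (A ≃+ (Fin r → ZMod p)) :=
  @exists_coords_of_module p _ A _ _ (AddCommGroup.zmodModule h)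

/-- A group of central type whose central quotient contains the given group. -/
def Embeds (G : Type u) [Group G] : Prop :=
  ∃ (H : Type u) (_ : Group H) (_ : Finite H) (χ : IrrCharacter H),
    (∀ h : H, (χ : H → ℂ) h = (χ : H → ℂ) 1 → h = 1) ∧
    charDegree (χ : H → ℂ) ^ 2 = (Subgroup.center H).index ∧
    (∃ f : G →* H ⧸ Subgroup.center H, Function.Injective f) ∧
    (∀ p : ℕ, p.Prime → ((p ∣ Nat.card H ↔ p ∣ Nat.card G) ∧
      (p ∣ Nat.card (Subgroup.center H) ↔ p ∣ Nat.card G))) ∧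
    Squarefree (Nat.card (Subgroup.center H))

theorem embeds_of_subsingleton (G : Type u) [Group G] [Subsingleton G] : Embeds G := by
  haveI : Finite G := Finite.of_subsingleton
  refine ⟨G, inferInstance, inferInstance, DegreeTools.oneChar G, fun h _ => Subsingleton.elim _ _,
    ?_, ⟨QuotientGroup.mk' _, fun _ _ _ => Subsingleton.elim _ _⟩, fun p hp => ⟨Iff.rfl, ?_⟩, ?_⟩
  · rw [show Subgroup.center G = ⊤ from Subsingleton.elim _ _, Subgroup.index_top]
    simp [charDegree, DegreeTools.oneChar]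
  · rw [show Subgroup.center G = ⊤ from Subsingleton.elim _ _, Subgroup.card_top]
  · rw [show Subgroup.center G = ⊤ from Subsingleton.elim _ _, Subgroup.card_top, Nat.card_unique]
    exact squarefree_one

/-- The induction step. -/
theorem embeds_step {G : Type u} [Group G] [Finite G] (N : Subgroup G) [N.Normal] {p : ℕ}
    [hp : Fact p.Prime] (hN : N ≠ ⊥) (hcomm : ∀ a ∈ N, ∀ b ∈ N, a * b = b * a)
    (hexp : ∀ a ∈ N, a ^ p = 1) (h : Embeds (G ⧸ N)) : Embeds G := by
  classical
  obtain ⟨K, iK, iKf, φ, hφf, hφd, ⟨f, hf⟩, hpr, hsq⟩ := h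
  letI := iK
  haveI := iKf
  haveI : NeZero p := ⟨hp.out.ne_zero⟩
  letI : Fintype K := Fintype.ofFinite K
  set Zk := Subgroup.center K
  set Kb := K ⧸ Zk
  letI : Fintype Kb := Fintype.ofFinite _
  -- coordinates on `N`
  letI : CommGroup N := { (inferInstance : Group N) with
    mul_comm := fun a b => Subtype.ext (hcomm a a.2 b b.2) }
  have hexp' : ∀ a : Additive N, p • a = (0 : Additive N) := fun a => Additive.toMul.injective
    (Subtype.ext (hexp _ (Additive.toMul a).2))
  haveI : Finite (Additive N) := inferInstanceAs (Finite N)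
  obtain ⟨r, ⟨crd⟩⟩ := exists_coords hexp'
  -- the module
  let X : Type u := Kb × ULift.{u} (Fin r)
  letI : MulAction K X :=
    { smul := fun k x => ((QuotientGroup.mk' Zk k) * x.1, x.2)
      one_smul := fun x => by
        show ((QuotientGroup.mk' Zk 1) * x.1, x.2) = x
        rw [map_one, one_mul]
      mul_smul := fun a b x => by
        show ((QuotientGroup.mk' Zk (a * b)) * x.1, x.2)
          = ((QuotientGroup.mk' Zk a) * ((QuotientGroup.mk' Zk b) * x.1), x.2)
        rw [map_mul, mul_assoc] }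
  have hsmul : ∀ (k : K) (x : X), k • x = ((QuotientGroup.mk' Zk k) * x.1, x.2) := fun _ _ => rfl
  have hact : ∀ z ∈ Zk, ∀ x : X, z • x = x := fun z hz x => by
    rw [hsmul, show QuotientGroup.mk' Zk z = 1 from (QuotientGroup.eq_one_iff z).2 hz, one_mul]
  obtain ⟨χ₀, hcen, hdeg, hχ1, hχz⟩ := exists_faithful (p := p) hact φ hφd
  -- divide by the kernel
  set N₀ := charKer (isCharacter_irr χ₀)
  haveI hN₀n : N₀.Normal := charKer_normal (isCharacter_irr χ₀)
  obtain ⟨χ', hχ', hχe⟩ := IsIrrCharacter.exists_deflate χ₀.2 N₀ fun n hn => hn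
  set χ : IrrCharacter (HK p X K ⧸ N₀) := ⟨χ', hχ'⟩
  have hfaith : ∀ h : (HK p X K ⧸ N₀), (χ : (HK p X K ⧸ N₀) → ℂ) h = (χ : (HK p X K ⧸ N₀) → ℂ) 1 → h = 1 := by
    intro h hh
    obtain ⟨g, rfl⟩ := QuotientGroup.mk'_surjective N₀ h
    refine (QuotientGroup.eq_one_iff g).2 ?_
    show (χ₀ : (HK p X K) → ℂ) g = (χ₀ : (HK p X K) → ℂ) 1
    rw [hχe]
    simpa [χ] using hh
  have hdegH : charDegree (χ : (HK p X K ⧸ N₀) → ℂ) = p ^ Fintype.card X * charDegree (φ : K → ℂ) := by
    rw [← hdeg, hχe]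
    simp [charDegree, χ]
  let Z0 : Subgroup (HK p X K) :=
    { carrier := {g | g.a = 0 ∧ g.b = 0 ∧ g.k ∈ Zk}
      one_mem' := ⟨rfl, rfl, one_mem _⟩
      mul_mem' := fun {g g'} (hg : g.a = 0 ∧ g.b = 0 ∧ g.k ∈ Zk)
          (hg' : g'.a = 0 ∧ g'.b = 0 ∧ g'.k ∈ Zk) => by
        refine ⟨?_, ?_, mul_mem hg.2.2 hg'.2.2⟩ <;>
          simp [HK.mul_def, hg.1, hg.2.1, hg'.1, hg'.2.1, HK.shift_zero]
      inv_mem' := fun {g} (hg : g.a = 0 ∧ g.b = 0 ∧ g.k ∈ Zk) => by
        refine ⟨?_, ?_, inv_mem hg.2.2⟩ <;> simp [HK.inv_def, hg.1, hg.2.1, HK.shift_zero] }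
  have hZ0cen : Z0 ≤ Subgroup.center (HK p X K) := fun g hg => by
    obtain ⟨h1, h2, h3⟩ := hg
    rw [show g = ⟨0, 0, g.c, g.k⟩ from HK.ext' h1 h2 rfl rfl]
    exact hcen _ _ h3
  have hZ0card : Nat.card Z0 = p * Nat.card Zk := by
    rw [Nat.card_congr (α := Z0) (β := ZMod p × Zk)
      { toFun := fun g => ((g : (HK p X K)).c, ⟨(g : (HK p X K)).k, g.2.2.2⟩)
        invFun := fun t => ⟨⟨0, 0, t.1, t.2⟩, rfl, rfl, t.2.2⟩
        left_inv := fun g => Subtype.ext (HK.ext' (Eq.symm g.2.1) (Eq.symm g.2.2.1) rfl rfl)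
        right_inv := fun _ => rfl }, Nat.card_prod, Nat.card_zmod]
  have hZ0idx : Z0.index = p ^ (2 * Fintype.card X) * Zk.index := by
    have h := Subgroup.card_mul_index Z0
    rw [hZ0card, HK.card_eq, ← Subgroup.card_mul_index Zk,
      show p ^ (2 * Fintype.card X + 1) * (Nat.card Zk * Zk.index)
        = p * Nat.card Zk * (p ^ (2 * Fintype.card X) * Zk.index) by ring] at h
    exact Nat.eq_of_mul_eq_mul_left (Nat.mul_pos hp.out.pos Nat.card_pos) h
  set Z' := Z0.map (QuotientGroup.mk' N₀)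
  have hZ'c : Z' ≤ Subgroup.center (HK p X K ⧸ N₀) := by
    rintro _ ⟨g, hg, rfl⟩
    refine Subgroup.mem_center_iff.2 fun y => ?_
    obtain ⟨y, rfl⟩ := QuotientGroup.mk'_surjective N₀ y
    rw [← map_mul, ← map_mul, Subgroup.mem_center_iff.1 (hZ0cen hg) y]
  have hsqle : charDegree (χ : (HK p X K ⧸ N₀) → ℂ) ^ 2 ≤ (Subgroup.center (HK p X K ⧸ N₀)).index := by
    have h1 := DegreeTools.deg_sq_mul_card_center_le χ
    have h2 := Subgroup.index_mul_card (Subgroup.center (HK p X K ⧸ N₀))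
    rw [← h2] at h1
    exact Nat.le_of_mul_le_mul_right h1 Nat.card_pos
  have hcle : (Subgroup.center (HK p X K ⧸ N₀)).index ≤ Z'.index := Nat.le_of_dvd
    (Nat.pos_of_ne_zero Subgroup.index_ne_zero_of_finite) (Subgroup.index_dvd_of_le hZ'c)
  have hZ'idx : Z'.index = (Z0 ⊔ N₀).index := by
    rw [Subgroup.index_map, QuotientGroup.range_mk', Subgroup.index_top, mul_one,
      QuotientGroup.ker_mk']
  have hle0 : (Z0 ⊔ N₀).index ≤ Z0.index := Nat.le_of_dvd
    (Nat.pos_of_ne_zero Subgroup.index_ne_zero_of_finite) (Subgroup.index_dvd_of_le le_sup_left)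
  have hsqeq : charDegree (χ : (HK p X K ⧸ N₀) → ℂ) ^ 2 = Z0.index := by
    rw [hZ0idx, hdegH, mul_pow, hφd, ← pow_mul, mul_comm (Fintype.card X)]
  have hidx : charDegree (χ : (HK p X K ⧸ N₀) → ℂ) ^ 2 = (Subgroup.center (HK p X K ⧸ N₀)).index := by omega
  have hcenter : Subgroup.center (HK p X K ⧸ N₀) = Z' := by
    refine (Subgroup.eq_of_le_of_card_ge hZ'c ?_).symm
    have h1 := Subgroup.card_mul_index (Subgroup.center (HK p X K ⧸ N₀))
    have h2 := Subgroup.card_mul_index Z'
    rw [show Z'.index = (Subgroup.center (HK p X K ⧸ N₀)).index by omega] at h2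
    exact (Nat.eq_of_mul_eq_mul_right (Nat.pos_of_ne_zero Subgroup.index_ne_zero_of_finite)
      (h1.trans h2.symm)).le
  have hN0 : N₀ ≤ Z0 := by
    refine le_trans le_sup_right (le_of_eq (Subgroup.eq_of_le_of_card_ge le_sup_left ?_).symm)
    have h1 := Subgroup.card_mul_index (Z0 ⊔ N₀)
    have h2 := Subgroup.card_mul_index Z0
    rw [show (Z0 ⊔ N₀).index = Z0.index by omega] at h1
    exact (Nat.eq_of_mul_eq_mul_right (Nat.pos_of_ne_zero Subgroup.index_ne_zero_of_finite)
      (h1.trans h2.symm)).le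
  -- the embedding
  choose sec hsec using fun q : G ⧸ N => QuotientGroup.mk'_surjective N q
  let fr : G →* Kb := f.comp (QuotientGroup.mk' N)
  obtain ⟨ret, hret⟩ : ∃ ret : Kb → G ⧸ N, ∀ (q : G ⧸ N) (x : Kb), ret (f q * x) = q * ret x := by
    let R := f.range
    letI : Setoid Kb := QuotientGroup.rightRel R
    have hR : ∀ x : Kb, ∃ q : G ⧸ N, f q = x * (Quotient.out (Quotient.mk'' x : Quotient
        (QuotientGroup.rightRel R)))⁻¹ := fun x => by
      have h1 : (QuotientGroup.rightRel R) x (Quotient.out (Quotient.mk'' x : Quotient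
          (QuotientGroup.rightRel R))) := Quotient.exact (Quotient.out_eq _).symm
      rw [QuotientGroup.rightRel_apply] at h1
      obtain ⟨q, hq⟩ := inv_mem h1
      exact ⟨q, hq.trans (by simp [mul_inv_rev])⟩
    choose ret hret using hR
    refine ⟨ret, fun q x => hf ?_⟩
    have hcls : (Quotient.mk'' (f q * x) : Quotient (QuotientGroup.rightRel R))
        = Quotient.mk'' x := by
      refine Quotient.sound ?_
      show (QuotientGroup.rightRel R) _ _
      rw [QuotientGroup.rightRel_apply]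
      exact ⟨q⁻¹, by simp [mul_assoc]⟩
    rw [map_mul, hret, hcls, hret, mul_assoc]
  choose lift hlift using fun q : Kb => QuotientGroup.mk'_surjective Zk q
  let cc : G → Kb → G := fun g x =>
    (sec (ret x))⁻¹ * g * sec (ret ((fr g)⁻¹ * x))
  have hccN : ∀ g x, cc g x ∈ N := by
    intro g x
    refine (QuotientGroup.eq_one_iff _).1 ?_
    show QuotientGroup.mk' N (cc g x) = 1
    simp only [cc, map_mul, map_inv, hsec]
    rw [show (fr g)⁻¹ = f (QuotientGroup.mk' N g)⁻¹ from (map_inv f _).symm, hret]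
    simp [mul_assoc]
  have hccmul : ∀ g h x, cc (g * h) x = cc g x * cc h ((fr g)⁻¹ * x) := by
    intro g h x
    simp only [cc, map_mul, mul_inv_rev, mul_assoc]
    group
  let vec : G → X → ZMod p := fun g x =>
    crd (Additive.ofMul (⟨cc g x.1, hccN g x.1⟩ : N)) x.2.down
  have hvec : ∀ g h, vec (g * h) = vec g + HK.shift (lift (fr g)) (vec h) := by
    intro g h
    funext x
    simp only [vec, Pi.add_apply, HK.shift]
    have hk : ((lift (fr g))⁻¹ • x).1 = (fr g)⁻¹ * x.1 := by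
      rw [hsmul, map_inv, hlift]
    have hk2 : ((lift (fr g))⁻¹ • x).2 = x.2 := rfl
    have key : ∀ y : Kb, y = (fr g)⁻¹ * x.1 → crd (Additive.ofMul (⟨cc h y, hccN h y⟩ : N)) x.2.down
        = crd (Additive.ofMul (⟨cc h ((fr g)⁻¹ * x.1), hccN _ _⟩ : N)) x.2.down := by
      rintro y rfl
      rfl
    rw [hk2, key _ hk]
    rw [show (⟨cc (g * h) x.1, hccN _ _⟩ : N)
      = ⟨cc g x.1, hccN _ _⟩ * ⟨cc h ((fr g)⁻¹ * x.1), hccN _ _⟩ from Subtype.ext (hccmul g h x.1),
      ofMul_mul, map_add]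
    rfl
  let emb : G → (HK p X K) := fun g => ⟨vec g, 0, 0, lift (fr g)⟩
  have hemb : ∀ g h, (emb g * emb h)⁻¹ * emb (g * h) ∈ Z0 := by
    intro g h
    set k := lift (fr g) * lift (fr h)
    have e1 : emb g * emb h = ⟨vec (g * h), 0, 0, k⟩ := by
      refine HK.ext' ?_ ?_ ?_ rfl
      · exact (hvec g h).symm
      · simp [emb, HK.mul_def, HK.shift_zero]
      · simp [emb, HK.mul_def, HK.shift_zero, HK.dot_zero_right]
    rw [e1]
    refine ⟨?_, ?_, ?_⟩
    · simp [emb, HK.mul_def, HK.inv_def, HK.shift_neg]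
    · simp [emb, HK.mul_def, HK.inv_def, HK.shift_neg, HK.shift_zero]
    · show k⁻¹ * lift (fr (g * h)) ∈ Zk
      refine (QuotientGroup.eq_one_iff _).1 ?_
      show QuotientGroup.mk' Zk _ = 1
      simp [k, map_mul, map_inv, hlift, mul_assoc]
  set Φ : (HK p X K) →* (HK p X K ⧸ N₀) ⧸ Subgroup.center (HK p X K ⧸ N₀) :=
    (QuotientGroup.mk' (Subgroup.center (HK p X K ⧸ N₀))).comp (QuotientGroup.mk' N₀)
  have hΦ : ∀ g, g ∈ Z0 → Φ g = 1 := fun g hg =>
    (QuotientGroup.eq_one_iff _).2 (hcenter ▸ Subgroup.mem_map_of_mem _ hg)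
  have hΦker : ∀ g, Φ g = 1 → g ∈ Z0 := fun g hg => by
    have h1 : QuotientGroup.mk' N₀ g ∈ Subgroup.center (HK p X K ⧸ N₀) := (QuotientGroup.eq_one_iff _).1 hg
    rw [hcenter] at h1
    obtain ⟨v, hv, hve⟩ := h1
    have h2 : v⁻¹ * g ∈ N₀ := QuotientGroup.eq.1 hve
    have := mul_mem hv (hN0 h2)
    rwa [mul_inv_cancel_left] at this
  let F : G →* (HK p X K ⧸ N₀) ⧸ Subgroup.center (HK p X K ⧸ N₀) := MonoidHom.mk' (fun g => Φ (emb g)) fun g h => by
    show Φ (emb (g * h)) = Φ (emb g) * Φ (emb h)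
    rw [← map_mul]
    have := hΦ _ (hemb g h)
    rw [map_mul, map_inv, inv_mul_eq_one] at this
    exact this.symm
  have hFinj : Function.Injective F := (injective_iff_map_eq_one F).2 fun g hg => by
    obtain ⟨ha, -, hk⟩ := hΦker _ hg
    have hfr : fr g = 1 := by
      rw [← hlift (fr g)]
      exact (QuotientGroup.eq_one_iff _).2 hk
    have hgN : QuotientGroup.mk' N g = 1 := hf (hfr.trans (map_one f).symm)
    have h1 : cc g 1 = 1 := by
      have hz : Additive.ofMul (⟨cc g 1, hccN g 1⟩ : N) = 0 := crd.injective (by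
        rw [map_zero]
        funext i
        exact congrFun ha (1, ULift.up i))
      exact congrArg Subtype.val (Additive.ofMul.injective (hz.trans ofMul_one.symm))
    simp only [cc, hfr, inv_one, mul_one] at h1
    rw [mul_assoc, inv_mul_eq_one] at h1
    exact mul_eq_right.1 h1.symm
  -- the numbers
  have hcardG : Nat.card G = Nat.card N * Nat.card (G ⧸ N) := by
    rw [Subgroup.card_eq_card_quotient_mul_card_subgroup N, mul_comm]
  have hpN : p ∣ Nat.card N := by
    obtain ⟨a, ha, ha1⟩ := N.bot_or_exists_ne_one.resolve_left hN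
    have := Subgroup.orderOf_dvd_natCard N ha
    rwa [orderOf_eq_prime (hexp a ha) ha1] at this
  have hHdvd : Nat.card (HK p X K ⧸ N₀) ∣ Nat.card (HK p X K) := Subgroup.card_quotient_dvd_card N₀
  have hH0 : ∀ q : ℕ, q.Prime → q ∣ Nat.card (HK p X K) → q ∣ Nat.card G := by
    intro q hq hd
    rw [HK.card_eq] at hd
    rcases hq.dvd_mul.1 hd with h | h
    · obtain rfl := (Nat.prime_dvd_prime_iff_eq hq hp.out).1 (hq.dvd_of_dvd_pow h)
      exact hcardG ▸ Dvd.dvd.mul_right hpN _
    · exact hcardG ▸ Dvd.dvd.mul_left ((hpr q hq).1.1 h) _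
  have hZup : ∀ q : ℕ, q.Prime → q ∣ Nat.card G → q ∣ Nat.card (Subgroup.center (HK p X K ⧸ N₀)) := by
    intro q hq hd
    have key : ∀ v : (HK p X K), v ∈ Z0 → v ^ q = 1 → (χ₀ : (HK p X K) → ℂ) v ≠ (χ₀ : (HK p X K) → ℂ) 1 →
        q ∣ Nat.card (Subgroup.center (HK p X K ⧸ N₀)) := by
      intro v hv hvq hvne
      haveI := Fact.mk hq
      have h1 : QuotientGroup.mk' N₀ v ≠ 1 := fun h => hvne ((QuotientGroup.eq_one_iff v).1 h)
      have h2 : orderOf (QuotientGroup.mk' N₀ v) = q :=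
        orderOf_eq_prime (by rw [← map_pow, hvq, map_one]) h1
      exact h2 ▸ Subgroup.orderOf_dvd_natCard _ (hcenter ▸ Subgroup.mem_map_of_mem _ hv)
    by_cases hqp : q = p
    · subst q
      refine key ⟨0, 0, 1, 1⟩ ⟨rfl, rfl, one_mem _⟩ ?_ hχ1
      have : ∀ n : ℕ, (⟨0, 0, 1, 1⟩ : (HK p X K)) ^ n = ⟨0, 0, (n : ZMod p), 1⟩ := fun n => by
        induction n with
        | zero => simp [HK.one_def]
        | succ n ih =>
          rw [pow_succ, ih, HK.mul_def]
          refine HK.ext' ?_ ?_ ?_ ?_ <;> simp [HK.shift_zero, HK.dot_zero_left]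
      rw [this, ZMod.natCast_self]
      rfl
    · have hdq : q ∣ Nat.card (G ⧸ N) := by
        rcases hq.dvd_mul.1 (hcardG ▸ hd) with h | h
        · exfalso
          obtain ⟨m, hm⟩ := IsPGroup.iff_card.1 (show IsPGroup p N from fun a =>
            ⟨1, Subtype.ext (by rw [pow_one, Subgroup.coe_pow]; exact hexp a a.2)⟩)
          rw [hm] at h
          exact hqp ((Nat.prime_dvd_prime_iff_eq hq hp.out).1 (hq.dvd_of_dvd_pow h))
        · exact h
      haveI := Fact.mk hq
      obtain ⟨z, hz⟩ := exists_prime_orderOf_dvd_card' q ((hpr q hq).2.2 hdq)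
      have hz1 : (z : K) ≠ 1 := fun h => hq.one_lt.ne' (by
        rw [← hz, ← Subgroup.orderOf_coe, h, orderOf_one])
      refine key ⟨0, 0, 0, z⟩ ⟨rfl, rfl, z.2⟩ ?_
        (hχz z z.2 fun h => hz1 (hφf z h))
      have : ∀ n : ℕ, (⟨0, 0, 0, (z : K)⟩ : (HK p X K)) ^ n = ⟨0, 0, 0, (z : K) ^ n⟩ := fun n => by
        induction n with
        | zero => simp [HK.one_def]
        | succ n ih =>
          rw [pow_succ, ih, HK.mul_def]
          refine HK.ext' ?_ ?_ ?_ ?_ <;> simp [HK.shift_zero, HK.dot_zero_left, pow_succ]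
      rw [this, ← hz, ← Subgroup.orderOf_coe, pow_orderOf_eq_one]
      rfl
  refine ⟨(HK p X K ⧸ N₀), inferInstance, inferInstance, χ, hfaith, hidx, ⟨F, hFinj⟩, fun q hq => ⟨⟨?_, ?_⟩,
    ⟨?_, hZup q hq⟩⟩, ?_⟩
  · exact fun h => hH0 q hq (h.trans hHdvd)
  · exact fun h => (hZup q hq h).trans (Subgroup.card_subgroup_dvd_card _)
  · exact fun h => hH0 q hq ((h.trans (Subgroup.card_subgroup_dvd_card _)).trans hHdvd)
  · haveI := isCyclic_center χ hfaith
    have hlcm : Squarefree (Nat.lcm p (Nat.card Zk)) := by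
      rcases Nat.coprime_or_dvd_of_prime hp.out (Nat.card Zk) with h | h
      · rw [h.lcm_eq_mul, Nat.squarefree_mul h]
        exact ⟨hp.out.squarefree, hsq⟩
      · rw [Nat.lcm_eq_right h]; exact hsq
    obtain ⟨g, hg⟩ := IsCyclic.exists_generator (α := Subgroup.center (HK p X K ⧸ N₀))
    have hord : orderOf g = Nat.card (Subgroup.center (HK p X K ⧸ N₀)) := by
      rw [← Nat.card_zpowers, (Subgroup.eq_top_iff' _).2 hg, Subgroup.card_top]
    refine hlcm.squarefree_of_dvd (hord ▸ ?_)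
    obtain ⟨v, ⟨hva, hvb, hvk⟩, hve⟩ := (hcenter ▸ g.2 : (g : (HK p X K ⧸ N₀)) ∈ Z')
    rw [← Subgroup.orderOf_coe, ← hve]
    refine (orderOf_map_dvd _ v).trans (orderOf_dvd_of_pow_eq_one ?_)
    have hv : v = ⟨0, 0, v.c, v.k⟩ := HK.ext' hva hvb rfl rfl
    have hpow : ∀ n : ℕ, v ^ n = ⟨0, 0, (n : ZMod p) * v.c, v.k ^ n⟩ := fun n => by
      induction n with
      | zero => simp [HK.one_def]
      | succ n ih =>
        rw [pow_succ, ih, HK.mul_def]
        refine HK.ext' ?_ ?_ ?_ ?_ <;>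
          simp [hva, hvb, HK.shift_zero, HK.dot_zero_left, pow_succ, add_mul]
    rw [hpow, (ZMod.natCast_eq_zero_iff _ p).2 (Nat.dvd_lcm_left _ _), zero_mul,
      orderOf_dvd_iff_pow_eq_one.1 ((show orderOf v.k ∣ Nat.card Zk from
        Subgroup.orderOf_dvd_natCard Zk hvk).trans (Nat.dvd_lcm_right _ _))]
    rfl

/-- Every solvable group lies in the central quotient of a group of central type. -/
theorem embeds_of_solvable : ∀ (n : ℕ) (G : Type u) [Group G] [Finite G] [Group.IsSolvable G],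
    Nat.card G = n → Embeds G := by
  intro n
  induction n using Nat.strong_induction_on with
  | _ n ih =>
    intro G _ _ _ hn
    rcases subsingleton_or_nontrivial G with h | h
    · exact embeds_of_subsingleton G
    obtain ⟨N, hNn, hN, -, hmin⟩ := CfsgLib.Solvable.Basic.exists_minimal_normal_le
      (G := G) (H := ⊤) (by simp)
    haveI := hNn
    obtain ⟨hc, p, hp, hexp, -⟩ := CfsgLib.Solvable.Basic.minimal_normal_solvable N hN hmin
    haveI := Fact.mk hp
    exact embeds_step N hN (CfsgLib.Solvable.Basic.isMulCommutative_subgroup_iff.1 hc) hexp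
      (ih _ (hn ▸ CfsgLib.Solvable.Basic.card_quotient_lt N hN) _ rfl)

end CfsgLib.Char.CentralTypeEmbed
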