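import Cfsg.Prelude.Def_OddOrderChar
import Cfsg.Agent.Lib.Char.Virtual
import Cfsg.Agent.Lib.Char.Constituent

/-!
# Coherence: tools
-/

set_option autoImplicit false

open scoped ComplexConjugate

namespace CfsgLib.Char.Coherence

variable {L : Type*} [Group L] {G : Type*} [Group G]

theorem mem_zspanOn_one {S : Set (L → ℂ)} {α : L → ℂ} :
    α ∈ Cfsg.zspanOn S {1}ᶜ ↔ α ∈ Cfsg.zspan S ∧ α 1 = 0 :=
  ⟨fun h => ⟨h.1, h.2 1 (fun h' => h' rfl)⟩, fun h => ⟨h.1, fun x hx => by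
    rw [show x = 1 from not_not.mp hx]; exact h.2⟩⟩

/-- The elements of a lattice vanishing at `1`, as a submodule. -/
def onSub (S : Set (L → ℂ)) : Submodule ℤ (L → ℂ) where
  carrier := Cfsg.zspanOn S {1}ᶜ
  add_mem' {a b} ha hb := mem_zspanOn_one.mpr
    ⟨(Submodule.span ℤ S).add_mem (mem_zspanOn_one.mp ha).1 (mem_zspanOn_one.mp hb).1,
      by rw [Pi.add_apply, (mem_zspanOn_one.mp ha).2, (mem_zspanOn_one.mp hb).2, add_zero]⟩
  zero_mem' := mem_zspanOn_one.mpr ⟨(Submodule.span ℤ S).zero_mem, rfl⟩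
  smul_mem' n a ha := mem_zspanOn_one.mpr
    ⟨(Submodule.span ℤ S).smul_mem n (mem_zspanOn_one.mp ha).1,
      by rw [Pi.smul_apply, (mem_zspanOn_one.mp ha).2, smul_zero]⟩

theorem coe_onSub (S : Set (L → ℂ)) : (onSub S : Set (L → ℂ)) = Cfsg.zspanOn S {1}ᶜ := rfl

theorem coe_span (S : Set (L → ℂ)) :
    ((Submodule.span ℤ S : Submodule ℤ (L → ℂ)) : Set (L → ℂ)) = Cfsg.zspan S := rfl

variable [Fintype L] [Fintype G]

section Linear

variable {E : Submodule ℤ (L → ℂ)} {τ : (L → ℂ) → (G → ℂ)}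

theorem map_zero' (h : Cfsg.IsLinearIsometryOn (E : Set (L → ℂ)) τ) : τ 0 = 0 := by
  simpa using h.2.1 0 E.zero_mem 0

theorem map_neg' (h : Cfsg.IsLinearIsometryOn (E : Set (L → ℂ)) τ) {α : L → ℂ} (ha : α ∈ E) :
    τ (-α) = -τ α := by
  simpa using h.2.1 α ha (-1)

theorem map_sub' (h : Cfsg.IsLinearIsometryOn (E : Set (L → ℂ)) τ) {α β : L → ℂ} (ha : α ∈ E)
    (hb : β ∈ E) : τ (α - β) = τ α - τ β := by
  rw [sub_eq_add_neg, h.1 α ha (-β) (E.neg_mem hb), map_neg' h hb, ← sub_eq_add_neg]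

theorem map_intCast_smul (h : Cfsg.IsLinearIsometryOn (E : Set (L → ℂ)) τ) {α : L → ℂ}
    (ha : α ∈ E) (n : ℤ) : τ ((n : ℂ) • α) = (n : ℂ) • τ α := by
  rw [Int.cast_smul_eq_zsmul, Int.cast_smul_eq_zsmul, h.2.1 α ha n]

theorem map_sum' (h : Cfsg.IsLinearIsometryOn (E : Set (L → ℂ)) τ) {ι : Type*} (s : Finset ι)
    (f : ι → L → ℂ) (hf : ∀ i ∈ s, f i ∈ E) : τ (∑ i ∈ s, f i) = ∑ i ∈ s, τ (f i) := by
  classical
  induction s using Finset.induction with
  | empty => simpa using map_zero' h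
  | insert i s hi ih =>
    rw [Finset.sum_insert hi, Finset.sum_insert hi,
      h.1 _ (hf i (Finset.mem_insert_self i s)) _
        (E.sum_mem fun j hj => hf j (Finset.mem_insert_of_mem hj)),
      ih fun j hj => hf j (Finset.mem_insert_of_mem hj)]

end Linear

omit [Group L] [Fintype L] in
theorem intCast_smul_mem {S : Set (L → ℂ)} {α : L → ℂ} (h : α ∈ Cfsg.zspan S) (n : ℤ) :
    (n : ℂ) • α ∈ Cfsg.zspan S := by
  rw [Int.cast_smul_eq_zsmul]
  exact (Submodule.span ℤ S).smul_mem n h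

omit [Group L] [Fintype L] in
theorem exists_coeff {F : Finset (L → ℂ)} {α : L → ℂ} (h : α ∈ Cfsg.zspan (↑F : Set (L → ℂ))) :
    ∃ a : (L → ℂ) → ℤ, α = ∑ χ ∈ F, (a χ : ℂ) • χ := by
  obtain ⟨f, -, hf⟩ := Submodule.mem_span_finset.mp h
  exact ⟨f, hf.symm.trans (Finset.sum_congr rfl fun χ _ => (Int.cast_smul_eq_zsmul ℂ _ _).symm)⟩

/-- An orthogonal set of nonzero characters is finite. -/
theorem finite_of_orthogonal {S : Set (L → ℂ)} (hc : ∀ χ ∈ S, Cfsg.IsCharacter L χ)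
    (h0 : ∀ χ ∈ S, χ ≠ 0) (ho : ∀ χ ∈ S, ∀ φ ∈ S, χ ≠ φ → Cfsg.classInner χ φ = 0) :
    S.Finite := by
  classical
  have hex : ∀ χ : S, ∃ θ : Cfsg.IrrCharacter L, Cfsg.classInner (χ : L → ℂ) (θ : L → ℂ) ≠ 0 :=
    fun χ => by
      obtain ⟨θ, hθ, hne⟩ := IsCharacter.exists_constituent (hc χ χ.2) (h0 χ χ.2)
      exact ⟨⟨θ, hθ⟩, hne⟩
  choose f hf using hex
  have hinj : Function.Injective f := by
    intro χ φ h
    by_contra hne
    have hz := ho χ χ.2 φ φ.2 fun e => hne (Subtype.ext e)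
    obtain ⟨m, hm, -⟩ := IsCharacter.exists_multiplicity (hc χ χ.2)
    obtain ⟨m', hm', -⟩ := IsCharacter.exists_multiplicity (hc φ φ.2)
    rw [classInner_eq_sum_irr (IsCharacter.isClassFunction (hc χ χ.2)),
      Finset.sum_congr rfl fun θ _ => show _ = ((m θ * m' θ : ℕ) : ℂ) by
        rw [hm, IsCharacter.classInner_comm (isCharacter_irr θ) (hc φ φ.2), hm', Nat.cast_mul],
      ← Nat.cast_sum, Nat.cast_eq_zero] at hz
    have h1 := Finset.sum_eq_zero_iff.mp hz (f χ) (Finset.mem_univ _)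
    rcases Nat.mul_eq_zero.mp h1 with h2 | h2
    · exact hf χ (by rw [hm, h2, Nat.cast_zero])
    · exact hf φ (by rw [← h, hm', h2, Nat.cast_zero])
  have : Finite S := Finite.of_injective f hinj
  exact Set.toFinite S

/-- Coherence from a choice of images with the right inner products. -/
theorem isCoherent_of_images (F : Finset (L → ℂ))
    (ho : ∀ χ ∈ F, ∀ φ ∈ F, χ ≠ φ → Cfsg.classInner χ φ = 0) (h0 : ∀ χ ∈ F, χ ≠ 0)
    (Y : (L → ℂ) → (G → ℂ)) (hgen : ∀ χ ∈ F, Cfsg.IsGeneralizedCharacter G (Y χ))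
    (hgram : ∀ χ ∈ F, ∀ φ ∈ F, Cfsg.classInner (Y χ) (Y φ) = Cfsg.classInner χ φ)
    (hne : ∃ α ∈ Cfsg.zspanOn (↑F : Set (L → ℂ)) {1}ᶜ, α ≠ 0) (τ : (L → ℂ) → (G → ℂ))
    (hagree : ∀ a : (L → ℂ) → ℤ, (∑ χ ∈ F, (a χ : ℂ) • χ) 1 = 0 →
      τ (∑ χ ∈ F, (a χ : ℂ) • χ) = ∑ χ ∈ F, (a χ : ℂ) • Y χ) :
    Cfsg.IsCoherent (↑F : Set (L → ℂ)) {1}ᶜ τ := by
  classical
  let τ₁ : (L → ℂ) → (G → ℂ) := fun α =>
    ∑ χ ∈ F, (Cfsg.classInner α χ / Cfsg.classInner χ χ) • Y χ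
  have hval : ∀ a : (L → ℂ) → ℤ,
      τ₁ (∑ χ ∈ F, (a χ : ℂ) • χ) = ∑ χ ∈ F, (a χ : ℂ) • Y χ := by
    intro a
    refine Finset.sum_congr rfl fun χ hχ => ?_
    congr 1
    rw [classInner_sum_left, Finset.sum_eq_single χ]
    · rw [classInner_smul_left, mul_div_assoc,
        div_self fun h => h0 χ hχ (classInner_self_eq_zero.mp h), mul_one]
    · intro φ hφ hne'
      rw [classInner_smul_left, ho φ hφ χ hχ hne', mul_zero]
    · exact fun h => absurd hχ h
  refine ⟨hne, τ₁, ⟨fun α _ β _ => ?_, fun α _ n => ?_, fun α hα β hβ => ?_, fun α hα => ?_⟩, ?_⟩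
  · simp only [τ₁, classInner_add_left, add_div, add_smul, Finset.sum_add_distrib]
  · simp only [τ₁, ← Int.cast_smul_eq_zsmul ℂ, classInner_smul_left, Finset.smul_sum, smul_smul,
      mul_div_assoc]
  · obtain ⟨a, rfl⟩ := exists_coeff hα
    obtain ⟨b, rfl⟩ := exists_coeff hβ
    rw [hval, hval]
    simp only [classInner_sum_left, classInner_sum_right, classInner_smul_left,
      classInner_smul_right]
    refine Finset.sum_congr rfl fun χ hχ => ?_
    congr 1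
    exact Finset.sum_congr rfl fun φ hφ => by rw [hgram φ hφ χ hχ]
  · obtain ⟨a, rfl⟩ := exists_coeff hα
    rw [hval]
    refine Finset.sum_induction _ (Cfsg.IsGeneralizedCharacter G) (fun u v hu hv => ?_)
      ⟨0, 0, isCharacter_zero, isCharacter_zero, (sub_zero 0).symm⟩ fun χ hχ => ?_
    · obtain ⟨p, q, hp, hq, rfl⟩ := hu
      obtain ⟨r, s, hr, hs, rfl⟩ := hv
      exact ⟨p + r, q + s, IsCharacter.add hp hr, IsCharacter.add hq hs, by abel⟩
    · obtain ⟨hc, hi⟩ := isGeneralizedCharacter_iff.mp (hgen χ hχ)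
      refine isGeneralizedCharacter_iff.mpr ⟨fun g h => by simp [hc g h], fun θ hθ => ?_⟩
      obtain ⟨z, hz⟩ := hi θ hθ
      exact ⟨a χ * z, by rw [classInner_smul_left, hz, Int.cast_mul]⟩
  · intro α hα
    obtain ⟨h1, h2⟩ := mem_zspanOn_one.mp hα
    obtain ⟨a, rfl⟩ := exists_coeff h1
    rw [hval, hagree a h2]

/-- Bessel's inequality, with the case of equality. -/
theorem bessel {ι : Type*} [DecidableEq ι] (s : Finset ι) (w : ι → G → ℂ) (m : ι → ℕ)
    (hm : ∀ i ∈ s, 0 < m i)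
    (hw : ∀ i ∈ s, ∀ j ∈ s, Cfsg.classInner (w i) (w j) = if i = j then (m i : ℂ) else 0)
    (β : G → ℂ) (c : ι → ℤ) (hc : ∀ i ∈ s, Cfsg.classInner β (w i) = c i) :
    ∑ i ∈ s, (c i : ℝ) ^ 2 / m i ≤ (Cfsg.classInner β β).re ∧
      (∑ i ∈ s, (c i : ℝ) ^ 2 / m i = (Cfsg.classInner β β).re →
        β = ∑ i ∈ s, ((c i : ℂ) / (m i : ℂ)) • w i) := by
  classical
  set P := ∑ i ∈ s, ((c i : ℂ) / (m i : ℂ)) • w i with hP
  set T : ℝ := ∑ i ∈ s, (c i : ℝ) ^ 2 / m i with hT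
  have h1 : Cfsg.classInner β P = (T : ℂ) := by
    rw [hP, classInner_sum_right, hT, Complex.ofReal_sum]
    refine Finset.sum_congr rfl fun i hi => ?_
    rw [classInner_smul_right, hc i hi, map_div₀, map_intCast, map_natCast]
    push_cast
    ring
  have h2 : Cfsg.classInner P P = (T : ℂ) := by
    rw [hP, classInner_sum_left, hT, Complex.ofReal_sum]
    refine Finset.sum_congr rfl fun i hi => ?_
    rw [classInner_smul_left, classInner_sum_right, Finset.sum_eq_single i]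
    · rw [classInner_smul_right, hw i hi i hi, if_pos rfl, map_div₀, map_intCast, map_natCast]
      have : (m i : ℂ) ≠ 0 := Nat.cast_ne_zero.mpr (hm i hi).ne'
      push_cast
      field_simp
    · intro j hj hne
      rw [classInner_smul_right, hw i hi j hj, if_neg (Ne.symm hne), mul_zero]
    · exact fun h => absurd hi h
  have h3 : Cfsg.classInner P β = (T : ℂ) := by
    rw [← classInner_conj_symm, h1, Complex.conj_ofReal]
  have h4 : Cfsg.classInner (β - P) (β - P) = Cfsg.classInner β β - (T : ℂ) := by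
    rw [classInner_sub_left, classInner_sub_right, classInner_sub_right, h1, h2, h3]
    ring
  have hnn : 0 ≤ (Cfsg.classInner (β - P) (β - P)).re := by
    rw [classInner_self, Complex.ofReal_re]
    positivity
  refine ⟨by rw [h4, Complex.sub_re, Complex.ofReal_re] at hnn; linarith, fun he => ?_⟩
  refine sub_eq_zero.mp (classInner_self_eq_zero.mp ?_)
  rw [h4, sub_eq_zero, classInner_self β, Complex.ofReal_inj]
  rw [classInner_self β, Complex.ofReal_re] at he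
  exact he.symm

omit [Group L] [Fintype L] in
theorem le_sq (a : ℤ) : a ≤ a * a := by nlinarith [mul_self_nonneg (a - 1), mul_self_nonneg a]

theorem isGen_sum {ι : Type*} (s : Finset ι) (f : ι → G → ℂ) (c : ι → ℤ)
    (hf : ∀ i ∈ s, Cfsg.IsGeneralizedCharacter G (f i)) :
    Cfsg.IsGeneralizedCharacter G (∑ i ∈ s, (c i : ℂ) • f i) := by
  refine isGeneralizedCharacter_iff.mpr ⟨fun g h => ?_, fun θ hθ => ?_⟩
  · simp only [Finset.sum_apply, Pi.smul_apply]
    exact Finset.sum_congr rfl fun i hi => by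
      rw [IsGeneralizedCharacter.isClassFunction (hf i hi) g h]
  · choose! z hz using fun i (hi : i ∈ s) => (isGeneralizedCharacter_iff.mp (hf i hi)).2 θ hθ
    refine ⟨∑ i ∈ s, c i * z i, ?_⟩
    rw [classInner_sum_left, Int.cast_sum]
    exact Finset.sum_congr rfl fun i hi => by rw [classInner_smul_left, hz i hi, Int.cast_mul]

/-- Coordinates of the image of a difference in the attached orthonormal sets. -/
theorem image_diff {S : Set (L → ℂ)} {τ : (L → ℂ) → (G → ℂ)} {R : (L → ℂ) → Finset (G → ℂ)}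
    (hS : Cfsg.IsCoherenceSystem S τ R) {χ φ : L → ℂ} (hχ : χ ∈ S) (hφ : φ ∈ S) (h1 : φ ≠ χ)
    (h2 : φ ≠ Cfsg.conjFun χ) (hd : χ 1 = φ 1) :
    (∑ α ∈ R χ, Cfsg.classInner (τ (χ - φ)) α = Cfsg.classInner χ χ) ∧
    (∑ α ∈ R χ, Cfsg.classInner (τ (χ - φ)) α * conj (Cfsg.classInner (τ (χ - φ)) α)
      = Cfsg.classInner χ χ) ∧
    ∀ v : G → ℂ, (∀ α ∈ R χ, Cfsg.classInner α v = 0) → (∀ α ∈ R φ, Cfsg.classInner α v = 0) →
      Cfsg.classInner (τ (χ - φ)) v = 0 := by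
  classical
  have hiso : Cfsg.IsLinearIsometryOn ((onSub S : Submodule ℤ (L → ℂ)) : Set (L → ℂ)) τ := hS.isometry
  have hc1 : ∀ ξ ∈ S, Cfsg.conjFun ξ 1 = ξ 1 := fun ξ hξ => by
    obtain ⟨k, hk⟩ := IsCharacter.apply_one_eq (hS.isCharacter ξ hξ)
    simp [Cfsg.conjFun, hk]
  have hdiff : ∀ ξ ∈ S, ξ - Cfsg.conjFun ξ ∈ onSub S := fun ξ hξ => mem_zspanOn_one.mpr
    ⟨(Submodule.span ℤ S).sub_mem (Submodule.subset_span hξ)
      (Submodule.subset_span (hS.conj_mem ξ hξ)), by rw [Pi.sub_apply, hc1 ξ hξ, sub_self]⟩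
  have hβmem : χ - φ ∈ onSub S := mem_zspanOn_one.mpr
    ⟨(Submodule.span ℤ S).sub_mem (Submodule.subset_span hχ) (Submodule.subset_span hφ),
      by rw [Pi.sub_apply, hd, sub_self]⟩
  set β := τ (χ - φ) with hβ
  have hne : Cfsg.conjFun χ ≠ χ := hS.conj_ne χ hχ
  have hφc : Cfsg.conjFun φ ≠ χ := fun h => h2 (by
    rw [← h]; funext x; simp [Cfsg.conjFun])
  have o1 := hS.orthogonal χ hχ _ (hS.conj_mem χ hχ) hne.symm
  have o2 := hS.orthogonal φ hφ χ hχ h1
  have o3 := hS.orthogonal φ hφ _ (hS.conj_mem χ hχ) h2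
  have o4 := hS.orthogonal φ hφ _ (hS.conj_mem φ hφ) (hS.conj_ne φ hφ).symm
  have o5 := hS.orthogonal χ hχ φ hφ h1.symm
  have o6 := hS.orthogonal χ hχ _ (hS.conj_mem φ hφ) hφc.symm
  have s1 : ∑ α ∈ R χ, Cfsg.classInner β α = Cfsg.classInner χ χ := by
    rw [← classInner_sum_right, ← hS.sum_eq χ hχ, hβ, hiso.2.2.1 _ hβmem _ (hdiff χ hχ),
      classInner_sub_left, classInner_sub_right, classInner_sub_right, o1, o2, o3]
    ring
  have s2 : ∑ α ∈ R φ, Cfsg.classInner β α = -Cfsg.classInner φ φ := by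
    rw [← classInner_sum_right, ← hS.sum_eq φ hφ, hβ, hiso.2.2.1 _ hβmem _ (hdiff φ hφ),
      classInner_sub_left, classInner_sub_right, classInner_sub_right, o4, o5, o6]
    ring
  have hgen : Cfsg.IsGeneralizedCharacter G β := hiso.2.2.2 _ hβmem
  have hdis : ∀ a ∈ R φ, ∀ b ∈ R χ, Cfsg.classInner a b = 0 := hS.disjoint χ hχ φ hφ o2 o3
  have hdj : Disjoint (R χ) (R φ) := by
    rw [Finset.disjoint_left]
    intro a ha hb
    have h := hS.orthonormal χ hχ a ha a ha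
    rw [hdis a hb a ha, if_pos rfl] at h
    exact zero_ne_one h
  set s := R χ ∪ R φ with hs
  have hvirt : ∀ a ∈ s, Cfsg.IsGeneralizedCharacter G a := fun a ha =>
    (Finset.mem_union.mp ha).elim (hS.virtual χ hχ a) (hS.virtual φ hφ a)
  choose! c hc using fun a (ha : a ∈ s) =>
    IsGeneralizedCharacter.classInner_int hgen (hvirt a ha)
  have hw : ∀ a ∈ s, ∀ b ∈ s,
      Cfsg.classInner a b = if a = b then (((fun _ : G → ℂ => 1) a : ℕ) : ℂ) else 0 := by
    intro a ha b hb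
    rw [Nat.cast_one]
    rcases Finset.mem_union.mp ha with ha | ha <;> rcases Finset.mem_union.mp hb with hb | hb
    · convert hS.orthonormal χ hχ a ha b hb
    · rw [if_neg fun h : a = b => Finset.disjoint_left.mp hdj ha (h ▸ hb),
        ← classInner_conj_symm, hdis b hb a ha, map_zero]
    · rw [if_neg fun h : a = b => Finset.disjoint_left.mp hdj hb (h ▸ ha), hdis a ha b hb]
    · convert hS.orthonormal φ hφ a ha b hb
  obtain ⟨hle, heq⟩ := bessel s id (fun _ => 1) (fun _ _ => Nat.one_pos) hw β c hc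
  obtain ⟨m, hm⟩ := IsCharacter.classInner_nat (hS.isCharacter χ hχ) (hS.isCharacter χ hχ)
  obtain ⟨m', hm'⟩ := IsCharacter.classInner_nat (hS.isCharacter φ hφ) (hS.isCharacter φ hφ)
  have z1 : ∑ a ∈ R χ, c a = (m : ℤ) := by
    have : ((∑ a ∈ R χ, c a : ℤ) : ℂ) = ((m : ℤ) : ℂ) := by
      rw [Int.cast_sum, Finset.sum_congr rfl fun a ha => (hc a (Finset.mem_union_left _ ha)).symm,
        s1, hm, Int.cast_natCast]
    exact_mod_cast this
  have z2 : ∑ a ∈ R φ, c a = -(m' : ℤ) := by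
    have : ((∑ a ∈ R φ, c a : ℤ) : ℂ) = ((-(m' : ℤ) : ℤ) : ℂ) := by
      rw [Int.cast_sum, Finset.sum_congr rfl fun a ha => (hc a (Finset.mem_union_right _ ha)).symm,
        s2, hm', Int.cast_neg, Int.cast_natCast]
    exact_mod_cast this
  have hnorm : (Cfsg.classInner β β).re = (((m : ℤ) + m' : ℤ) : ℝ) := by
    rw [hβ, hiso.2.2.1 _ hβmem _ hβmem, classInner_sub_left, classInner_sub_right,
      classInner_sub_right, o2, o5, hm, hm']
    simp
  have hsum : ∑ a ∈ s, ((c a : ℝ) ^ 2 / (((fun _ : G → ℂ => 1) a : ℕ) : ℝ)) =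
      ((∑ a ∈ R χ, c a * c a + ∑ a ∈ R φ, c a * c a : ℤ) : ℝ) := by
    rw [hs, Finset.sum_union hdj]
    push_cast
    simp [sq]
  rw [hsum, hnorm, Int.cast_le] at hle
  rw [hsum, hnorm, Int.cast_inj] at heq
  have l1 : (m : ℤ) ≤ ∑ a ∈ R χ, c a * c a := z1 ▸ Finset.sum_le_sum fun a _ => le_sq (c a)
  have l2 : (m' : ℤ) ≤ ∑ a ∈ R φ, c a * c a := by
    have : -(∑ a ∈ R φ, c a) ≤ ∑ a ∈ R φ, c a * c a := by
      rw [← Finset.sum_neg_distrib]
      exact Finset.sum_le_sum fun a _ => by simpa using le_sq (-c a)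
    rwa [z2, neg_neg] at this
  refine ⟨s1, ?_, fun v hv hv' => ?_⟩
  · rw [Finset.sum_congr rfl fun a ha => by rw [hc a (Finset.mem_union_left _ ha), map_intCast],
      hm, show ((m : ℕ) : ℂ) = ((∑ a ∈ R χ, c a * c a : ℤ) : ℂ) by
        rw [show ∑ a ∈ R χ, c a * c a = (m : ℤ) by omega, Int.cast_natCast]]
    push_cast
    rfl
  · rw [heq (by omega), classInner_sum_left]
    refine Finset.sum_eq_zero fun a ha => ?_
    rw [classInner_smul_left, id_eq, (Finset.mem_union.mp ha).elim (hv a) (hv' a), mul_zero]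

/-- Coherence when all degrees agree. -/
theorem isCoherent_of_degree_eq {S : Set (L → ℂ)} {τ : (L → ℂ) → (G → ℂ)}
    {R : (L → ℂ) → Finset (G → ℂ)} (hS : Cfsg.IsCoherenceSystem S τ R)
    (hdeg : ∀ φ ∈ S, ∀ ψ ∈ S, φ 1 = ψ 1) : Cfsg.IsCoherent S {1}ᶜ τ := by
  classical
  have hiso : Cfsg.IsLinearIsometryOn ((onSub S : Submodule ℤ (L → ℂ)) : Set (L → ℂ)) τ := hS.isometry
  have hne0 : ∀ χ ∈ S, χ ≠ 0 := fun χ hχ h => hS.conj_ne χ hχ (by
    rw [h]; funext x; simp [Cfsg.conjFun])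
  obtain ⟨F, rfl⟩ : ∃ F : Finset (L → ℂ), (F : Set (L → ℂ)) = S :=
    ⟨(finite_of_orthogonal hS.isCharacter hne0 hS.orthogonal).toFinset,
      Set.Finite.coe_toFinset _⟩
  obtain ⟨χ₁, hχ₁⟩ := hS.nonempty
  have hdiff : ∀ ξ ∈ (F : Set (L → ℂ)), ∀ η ∈ (F : Set (L → ℂ)), ξ - η ∈ onSub (↑F : Set (L → ℂ)) :=
    fun ξ hξ η hη => mem_zspanOn_one.mpr
      ⟨(Submodule.span ℤ _).sub_mem (Submodule.subset_span hξ) (Submodule.subset_span hη),
        by rw [Pi.sub_apply, hdeg ξ hξ η hη, sub_self]⟩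
  obtain ⟨n, hn⟩ := IsCharacter.classInner_nat (hS.isCharacter χ₁ hχ₁) (hS.isCharacter χ₁ hχ₁)
  obtain ⟨X, hX, hXX, hXd⟩ : ∃ X : G → ℂ, Cfsg.IsGeneralizedCharacter G X ∧
      Cfsg.classInner X X = n ∧
      ∀ χ ∈ (F : Set (L → ℂ)), χ ≠ χ₁ → Cfsg.classInner (τ (χ₁ - χ)) X = n := by
    by_cases htwo : ∃ φ ∈ (F : Set (L → ℂ)), φ ≠ χ₁ ∧ φ ≠ Cfsg.conjFun χ₁
    · obtain ⟨φ, hφ, h1, h2⟩ := htwo
      obtain ⟨s1, s2, -⟩ := image_diff hS hχ₁ hφ h1 h2 (hdeg _ hχ₁ _ hφ)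
      set β := τ (χ₁ - φ) with hβ
      choose! c hc using fun a (ha : a ∈ R χ₁) => IsGeneralizedCharacter.classInner_int
        (hiso.2.2.2 _ (hdiff _ hχ₁ _ hφ)) (hS.virtual χ₁ hχ₁ a ha)
      refine ⟨∑ a ∈ R χ₁, (c a : ℂ) • a, isGen_sum _ _ _ (hS.virtual χ₁ hχ₁), ?_, ?_⟩
      · rw [← hn, ← s2, classInner_sum_left]
        refine Finset.sum_congr rfl fun a ha => ?_
        rw [classInner_smul_left, classInner_sum_right, Finset.sum_eq_single a]
        · rw [classInner_smul_right, hS.orthonormal χ₁ hχ₁ a ha a ha, if_pos rfl, mul_one,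
            hc a ha]
        · intro b hb hne
          rw [classInner_smul_right, hS.orthonormal χ₁ hχ₁ a ha b hb, if_neg (Ne.symm hne),
            mul_zero]
        · exact fun h => absurd ha h
      · have hXval : ∀ γ : G → ℂ, Cfsg.classInner γ (∑ a ∈ R χ₁, (c a : ℂ) • a) =
            ∑ a ∈ R χ₁, (c a : ℂ) * Cfsg.classInner γ a := fun γ => by
          rw [classInner_sum_right]
          simp [classInner_smul_right]
        have hβX : Cfsg.classInner β (∑ a ∈ R χ₁, (c a : ℂ) • a) = n := by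
          rw [hXval, ← hn, ← s2]
          exact Finset.sum_congr rfl fun a ha => by rw [hc a ha, map_intCast]
        intro χ hχ hne
        by_cases hc' : χ = Cfsg.conjFun χ₁
        · subst hc'
          rw [hS.sum_eq χ₁ hχ₁, ← classInner_conj_symm, classInner_sum_right, map_sum, ← hn, ← s1]
          refine Finset.sum_congr rfl fun b hb => ?_
          rw [classInner_conj_symm, hXval, Finset.sum_eq_single b]
          · rw [hS.orthonormal χ₁ hχ₁ b hb b hb, if_pos rfl, mul_one, hc b hb]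
          · intro a ha hne'
            rw [hS.orthonormal χ₁ hχ₁ b hb a ha, if_neg (Ne.symm hne'), mul_zero]
          · exact fun h => absurd hb h
        by_cases hφ' : χ = φ
        · subst hφ'; exact hβX
        have hφc : φ - χ ∈ onSub (↑F : Set (L → ℂ)) := hdiff _ hφ _ hχ
        have hsplit : τ (χ₁ - χ) = β + τ (φ - χ) := by
          rw [hβ, ← hiso.1 _ (hdiff _ hχ₁ _ hφ) _ hφc, sub_add_sub_cancel]
        rw [hsplit, classInner_add_left, hβX, add_eq_left]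
        have hperp : ∀ ξ ∈ (F : Set (L → ℂ)), ξ ≠ χ₁ → ξ ≠ Cfsg.conjFun χ₁ →
            ∀ α ∈ R ξ, Cfsg.classInner α (∑ a ∈ R χ₁, (c a : ℂ) • a) = 0 := by
          intro ξ hξ g1 g2 α hα
          rw [hXval]
          refine Finset.sum_eq_zero fun a ha => ?_
          rw [hS.disjoint χ₁ hχ₁ ξ hξ (hS.orthogonal ξ hξ χ₁ hχ₁ g1)
            (hS.orthogonal ξ hξ _ (hS.conj_mem χ₁ hχ₁) g2) α hα a ha, mul_zero]
        by_cases hφbar : χ = Cfsg.conjFun φ
        · subst hφbar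
          rw [hS.sum_eq φ hφ, classInner_sum_left]
          exact Finset.sum_eq_zero (hperp φ hφ h1 h2)
        · exact (image_diff hS hφ hχ hφ' hφbar (hdeg _ hφ _ hχ)).2.2 _
            (hperp φ hφ h1 h2) (hperp χ hχ hne hc')
    · push Not at htwo
      have hcard : (R χ₁).card = 2 * n := by
        have h1 := hiso.2.2.1 _ (hdiff _ hχ₁ _ (hS.conj_mem χ₁ hχ₁)) _
          (hdiff _ hχ₁ _ (hS.conj_mem χ₁ hχ₁))
        have hbar : Cfsg.classInner (Cfsg.conjFun χ₁) (Cfsg.conjFun χ₁) = n := by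
          have : Cfsg.classInner (Cfsg.conjFun χ₁) (Cfsg.conjFun χ₁) =
              conj (Cfsg.classInner χ₁ χ₁) := by
            simp [Cfsg.classInner, Cfsg.conjFun, map_sum]
          rw [this, hn, map_natCast]
        rw [hS.sum_eq χ₁ hχ₁, classInner_sub_left, classInner_sub_right, classInner_sub_right, hn,
          hbar, hS.orthogonal χ₁ hχ₁ _ (hS.conj_mem χ₁ hχ₁) (hS.conj_ne χ₁ hχ₁).symm,
          hS.orthogonal _ (hS.conj_mem χ₁ hχ₁) χ₁ hχ₁ (hS.conj_ne χ₁ hχ₁), classInner_sum_left,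
          Finset.sum_congr rfl fun a ha => by
            rw [classInner_sum_right, Finset.sum_congr rfl fun b hb => hS.orthonormal χ₁ hχ₁ a ha b hb,
              Finset.sum_ite_eq, if_pos ha], Finset.sum_const, nsmul_eq_mul, mul_one] at h1
        have : ((R χ₁).card : ℂ) = ((2 * n : ℕ) : ℂ) := by rw [h1]; push_cast; ring
        exact_mod_cast this
      obtain ⟨A, hA, hAc⟩ := Finset.exists_subset_card_eq (s := R χ₁) (n := n) (by omega)
      refine ⟨∑ a ∈ A, ((1 : ℤ) : ℂ) • a,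
        isGen_sum A id (fun _ => 1) (fun a ha => hS.virtual χ₁ hχ₁ a (hA ha)), ?_, ?_⟩
      · simp only [Int.cast_one, one_smul, classInner_sum_left, classInner_sum_right]
        rw [Finset.sum_congr rfl fun a ha => by
          rw [Finset.sum_congr rfl fun b hb => hS.orthonormal χ₁ hχ₁ b (hA hb) a (hA ha),
            Finset.sum_ite_eq', if_pos ha], Finset.sum_const, hAc, nsmul_eq_mul, mul_one]
      · intro χ hχ hne
        rw [htwo χ hχ hne, hS.sum_eq χ₁ hχ₁]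
        simp only [Int.cast_one, one_smul, classInner_sum_right]
        rw [Finset.sum_congr rfl fun b hb => by
          rw [classInner_sum_left, Finset.sum_congr rfl fun a ha =>
            hS.orthonormal χ₁ hχ₁ a ha b (hA hb), Finset.sum_ite_eq', if_pos (hA hb)],
          Finset.sum_const, hAc, nsmul_eq_mul, mul_one]
  let Y : (L → ℂ) → (G → ℂ) := fun χ => X - τ (χ₁ - χ)
  refine isCoherent_of_images F (fun a ha b hb => hS.orthogonal a ha b hb)
    (fun a ha => hne0 a ha) Y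
    (fun χ hχ => IsGeneralizedCharacter.sub hX (hiso.2.2.2 _ (hdiff _ hχ₁ _ hχ)))
    (fun χ hχ φ hφ => ?_) ⟨χ₁ - Cfsg.conjFun χ₁, hdiff _ hχ₁ _ (hS.conj_mem χ₁ hχ₁),
      sub_ne_zero.mpr (hS.conj_ne χ₁ hχ₁).symm⟩ τ fun a ha => ?_
  · have hXd' : ∀ ξ ∈ (F : Set (L → ℂ)), Cfsg.classInner (τ (χ₁ - ξ)) X =
        if ξ = χ₁ then 0 else (n : ℂ) := by
      intro ξ hξ
      split_ifs with h
      · rw [h, sub_self, map_zero' hiso, classInner_zero_left]
      · exact hXd ξ hξ h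
    simp only [Y, classInner_sub_left, classInner_sub_right, hXX, hXd' χ hχ]
    rw [← classInner_conj_symm (τ (χ₁ - φ)) X, hXd' φ hφ,
      hiso.2.2.1 _ (hdiff _ hχ₁ _ hχ) _ (hdiff _ hχ₁ _ hφ), classInner_sub_left,
      classInner_sub_right, classInner_sub_right, hn]
    by_cases a1 : χ = χ₁ <;> by_cases a2 : φ = χ₁
    · simp [a1, a2, hn]
    · simp [a1, a2, hS.orthogonal _ hχ₁ _ hφ (Ne.symm a2), hn]
    · simp [a1, a2, hS.orthogonal _ hχ _ hχ₁ a1, hn]
    · simp [a1, a2, hS.orthogonal _ hχ₁ _ hφ (Ne.symm a2), hS.orthogonal _ hχ _ hχ₁ a1]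
  · have hd1 : χ₁ 1 ≠ 0 := fun h => by
      obtain ⟨k, ρ, hρ⟩ := hS.isCharacter χ₁ hχ₁
      rw [← hρ, Representation.char_one, Nat.cast_eq_zero, Module.finrank_fin_fun] at h
      subst h
      refine hne0 χ₁ hχ₁ (funext fun g => ?_)
      rw [← hρ]
      show LinearMap.trace ℂ _ (ρ g) = 0
      rw [Subsingleton.elim (ρ g) 0, map_zero]
    have ha0 : ∑ χ ∈ F, (a χ : ℂ) = 0 := by
      rw [Finset.sum_apply] at ha
      simp only [Pi.smul_apply, smul_eq_mul] at ha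
      rw [Finset.sum_congr rfl fun χ hχ => by rw [hdeg χ hχ χ₁ hχ₁], ← Finset.sum_mul] at ha
      exact (mul_eq_zero.mp ha).resolve_right hd1
    have e1 : ∑ χ ∈ F, (a χ : ℂ) • χ = ∑ χ ∈ F, ((-a χ : ℤ) : ℂ) • (χ₁ - χ) := by
      simp only [Int.cast_neg, neg_smul, smul_sub, neg_sub, Finset.sum_sub_distrib,
        Finset.sum_neg_distrib]
      rw [← Finset.sum_smul, ha0, zero_smul]
      simp
    rw [e1, map_sum' hiso _ _ fun χ hχ => by
      rw [Int.cast_smul_eq_zsmul]; exact (onSub _).smul_mem _ (hdiff _ hχ₁ _ hχ)]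
    rw [Finset.sum_congr rfl fun χ hχ => map_intCast_smul hiso (hdiff _ hχ₁ _ hχ) (-a χ)]
    simp only [Y, Int.cast_neg, neg_smul, smul_sub, Finset.sum_sub_distrib, Finset.sum_neg_distrib]
    rw [← Finset.sum_smul, ha0, zero_smul, zero_sub]

end CfsgLib.Char.Coherence
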