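import Cfsg.Agent.Lib.Char.CoherenceExt
import Cfsg.Agent.Lib.Char.Clifford
import Cfsg.Agent.Lib.Char.ClassSum
import Cfsg.Agent.Lib.Char.Constituent
import Cfsg.Agent.Lib.Char.Quotient
import Cfsg.Agent.Lib.Char.Perm
import Mathlib.GroupTheory.Solvable

/-!
# Coherence of the sets induced from a solvable normal subgroup

A coherent `S(A)` forces coherence of `S(B)` when the degrees in `S(B)` are small.
-/

set_option autoImplicit false

open scoped ComplexConjugate

namespace CfsgLib.Char.CoherenceKernel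

open Coherence

variable {L : Type*} [Group L] [Fintype L]

/-- A normal subgroup that is central modulo the kernel bounds the degree. -/
theorem degree_sq_le {C : Type*} [Group C] [Fintype C] (D B : Subgroup C)
    (hcent : ∀ x ∈ D, ∀ y : C, x * y * x⁻¹ * y⁻¹ ∈ B) {η : C → ℂ}
    (hη : Cfsg.IsIrrCharacter C η) (hker : ∀ b ∈ B, η b = η 1) :
    ∃ d : ℕ, η 1 = (d : ℂ) ∧ d ^ 2 ≤ D.index := by
  classical
  obtain ⟨d, hd0, hd⟩ := IsIrrCharacter.apply_one_eq hη
  refine ⟨d, hd, ?_⟩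
  have hd0' : (d : ℂ) ≠ 0 := Nat.cast_ne_zero.mpr hd0.ne'
  have hnorm : ∀ x ∈ D, η x * conj (η x) = (d : ℂ) * d := by
    intro x hx
    have h := IsIrrCharacter.sum_mul_conjugate hη x⁻¹ x
    rw [Finset.sum_congr rfl fun h _ => show η (x⁻¹ * (h * x * h⁻¹)) = (d : ℂ) by
        rw [← hd, ← mul_assoc, ← mul_assoc]
        refine hker _ ?_
        have := hcent x⁻¹ (inv_mem hx) h
        rwa [inv_inv] at this,
      Finset.sum_const, Finset.card_univ, nsmul_eq_mul, ← Nat.card_eq_fintype_card,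
      IsIrrCharacter.apply_inv hη, hd, eq_div_iff hd0'] at h
    have hC : (Nat.card C : ℂ) ≠ 0 := Nat.cast_ne_zero.mpr Nat.card_pos.ne'
    refine mul_left_cancel₀ hC ?_
    linear_combination -h
  have h1 := classInner_irr_self hη
  rw [Cfsg.classInner] at h1
  have hsum : ∑ x, η x * conj (η x) = (Nat.card C : ℂ) := by
    have hC : (Nat.card C : ℂ) ≠ 0 := Nat.cast_ne_zero.mpr Nat.card_pos.ne'
    field_simp at h1
    exact h1
  have hre : ∑ x, Complex.normSq (η x) = (Nat.card C : ℝ) := by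
    have := congrArg Complex.re hsum
    simpa [Complex.mul_conj] using this
  have hD : ∑ x ∈ Finset.univ.filter (fun x => x ∈ D), Complex.normSq (η x) =
      (Nat.card D : ℝ) * ((d : ℝ) * d) := by
    rw [Finset.sum_congr rfl fun x hx => show Complex.normSq (η x) = (d : ℝ) * d by
        have := congrArg Complex.re (hnorm x (Finset.mem_filter.mp hx).2)
        simpa [Complex.mul_conj] using this,
      Finset.sum_const, nsmul_eq_mul, Nat.card_eq_fintype_card, ← Fintype.card_subtype]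
  have hle : (Nat.card D : ℝ) * ((d : ℝ) * d) ≤ (Nat.card C : ℝ) := by
    rw [← hD, ← hre]
    exact Finset.sum_le_sum_of_subset_of_nonneg (Finset.subset_univ _)
      fun x _ _ => Complex.normSq_nonneg _
  have hle' : Nat.card D * (d * d) ≤ Nat.card C := by exact_mod_cast hle
  rw [← D.card_mul_index] at hle'
  rw [sq]
  exact Nat.le_of_mul_le_mul_left hle' Nat.card_pos

section

variable {K : Subgroup L}

theorem conj_mem_set {A : Subgroup L} {φ : L → ℂ} (h : φ ∈ Cfsg.inducedIrrAbove K A) :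
    Cfsg.conjFun φ ∈ Cfsg.inducedIrrAbove K A := by
  obtain ⟨θ, hθ, hθ1, hker, rfl⟩ := h
  cases nonempty_fintype K
  refine ⟨fun k => conj (θ k), IsIrrCharacter.conj' hθ, fun h => hθ1 ?_,
    fun a ha => congrArg conj (hker a ha), (indFun_conj K θ).symm⟩
  funext k
  simpa using congrArg conj (congrFun h k)

theorem subset_bot (A : Subgroup L) :
    Cfsg.inducedIrrAbove K A ⊆ Cfsg.inducedIrrAbove K ⊥ := by
  rintro _ ⟨θ, hθ, hθ1, -, rfl⟩
  exact ⟨θ, hθ, hθ1, fun a ha => by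
    rw [show a = 1 from Subtype.ext (Subgroup.mem_bot.mp ha)], rfl⟩

end

variable (K : Subgroup L) [hK : K.Normal]

/-- The squares of the degrees above `A` add up to the index. -/
theorem sum_sq_above [Fintype K] (A : Subgroup L) [A.Normal] (hAK : A ≤ K)
    [DecidablePred fun φ : Cfsg.IrrCharacter K => ∀ a : K, (a : L) ∈ A → (φ : K → ℂ) a = (φ : K → ℂ) 1] :
    ∑ φ ∈ Finset.univ.filter (fun φ : Cfsg.IrrCharacter K =>
      ∀ a : K, (a : L) ∈ A → (φ : K → ℂ) a = (φ : K → ℂ) 1),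
      (φ : K → ℂ) 1 * (φ : K → ℂ) 1 = (A.relIndex K : ℂ) := by
  classical
  set A' := A.subgroupOf K
  haveI : A'.Normal := Subgroup.Normal.subgroupOf ‹A.Normal› K
  cases nonempty_fintype A'
  set f := Cfsg.indFun A' (fun _ => (1 : ℂ))
  have hf := congrFun (IsClassFunction.eq_sum_irr
    (indFun_isClassFunction A' (fun _ => (1 : ℂ)))) 1
  simp only [Finset.sum_apply, Pi.smul_apply, smul_eq_mul] at hf
  rw [indFun_one, mul_one] at hf
  have hcoef : ∀ φ : Cfsg.IrrCharacter K,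
      Cfsg.classInner f (φ : K → ℂ) * (φ : K → ℂ) 1 =
        if (∀ a : K, (a : L) ∈ A → (φ : K → ℂ) a = (φ : K → ℂ) 1) then
          (φ : K → ℂ) 1 * (φ : K → ℂ) 1 else 0 := by
    intro φ
    rw [classInner_indFun A' _ (IsIrrCharacter.isClassFunction φ.2)]
    split_ifs with h
    · rw [show (fun a : A' => (φ : K → ℂ) a) = (φ : K → ℂ) 1 • fun _ => (1 : ℂ) from
          funext fun a => by simpa using h a (Subgroup.mem_subgroupOf.mp a.2),
        classInner_smul_right, classInner_irr_self isIrrCharacter_one, mul_one]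
      obtain ⟨d, -, hd⟩ := IsIrrCharacter.apply_one_eq φ.2
      rw [hd, map_natCast]
    · have hz : Cfsg.classInner (fun a : A' => (φ : K → ℂ) a) (fun _ => (1 : ℂ)) = 0 := by
        by_contra hne
        have hr := restrict_eq_smul_orbit (H := A') φ.2 isIrrCharacter_one hne
        rw [show {ψ : A' → ℂ | ∃ g : K, ψ = conjG (fun _ => (1 : ℂ)) g} = {fun _ => (1 : ℂ)} from
          Set.ext fun ψ => ⟨fun ⟨g, hg⟩ => hg, fun hψ => ⟨1, hψ⟩⟩, finsum_mem_singleton] at hr
        refine h fun a ha => ?_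
        have h1 := congrFun hr ⟨a, Subgroup.mem_subgroupOf.mpr ha⟩
        have h2 := congrFun hr 1
        simp only [Pi.smul_apply, smul_eq_mul] at h1 h2
        exact h1.trans h2.symm
      rw [← classInner_conj_symm, hz, map_zero, zero_mul]
  rw [Finset.sum_congr rfl fun φ _ => hcoef φ, ← Finset.sum_filter] at hf
  rw [← hf]
  rfl

/-- A solvable group has a nontrivial linear character trivial on a proper normal subgroup. -/
theorem exists_linear_above (hsolv : Group.IsSolvable K) (A : Subgroup L) [A.Normal] (hAK : A < K) :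
    ∃ l : K →* ℂˣ, (fun k => (l k : ℂ)) ≠ (fun _ => 1) ∧ ∀ a : K, (a : L) ∈ A → l a = 1 := by
  classical
  cases nonempty_fintype K
  haveI : (A.subgroupOf K).Normal := Subgroup.Normal.subgroupOf ‹A.Normal› K
  have := hsolv
  set Q := K ⧸ A.subgroupOf K
  haveI : Nontrivial Q := by
    rw [QuotientGroup.nontrivial_iff]
    exact fun h => hAK.not_ge (Subgroup.subgroupOf_eq_top.mp h)
  haveI : Group.IsSolvable Q :=
    Group.isSolvable_of_surjective (QuotientGroup.mk'_surjective (A.subgroupOf K))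
  have hlt : commutator Q ≠ ⊤ := (Group.IsSolvable.commutator_lt_top_of_nontrivial (G := Q)).ne
  set Q' := Q ⧸ commutator Q
  haveI : Nontrivial Q' := QuotientGroup.nontrivial_iff.mpr hlt
  cases nonempty_fintype Q'
  obtain ⟨q, hq⟩ := exists_ne (1 : Q')
  obtain ⟨φ, hφ⟩ : ∃ φ : Cfsg.IrrCharacter Q', (φ : Q' → ℂ) q ≠ (φ : Q' → ℂ) 1 := by
    by_contra hc
    push Not at hc
    exact hq (eq_one_of_forall_irr hc)
  have hcomm : ∀ a b : Q', a * b = b * a := fun a b =>
    mul_comm (G := Abelianization Q) a b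
  obtain ⟨l, hl⟩ := exists_hom_of_apply_one_eq_one (IsIrrCharacter.isCharacter φ.2)
    (apply_one_eq_one_of_comm hcomm φ.2)
  refine ⟨l.comp ((QuotientGroup.mk' (commutator Q)).comp (QuotientGroup.mk' (A.subgroupOf K))),
    fun h => hφ ?_, fun a ha => ?_⟩
  · obtain ⟨x, rfl⟩ := QuotientGroup.mk_surjective q
    obtain ⟨k, rfl⟩ := QuotientGroup.mk_surjective x
    have := congrFun h k
    simp only [MonoidHom.comp_apply] at this
    rw [hl]
    simp only [map_one, Units.val_one]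
    exact this
  · have : (QuotientGroup.mk' (A.subgroupOf K)) a = 1 :=
      (QuotientGroup.eq_one_iff a).mpr (Subgroup.mem_subgroupOf.mpr ha)
    simp only [MonoidHom.comp_apply, this, map_one]

/-- `S(A)` carries weight `[L : K] ([K : A] - 1)`. -/
theorem exists_weight {S : Set (L → ℂ)} {G : Type*} [Group G] [Fintype G]
    {τ : (L → ℂ) → (G → ℂ)} {R : (L → ℂ) → Finset (G → ℂ)}
    (hS : Cfsg.IsCoherenceSystem S τ R) (hSK : Cfsg.inducedIrrAbove K ⊥ ⊆ S)
    (d n : (L → ℂ) → ℕ) (hd : ∀ φ ∈ S, φ 1 = (d φ : ℂ))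
    (hn : ∀ φ ∈ S, Cfsg.classInner φ φ = (n φ : ℂ)) (A : Subgroup L) [A.Normal] (hAK : A ≤ K)
    (S₁ : Finset (L → ℂ)) (hS₁ : Cfsg.inducedIrrAbove K A ⊆ ↑S₁) :
    (K.index : ℝ) * ((A.relIndex K : ℝ) - 1) ≤ ∑ φ ∈ S₁, ((d φ : ℝ) ^ 2 / (n φ : ℝ)) := by
  classical
  cases nonempty_fintype K
  let one : Cfsg.IrrCharacter K := ⟨fun _ => 1, isIrrCharacter_one⟩
  set I := (Finset.univ.filter (fun φ : Cfsg.IrrCharacter K =>
    ∀ a : K, (a : L) ∈ A → (φ : K → ℂ) a = (φ : K → ℂ) 1)).erase one with hI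
  choose δ hδpos hδ using fun φ : Cfsg.IrrCharacter K => IsIrrCharacter.apply_one_eq φ.2
  have hmem : ∀ φ ∈ I, Cfsg.indFun K (φ : K → ℂ) ∈ Cfsg.inducedIrrAbove K A := fun φ hφ => by
    rw [hI, Finset.mem_erase, Finset.mem_filter] at hφ
    exact ⟨φ, φ.2, fun h => hφ.1 (Subtype.ext h), hφ.2.2, rfl⟩
  have hsum : ∑ φ ∈ I, ((δ φ : ℝ) * δ φ) = (A.relIndex K : ℝ) - 1 := by
    have h := sum_sq_above K A hAK
    have hone : one ∈ Finset.univ.filter (fun φ : Cfsg.IrrCharacter K =>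
        ∀ a : K, (a : L) ∈ A → (φ : K → ℂ) a = (φ : K → ℂ) 1) :=
      Finset.mem_filter.mpr ⟨Finset.mem_univ _, fun a _ => rfl⟩
    rw [← Finset.add_sum_erase _ _ hone, ← hI, Finset.sum_congr rfl fun φ _ => by rw [hδ φ]] at h
    have h' := congrArg Complex.re h
    simp [one] at h'
    linarith
  rw [← hsum, Finset.mul_sum]
  refine le_trans ?_ (Finset.sum_le_sum_of_subset_of_nonneg
    (s := I.image fun φ : Cfsg.IrrCharacter K => Cfsg.indFun K (φ : K → ℂ)) ?_ fun φ _ _ => by positivity)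
  swap
  · intro φ hφ
    obtain ⟨ψ, hψ, rfl⟩ := Finset.mem_image.mp hφ
    exact hS₁ (hmem ψ hψ)
  rw [← Finset.sum_fiberwise_of_maps_to (g := fun φ : Cfsg.IrrCharacter K => Cfsg.indFun K (φ : K → ℂ))
    fun φ hφ => Finset.mem_image_of_mem (fun φ : Cfsg.IrrCharacter K => Cfsg.indFun K (φ : K → ℂ)) hφ]
  refine Finset.sum_le_sum fun ξ hξ => ?_
  obtain ⟨φ₀, hφ₀, rfl⟩ := Finset.mem_image.mp hξ
  have hξS : Cfsg.indFun K (φ₀ : K → ℂ) ∈ S := hSK (subset_bot A (hmem φ₀ hφ₀))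
  -- everything in the fibre is conjugate to `φ₀`
  have horb : ∀ φ ∈ I.filter (fun φ : Cfsg.IrrCharacter K => Cfsg.indFun K (φ : K → ℂ) = Cfsg.indFun K (φ₀ : K → ℂ)),
      ∃ g : L, conjG (φ₀ : K → ℂ) g = (φ : K → ℂ) := by
    intro φ hφ
    by_contra hc
    push Not at hc
    have h0 := classInner_indFun_eq_zero φ.2 φ₀.2 fun g hg => hc g hg.symm
    rw [(Finset.mem_filter.mp hφ).2] at h0
    refine hS.conj_ne _ hξS ?_
    rw [classInner_self_eq_zero.mp h0]
    funext x; simp [Cfsg.conjFun]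
  have hdeg : ∀ φ ∈ I.filter (fun φ : Cfsg.IrrCharacter K => Cfsg.indFun K (φ : K → ℂ) = Cfsg.indFun K (φ₀ : K → ℂ)),
      δ φ = δ φ₀ := by
    intro φ hφ
    obtain ⟨g, hg⟩ := horb φ hφ
    have h := congrFun hg 1
    rw [conjG_apply, show (⟨g * ((1 : K) : L) * g⁻¹, hK.conj_mem _ (1 : K).2 g⟩ : K) = 1 from
      Subtype.ext (by simp), hδ, hδ] at h
    exact_mod_cast h.symm
  rw [Finset.sum_congr rfl fun φ hφ => by rw [hdeg φ hφ], Finset.sum_const, nsmul_eq_mul]
  -- the fibre is at most the orbit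
  set Φ := I.filter (fun φ : Cfsg.IrrCharacter K => Cfsg.indFun K (φ : K → ℂ) = Cfsg.indFun K (φ₀ : K → ℂ))
  have hcard : Φ.card * Nat.card (stab (φ₀ : K → ℂ)) ≤ Nat.card L := by
    calc Φ.card * Nat.card (stab (φ₀ : K → ℂ))
        = ∑ φ ∈ Φ, (Finset.univ.filter fun g : L => conjG (φ₀ : K → ℂ) g = (φ : K → ℂ)).card := by
          rw [Finset.sum_congr rfl fun (φ : Cfsg.IrrCharacter K) (hφ : φ ∈ Φ) => show
              (Finset.univ.filter fun g : L => conjG (φ₀ : K → ℂ) g = (φ : K → ℂ)).card =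
                Nat.card (stab (φ₀ : K → ℂ)) by
              obtain ⟨g, hg⟩ := horb φ hφ
              rw [← card_filter_conjG_eq (φ₀ : K → ℂ) g]
              congr 1
              ext x; simp [hg],
            Finset.sum_const, smul_eq_mul]
      _ ≤ Nat.card L := by
          rw [← Finset.card_biUnion, Nat.card_eq_fintype_card, ← Finset.card_univ]
          · exact Finset.card_le_card (Finset.subset_univ _)
          · intro φ _ ψ _ hne
            simp only [Function.onFun, Finset.disjoint_filter]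
            exact fun g _ h1 h2 => hne (Subtype.ext (h1.symm.trans h2))
  have hn' : (n (Cfsg.indFun K (φ₀ : K → ℂ)) : ℝ) * Nat.card K = Nat.card (stab (φ₀ : K → ℂ)) := by
    have h := hn _ hξS
    rw [classInner_indFun_irr φ₀.2 φ₀.2, div_eq_iff (Nat.cast_ne_zero.mpr Nat.card_pos.ne')] at h
    exact_mod_cast h.symm
  have hd' : (d (Cfsg.indFun K (φ₀ : K → ℂ)) : ℝ) = K.index * δ φ₀ := by
    have h := hd _ hξS
    rw [indFun_one, hδ] at h
    exact_mod_cast h.symm
  have hs0 : (0 : ℝ) < Nat.card (stab (φ₀ : K → ℂ)) := Nat.cast_pos.mpr Nat.card_pos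
  have hK0 : (0 : ℝ) < Nat.card K := Nat.cast_pos.mpr Nat.card_pos
  have hn0 : (0 : ℝ) < n (Cfsg.indFun K (φ₀ : K → ℂ)) := by
    rcases (Nat.zero_le (n (Cfsg.indFun K (φ₀ : K → ℂ)))).lt_or_eq with h | h
    · exact_mod_cast h
    · rw [← h, Nat.cast_zero, zero_mul] at hn'; linarith
  rw [hd', le_div_iff₀ hn0]
  have hL : (Nat.card L : ℝ) = Nat.card K * K.index := by exact_mod_cast K.card_mul_index.symm
  have hcard' : (Φ.card : ℝ) * Nat.card (stab (φ₀ : K → ℂ)) ≤ Nat.card L := by exact_mod_cast hcard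
  rw [← hn', hL] at hcard'
  have : (Φ.card : ℝ) * n (Cfsg.indFun K (φ₀ : K → ℂ)) ≤ K.index := by
    refine le_of_mul_le_mul_right ?_ hK0
    linarith
  calc (Φ.card : ℝ) * ((K.index : ℝ) * ((δ φ₀ : ℝ) * δ φ₀)) * n (Cfsg.indFun K (φ₀ : K → ℂ))
      = (K.index : ℝ) * ((δ φ₀ : ℝ) * δ φ₀) * ((Φ.card : ℝ) * n (Cfsg.indFun K (φ₀ : K → ℂ))) := by
        ring
    _ ≤ (K.index : ℝ) * ((δ φ₀ : ℝ) * δ φ₀) * K.index :=
        mul_le_mul_of_nonneg_left this (by positivity)
    _ = ((K.index : ℝ) * δ φ₀) ^ 2 := by ring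

end CfsgLib.Char.CoherenceKernel
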