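import Cfsg.Agent.Lib.Char.CoherenceGrow
import Cfsg.Agent.Lib.Char.CoherenceKernel

/-!
# Coherence of the characters not trivial on a central subgroup of a normal `p`-subgroup
-/

set_option autoImplicit false

open scoped ComplexConjugate

namespace CfsgLib.Char.Coherence

variable {L : Type*} [Group L] [Fintype L] (K : Subgroup L) [hK : K.Normal]

/-- `θ` is trivial on `Z`. -/
def TrivOn (Z : Subgroup L) (θ : K → ℂ) : Prop := ∀ a : K, (a : L) ∈ Z → θ a = θ 1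

/-- The functions induced from irreducible characters of `K` not trivial on `Z`. -/
def indNontriv (Z : Subgroup L) : Set (L → ℂ) :=
  {η | ∃ θ : K → ℂ, Cfsg.IsIrrCharacter K θ ∧ ¬ TrivOn K Z θ ∧ η = Cfsg.indFun K θ}

variable {K}

theorem trivOn_conjG {Z : Subgroup L} [Z.Normal] {θ : K → ℂ} (h : TrivOn K Z θ) (g : L) :
    TrivOn K Z (conjG θ g) := by
  intro a ha
  rw [conjG_apply, conjG_apply, h _ (Subgroup.Normal.conj_mem ‹Z.Normal› _ ha g)]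
  congr 1
  exact Subtype.ext (by simp)

theorem trivOn_conj {Z : Subgroup L} {θ : K → ℂ} (h : TrivOn K Z θ) :
    TrivOn K Z (fun k => conj (θ k)) := fun a ha => congrArg conj (h a ha)

theorem indFun_ne_zero [Fintype K] {θ : K → ℂ} (hθ : Cfsg.IsIrrCharacter K θ) :
    Cfsg.indFun K θ ≠ 0 := fun h => by
  have := congrFun h 1
  rw [indFun_one, Pi.zero_apply, mul_eq_zero] at this
  exact this.elim (Nat.cast_ne_zero.mpr K.index_ne_zero_of_finite)
    (IsIrrCharacter.apply_one_ne_zero hθ)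

/-- Characters inducing the same function are conjugate. -/
theorem exists_conjG_of_indFun_eq [Fintype K] {θ θ' : K → ℂ} (hθ : Cfsg.IsIrrCharacter K θ)
    (hθ' : Cfsg.IsIrrCharacter K θ') (h : Cfsg.indFun K θ = Cfsg.indFun K θ') :
    ∃ g : L, θ = conjG θ' g := by
  by_contra hc
  push Not at hc
  have h0 := classInner_indFun_eq_zero hθ hθ' hc
  rw [h] at h0
  exact indFun_ne_zero hθ' (classInner_self_eq_zero.mp h0)

theorem trivOn_of_indFun_eq [Fintype K] {Z : Subgroup L} [Z.Normal] {θ θ' : K → ℂ}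
    (hθ : Cfsg.IsIrrCharacter K θ) (hθ' : Cfsg.IsIrrCharacter K θ')
    (h : Cfsg.indFun K θ = Cfsg.indFun K θ') (ht : TrivOn K Z θ') : TrivOn K Z θ := by
  obtain ⟨g, rfl⟩ := exists_conjG_of_indFun_eq hθ hθ' h
  exact trivOn_conjG ht g

variable (K)

/-- The set `S ∖ S(Z)`. -/
theorem diff_eq_indNontriv [Fintype K] (Z : Subgroup L) [Z.Normal] :
    Cfsg.inducedIrrAbove K ⊥ \ Cfsg.inducedIrrAbove K Z = indNontriv K Z := by
  ext η
  constructor
  · rintro ⟨⟨θ, hθ, hθ1, -, rfl⟩, hn⟩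
    exact ⟨θ, hθ, fun h => hn ⟨θ, hθ, hθ1, h, rfl⟩, rfl⟩
  · rintro ⟨θ, hθ, hnt, rfl⟩
    refine ⟨⟨θ, hθ, fun h => hnt fun a _ => by rw [h], fun a ha => ?_, rfl⟩, ?_⟩
    · rw [show a = 1 from Subtype.ext (Subgroup.mem_bot.mp ha)]
    · rintro ⟨θ', hθ', -, ht, he⟩
      exact hnt (trivOn_of_indFun_eq hθ hθ' he ht)

/-- The characters of `L` not trivial on `Z`, when they are induced from `K`. -/
theorem indNontriv_eq [Fintype K] (Z : Subgroup L) [Z.Normal] (hZK : Z ≤ K)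
    (hirr : ∀ η ∈ indNontriv K Z, Cfsg.IsIrrCharacter L η) :
    indNontriv K Z = {χ | Cfsg.IsIrrCharacter L χ ∧ ∃ z ∈ Z, χ z ≠ χ 1} := by
  ext χ
  constructor
  · intro h
    refine ⟨hirr χ h, ?_⟩
    obtain ⟨θ, hθ, hnt, rfl⟩ := h
    by_contra hc
    push Not at hc
    have hi := hirr _ ⟨θ, hθ, hnt, rfl⟩
    refine hnt fun a ha => IsCharacter.constituent_apply_eq_one
      (χ := fun k : K => Cfsg.indFun K θ k)
      (IsCharacter.restrict (IsIrrCharacter.isCharacter hi) K) hθ (fun h0 => ?_)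
      (by simpa using hc _ ha)
    have h1 := classInner_irr_self hi
    rw [classInner_indFun K θ (IsIrrCharacter.isClassFunction hi), ← classInner_conj_symm, h0,
      map_zero] at h1
    exact zero_ne_one h1
  · rintro ⟨hχ, z, hz, hne⟩
    have hres := IsCharacter.restrict (IsIrrCharacter.isCharacter hχ) K
    obtain ⟨θ, hθ, hc⟩ := IsCharacter.exists_constituent hres fun h =>
      IsIrrCharacter.apply_one_ne_zero hχ (by simpa using congrFun h (1 : K))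
    have hnt : ¬ TrivOn K Z θ := by
      intro ht
      refine hne ?_
      have hr := restrict_eq_smul_orbit hχ hθ hc
      have h1 := congrFun hr ⟨z, hZK hz⟩
      have h2 := congrFun hr 1
      have hfin : {ψ : K → ℂ | ∃ g : L, ψ = conjG θ g}.Finite :=
        (Set.finite_range fun g : L => conjG θ g).subset fun ψ ⟨g, hg⟩ => ⟨g, hg.symm⟩
      rw [finsum_mem_eq_finite_toFinset_sum _ hfin] at h1 h2
      simp only [Pi.smul_apply, Finset.sum_apply, smul_eq_mul] at h1 h2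
      rw [show χ z = _ from h1, show χ 1 = _ from h2]
      congr 1
      refine Finset.sum_congr rfl fun ψ hψ => ?_
      obtain ⟨g, rfl⟩ := hfin.mem_toFinset.mp hψ
      exact trivOn_conjG ht g ⟨z, hZK hz⟩ hz
    refine ⟨θ, hθ, hnt, ?_⟩
    by_contra hne'
    have h0 := classInner_irr_ne (hirr _ ⟨θ, hθ, hnt, rfl⟩) hχ (Ne.symm hne')
    rw [classInner_indFun K θ (IsIrrCharacter.isClassFunction hχ), ← classInner_conj_symm] at h0
    exact hc (star_eq_zero.mp h0)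

theorem natDeg_sq_dvd_card {p : ℕ} [Fact p.Prime] {X : Type*} [Group X] [Fintype X]
    (hX : IsPGroup p X) {θ : X → ℂ} (hθ : Cfsg.IsIrrCharacter X θ) :
    natDeg θ ^ 2 ∣ Nat.card X ∧ ∃ i, natDeg θ = p ^ i := by
  obtain ⟨d, hd, hdvd⟩ := IsIrrCharacter.apply_one_dvd_card hθ
  have he : natDeg θ = d := by exact_mod_cast (natDeg_spec hθ).symm.trans hd
  obtain ⟨n, hn⟩ := IsPGroup.iff_card.mp hX
  rw [hn] at hdvd
  obtain ⟨i, -, hi⟩ := (Nat.dvd_prime_pow Fact.out).mp hdvd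
  refine ⟨?_, i, he.trans hi⟩
  have hle : natDeg θ ^ 2 ≤ Nat.card X := by
    have h := sum_sq_apply_one (G := X)
    simp only [natDeg_spec (Subtype.prop _)] at h
    have h' : ∑ χ : Cfsg.IrrCharacter X, natDeg (χ : X → ℂ) ^ 2 = Nat.card X := by exact_mod_cast h
    rw [← h']
    exact Finset.single_le_sum (f := fun χ : Cfsg.IrrCharacter X => natDeg (χ : X → ℂ) ^ 2)
      (fun _ _ => Nat.zero_le _) (Finset.mem_univ ⟨θ, hθ⟩)
  rw [hn, he, hi, ← pow_mul] at hle ⊢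
  exact pow_dvd_pow p ((Nat.pow_le_pow_iff_right (Fact.out : p.Prime).one_lt).mp hle)

variable {G : Type*} [Group G] [Fintype G]

open scoped Classical in
/-- The characters not trivial on a central `Z` form a coherent set when `K` is a `p`-group. -/
theorem isCoherent_indNontriv [Fintype K] {p : ℕ} [Fact p.Prime] (hp : p ≠ 2) (hKp : IsPGroup p K)
    (hpe : ¬ p ∣ K.index) (Z : Subgroup L) [Z.Normal] (hZ1 : Z ≠ ⊥) (hZK : Z ≤ K)
    (hZc : ∀ z ∈ Z, ∀ k ∈ K, z * k = k * z)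
    (hirr : ∀ η ∈ indNontriv K Z, Cfsg.IsIrrCharacter L η)
    (hreal : ∀ η ∈ indNontriv K Z, Cfsg.conjFun η ≠ η) (τ : (L → ℂ) → (G → ℂ))
    (hτ : Cfsg.IsLinearIsometryOn (Cfsg.zspanOn (indNontriv K Z) {1}ᶜ) τ)
    (hτ1 : ∀ α ∈ Cfsg.zspanOn (indNontriv K Z) {1}ᶜ, τ α 1 = 0) :
    Cfsg.IsCoherent (indNontriv K Z) {1}ᶜ τ := by
  set Θ := Finset.univ.filter fun φ : Cfsg.IrrCharacter K => ¬ TrivOn K Z (φ : K → ℂ) with hΘ
  set δ := fun φ : Cfsg.IrrCharacter K => natDeg (φ : K → ℂ) with hδ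
  have hmemΘ : ∀ φ, φ ∈ Θ ↔ ¬ TrivOn K Z (φ : K → ℂ) := fun φ => by simp [hΘ]
  have hS : ∀ η, η ∈ indNontriv K Z ↔ ∃ φ ∈ Θ, Cfsg.indFun K (φ : K → ℂ) = η := fun η =>
    ⟨fun ⟨θ, hθ, hnt, he⟩ => ⟨⟨θ, hθ⟩, (hmemΘ _).mpr hnt, he.symm⟩,
      fun ⟨φ, hφ, he⟩ => ⟨φ, φ.2, (hmemΘ φ).mp hφ, he.symm⟩⟩
  have hΘirr : ∀ φ ∈ Θ, Cfsg.IsIrrCharacter L (Cfsg.indFun K (φ : K → ℂ)) := fun φ hφ =>
    hirr _ ((hS _).mpr ⟨φ, hφ, rfl⟩)
  have hst : ∀ φ ∈ Θ, ∀ ψ : Cfsg.IrrCharacter K,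
      Cfsg.indFun K (ψ : K → ℂ) = Cfsg.indFun K (φ : K → ℂ) → ψ ∈ Θ := fun φ hφ ψ h =>
    (hmemΘ ψ).mpr fun ht => (hmemΘ φ).mp hφ (trivOn_of_indFun_eq φ.2 ψ.2 h.symm ht)
  -- divisibility of the squared degrees
  have hpow : ∀ φ : Cfsg.IrrCharacter K, ∃ i, δ φ = p ^ i := fun φ =>
    (natDeg_sq_dvd_card hKp φ.2).2
  haveI : (Z.subgroupOf K).Normal := Subgroup.Normal.subgroupOf ‹Z.Normal› K
  have hidx : ∀ φ : Cfsg.IrrCharacter K, δ φ ^ 2 ∣ Z.relIndex K := by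
    intro φ
    obtain ⟨d, hd, hd2⟩ := CoherenceKernel.degree_sq_le (Z.subgroupOf K) (⊥ : Subgroup K)
      (fun x hx y => Subgroup.mem_bot.mpr (by
        rw [mul_inv_eq_one, mul_inv_eq_iff_eq_mul]
        exact Subtype.ext (hZc _ (Subgroup.mem_subgroupOf.mp hx) _ y.2)))
      φ.2 (fun b hb => by rw [Subgroup.mem_bot.mp hb])
    have he : δ φ = d := by exact_mod_cast (natDeg_spec φ.2).symm.trans hd
    obtain ⟨i, hi⟩ := hpow φ
    obtain ⟨n, hn⟩ := IsPGroup.iff_card.mp hKp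
    obtain ⟨j, -, hj⟩ := (Nat.dvd_prime_pow (Fact.out : p.Prime)).mp
      (show Z.relIndex K ∣ p ^ n from hn ▸ Subgroup.index_dvd_card _)
    rw [← he, show (Z.subgroupOf K).index = Z.relIndex K from rfl, hj, hi, ← pow_mul] at hd2
    rw [hj, hi, ← pow_mul]
    exact pow_dvd_pow p ((Nat.pow_le_pow_iff_right (Fact.out : p.Prime).one_lt).mp hd2)
  have hsumΘ : ∀ φ : Cfsg.IrrCharacter K, δ φ ^ 2 ∣ ∑ ψ ∈ Θ, δ ψ ^ 2 := by
    intro φ
    have h1 : ∑ ψ : Cfsg.IrrCharacter K, δ ψ ^ 2 = Nat.card K := by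
      have h := sum_sq_apply_one (G := K)
      simp only [natDeg_spec (Subtype.prop _)] at h
      exact_mod_cast h
    have h2 : ∑ ψ ∈ Finset.univ.filter (fun ψ : Cfsg.IrrCharacter K => TrivOn K Z (ψ : K → ℂ)),
        δ ψ ^ 2 = Z.relIndex K := by
      have h := CoherenceKernel.sum_sq_above K Z hZK
      have h' : ((∑ ψ ∈ Finset.univ.filter (fun ψ : Cfsg.IrrCharacter K => TrivOn K Z (ψ : K → ℂ)),
          δ ψ ^ 2 : ℕ) : ℂ) = (Z.relIndex K : ℂ) := by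
        rw [← h, Nat.cast_sum]
        refine Finset.sum_congr ?_ fun ψ _ => by rw [Nat.cast_pow, sq, ← natDeg_spec ψ.2]
        exact Finset.filter_congr fun ψ _ => Iff.rfl
      exact_mod_cast h'
    rw [← Finset.sum_filter_add_sum_filter_not (Finset.univ : Finset (Cfsg.IrrCharacter K))
      (fun ψ => TrivOn K Z (ψ : K → ℂ)), h2] at h1
    exact (Nat.dvd_add_right (hidx φ)).mp (h1 ▸ (natDeg_sq_dvd_card hKp φ.2).1)
  have hne : Θ.Nonempty := by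
    obtain ⟨z, hz1⟩ := (Subgroup.ne_bot_iff_exists_ne_one.mp hZ1)
    by_contra hc
    rw [Finset.not_nonempty_iff_eq_empty] at hc
    refine hz1 (Subtype.ext (congrArg Subtype.val
      (eq_one_of_forall_irr (g := (⟨z, hZK z.2⟩ : K)) fun φ => ?_) :))
    have : TrivOn K Z (φ : K → ℂ) := not_not.mp fun h => by
      have := (hmemΘ φ).mpr h
      rw [hc] at this
      exact Finset.notMem_empty _ this
    exact this _ z.2
  obtain ⟨φ₁, hφ₁, hmin⟩ := Finset.exists_min_image Θ δ hne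
  set Θ₀ := Θ.filter fun φ => δ φ = δ φ₁ with hΘ₀
  have hmem₀ : φ₁ ∈ Θ₀ := Finset.mem_filter.mpr ⟨hφ₁, rfl⟩
  -- the least degree
  have hcoh₀ : Cfsg.IsCoherent
      ((fun φ : Cfsg.IrrCharacter K => Cfsg.indFun K (φ : K → ℂ)) '' (↑Θ₀ : Set _)) {1}ᶜ τ := by
    have hsub : (fun φ : Cfsg.IrrCharacter K => Cfsg.indFun K (φ : K → ℂ)) '' (↑Θ₀ : Set _) ⊆
        indNontriv K Z := by
      rintro _ ⟨φ, hφ, rfl⟩
      exact (hS _).mpr ⟨φ, (Finset.mem_filter.mp hφ).1, rfl⟩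
    rw [← Finset.coe_image] at hsub ⊢
    refine isCoherent_of_irr_degree_eq _ (fun χ hχ => hirr χ (hsub hχ)) (fun χ hχ χ' hχ' => ?_) ?_ τ
      (isometry_mono hsub hτ) fun α hα => hτ1 α (zspanOn_mono hsub hα)
    · obtain ⟨φ, hφ, rfl⟩ := Finset.mem_image.mp hχ
      obtain ⟨φ', hφ', rfl⟩ := Finset.mem_image.mp hχ'
      rw [indFun_one, indFun_one, natDeg_spec φ.2, natDeg_spec φ'.2]
      congr 2
      exact (Finset.mem_filter.mp hφ).2.trans (Finset.mem_filter.mp hφ').2.symm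
    · refine Finset.one_lt_card.mpr ⟨_, Finset.mem_image_of_mem _ hmem₀,
        Cfsg.conjFun (Cfsg.indFun K (φ₁ : K → ℂ)), ?_,
        (hreal _ ((hS _).mpr ⟨φ₁, hφ₁, rfl⟩)).symm⟩
      refine Finset.mem_image.mpr ⟨⟨fun k => conj ((φ₁ : K → ℂ) k), IsIrrCharacter.conj' φ₁.2⟩,
        Finset.mem_filter.mpr ⟨(hmemΘ _).mpr fun h => (hmemΘ φ₁).mp hφ₁ ?_, ?_⟩, indFun_conj K _⟩
      · intro a ha
        simpa using congrArg conj (h a ha)
      · show ⌊(conj ((φ₁ : K → ℂ) 1)).re⌋₊ = _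
        rw [Complex.conj_re]; rfl
  have hle : ∀ φ ∈ Θ, δ φ₁ ∣ δ φ := by
    intro φ hφ
    obtain ⟨i, hi⟩ := hpow φ₁
    obtain ⟨j, hj⟩ := hpow φ
    have := hmin φ hφ
    rw [hi, hj] at this ⊢
    exact pow_dvd_pow p ((Nat.pow_le_pow_iff_right (Fact.out : p.Prime).one_lt).mp this)
  refine isCoherent_grow_ind K Θ Θ₀ (Finset.filter_subset _ _) hΘirr hst ?_ hS τ hτ hτ1 hcoh₀ hmem₀
    hle fun φ hφ hφ₀ => ?_
  · intro φ hφ ψ h
    obtain ⟨hφ', hd⟩ := Finset.mem_filter.mp hφ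
    exact Finset.mem_filter.mpr ⟨hst φ hφ' ψ h, (natDeg_eq_of_indFun_eq K h).trans hd⟩
  have hlt : δ φ₁ < δ φ := lt_of_le_of_ne (hmin φ hφ) fun h =>
    hφ₀ (Finset.mem_filter.mpr ⟨hφ, h.symm⟩)
  have hfil : Θ.filter (fun ψ => ψ ∈ Θ₀ ∨ natDeg (ψ : K → ℂ) < natDeg (φ : K → ℂ)) =
      Θ.filter fun ψ => δ ψ < δ φ := by
    refine Finset.filter_congr fun ψ _ => ⟨fun h => h.elim (fun h => ?_) id, Or.inr⟩
    rw [(Finset.mem_filter.mp h).2]; exact hlt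
  rw [hfil]
  set A := ∑ ψ ∈ Θ.filter (fun ψ => δ ψ < δ φ), δ ψ ^ 2 with hA
  have hd2 : δ φ ^ 2 ∣ A := by
    have hb : δ φ ^ 2 ∣ ∑ ψ ∈ Θ.filter (fun ψ => ¬ δ ψ < δ φ), δ ψ ^ 2 := by
      refine Finset.dvd_sum fun ψ hψ => pow_dvd_pow_of_dvd ?_ 2
      obtain ⟨i, hi⟩ := hpow φ
      obtain ⟨j, hj⟩ := hpow ψ
      have := not_lt.mp (Finset.mem_filter.mp hψ).2
      rw [hi, hj] at this ⊢
      exact pow_dvd_pow p ((Nat.pow_le_pow_iff_right (Fact.out : p.Prime).one_lt).mp this)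
    have h := hsumΘ φ
    rw [← Finset.sum_filter_add_sum_filter_not Θ (fun ψ => δ ψ < δ φ)] at h
    exact (Nat.dvd_add_left hb).mp h
  -- the index divides the sum as well
  have hQst : ∀ φ' ∈ Θ.filter (fun ψ => δ ψ < δ φ), ∀ ψ : Cfsg.IrrCharacter K,
      Cfsg.indFun K (ψ : K → ℂ) = Cfsg.indFun K (φ' : K → ℂ) →
        ψ ∈ Θ.filter (fun ψ => δ ψ < δ φ) := fun φ' hφ' ψ h => by
    obtain ⟨h1, h2⟩ := Finset.mem_filter.mp hφ'
    refine Finset.mem_filter.mpr ⟨hst φ' h1 ψ h, ?_⟩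
    rw [hδ] at h2 ⊢
    simp only at h2 ⊢
    rwa [natDeg_eq_of_indFun_eq K h]
  have he0 : 0 < K.index := Nat.pos_of_ne_zero K.index_ne_zero_of_finite
  have hdvd : K.index ∣ A := by
    refine ⟨_, (Finset.sum_congr rfl fun ψ hψ => ?_).trans
      (sum_indFun K _ (fun φ' h => hΘirr φ' (Finset.mem_filter.mp h).1) hQst
        fun η => (natDeg η / K.index) ^ 2)⟩
    rw [natDeg_indFun K ψ.2, Nat.mul_div_cancel_left _ he0]
  obtain ⟨i, hi⟩ := hpow φ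
  have hcop : Nat.Coprime K.index (δ φ ^ 2) := by
    rw [hi, ← pow_mul]
    exact Nat.Coprime.pow_right _ (((Fact.out : p.Prime).coprime_iff_not_dvd.mpr hpe).symm)
  have hApos : 0 < A := by
    refine lt_of_lt_of_le (pow_pos (natDeg_pos φ₁.2) 2)
      (Finset.single_le_sum (f := fun ψ => δ ψ ^ 2) (fun _ _ => Nat.zero_le _)
        (Finset.mem_filter.mpr ⟨hφ₁, hlt⟩))
  have hge := Nat.le_of_dvd hApos (hcop.mul_dvd_of_dvd_of_dvd hdvd hd2)
  refine lt_of_lt_of_le ?_ hge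
  have hp3 : 3 ≤ p := by
    have := (Fact.out : p.Prime).two_le
    omega
  obtain ⟨j, hj⟩ := hpow φ₁
  have hji : j + 1 ≤ i := by
    have := hlt
    rw [hi, hj] at this
    exact (Nat.pow_lt_pow_iff_right (Fact.out : p.Prime).one_lt).mp this
  have h3 : 2 * δ φ₁ < δ φ := by
    calc 2 * δ φ₁ < p * δ φ₁ := Nat.mul_lt_mul_of_pos_right (by omega) (natDeg_pos φ₁.2)
      _ = p ^ (j + 1) := by rw [hj, pow_succ']
      _ ≤ δ φ := by rw [hi]; exact Nat.pow_le_pow_right (by omega) hji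
  calc 2 * K.index * natDeg (φ₁ : K → ℂ) * natDeg (φ : K → ℂ)
      = (2 * δ φ₁) * (K.index * δ φ) := by simp only [hδ]; ring
    _ < δ φ * (K.index * δ φ) :=
        Nat.mul_lt_mul_of_pos_right h3 (Nat.mul_pos he0 (natDeg_pos φ.2))
    _ = K.index * δ φ ^ 2 := by ring

end CfsgLib.Char.Coherence
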