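import Cfsg.Agent.Lib.Char.CoherenceKernel
import Mathlib.GroupTheory.Nilpotent

/-!
# Coherence criteria for the sets induced from a solvable normal subgroup
-/

set_option autoImplicit false

open scoped ComplexConjugate

namespace CfsgLib.Char.CoherenceKernel

open Coherence
open scoped commutatorElement

variable {L : Type*} [Group L] [Fintype L] {G : Type*} [Group G] [Fintype G]
  (K : Subgroup L) [hK : K.Normal] {τ : (L → ℂ) → (G → ℂ)} {R : (L → ℂ) → Finset (G → ℂ)}

omit [Fintype L] hK in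
theorem relIndex_ne_zero' [Finite L] {A B : Subgroup L} : A.relIndex B ≠ 0 :=
  (A.subgroupOf B).index_ne_zero_of_finite

theorem exists_mem (hsolv : Group.IsSolvable K) (B : Subgroup L) [B.Normal] (hBK : B < K) :
    ∃ l : K →* ℂˣ, Cfsg.indFun K (fun k => (l k : ℂ)) ∈ Cfsg.inducedIrrAbove K B := by
  obtain ⟨l, hl1, hlB⟩ := exists_linear_above K hsolv B hBK
  exact ⟨l, _, isIrrCharacter_hom l, hl1, fun a ha => by simp [hlB a ha], rfl⟩

/-- Coherence passes to the nonempty part `S(B)`. -/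
theorem isCoherent_above (hsolv : Group.IsSolvable K)
    (hS : Cfsg.IsCoherenceSystem (Cfsg.inducedIrrAbove K ⊥) τ R) (B : Subgroup L) [B.Normal]
    (hBK : B < K) {X : Set (L → ℂ)} (hX : Cfsg.inducedIrrAbove K B ⊆ X)
    (hcoh : Cfsg.IsCoherent X {1}ᶜ τ) : Cfsg.IsCoherent (Cfsg.inducedIrrAbove K B) {1}ᶜ τ := by
  obtain ⟨-, τ₁, hτ₁, hag⟩ := hcoh
  obtain ⟨l, hl⟩ := exists_mem K hsolv B hBK
  have hl' := subset_bot B hl
  have hspan : Submodule.span ℤ (Cfsg.inducedIrrAbove K B) ≤ Submodule.span ℤ X :=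
    Submodule.span_mono hX
  refine ⟨⟨_ - Cfsg.conjFun _, mem_zspanOn_one.mpr
    ⟨(Submodule.span ℤ _).sub_mem (Submodule.subset_span hl)
      (Submodule.subset_span (conj_mem_set hl)), ?_⟩, sub_ne_zero.mpr (hS.conj_ne _ hl').symm⟩,
    τ₁, ⟨fun a ha b hb => hτ₁.1 a (hspan ha) b (hspan hb), fun a ha n => hτ₁.2.1 a (hspan ha) n,
      fun a ha b hb => hτ₁.2.2.1 a (hspan ha) b (hspan hb), fun a ha => hτ₁.2.2.2 a (hspan ha)⟩,
    fun α hα => hag α (mem_zspanOn_one.mpr ⟨hspan (mem_zspanOn_one.mp hα).1,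
      (mem_zspanOn_one.mp hα).2⟩)⟩
  rw [Pi.sub_apply, Cfsg.conjFun, indFun_one]
  simp

/-- A coherent `S(A)` and a bound on the degrees in `S(B)` make `S(B)` coherent. -/
theorem isCoherent_step (hsolv : Group.IsSolvable K)
    (hS : Cfsg.IsCoherenceSystem (Cfsg.inducedIrrAbove K ⊥) τ R) (A B C D : Subgroup L) [A.Normal]
    [B.Normal] [C.Normal] (hAK : A < K) (hBK : B < K) (hDC : D ≤ C) (hCK : C ≤ K)
    (hcent : ∀ x ∈ D, ∀ y ∈ C, x * y * x⁻¹ * y⁻¹ ∈ B)
    (hA : Cfsg.IsCoherent (Cfsg.inducedIrrAbove K A) {1}ᶜ τ)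
    (hlt : 4 * C.index ^ 2 * D.relIndex C < (A.relIndex K - 1) ^ 2) :
    Cfsg.IsCoherent (Cfsg.inducedIrrAbove K B) {1}ᶜ τ := by
  classical
  cases nonempty_fintype K
  haveI : (C.subgroupOf K).Normal := Subgroup.Normal.subgroupOf ‹C.Normal› K
  cases nonempty_fintype (C.subgroupOf K)
  have hne0 : ∀ χ ∈ Cfsg.inducedIrrAbove K ⊥, χ ≠ 0 := fun χ hχ h => hS.conj_ne χ hχ (by
    rw [h]; funext x; simp [Cfsg.conjFun])
  have hfin : (Cfsg.inducedIrrAbove K ⊥).Finite :=
    finite_of_orthogonal hS.isCharacter hne0 hS.orthogonal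
  choose! d hd using fun φ (hφ : φ ∈ Cfsg.inducedIrrAbove K ⊥) =>
    IsCharacter.apply_one_eq (hS.isCharacter φ hφ)
  choose! n hn using fun φ (hφ : φ ∈ Cfsg.inducedIrrAbove K ⊥) =>
    IsCharacter.classInner_nat (hS.isCharacter φ hφ) (hS.isCharacter φ hφ)
  obtain ⟨SA, hSA⟩ := (hfin.subset (subset_bot A)).exists_finset_coe
  obtain ⟨SB, hSB⟩ := (hfin.subset (subset_bot B)).exists_finset_coe
  obtain ⟨l, hl⟩ := exists_mem K hsolv A hAK
  set χ₁ := Cfsg.indFun K (fun k => (l k : ℂ)) with hχ₁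
  have hd1 : d χ₁ = K.index := by
    have h := hd χ₁ (subset_bot A hl)
    rw [hχ₁, indFun_one, map_one, Units.val_one, mul_one] at h
    exact_mod_cast h.symm
  -- the degrees above `B`
  have hdeg : ∀ φ ∈ Cfsg.inducedIrrAbove K B,
      d χ₁ ∣ d φ ∧ (d φ : ℝ) ^ 2 ≤ (C.index : ℝ) ^ 2 * D.relIndex C := by
    intro φ hφ
    have hdφ := hd φ (subset_bot B hφ)
    obtain ⟨θ, hθ, -, hker, rfl⟩ := hφ
    obtain ⟨a, -, ha⟩ := IsIrrCharacter.apply_one_eq hθ
    rw [indFun_one, ha] at hdφ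
    have hdφ' : d (Cfsg.indFun K θ) = K.index * a := by exact_mod_cast hdφ.symm
    refine ⟨by rw [hd1, hdφ']; exact dvd_mul_right _ _, ?_⟩
    set C' := C.subgroupOf K
    have hres := IsCharacter.restrict (IsIrrCharacter.isCharacter hθ) C'
    obtain ⟨η, hη, hne⟩ := IsCharacter.exists_constituent hres fun h => by
      have := congrFun h (1 : C')
      simp only [OneMemClass.coe_one, Pi.zero_apply] at this
      exact IsIrrCharacter.apply_one_ne_zero hθ this
    have hηB : ∀ b : C', ((b : K) : L) ∈ B → η b = η 1 := fun b hb =>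
      IsCharacter.constituent_apply_eq_one hres hη hne (by
        show θ (b : K) = θ ((1 : C') : K)
        rw [OneMemClass.coe_one]; exact hker _ hb)
    obtain ⟨m, hm, hm2⟩ := degree_sq_le (C := C') ((D.subgroupOf K).subgroupOf C')
      ((B.subgroupOf K).subgroupOf C')
      (fun x hx y => Subgroup.mem_subgroupOf.mpr (Subgroup.mem_subgroupOf.mpr
        (hcent _ (Subgroup.mem_subgroupOf.mp (Subgroup.mem_subgroupOf.mp hx)) _
          (Subgroup.mem_subgroupOf.mp y.2))))
      hη fun b hb => hηB b (Subgroup.mem_subgroupOf.mp (Subgroup.mem_subgroupOf.mp hb))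
    obtain ⟨a', b', ha', hb', hle, -⟩ := IsCharacter.constituent_degree_le
      (IsCharacter.indFun (H := C') (IsIrrCharacter.isCharacter hη)) hθ (by
        rw [classInner_indFun C' η (IsIrrCharacter.isClassFunction hθ),
          ← classInner_conj_symm]
        exact fun h => hne (star_eq_zero.mp h))
    rw [ha] at ha'
    rw [indFun_one, hm] at hb'
    have e1 : a = a' := by exact_mod_cast ha'
    have e2 : C'.index * m = b' := by exact_mod_cast hb'
    have e3 : (D.subgroupOf K).relIndex C' = D.relIndex C :=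
      Subgroup.relIndex_subgroupOf hCK
    have hCidx : C.relIndex K * K.index = C.index := Subgroup.relIndex_mul_index hCK
    have h4 : (K.index * a) ^ 2 ≤ C.index ^ 2 * D.relIndex C := by
      calc (K.index * a) ^ 2 ≤ (K.index * (C'.index * m)) ^ 2 :=
            Nat.pow_le_pow_left (Nat.mul_le_mul_left _ (e1 ▸ e2 ▸ hle)) 2
        _ = C.index ^ 2 * m ^ 2 := by
            rw [show C'.index = C.relIndex K from rfl, ← hCidx]; ring
        _ ≤ C.index ^ 2 * D.relIndex C := Nat.mul_le_mul_left _ (e3 ▸ hm2)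
    rw [hdφ']
    exact_mod_cast h4
  -- adjoin the pairs one by one
  have key : ∀ T : Finset (L → ℂ), T ⊆ SB → ∃ S₁ : Finset (L → ℂ), SA ⊆ S₁ ∧ T ⊆ S₁ ∧
      (↑S₁ : Set (L → ℂ)) ⊆ Cfsg.inducedIrrAbove K ⊥ ∧ (∀ φ ∈ S₁, Cfsg.conjFun φ ∈ S₁) ∧
      Cfsg.IsCoherent (↑S₁ : Set (L → ℂ)) {1}ᶜ τ := by
    intro T
    induction T using Finset.induction with
    | empty =>
      intro _
      refine ⟨SA, Finset.Subset.refl _, Finset.empty_subset _, hSA ▸ subset_bot A, fun φ hφ => ?_,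
        hSA ▸ hA⟩
      rw [← Finset.mem_coe, hSA] at hφ ⊢
      exact conj_mem_set hφ
    | insert χ T _ ih =>
      intro hT
      obtain ⟨hχ, hT'⟩ := Finset.insert_subset_iff.mp hT
      obtain ⟨S₁, h1, h2, h3, h4, h5⟩ := ih hT'
      by_cases hmem : χ ∈ S₁
      · exact ⟨S₁, h1, Finset.insert_subset_iff.mpr ⟨hmem, h2⟩, h3, h4, h5⟩
      have hχB : χ ∈ Cfsg.inducedIrrAbove K B := hSB ▸ (Finset.mem_coe.mpr hχ)
      have hχS := subset_bot B hχB
      have hcc : ∀ φ : L → ℂ, Cfsg.conjFun (Cfsg.conjFun φ) = φ := fun φ => by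
        funext x; simp [Cfsg.conjFun]
      have hχc : Cfsg.conjFun χ ∉ S₁ := fun h => hmem (hcc χ ▸ h4 _ h)
      have hSA₁ : χ₁ ∈ S₁ := h1 (Finset.mem_coe.mp (hSA ▸ hl))
      have hins := isCoherent_insert_pair hS d n (fun φ hφ => hd φ hφ) (fun φ hφ => hn φ hφ) S₁ h3 h4
        h5 hχS hmem hχc hSA₁ (hdeg χ hχB).1 (by
          refine lt_of_lt_of_le ?_ (exists_weight K hS subset_rfl d n (fun φ hφ => hd φ hφ)
            (fun φ hφ => hn φ hφ) A hAK.le S₁ (hSA ▸ Finset.coe_subset.mpr h1))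
          have hKi : (0 : ℝ) < K.index := Nat.cast_pos.mpr (Nat.pos_of_ne_zero K.index_ne_zero_of_finite)
          rw [hd1, mul_comm ((2 : ℝ) * (d χ : ℝ))]
          refine mul_lt_mul_of_pos_left ?_ hKi
          have hr : 1 ≤ A.relIndex K := Nat.one_le_iff_ne_zero.mpr relIndex_ne_zero'
          have h6 := (hdeg χ hχB).2
          have h7 : (4 : ℝ) * (C.index : ℝ) ^ 2 * D.relIndex C < ((A.relIndex K : ℝ) - 1) ^ 2 := by
            have : ((4 * C.index ^ 2 * D.relIndex C : ℕ) : ℝ) < (((A.relIndex K - 1) ^ 2 : ℕ) : ℝ) := by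
              exact_mod_cast hlt
            push_cast [Nat.cast_sub hr] at this
            exact this
          have h8 : (1 : ℝ) ≤ A.relIndex K := by exact_mod_cast hr
          refine abs_lt_of_sq_lt_sq' (a := 2 * (d χ : ℝ)) ?_ (by linarith) |>.2
          nlinarith)
      refine ⟨S₁ ∪ {χ, Cfsg.conjFun χ}, fun x hx => Finset.mem_union_left _ (h1 hx),
        Finset.insert_subset_iff.mpr ⟨by simp, fun x hx => Finset.mem_union_left _ (h2 hx)⟩,
        ?_, fun φ hφ => ?_, by push_cast; exact hins⟩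
      · intro x hx
        simp only [Finset.coe_union, Finset.coe_insert, Finset.coe_singleton, Set.mem_union,
          Set.mem_insert_iff, Set.mem_singleton_iff] at hx
        rcases hx with hx | rfl | rfl
        · exact h3 hx
        · exact hχS
        · exact hS.conj_mem χ hχS
      · simp only [Finset.mem_union, Finset.mem_insert, Finset.mem_singleton] at hφ ⊢
        rcases hφ with hφ | rfl | rfl
        · exact Or.inl (h4 φ hφ)
        · exact Or.inr (Or.inr rfl)
        · exact Or.inr (Or.inl (hcc χ))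
  obtain ⟨S₁, -, h2, -, -, h5⟩ := key SB (Finset.Subset.refl _)
  exact isCoherent_above K hsolv hS B hBK (hSB ▸ Finset.coe_subset.mpr h2) h5

/-- A coherent `S(H₁)` of large index spreads down a nilpotent factor. -/
theorem isCoherent_of_nilpotent (hsolv : Group.IsSolvable K)
    (hS : Cfsg.IsCoherenceSystem (Cfsg.inducedIrrAbove K ⊥) τ R) (M H₁ H : Subgroup L) [M.Normal]
    [H₁.Normal] [H.Normal] (hMH₁ : M ≤ H₁) (hH₁H : H₁ ≤ H) (hHK : H ≤ K) [(M.subgroupOf H).Normal]
    (hnil : Group.IsNilpotent (↥H ⧸ M.subgroupOf H))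
    (hcoh : Cfsg.IsCoherent (Cfsg.inducedIrrAbove K H₁) {1}ᶜ τ)
    (hbig : 4 * K.index ^ 2 + 1 < H₁.relIndex H) :
    Cfsg.IsCoherent (Cfsg.inducedIrrAbove K M) {1}ᶜ τ := by
  classical
  -- descend from `H₁`
  induction hc : Nat.card H₁ using Nat.strong_induction_on generalizing H₁ with
  | _ k ih =>
    subst hc
    by_cases hMH : H₁ = M
    · exact hMH ▸ hcoh
    -- a maximal normal subgroup of `L` strictly below `H₁` and above `M`
    obtain ⟨B, ⟨hBn, hMB, hBH₁⟩, hmax⟩ :=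
      Set.Finite.exists_maximal (Set.toFinite {B : Subgroup L | B.Normal ∧ M ≤ B ∧ B < H₁})
        ⟨M, ‹M.Normal›, le_refl _, lt_of_le_of_ne hMH₁ (Ne.symm hMH)⟩
    haveI := hBn
    have hA₁ : H₁ < K := by
      refine lt_of_le_of_ne (hH₁H.trans hHK) fun h => ?_
      rw [h, Subgroup.relIndex_eq_one.mpr hHK] at hbig
      omega
    -- `[H, H₁] ≤ B`
    have hcomm : ∀ x ∈ H₁, ∀ y ∈ H, x * y * x⁻¹ * y⁻¹ ∈ B := by
      suffices hh : ⁅H₁, H⁆ ≤ B by
        intro x hx y hy
        exact hh (Subgroup.commutator_mem_commutator hx hy)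
      have hle : ⁅H₁, H⁆ ≤ H₁ := Subgroup.commutator_le_left H₁ H
      have hsup : ⁅H₁, H⁆ ⊔ B ≠ H₁ := by
        intro he
        -- then `H₁` lies in every term of the lower central series modulo `B`
        set q := QuotientGroup.mk' (M.subgroupOf H)
        obtain ⟨r, hr⟩ := Subgroup.nilpotent_iff_lowerCentralSeries.1 hnil
        have hstep : ∀ i, H₁ ≤ B ⊔
            (((⊤ : Subgroup (↥H ⧸ M.subgroupOf H)).lowerCentralSeries i).comap q).map H.subtype := by
          intro i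
          induction i with
          | zero =>
            intro x hx
            exact Subgroup.mem_sup_right ⟨⟨x, hH₁H hx⟩, Subgroup.mem_top _, rfl⟩
          | succ i hi =>
            refine he.ge.trans (sup_le ?_ le_sup_left)
            set T := (((⊤ : Subgroup (↥H ⧸ M.subgroupOf H)).lowerCentralSeries (i + 1)).comap q).map H.subtype
            have hTn : ∀ h ∈ H, ∀ t ∈ T, h * t * h⁻¹ ∈ T := by
              rintro h hh _ ⟨⟨t, ht⟩, htm, rfl⟩
              refine ⟨⟨h, hh⟩ * ⟨t, ht⟩ * ⟨h, hh⟩⁻¹, ?_, rfl⟩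
              rw [SetLike.mem_coe, Subgroup.mem_comap] at htm ⊢
              rw [map_mul, map_mul, map_inv]
              exact Subgroup.Normal.conj_mem inferInstance _ htm _
            have hTH : T ≤ H := Subgroup.map_subtype_le _
            refine Subgroup.commutator_le.mpr fun x hx y hy => ?_
            rw [← SetLike.mem_coe, Subgroup.normal_mul] 
            have hx' := hi hx
            rw [← SetLike.mem_coe, Subgroup.normal_mul] at hx'
            obtain ⟨b, hb, _, ⟨u, hu, rfl⟩, rfl⟩ := Set.mem_mul.mp hx'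
            have hc1 : ⁅(u : L), y⁆ ∈ T := by
              refine ⟨⁅u, ⟨y, hy⟩⁆, ?_, rfl⟩
              rw [SetLike.mem_coe, Subgroup.mem_comap, map_commutatorElement]
              exact Subgroup.commutator_mem_commutator hu (Subgroup.mem_top _)
            refine Set.mem_mul.mpr ⟨⁅b * (u : L), y⁆ * ⁅(u : L), y⁆⁻¹, ?_, ⁅(u : L), y⁆, hc1, inv_mul_cancel_right _ _⟩
            show ⁅b * (u : L), y⁆ * ⁅(u : L), y⁆⁻¹ ∈ B
            rw [show ⁅b * (u : L), y⁆ * ⁅(u : L), y⁆⁻¹ =
              b * ((u : L) * y * (u : L)⁻¹ * b⁻¹ * ((u : L) * y * (u : L)⁻¹)⁻¹) by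
                simp only [commutatorElement_def]; group]
            exact mul_mem hb (hBn.conj_mem _ (inv_mem hb) _)
        have hend := hstep r
        rw [hr, MonoidHom.comap_bot, QuotientGroup.ker_mk', Subgroup.subgroupOf_map_subtype] at hend
        exact hBH₁.not_ge (hend.trans (sup_le le_rfl (inf_le_left.trans hMB)))
      have hlt' : ⁅H₁, H⁆ ⊔ B < H₁ := lt_of_le_of_ne (sup_le hle hBH₁.le) hsup
      exact le_sup_left.trans (hmax ⟨inferInstance, hMB.trans le_sup_right, hlt'⟩ le_sup_right)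
    refine ih (Nat.card B) ?_ B hMB (hBH₁.le.trans hH₁H) (isCoherent_step K hsolv hS H₁ B H H₁ hA₁
      (hBH₁.trans hA₁) hH₁H hHK hcomm hcoh ?_) (lt_of_lt_of_le hbig ?_) rfl
    · by_contra hge
      exact hBH₁.ne (Subgroup.eq_of_le_of_card_ge hBH₁.le (not_lt.mp hge))
    · rw [← Subgroup.relIndex_mul_index hHK, ← Subgroup.relIndex_mul_relIndex H₁ H K hH₁H hHK]
      have hk : 0 < H.relIndex K := Nat.pos_of_ne_zero relIndex_ne_zero'
      set kk := H.relIndex K
      set mm := H₁.relIndex H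
      set e := K.index
      obtain ⟨t, ht⟩ : ∃ t, mm = 4 * e ^ 2 + 2 + t := ⟨mm - (4 * e ^ 2 + 2), by omega⟩
      obtain ⟨s, hs⟩ : ∃ s, mm * kk = s + 1 :=
        ⟨mm * kk - 1, (Nat.succ_pred_eq_of_pos (Nat.mul_pos (by omega) hk)).symm⟩
      rw [hs, Nat.add_sub_cancel]
      have h1 : 4 * e ^ 2 * kk + 1 ≤ s := by
        have : (4 * e ^ 2 + 2) * kk ≤ mm * kk := Nat.mul_le_mul_right _ (by omega)
        nlinarith
      have h2 : 4 * e ^ 2 * kk * (s + 1) + (s + 1) ≤ s * (s + 1) := by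
        have := Nat.mul_le_mul_right (s + 1) h1
        linarith
      have h3 : 4 * (kk * e) ^ 2 * mm = 4 * e ^ 2 * kk * (s + 1) := by rw [← hs]; ring
      nlinarith
    · exact Nat.le_of_dvd (Nat.pos_of_ne_zero relIndex_ne_zero')
        (Subgroup.relIndex_dvd_of_le_left H hBH₁.le)

end CfsgLib.Char.CoherenceKernel
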