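import Cfsg.Agent.Lib.Char.CoherenceFrobenius
import Cfsg.Agent.Lib.Char.CoherenceCentral

/-!
# Coherence of `S ∖ S(Z)`
-/

set_option autoImplicit false

open scoped ComplexConjugate

namespace CfsgLib.Char.CoherenceKernel

open Coherence

variable {L : Type*} [Group L] [Fintype L] {G : Type*} [Group G] [Fintype G]
  (K : Subgroup L) [hK : K.Normal] {τ : (L → ℂ) → (G → ℂ)} {R : (L → ℂ) → Finset (G → ℂ)}

theorem isCoherent_diff (hsolv : Group.IsSolvable K)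
    (hS : Cfsg.IsCoherenceSystem (Cfsg.inducedIrrAbove K ⊥) τ R) (hodd : Odd (Nat.card L))
    (hnil : Group.IsNilpotent K) (hH₁K : ⁅K, K⁆ < K) (hKL : K < ⊤)
    (hfrob : ∀ k ∈ K, k ∉ ⁅K, K⁆ → ∀ x : L, x * k * x⁻¹ * k⁻¹ ∈ ⁅K, K⁆ → x ∈ K)
    (Z : Subgroup L) [Z.Normal] (hZ1 : Z ≠ ⊥) (hZK : Z ≤ K) (hZc : ∀ z ∈ Z, ∀ k ∈ K, z * k = k * z)
    (hirr : ∀ χ ∈ Cfsg.inducedIrrAbove K ⊥ \ Cfsg.inducedIrrAbove K Z, Cfsg.IsIrrCharacter L χ) :
    Cfsg.inducedIrrAbove K ⊥ \ Cfsg.inducedIrrAbove K Z =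
        {χ | Cfsg.IsIrrCharacter L χ ∧ ∃ z ∈ Z, χ z ≠ χ 1} ∧
      Cfsg.IsCoherent (Cfsg.inducedIrrAbove K ⊥ \ Cfsg.inducedIrrAbove K Z) {1}ᶜ τ := by
  classical
  cases nonempty_fintype K
  have heq := diff_eq_indNontriv K Z
  rw [heq] at hirr ⊢
  refine ⟨indNontriv_eq K Z hZK hirr, ?_⟩
  have hsub : indNontriv K Z ⊆ Cfsg.inducedIrrAbove K ⊥ := heq ▸ Set.sdiff_subset
  by_cases hpp : ∃ p m : ℕ, p.Prime ∧ (⊥ : Subgroup L).relIndex K = p ^ m
  · obtain ⟨p, m, hp, hm⟩ := hpp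
    haveI : Fact p.Prime := ⟨hp⟩
    rw [Subgroup.relIndex_bot_left] at hm
    have hm0 : m ≠ 0 := fun h => by
      rw [h, pow_zero] at hm
      exact hZ1 (eq_bot_iff.mpr (hZK.trans (Subgroup.card_eq_one.mp hm).le))
    have hp2 : p ≠ 2 := fun h => by
      have h2 : 2 ∣ Nat.card K := hm ▸ h ▸ dvd_pow_self p hm0
      exact (Nat.not_even_iff_odd.mpr hodd)
        (even_iff_two_dvd.mpr (h2.trans K.card_subgroup_dvd_card))
    have hpe : ¬ p ∣ K.index := by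
      intro hdvd
      haveI : (⁅K, K⁆).Normal := inferInstance
      have h1 := index_dvd_relIndex_sub_one K ⁅K, K⁆ K hH₁K.le le_rfl le_rfl hfrob
      obtain ⟨i, -, hi⟩ := (Nat.dvd_prime_pow hp).mp
        (show (⁅K, K⁆).relIndex K ∣ p ^ m from hm ▸ Subgroup.relIndex_dvd_card _ _)
      have hi0 : i ≠ 0 := fun h => by
        rw [h, pow_zero] at hi
        exact hH₁K.not_ge (Subgroup.relIndex_eq_one.mp hi)
      rw [hi] at h1
      have h2 : p ∣ p ^ i := dvd_pow_self p hi0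
      have h3 := Nat.dvd_sub h2 (hdvd.trans h1)
      rw [Nat.sub_sub_self (Nat.one_le_pow _ _ hp.pos)] at h3
      exact hp.not_dvd_one h3
    exact isCoherent_indNontriv K hp2 (IsPGroup.of_card hm) hpe Z hZ1 hZK hZc hirr
      (fun η hη => hS.conj_ne η (hsub hη)) τ (isometry_mono hsub hS.isometry)
      fun α hα => hS.map_one α (zspanOn_mono hsub hα)
  · haveI : ((⊥ : Subgroup L).subgroupOf K).Normal := inferInstance
    haveI := hnil
    have hall := isCoherent_unless_chief K hsolv hS hodd ⊥ bot_le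
      (Group.nilpotent_of_surjective (QuotientGroup.mk' _) (QuotientGroup.mk'_surjective _))
      ⁅K, K⁆ (sup_bot_eq _).symm hH₁K hKL hfrob (Or.inr (Or.inr (Or.inl hpp)))
    obtain ⟨z, hz, hne⟩ : ∃ z : K, (z : L) ∈ Z ∧ z ≠ 1 := by
      obtain ⟨z, hz⟩ := Subgroup.ne_bot_iff_exists_ne_one.mp hZ1
      exact ⟨⟨z, hZK z.2⟩, z.2, fun h => hz (Subtype.ext (congrArg (fun x : K => (x : L)) h))⟩
    obtain ⟨φ, hφ⟩ : ∃ φ : Cfsg.IrrCharacter K, ¬ TrivOn K Z (φ : K → ℂ) := by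
      by_contra hc
      push Not at hc
      exact hne (eq_one_of_forall_irr fun φ => hc φ z hz)
    have hη : Cfsg.indFun K (φ : K → ℂ) ∈ indNontriv K Z := ⟨φ, φ.2, hφ, rfl⟩
    refine isCoherent_mono hsub (exists_ne_zero_of_two hη ?_ (hS.conj_ne _ (hsub hη)).symm ?_) hall
    · refine ⟨fun k => conj ((φ : K → ℂ) k), IsIrrCharacter.conj' φ.2, fun h => hφ fun a ha => ?_,
        (indFun_conj K _).symm⟩
      simpa using congrArg conj (h a ha)
    · rw [Cfsg.conjFun, indFun_one, natDeg_spec φ.2]; simp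

end CfsgLib.Char.CoherenceKernel
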