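import Cfsg.Agent.Lib.Char.Coherence
import Cfsg.Agent.Lib.CharDeep.GenChar

/-!
# Enlarging coherent sets
-/

set_option autoImplicit false

open scoped ComplexConjugate

namespace CfsgLib.Char.Coherence

variable {L : Type*} [Group L] [Fintype L] {G : Type*} [Group G] [Fintype G]

/-- Adjoining a pair of conjugate characters to a coherent set. -/
theorem isCoherent_insert_pair {S : Set (L → ℂ)} {τ : (L → ℂ) → (G → ℂ)}
    {R : (L → ℂ) → Finset (G → ℂ)} (hS : Cfsg.IsCoherenceSystem S τ R) (d n : (L → ℂ) → ℕ)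
    (hd : ∀ φ ∈ S, φ 1 = (d φ : ℂ)) (hn : ∀ φ ∈ S, Cfsg.classInner φ φ = (n φ : ℂ))
    (S₁ : Finset (L → ℂ)) (hS₁ : ↑S₁ ⊆ S) (hS₁c : ∀ φ ∈ S₁, Cfsg.conjFun φ ∈ S₁)
    (hcoh : Cfsg.IsCoherent (↑S₁ : Set (L → ℂ)) {1}ᶜ τ) {χ : L → ℂ} (hχ : χ ∈ S)
    (hχ₁ : χ ∉ S₁) (hχ₂ : Cfsg.conjFun χ ∉ S₁) {χ₁ : L → ℂ} (hχ₁S : χ₁ ∈ S₁)
    (hdvd : d χ₁ ∣ d χ)
    (hineq : (2 * d χ * d χ₁ : ℝ) < ∑ φ ∈ S₁, ((d φ : ℝ) ^ 2 / (n φ : ℝ))) :
    Cfsg.IsCoherent (↑S₁ ∪ {χ, Cfsg.conjFun χ} : Set (L → ℂ)) {1}ᶜ τ := by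
  classical
  obtain ⟨-, τ₁, hτ₁, hag⟩ := hcoh
  have hiso : Cfsg.IsLinearIsometryOn ((onSub S : Submodule ℤ (L → ℂ)) : Set (L → ℂ)) τ :=
    hS.isometry
  have hτ₁' : Cfsg.IsLinearIsometryOn
      ((Submodule.span ℤ (↑S₁ : Set (L → ℂ)) : Submodule ℤ (L → ℂ)) : Set (L → ℂ)) τ₁ := hτ₁
  have hne0 : ∀ ξ ∈ S, ξ ≠ 0 := fun ξ hξ h => hS.conj_ne ξ hξ (by
    rw [h]; funext x; simp [Cfsg.conjFun])
  have hnpos : ∀ ξ ∈ S, 0 < n ξ := fun ξ hξ => Nat.pos_of_ne_zero fun h =>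
    hne0 ξ hξ (classInner_self_eq_zero.mp (by rw [hn ξ hξ, h, Nat.cast_zero]))
  have hdpos : ∀ ξ ∈ S, 0 < d ξ := fun ξ hξ => Nat.pos_of_ne_zero fun h => by
    obtain ⟨k, ρ, hρ⟩ := hS.isCharacter ξ hξ
    have h1 := hd ξ hξ
    rw [h, ← hρ, Representation.char_one, Nat.cast_zero, Nat.cast_eq_zero,
      Module.finrank_fin_fun] at h1
    subst h1
    refine hne0 ξ hξ (funext fun g => ?_)
    rw [← hρ]
    show LinearMap.trace ℂ _ (ρ g) = 0
    rw [Subsingleton.elim (ρ g) 0, map_zero]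
  set χb := Cfsg.conjFun χ with hχb
  have hbS : χb ∈ S := hS.conj_mem χ hχ
  have hdb : d χb = d χ := by
    have h1 := hd χb hbS
    have h2 : χb 1 = (d χ : ℂ) := by simp [hχb, Cfsg.conjFun, hd χ hχ]
    rw [h2] at h1
    exact_mod_cast h1.symm
  have hnb : n χb = n χ := by
    have h1 : Cfsg.classInner χb χb = conj (Cfsg.classInner χ χ) := by
      simp [hχb, Cfsg.classInner, Cfsg.conjFun, map_sum]
    rw [hn χb hbS, hn χ hχ, map_natCast] at h1
    exact_mod_cast h1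
  have hdiff : ∀ ξ ∈ S, ξ - Cfsg.conjFun ξ ∈ onSub S := fun ξ hξ => mem_zspanOn_one.mpr
    ⟨(Submodule.span ℤ S).sub_mem (Submodule.subset_span hξ)
      (Submodule.subset_span (hS.conj_mem ξ hξ)), by simp [Cfsg.conjFun, hd ξ hξ]⟩
  have hsub : ∀ α ∈ Cfsg.zspanOn (↑S₁ : Set (L → ℂ)) {1}ᶜ, α ∈ onSub S := fun α h =>
    mem_zspanOn_one.mpr ⟨Submodule.span_mono hS₁ (mem_zspanOn_one.mp h).1, (mem_zspanOn_one.mp h).2⟩
  -- images of members of `S₁` are orthogonal to `R χ`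
  have hperp : ∀ φ ∈ S₁, ∀ α ∈ R χ, Cfsg.classInner α (τ₁ φ) = 0 := by
    intro φ hφ
    have hφS := hS₁ hφ
    have hmφ : φ ∈ Cfsg.zspan (↑S₁ : Set (L → ℂ)) := Submodule.subset_span hφ
    have hφd : φ - Cfsg.conjFun φ ∈ Cfsg.zspanOn (↑S₁ : Set (L → ℂ)) {1}ᶜ := mem_zspanOn_one.mpr
      ⟨(Submodule.span ℤ _).sub_mem hmφ (Submodule.subset_span (hS₁c φ hφ)),
        by simp [Cfsg.conjFun, hd φ hφS]⟩
    choose! c hc using fun a (ha : a ∈ R φ) => IsGeneralizedCharacter.classInner_int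
      (hτ₁.2.2.2 φ hmφ) (hS.virtual φ hφS a ha)
    obtain ⟨hle, heq⟩ := bessel (R φ) id (fun _ => 1) (fun _ _ => Nat.one_pos)
      (fun a ha b hb => by simpa using hS.orthonormal φ hφS a ha b hb)
      (τ₁ φ) c hc
    have hsum : ((∑ a ∈ R φ, c a : ℤ) : ℂ) = ((n φ : ℤ) : ℂ) := by
      rw [Int.cast_sum, Finset.sum_congr rfl fun a ha => (hc a ha).symm, ← classInner_sum_right,
        ← hS.sum_eq φ hφS, ← hag _ hφd, hτ₁.2.2.1 _ hmφ _ hφd.1, classInner_sub_right, hn φ hφS,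
        hS.orthogonal φ hφS _ (hS.conj_mem φ hφS) (hS.conj_ne φ hφS).symm, sub_zero,
        Int.cast_natCast]
    have hsum' : ∑ a ∈ R φ, c a = (n φ : ℤ) := by exact_mod_cast hsum
    have hnorm : (Cfsg.classInner (τ₁ φ) (τ₁ φ)).re = ((n φ : ℤ) : ℝ) := by
      rw [hτ₁.2.2.1 _ hmφ _ hmφ, hn φ hφS]; simp
    have hss : ∑ a ∈ R φ, (c a : ℝ) ^ 2 / (((1 : ℕ)) : ℝ) =
        ((∑ a ∈ R φ, c a * c a : ℤ) : ℝ) := by push_cast; simp [sq]
    rw [hss, hnorm, Int.cast_le] at hle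
    rw [hss, hnorm, Int.cast_inj] at heq
    have hge : (n φ : ℤ) ≤ ∑ a ∈ R φ, c a * c a :=
      hsum' ▸ Finset.sum_le_sum fun a _ => le_sq (c a)
    intro α hα
    rw [heq (le_antisymm hle hge), classInner_sum_right]
    refine Finset.sum_eq_zero fun a ha => ?_
    have h1 : φ ≠ χ := fun h => hχ₁ (h ▸ hφ)
    have h2 : φ ≠ χb := fun h => hχ₂ (h ▸ hφ)
    rw [classInner_smul_right, id_eq, ← classInner_conj_symm,
      hS.disjoint χ hχ φ hφS (hS.orthogonal φ hφS χ hχ h1) (hS.orthogonal φ hφS χb hbS h2) a ha α hα,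
      map_zero, mul_zero]
  -- the basic difference
  obtain ⟨a, ha⟩ := hdvd
  have hχ₁S' := hS₁ hχ₁S
  set γ := χ - (a : ℂ) • χ₁ with hγ
  have hγmem : γ ∈ onSub S := mem_zspanOn_one.mpr ⟨(Submodule.span ℤ S).sub_mem
    (Submodule.subset_span hχ) (by
      rw [← Int.cast_natCast a]
      exact intCast_smul_mem (Submodule.subset_span hχ₁S') (a : ℤ)), by
    rw [hγ, Pi.sub_apply, Pi.smul_apply, hd χ hχ, hd χ₁ hχ₁S', ha]; push_cast; simp [mul_comm]⟩
  set β := τ γ with hβ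
  have hβgen := hiso.2.2.2 _ hγmem
  choose! c hc using fun r (hr : r ∈ R χ) =>
    IsGeneralizedCharacter.classInner_int hβgen (hS.virtual χ hχ r hr)
  choose! b hb using fun φ (hφ : φ ∈ S₁) => IsGeneralizedCharacter.classInner_int hβgen
    (hτ₁.2.2.2 φ (Submodule.subset_span hφ))
  have hχφ : ∀ φ ∈ S₁, Cfsg.classInner χ φ = 0 := fun φ hφ =>
    hS.orthogonal χ hχ φ (hS₁ hφ) fun h => hχ₁ (h ▸ hφ)
  have hsumc : ∑ r ∈ R χ, c r = (n χ : ℤ) := by
    have : ((∑ r ∈ R χ, c r : ℤ) : ℂ) = ((n χ : ℤ) : ℂ) := by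
      rw [Int.cast_sum, Finset.sum_congr rfl fun r hr => (hc r hr).symm, ← classInner_sum_right,
        ← hS.sum_eq χ hχ, hiso.2.2.1 _ hγmem _ (hdiff χ hχ), hγ, classInner_sub_left,
        classInner_smul_left, classInner_sub_right, classInner_sub_right, hn χ hχ,
        hS.orthogonal χ hχ χb hbS (hS.conj_ne χ hχ).symm,
        hS.orthogonal χ₁ hχ₁S' χ hχ (fun h => hχ₁ (h ▸ hχ₁S)),
        hS.orthogonal χ₁ hχ₁S' χb hbS (fun h => hχ₂ (h ▸ hχ₁S))]
      push_cast; ring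
    exact_mod_cast this
  set s : ℤ := b χ₁ + a * n χ₁ with hs
  have hbrel : ∀ φ ∈ S₁, (d χ₁ : ℤ) * b φ =
      d φ * s - if φ = χ₁ then (a * d χ₁ * n χ₁ : ℤ) else 0 := by
    intro φ hφ
    have hm1 := intCast_smul_mem (Submodule.subset_span hφ : φ ∈ Cfsg.zspan ↑S₁) (d χ₁ : ℤ)
    have hm2 := intCast_smul_mem (Submodule.subset_span hχ₁S : χ₁ ∈ Cfsg.zspan ↑S₁) (d φ : ℤ)
    have he : ((d χ₁ : ℤ) : ℂ) • φ - ((d φ : ℤ) : ℂ) • χ₁ ∈
        Cfsg.zspanOn (↑S₁ : Set (L → ℂ)) {1}ᶜ := mem_zspanOn_one.mpr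
      ⟨(Submodule.span ℤ _).sub_mem hm1 hm2, by
        simp [hd φ (hS₁ hφ), hd χ₁ hχ₁S', mul_comm]⟩
    have key := hiso.2.2.1 _ hγmem _ (hsub _ he)
    rw [← hag _ he, ← hβ, map_sub' hτ₁' hm1 hm2, map_intCast_smul hτ₁' (Submodule.subset_span hφ),
      map_intCast_smul hτ₁' (Submodule.subset_span hχ₁S), classInner_sub_right,
      classInner_smul_right, classInner_smul_right, hb φ hφ, hb χ₁ hχ₁S, hγ, classInner_sub_left,
      classInner_sub_right, classInner_sub_right, classInner_smul_left, classInner_smul_left,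
      classInner_smul_right, classInner_smul_right, classInner_smul_right, classInner_smul_right,
      hχφ φ hφ, hχφ χ₁ hχ₁S, hn χ₁ hχ₁S', map_intCast, map_intCast] at key
    have : (((d χ₁ : ℤ) * b φ : ℤ) : ℂ) =
        ((d φ * s - if φ = χ₁ then (a * d χ₁ * n χ₁ : ℤ) else 0 : ℤ) : ℂ) := by
      rw [hs]
      split_ifs with h
      · subst h
        rw [hn φ hχ₁S'] at key
        push_cast at key ⊢
        linear_combination key
      · rw [hS.orthogonal χ₁ hχ₁S' φ (hS₁ hφ) (Ne.symm h)] at key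
        push_cast at key ⊢
        linear_combination key
    exact_mod_cast this
  -- Bessel
  set w : (G → ℂ) ⊕ (L → ℂ) → G → ℂ := Sum.elim id τ₁ with hw
  have hwo : ∀ i ∈ (R χ).disjSum S₁, ∀ j ∈ (R χ).disjSum S₁,
      Cfsg.classInner (w i) (w j) =
        if i = j then ((Sum.elim (fun _ : G → ℂ => 1) n i : ℕ) : ℂ) else 0 := by
    rintro (i | i) hi (j | j) hj <;>
      simp only [Finset.inl_mem_disjSum, Finset.inr_mem_disjSum] at hi hj <;>
      simp only [hw, Sum.elim_inl, Sum.elim_inr, id_eq]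
    · rw [Nat.cast_one, hS.orthonormal χ hχ i hi j hj]
      simp [Sum.inl.injEq]
    · rw [hperp j hj i hi, if_neg Sum.inl_ne_inr]
    · rw [← classInner_conj_symm, hperp i hi j hj, map_zero, if_neg Sum.inr_ne_inl]
    · rw [hτ₁.2.2.1 _ (Submodule.subset_span hi) _ (Submodule.subset_span hj)]
      by_cases h : i = j
      · subst h; rw [if_pos rfl, hn i (hS₁ hi)]
      · rw [if_neg (fun e => h (Sum.inr_injective e)), hS.orthogonal i (hS₁ hi) j (hS₁ hj) h]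
  obtain ⟨hle, heq⟩ := bessel ((R χ).disjSum S₁) w (Sum.elim (fun _ => 1) n)
    (by
      rintro (i | i) hi <;> simp only [Finset.inl_mem_disjSum, Finset.inr_mem_disjSum] at hi
      · exact Nat.one_pos
      · exact hnpos i (hS₁ hi))
    hwo β (Sum.elim c b) (by
      rintro (i | i) hi <;> simp only [Finset.inl_mem_disjSum, Finset.inr_mem_disjSum] at hi
      · exact hc i hi
      · exact hb i hi)
  have hd1 : (0 : ℝ) < d χ₁ := Nat.cast_pos.mpr (hdpos χ₁ hχ₁S')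
  have hn1 : (0 : ℝ) < n χ₁ := Nat.cast_pos.mpr (hnpos χ₁ hχ₁S')
  set Q : ℝ := ∑ φ ∈ S₁, ((d φ : ℝ) ^ 2 / (n φ : ℝ)) with hQ
  have hbsum : ∑ φ ∈ S₁, (b φ : ℝ) ^ 2 / (n φ : ℝ) =
      (s : ℝ) ^ 2 * Q / (d χ₁ : ℝ) ^ 2 - 2 * a * s + (a : ℝ) ^ 2 * n χ₁ := by
    have hterm : ∀ φ ∈ S₁, (b φ : ℝ) ^ 2 / (n φ : ℝ) =
        (s : ℝ) ^ 2 * ((d φ : ℝ) ^ 2 / n φ) / (d χ₁ : ℝ) ^ 2 +
          if φ = χ₁ then (-2 * a * s + (a : ℝ) ^ 2 * n χ₁) else 0 := by
      intro φ hφ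
      have h := hbrel φ hφ
      have hnφ : (0 : ℝ) < n φ := Nat.cast_pos.mpr (hnpos φ (hS₁ hφ))
      have hR : (d χ₁ : ℝ) * b φ =
          (d φ : ℝ) * s - if φ = χ₁ then (a : ℝ) * d χ₁ * n χ₁ else 0 := by
        split_ifs at h ⊢ <;> exact_mod_cast h
      have hbφ : (b φ : ℝ) =
          ((d φ : ℝ) * s - if φ = χ₁ then (a : ℝ) * d χ₁ * n χ₁ else 0) / d χ₁ := by
        rw [← hR]; field_simp
      rw [hbφ]
      split_ifs with h'
      · subst h'; field_simp; ring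
      · field_simp; ring
    rw [Finset.sum_congr rfl hterm, Finset.sum_add_distrib, Finset.sum_ite_eq', if_pos hχ₁S,
      ← Finset.sum_div, ← Finset.mul_sum]
    ring
  have hnorm : (Cfsg.classInner β β).re = (n χ : ℝ) + (a : ℝ) ^ 2 * n χ₁ := by
    rw [hβ, hiso.2.2.1 _ hγmem _ hγmem, hγ, classInner_sub_left, classInner_sub_right,
      classInner_sub_right, classInner_smul_left, classInner_smul_left, classInner_smul_right,
      classInner_smul_right, hn χ hχ, hn χ₁ hχ₁S', hχφ χ₁ hχ₁S,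
      hS.orthogonal χ₁ hχ₁S' χ hχ (fun h => hχ₁ (h ▸ hχ₁S))]
    simp [sq, mul_assoc]
  have hsplit : ∑ i ∈ (R χ).disjSum S₁, ((Sum.elim c b i : ℤ) : ℝ) ^ 2 /
      ((Sum.elim (fun _ : G → ℂ => 1) n i : ℕ) : ℝ) =
      ((∑ r ∈ R χ, c r * c r : ℤ) : ℝ) + ∑ φ ∈ S₁, (b φ : ℝ) ^ 2 / (n φ : ℝ) := by
    rw [Finset.sum_disjSum]
    push_cast
    simp [sq]
  rw [hsplit, hbsum, hnorm] at hle heq
  have hge : (n χ : ℤ) ≤ ∑ r ∈ R χ, c r * c r :=
    hsumc ▸ Finset.sum_le_sum fun r _ => le_sq (c r)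
  have hgeR : (n χ : ℝ) ≤ ((∑ r ∈ R χ, c r * c r : ℤ) : ℝ) := by exact_mod_cast hge
  have hdχ : (d χ : ℝ) = d χ₁ * a := by exact_mod_cast ha
  have hs0 : s = 0 := by
    by_contra hne
    have h1 : (s : ℝ) ^ 2 * Q / (d χ₁ : ℝ) ^ 2 ≤ 2 * a * s := by linarith
    rw [div_le_iff₀ (by positivity)] at h1
    have h2 : (1 : ℝ) ≤ |(s : ℝ)| := by exact_mod_cast Int.one_le_abs hne
    have h3 : (s : ℝ) ≤ |(s : ℝ)| := le_abs_self _
    have h4 : (s : ℝ) ^ 2 = |(s : ℝ)| ^ 2 := (sq_abs _).symm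
    have h5 : 2 * (d χ : ℝ) * d χ₁ * |(s : ℝ)| ^ 2 < Q * |(s : ℝ)| ^ 2 :=
      mul_lt_mul_of_pos_right hineq (by positivity)
    have h6 : 2 * (a : ℝ) * s * (d χ₁ : ℝ) ^ 2 ≤ 2 * (d χ : ℝ) * d χ₁ * |(s : ℝ)| := by
      rw [hdχ]
      nlinarith [mul_le_mul_of_nonneg_left h3 (by positivity : (0 : ℝ) ≤ 2 * a * (d χ₁ : ℝ) ^ 2)]
    have h7 : 2 * (d χ : ℝ) * d χ₁ * |(s : ℝ)| ≤ 2 * (d χ : ℝ) * d χ₁ * |(s : ℝ)| ^ 2 := by
      rw [sq]
      refine mul_le_mul_of_nonneg_left (le_mul_of_one_le_left (abs_nonneg _) h2) (by positivity)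
    rw [h4] at h1
    linarith
  rw [hs0] at hle heq
  simp only [Int.cast_zero] at hle heq
  have hc2 : ∑ r ∈ R χ, c r * c r = (n χ : ℤ) := by
    refine le_antisymm ?_ hge
    have : ((∑ r ∈ R χ, c r * c r : ℤ) : ℝ) ≤ ((n χ : ℤ) : ℝ) := by
      push_cast at hle ⊢; simp only [mul_zero, zero_pow, ne_eq, OfNat.ofNat_ne_zero,
        not_false_eq_true, zero_mul, zero_div, sub_zero, zero_add] at hle; linarith
    exact_mod_cast this
  have hexp := heq (by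
    rw [hc2]; push_cast; ring)
  rw [Finset.sum_disjSum] at hexp
  simp only [hw, Sum.elim_inl, Sum.elim_inr, id_eq, Nat.cast_one, div_one] at hexp
  set X := ∑ r ∈ R χ, (c r : ℂ) • r with hX
  have hrest : ∑ φ ∈ S₁, ((b φ : ℂ) / (n φ : ℂ)) • τ₁ φ = -((a : ℂ) • τ₁ χ₁) := by
    rw [Finset.sum_eq_single χ₁]
    · have hb1 : b χ₁ = -(a * n χ₁ : ℤ) := by rw [hs] at hs0; linarith
      have hn1' : (n χ₁ : ℂ) ≠ 0 := Nat.cast_ne_zero.mpr (hnpos χ₁ hχ₁S').ne'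
      rw [hb1, ← neg_smul]
      congr 1
      push_cast
      field_simp
    · intro φ hφ hne
      have h := hbrel φ hφ
      rw [hs0, if_neg hne, mul_zero, sub_zero] at h
      have : b φ = 0 := (mul_eq_zero.mp h).resolve_left (by exact_mod_cast (hdpos χ₁ hχ₁S').ne')
      simp [this]
    · exact fun h => absurd hχ₁S h
  rw [hrest] at hexp
  have hXgen : Cfsg.IsGeneralizedCharacter G X := isGen_sum _ _ _ (hS.virtual χ hχ)
  have hortho : ∀ r ∈ R χ, Cfsg.classInner r X = (c r : ℂ) := fun r hr => by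
    rw [hX, classInner_sum_right, Finset.sum_eq_single r]
    · rw [classInner_smul_right, hS.orthonormal χ hχ r hr r hr, if_pos rfl, map_intCast, mul_one]
    · intro t ht hne
      rw [classInner_smul_right, hS.orthonormal χ hχ r hr t ht, if_neg (Ne.symm hne), mul_zero]
    · exact fun h => absurd hr h
  have hXX : Cfsg.classInner X X = (n χ : ℂ) := by
    conv_lhs => arg 1; rw [hX]
    rw [classInner_sum_left]
    rw [Finset.sum_congr rfl fun r hr => by rw [classInner_smul_left, hortho r hr],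
      ← Int.cast_natCast (n χ), ← hc2]
    push_cast
    rfl
  set T := ∑ r ∈ R χ, r with hT
  have hTX : Cfsg.classInner T X = (n χ : ℂ) := by
    rw [hT, classInner_sum_left, Finset.sum_congr rfl hortho, ← Int.cast_natCast (n χ), ← hsumc,
      Int.cast_sum]
  have hXT : Cfsg.classInner X T = (n χ : ℂ) := by
    rw [← classInner_conj_symm, hTX, map_natCast]
  have hTT : Cfsg.classInner T T = 2 * (n χ : ℂ) := by
    rw [hT, ← hS.sum_eq χ hχ, hiso.2.2.1 _ (hdiff χ hχ) _ (hdiff χ hχ), classInner_sub_left,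
      classInner_sub_right, classInner_sub_right, hn χ hχ, hn χb hbS, hnb,
      hS.orthogonal χ hχ χb hbS (hS.conj_ne χ hχ).symm,
      hS.orthogonal χb hbS χ hχ (hS.conj_ne χ hχ)]
    ring
  have hTgen : Cfsg.IsGeneralizedCharacter G T := by
    rw [hT, ← hS.sum_eq χ hχ]; exact hiso.2.2.2 _ (hdiff χ hχ)
  have hp1 : ∀ φ ∈ S₁, Cfsg.classInner X (τ₁ φ) = 0 := fun φ hφ => by
    rw [hX, classInner_sum_left]
    exact Finset.sum_eq_zero fun r hr => by rw [classInner_smul_left, hperp φ hφ r hr, mul_zero]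
  have hp2 : ∀ φ ∈ S₁, Cfsg.classInner T (τ₁ φ) = 0 := fun φ hφ => by
    rw [hT, classInner_sum_left]
    exact Finset.sum_eq_zero fun r hr => hperp φ hφ r hr
  let Y : (L → ℂ) → (G → ℂ) := fun ξ => if ξ = χ then X else if ξ = χb then X - T else τ₁ ξ
  have hne : χb ≠ χ := hS.conj_ne χ hχ
  have hY1 : Y χ = X := if_pos rfl
  have hY2 : Y χb = X - T := by simp [Y, hne]
  have hY3 : ∀ φ ∈ S₁, Y φ = τ₁ φ := fun φ hφ => by
    simp only [Y, if_neg (fun h : φ = χ => hχ₁ (h ▸ hφ)), if_neg (fun h : φ = χb => hχ₂ (h ▸ hφ))]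
  set F := insert χ (insert χb S₁) with hF
  rw [show (↑S₁ ∪ {χ, χb} : Set (L → ℂ)) = (↑F : Set (L → ℂ)) by
    ext ξ; simp only [hF, Set.mem_union, Set.mem_insert_iff, Set.mem_singleton_iff, Finset.mem_coe,
      Finset.coe_insert]; tauto]
  have hFS : ∀ ξ ∈ F, ξ ∈ S := fun ξ h => by
    rcases Finset.mem_insert.mp h with rfl | h
    · exact hχ
    rcases Finset.mem_insert.mp h with rfl | h
    · exact hbS
    · exact hS₁ h
  refine isCoherent_of_images F (fun p hp q hq => hS.orthogonal p (hFS p hp) q (hFS q hq))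
    (fun p hp => hne0 p (hFS p hp)) Y (fun p hp => ?_) ?_ ?_ τ fun k hk => ?_
  · rcases Finset.mem_insert.mp hp with e | hp
    · rw [e, hY1]; exact hXgen
    rcases Finset.mem_insert.mp hp with e | hp
    · rw [e, hY2]; exact IsGeneralizedCharacter.sub hXgen hTgen
    · rw [hY3 p hp]; exact hτ₁.2.2.2 p (Submodule.subset_span hp)
  · have hsym : ∀ u v : G → ℂ, Cfsg.classInner u v = 0 → Cfsg.classInner v u = 0 :=
      fun u v h => by rw [← classInner_conj_symm, h, map_zero]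
    intro p hp q hq
    rcases Finset.mem_insert.mp hp with ep | hp
    · rw [ep]
      rcases Finset.mem_insert.mp hq with eq | hq
      · rw [eq, hY1, hXX, hn χ hχ]
      rcases Finset.mem_insert.mp hq with eq | hq
      · rw [eq, hY1, hY2, classInner_sub_right, hXX, hXT, sub_self,
          hS.orthogonal χ hχ χb hbS hne.symm]
      · rw [hY1, hY3 q hq, hp1 q hq,
          hS.orthogonal χ hχ q (hS₁ hq) fun h => hχ₁ (h ▸ hq)]
    rcases Finset.mem_insert.mp hp with ep | hp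
    · rw [ep]
      rcases Finset.mem_insert.mp hq with eq | hq
      · rw [eq, hY1, hY2, classInner_sub_left, hXX, hTX, sub_self,
          hS.orthogonal χb hbS χ hχ hne]
      rcases Finset.mem_insert.mp hq with eq | hq
      · rw [eq, hY2, classInner_sub_left, classInner_sub_right, classInner_sub_right, hXX, hXT,
          hTX, hTT, hn χb hbS, hnb]
        ring
      · rw [hY2, hY3 q hq, classInner_sub_left, hp1 q hq, hp2 q hq, sub_zero,
          hS.orthogonal χb hbS q (hS₁ hq) fun h => hχ₂ (h ▸ hq)]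
    rw [hY3 p hp]
    rcases Finset.mem_insert.mp hq with eq | hq
    · rw [eq, hY1, hsym _ _ (hp1 p hp), hS.orthogonal p (hS₁ hp) χ hχ fun h => hχ₁ (h ▸ hp)]
    rcases Finset.mem_insert.mp hq with eq | hq
    · rw [eq, hY2, classInner_sub_right, hsym _ _ (hp1 p hp), hsym _ _ (hp2 p hp), sub_zero,
        hS.orthogonal p (hS₁ hp) χb hbS fun h => hχ₂ (h ▸ hp)]
    · rw [hY3 q hq, hτ₁.2.2.1 _ (Submodule.subset_span hp) _ (Submodule.subset_span hq)]
  · exact ⟨χ - χb, mem_zspanOn_one.mpr ⟨(Submodule.span ℤ _).sub_mem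
      (Submodule.subset_span (by simp [hF])) (Submodule.subset_span (by simp [hF])),
      by simp [hχb, Cfsg.conjFun, hd χ hχ]⟩, sub_ne_zero.mpr hne.symm⟩
  · have hχnot : χ ∉ insert χb S₁ := by simp [hne.symm, hχ₁]
    rw [hF, Finset.sum_insert hχnot, Finset.sum_insert hχ₂] at hk
    rw [hF, Finset.sum_insert hχnot, Finset.sum_insert hχ₂, Finset.sum_insert hχnot,
      Finset.sum_insert hχ₂]
    rw [hY1, hY2, Finset.sum_congr rfl (s₁ := S₁) (f := fun ξ => (k ξ : ℂ) • Y ξ)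
      fun ξ hξ => by rw [hY3 ξ hξ]]
    set m := k χ + k χb with hm
    set P := ∑ ξ ∈ S₁, (k ξ : ℂ) • ξ + ((m * a : ℤ) : ℂ) • χ₁ with hP
    have hPmem : P ∈ Cfsg.zspanOn (↑S₁ : Set (L → ℂ)) {1}ᶜ := mem_zspanOn_one.mpr
      ⟨(Submodule.span ℤ _).add_mem ((Submodule.span ℤ _).sum_mem fun ξ hξ =>
        intCast_smul_mem (Submodule.subset_span hξ) _)
        (intCast_smul_mem (Submodule.subset_span hχ₁S) _), by
        simp only [Pi.add_apply, Pi.smul_apply, smul_eq_mul] at hk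
        rw [hd χ hχ, hd χb hbS, hdb] at hk
        have hcast : (d χ : ℂ) = d χ₁ * a := by exact_mod_cast ha
        rw [hP, Pi.add_apply, Pi.smul_apply, hd χ₁ hχ₁S', smul_eq_mul, hm]
        push_cast
        rw [hcast] at hk
        linear_combination hk⟩
    have e1 : (k χ : ℂ) • χ + ((k χb : ℂ) • χb + ∑ ξ ∈ S₁, (k ξ : ℂ) • ξ) =
        (m : ℂ) • γ + (((-k χb : ℤ) : ℂ) • (χ - χb) + P) := by
      rw [hP, hm, hγ]; push_cast; module
    have hmem1 : (m : ℂ) • γ ∈ onSub S := by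
      rw [Int.cast_smul_eq_zsmul]; exact (onSub S).smul_mem _ hγmem
    have hmem2 : ((-k χb : ℤ) : ℂ) • (χ - χb) ∈ onSub S := by
      rw [Int.cast_smul_eq_zsmul]; exact (onSub S).smul_mem _ (hdiff χ hχ)
    rw [e1, hiso.1 _ hmem1 _ ((onSub S).add_mem hmem2 (hsub _ hPmem)),
      hiso.1 _ hmem2 _ (hsub _ hPmem), map_intCast_smul hiso hγmem,
      map_intCast_smul hiso (hdiff χ hχ), ← hag _ hPmem, hP,
      hτ₁.1 _ ((Submodule.span ℤ _).sum_mem fun ξ hξ =>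
        intCast_smul_mem (Submodule.subset_span hξ) _) _
        (intCast_smul_mem (Submodule.subset_span hχ₁S) _),
      map_sum' hτ₁' _ _ (fun ξ hξ => intCast_smul_mem (Submodule.subset_span hξ) _),
      Finset.sum_congr rfl fun ξ hξ => map_intCast_smul hτ₁' (Submodule.subset_span hξ) (k ξ),
      map_intCast_smul hτ₁' (Submodule.subset_span hχ₁S), hS.sum_eq χ hχ, ← hβ, hexp]
    rw [hm, ← hT]
    push_cast
    module

end CfsgLib.Char.Coherence
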