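import Cfsg.Agent.Lib.Char.Clifford
import Cfsg.Agent.Lib.Char.Perm

/-!
# Characters induced from a Frobenius kernel
-/

set_option autoImplicit false

open scoped ComplexConjugate
open Module

namespace CfsgLib.Char

universe u

variable {G : Type u} [Group G] [Fintype G]

/-- In a Frobenius kernel only the trivial character is fixed by an element outside. -/
theorem eq_one_of_conjG_eq (N : Subgroup G) [N.Normal]
    (hC : ∀ n ∈ N, n ≠ 1 → Subgroup.centralizer ({n} : Set G) ≤ N) {g : G} (hg : g ∉ N)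
    {θ : N → ℂ} (hθ : Cfsg.IsIrrCharacter N θ) (hfix : conjG θ g = θ) : θ = fun _ => 1 := by
  classical
  let α : MulAut N := MulAut.conjNormal g
  have h := card_fixed_irr_eq (G := N) α (fun a b hab => α.toMonoidHom.map_isConj hab)
    (fun χ hχ => IsIrrCharacter.comp_equiv hχ α)
  have h1 : Nat.card {C : ConjClasses N // ∀ x, ConjClasses.mk x = C → IsConj (α x) x} = 1 := by
    have key : ∀ x : N, IsConj (α x) x → x = 1 := by
      intro x hx
      by_contra hx1
      obtain ⟨m, hm⟩ := isConj_iff.mp hx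
      have hm' : (m : G) * (g * x * g⁻¹) * (m : G)⁻¹ = x := congrArg Subtype.val hm
      have hmg : (m : G) * g ∈ Subgroup.centralizer ({(x : G)} : Set G) := by
        rw [Subgroup.mem_centralizer_singleton_iff]
        conv_rhs => rw [← hm']
        group
      have := hC x x.2 (fun h => hx1 (Subtype.ext h)) hmg
      exact hg ((N.mul_mem_cancel_left m.2).mp this)
    rw [Nat.card_eq_one_iff_unique]
    refine ⟨⟨fun a b => ?_⟩, ⟨⟨ConjClasses.mk 1, fun x hx => ?_⟩⟩⟩
    · obtain ⟨A, hA⟩ := a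
      obtain ⟨B, hB⟩ := b
      obtain ⟨x, rfl⟩ := ConjClasses.exists_rep A
      obtain ⟨y, rfl⟩ := ConjClasses.exists_rep B
      obtain rfl := key x (hA x rfl)
      obtain rfl := key y (hB y rfl)
      rfl
    · rw [ConjClasses.mk_eq_mk_iff_isConj, isConj_one_left] at hx
      simp [hx]
  rw [h1] at h
  have hs := (Nat.card_eq_one_iff_unique.mp h).1
  exact congrArg (fun t => (t.1 : N → ℂ)) (hs.allEq
    ⟨⟨θ, hθ⟩, by rw [← conjG_eq_comp]; exact hfix⟩ ⟨⟨_, isIrrCharacter_one⟩, rfl⟩)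

/-- Non-principal irreducible characters of a Frobenius kernel induce irreducibly. -/
theorem isIrr_indFun_of_frobenius (N : Subgroup G) [N.Normal]
    (hC : ∀ n ∈ N, n ≠ 1 → Subgroup.centralizer ({n} : Set G) ≤ N)
    {θ : N → ℂ} (hθ : Cfsg.IsIrrCharacter N θ) (hθ1 : θ ≠ fun _ => 1) :
    Cfsg.IsIrrCharacter G (Cfsg.indFun N θ) := by
  classical
  refine IsCharacter.isIrrCharacter_of_norm_one
    (IsCharacter.indFun N (IsIrrCharacter.isCharacter hθ)) ?_
  rw [classInner_indFun_irr hθ hθ]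
  have : Nat.card {g : G // conjG θ g = θ} = Nat.card N := by
    refine Nat.card_congr (Equiv.subtypeEquivRight fun g => ⟨fun h => ?_, fun h => ?_⟩)
    · by_contra hg
      exact hθ1 (eq_one_of_conjG_eq N hC hg hθ h)
    · exact conjG_of_mem (IsIrrCharacter.isClassFunction hθ) h
  rw [this, div_self card_ne_zero]

/-- An irreducible character not trivial on a Frobenius kernel is induced from it. -/
theorem exists_eq_indFun_of_frobenius (N : Subgroup G) [N.Normal]
    (hC : ∀ n ∈ N, n ≠ 1 → Subgroup.centralizer ({n} : Set G) ≤ N)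
    {χ : G → ℂ} (hχ : Cfsg.IsIrrCharacter G χ) (hker : ∃ n ∈ N, χ n ≠ χ 1) :
    ∃ φ : N → ℂ, Cfsg.IsIrrCharacter N φ ∧ φ ≠ (fun _ => 1) ∧ χ = Cfsg.indFun N φ := by
  classical
  obtain ⟨n, hn, hne⟩ := hker
  have hres : Cfsg.IsCharacter N fun x : N => χ x :=
    IsCharacter.restrict (IsIrrCharacter.isCharacter hχ) N
  obtain ⟨φ, hφ, hφ0, hφ1⟩ : ∃ φ, Cfsg.IsIrrCharacter N φ ∧
      Cfsg.classInner (fun x : N => χ x) φ ≠ 0 ∧ φ ≠ fun _ => 1 := by
    by_contra h
    push Not at h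
    obtain ⟨m, hm, hexp⟩ := IsCharacter.exists_multiplicity hres
    have hval : ∀ x : N, χ x = ∑ φ : Cfsg.IrrCharacter N, (m φ : ℂ) := fun x => by
      rw [hexp]
      refine Finset.sum_congr rfl fun φ _ => ?_
      by_cases h0 : m φ = 0
      · simp [h0]
      · rw [h φ φ.2 (by rw [hm]; exact_mod_cast h0), mul_one]
    exact hne ((hval ⟨n, hn⟩).trans (hval 1).symm)
  refine ⟨φ, hφ, hφ1, ?_⟩
  have hirr := isIrr_indFun_of_frobenius N hC hφ hφ1
  by_contra hne'
  have h0 := classInner_irr_ne hirr hχ (Ne.symm hne')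
  rw [classInner_indFun N φ (IsIrrCharacter.isClassFunction hχ),
    IsCharacter.classInner_comm (IsIrrCharacter.isCharacter hφ) hres] at h0
  exact hφ0 h0

/-- The kernel-centraliser property of a Frobenius group. -/
theorem frobenius_centralizer_le (K H : Subgroup G) [hK : K.Normal] (hKH : K ⊓ H = ⊥)
    (hKH' : K ⊔ H = ⊤) (hfpf : ∀ h ∈ H, h ≠ 1 → ∀ k ∈ K, h * k = k * h → k = 1) :
    ∀ k ∈ K, k ≠ 1 → Subgroup.centralizer ({k} : Set G) ≤ K := by
  intro k hk hk1 g hg
  rw [Subgroup.mem_centralizer_singleton_iff] at hg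
  obtain ⟨a, ha, b, hb, hab⟩ :=
    Subgroup.mem_sup_of_normal_left.mp (hKH' ▸ Subgroup.mem_top g : g ∈ K ⊔ H)
  by_contra hgK
  have hb1 : b ≠ 1 := fun h => hgK (by rw [← hab, h, mul_one]; exact ha)
  let f : K → K := fun c => ⟨(c : G) * (b * (c : G)⁻¹ * b⁻¹),
    K.mul_mem c.2 (hK.conj_mem _ (K.inv_mem c.2) b)⟩
  have hf : Function.Injective f := by
    intro c d hcd
    have h1 : (c : G) * (b * (c : G)⁻¹ * b⁻¹) = d * (b * (d : G)⁻¹ * b⁻¹) :=
      congrArg Subtype.val hcd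
    refine Subtype.ext (inv_mul_eq_one.mp
      (hfpf b hb hb1 _ (K.mul_mem (K.inv_mem d.2) c.2) ?_)).symm
    have h2 : (c : G) * b * (c : G)⁻¹ = d * b * (d : G)⁻¹ := by
      simpa [← mul_assoc] using congrArg (· * b) h1
    calc b * ((d : G)⁻¹ * c) = (d : G)⁻¹ * (d * b * (d : G)⁻¹) * c := by group
      _ = (d : G)⁻¹ * c * b := by rw [← h2]; group
  obtain ⟨c, hc⟩ := (Finite.injective_iff_surjective.mp hf) ⟨a, ha⟩
  have hca : (c : G) * (b * (c : G)⁻¹ * b⁻¹) = a := congrArg Subtype.val hc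
  have hgb : g = (c : G) * b * (c : G)⁻¹ := by rw [← hab, ← hca]; group
  refine hk1 ?_
  have hcm : b * ((c : G)⁻¹ * k * c) = ((c : G)⁻¹ * k * c) * b := by
    rw [hgb] at hg
    calc b * ((c : G)⁻¹ * k * c) = (c : G)⁻¹ * (c * b * (c : G)⁻¹ * k) * c := by group
      _ = (c : G)⁻¹ * (k * (c * b * (c : G)⁻¹)) * c := by rw [hg]
      _ = (c : G)⁻¹ * k * c * b := by group
  have h1 := hfpf b hb hb1 _ (by simpa using hK.conj_mem k hk (c : G)⁻¹) hcm
  simpa [mul_assoc] using congrArg (fun t => (c : G) * t * (c : G)⁻¹) h1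

end CfsgLib.Char
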