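import Cfsg.Agent.Lib.Char.CoherenceCentral
import Cfsg.Agent.Lib.Char.Frobenius
import Cfsg.Agent.Lib.OddOrder.Basic
import Cfsg.Agent.S0188
import Mathlib.GroupTheory.SchurZassenhaus
import Mathlib.GroupTheory.NoncommCoprod

/-!
# Feit's coherence theorem for Frobenius groups
-/

set_option autoImplicit false

open scoped ComplexConjugate commutatorElement

namespace CfsgLib.Char.Feit

open Coherence

variable {L : Type*} [Group L] [Fintype L] (K : Subgroup L) [hK : K.Normal]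

theorem natDeg_one {X : Type*} [One X] : natDeg (fun _ : X => (1 : ℂ)) = 1 := by
  simp [natDeg]

theorem trivOn_commutator_iff [Fintype K] {θ : K → ℂ} (hθ : Cfsg.IsIrrCharacter K θ) :
    TrivOn K ⁅K, K⁆ θ ↔ natDeg θ = 1 := by
  constructor
  · intro h
    haveI : (⁅K, K⁆.subgroupOf K).Normal := Subgroup.Normal.subgroupOf inferInstance K
    obtain ⟨d, hd, hd2⟩ := CoherenceKernel.degree_sq_le (⊤ : Subgroup K) (⁅K, K⁆.subgroupOf K)
      (fun x _ y => Subgroup.mem_subgroupOf.mpr (Subgroup.commutator_mem_commutator x.2 y.2))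
      hθ fun b hb => h b (Subgroup.mem_subgroupOf.mp hb)
    have he : natDeg θ = d := by exact_mod_cast (natDeg_spec hθ).symm.trans hd
    rw [Subgroup.index_top] at hd2
    have := natDeg_pos hθ
    nlinarith
  · intro h a ha
    obtain ⟨l, hl⟩ := exists_hom_of_apply_one_eq_one (IsIrrCharacter.isCharacter hθ)
      (by rw [natDeg_spec hθ, h, Nat.cast_one])
    subst hl
    have hk : commutator K ≤ l.ker := Abelianization.commutator_subset_ker l
    have ha' : a ∈ commutator K := by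
      have : (a : L) ∈ (commutator K).map K.subtype := by
        rw [Subgroup.map_subtype_commutator]; exact ha
      obtain ⟨b, hb, hba⟩ := this
      rwa [← K.subtype_injective hba]
    simp [MonoidHom.mem_ker.mp (hk ha')]

/-- The principal character. -/
noncomputable def one [Fintype K] : Cfsg.IrrCharacter K := ⟨fun _ => 1, isIrrCharacter_one⟩

theorem eq_one_of_const [Fintype K] {θ : Cfsg.IrrCharacter K} (hd : natDeg (θ : K → ℂ) = 1)
    (h : ∀ x, (θ : K → ℂ) x = (θ : K → ℂ) 1) : θ = one K :=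
  Subtype.ext (funext fun x => (h x).trans (by rw [natDeg_spec θ.2, hd, Nat.cast_one]; rfl))

open scoped Classical in
/-- Above a proper normal subgroup there are more linear characters than the index. -/
theorem index_lt_card_linear [Fintype K] (hsolv : Group.IsSolvable K)
    (hirr : ∀ φ : Cfsg.IrrCharacter K, φ ≠ one K →
      Cfsg.IsIrrCharacter L (Cfsg.indFun K (φ : K → ℂ)))
    (Z : Subgroup L) [Z.Normal] (hZK : Z < K) :
    K.index < (Finset.univ.filter fun φ : Cfsg.IrrCharacter K =>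
      natDeg (φ : K → ℂ) = 1 ∧ TrivOn K Z (φ : K → ℂ)).card := by
  set T := Finset.univ.filter fun φ : Cfsg.IrrCharacter K =>
    natDeg (φ : K → ℂ) = 1 ∧ TrivOn K Z (φ : K → ℂ) with hT
  have hone : one K ∈ T := Finset.mem_filter.mpr ⟨Finset.mem_univ _, natDeg_one, fun a _ => rfl⟩
  have hst : ∀ φ ∈ T.erase (one K), ∀ ψ : Cfsg.IrrCharacter K,
      Cfsg.indFun K (ψ : K → ℂ) = Cfsg.indFun K (φ : K → ℂ) → ψ ∈ T.erase (one K) := by
    intro φ hφ ψ h
    obtain ⟨hne, hφT⟩ := Finset.mem_erase.mp hφ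
    rw [hT, Finset.mem_filter] at hφT
    refine Finset.mem_erase.mpr ⟨fun he => hne ?_, Finset.mem_filter.mpr ⟨Finset.mem_univ _,
      (natDeg_eq_of_indFun_eq K h).trans hφT.2.1, trivOn_of_indFun_eq ψ.2 φ.2 h hφT.2.2⟩⟩
    obtain ⟨g, hg⟩ := exists_conjG_of_indFun_eq φ.2 ψ.2 h.symm
    subst he
    exact Subtype.ext (hg.trans rfl)
  have h := sum_indFun K (T.erase (one K)) (fun φ hφ => hirr φ (Finset.mem_erase.mp hφ).1) hst
    fun _ => 1
  simp only [Finset.sum_const, smul_eq_mul, mul_one] at h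
  obtain ⟨l, hl1, hlZ⟩ := CoherenceKernel.exists_linear_above K hsolv Z hZK
  have hmem : (⟨_, isIrrCharacter_hom l⟩ : Cfsg.IrrCharacter K) ∈ T.erase (one K) := by
    refine Finset.mem_erase.mpr ⟨fun he => hl1 (congrArg Subtype.val he),
      Finset.mem_filter.mpr ⟨Finset.mem_univ _, by simp [natDeg], fun a ha => by simp [hlZ a ha]⟩⟩
  have h0 : 0 < ((T.erase (one K)).image fun φ : Cfsg.IrrCharacter K =>
      Cfsg.indFun K (φ : K → ℂ)).card :=
    Finset.card_pos.mpr ⟨_, Finset.mem_image_of_mem _ hmem⟩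
  have h1 : K.index ≤ (T.erase (one K)).card := h ▸ Nat.le_mul_of_pos_right _ h0
  rw [← Finset.card_erase_add_one hone]
  omega

open scoped Classical in
theorem card_linear_eq [Fintype K] :
    (Finset.univ.filter fun φ : Cfsg.IrrCharacter K => natDeg (φ : K → ℂ) = 1).card =
      (⁅K, K⁆).relIndex K := by
  have h := CoherenceKernel.sum_sq_above K ⁅K, K⁆ (Subgroup.commutator_le_left K K)
  have h' : ((Finset.univ.filter fun φ : Cfsg.IrrCharacter K => natDeg (φ : K → ℂ) = 1).card : ℂ) =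
      ((⁅K, K⁆).relIndex K : ℂ) := by
    rw [← h, Finset.card_eq_sum_ones, Nat.cast_sum]
    refine Finset.sum_congr (Finset.filter_congr fun φ _ => ?_) fun φ hφ => ?_
    · exact ((trivOn_commutator_iff K φ.2).symm.trans Iff.rfl)
    · have := (trivOn_commutator_iff K φ.2).mp (Finset.mem_filter.mp hφ).2
      rw [natDeg_spec φ.2, this]; simp
  exact_mod_cast h'

/-- A finite nilpotent normal subgroup splits off its Sylow subgroups. -/
theorem exists_split (hnil : Group.IsNilpotent K) (p : ℕ) [Fact p.Prime] :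
    ∃ (P U : Subgroup K) (E : (P × U) ≃* K), IsPGroup p P ∧ ¬ p ∣ Nat.card U ∧
      (P.map K.subtype).Normal ∧ (U.map K.subtype).Normal ∧
      ∀ a : P, ∀ b : U, E (a, b) = (a : K) * b := by
  classical
  haveI := hnil
  let P : Sylow p K := default
  haveI hPn : (P : Subgroup K).Normal :=
    ((Group.isNilpotent_of_finite_tfae (G := K)).out 0 3 rfl rfl).mp hnil p inferInstance P
  haveI : (P : Subgroup K).Characteristic := Sylow.characteristic_of_normal P hPn
  obtain ⟨U, hU⟩ := Subgroup.exists_right_complement'_of_coprime (N := (P : Subgroup K))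
    P.card_coprime_index
  have hUcard : Nat.card U = (P : Subgroup K).index := by rw [hU.symm.index_eq_card]
  have hpU : ¬ p ∣ Nat.card U := hUcard ▸ P.not_dvd_index
  have hcop : ∀ (a : (P : Subgroup K)) (b : U), (orderOf (a : K)).Coprime (orderOf (b : K)) := by
    intro a b
    refine Nat.Coprime.of_dvd (Subgroup.orderOf_dvd_natCard _ a.2)
      (Subgroup.orderOf_dvd_natCard _ b.2) ?_
    rw [hUcard]
    exact P.card_coprime_index
  have hcomm : ∀ (a : (P : Subgroup K)) (b : U), Commute (a : K) (b : K) := fun a b =>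
    CfsgLib.OddOrder.Basic.commute_of_coprime_orderOf (hcop a b)
  have hmemU : ∀ x : K, x ∈ U ↔ (orderOf x).Coprime p := by
    refine fun x => ⟨fun hx => ?_, fun hx => ?_⟩
    · exact (((Fact.out : p.Prime).coprime_iff_not_dvd.mpr fun h =>
        hpU (h.trans (Subgroup.orderOf_dvd_natCard _ hx)))).symm
    · obtain ⟨⟨a, b⟩, hab⟩ := hU.existsUnique x |>.exists
      have hab' : (a : K) * (b : K) = x := hab
      rw [← hab'] at hx ⊢
      rw [(hcomm a b).orderOf_mul_eq_mul_orderOf_of_coprime (hcop a b)] at hx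
      obtain ⟨k, hk⟩ := (IsPGroup.iff_orderOf.mp P.2) a
      rw [Subgroup.orderOf_coe, hk] at hx
      have h0 : orderOf a = 1 := by
        rcases Nat.eq_zero_or_pos k with rfl | hk0
        · simpa using hk
        · exact absurd (hx.coprime_dvd_left (dvd_mul_of_dvd_left (dvd_pow_self p hk0.ne') _))
            (by simp [(Fact.out : p.Prime).ne_one])
      rw [orderOf_eq_one_iff.mp h0]
      simpa using b.2
  let f : ↥(P : Subgroup K) × ↥U →* K :=
    MonoidHom.noncommCoprod (P : Subgroup K).subtype U.subtype hcomm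
  refine ⟨P, U, MulEquiv.ofBijective f hU, P.2, hpU, inferInstance, ⟨?_⟩, fun a b => rfl⟩
  rintro _ ⟨x, hx, rfl⟩ g
  refine ⟨⟨g * x * g⁻¹, hK.conj_mem _ x.2 g⟩, ?_, rfl⟩
  rw [SetLike.mem_coe, hmemU] at hx ⊢
  rw [← Subgroup.orderOf_coe]
  rw [← Subgroup.orderOf_coe] at hx
  exact (orderOf_injective (MulAut.conj g).toMonoidHom (MulEquiv.injective _) (x : L)).symm ▸ hx

variable {K}

/-- The product character. -/
noncomputable def pair {P U : Subgroup K} [Fintype K] (E : (P × U) ≃* K) (φ : Cfsg.IrrCharacter P)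
    (ψ : Cfsg.IrrCharacter U) : Cfsg.IrrCharacter K :=
  ⟨_, IsIrrCharacter.comp_equiv (Cfsg.Agent.S0188.isIrr_mul φ.2 ψ.2) E.symm⟩

theorem pair_apply {P U : Subgroup K} [Fintype K] (E : (P × U) ≃* K) (φ : Cfsg.IrrCharacter P)
    (ψ : Cfsg.IrrCharacter U) (a : P) (b : U) :
    (pair E φ ψ : K → ℂ) (E (a, b)) = (φ : P → ℂ) a * (ψ : U → ℂ) b := by
  simp [pair]

theorem natDeg_pair {P U : Subgroup K} [Fintype K] (E : (P × U) ≃* K) (φ : Cfsg.IrrCharacter P)
    (ψ : Cfsg.IrrCharacter U) :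
    natDeg (pair E φ ψ : K → ℂ) = natDeg (φ : P → ℂ) * natDeg (ψ : U → ℂ) := by
  have h := pair_apply E φ ψ 1 1
  rw [show ((1 : P), (1 : U)) = (1 : P × U) from rfl, map_one, natDeg_spec (pair E φ ψ).2,
    natDeg_spec φ.2, natDeg_spec ψ.2] at h
  exact_mod_cast h

theorem exists_pair {P U : Subgroup K} [Fintype K] (E : (P × U) ≃* K) (θ : Cfsg.IrrCharacter K) :
    ∃ φ ψ, pair E φ ψ = θ := by
  obtain ⟨φ, ψ, hφ, hψ, he⟩ :=
    (Cfsg.Agent.S0188.irr_prod _).mp (IsIrrCharacter.comp_equiv θ.2 E)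
  refine ⟨⟨φ, hφ⟩, ⟨ψ, hψ⟩, Subtype.ext (funext fun x => ?_)⟩
  obtain ⟨⟨a, b⟩, rfl⟩ := E.surjective x
  rw [pair_apply]
  exact (congrFun he (a, b)).symm

theorem pair_inj {P U : Subgroup K} [Fintype K] (E : (P × U) ≃* K) {φ φ' : Cfsg.IrrCharacter P}
    {ψ ψ' : Cfsg.IrrCharacter U} (hd : natDeg (ψ : U → ℂ) = natDeg (ψ' : U → ℂ))
    (h : pair E φ ψ = pair E φ' ψ') : φ = φ' ∧ ψ = ψ' := by
  have h' : ∀ a b, (φ : P → ℂ) a * (ψ : U → ℂ) b = (φ' : P → ℂ) a * (ψ' : U → ℂ) b := fun a b => by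
    rw [← pair_apply E, ← pair_apply E, h]
  have h1 : φ = φ' := by
    refine Subtype.ext (funext fun a => ?_)
    have := h' a 1
    rw [natDeg_spec ψ.2, natDeg_spec ψ'.2, hd] at this
    exact mul_right_cancel₀ (Nat.cast_ne_zero.mpr (natDeg_pos ψ'.2).ne') this
  subst h1
  exact ⟨rfl, Subtype.ext (funext fun b =>
    mul_left_cancel₀ (IsIrrCharacter.apply_one_ne_zero φ.2) (h' 1 b))⟩

open scoped Classical in
/-- The factors of a splitting have more linear characters than the index. -/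
theorem index_lt_card_linear_factor [Fintype K] (hsolv : Group.IsSolvable K)
    (hirr : ∀ φ : Cfsg.IrrCharacter K, φ ≠ one K →
      Cfsg.IsIrrCharacter L (Cfsg.indFun K (φ : K → ℂ)))
    {P U : Subgroup K} [Fintype P] [Fintype U] [Fintype (Cfsg.IrrCharacter P)]
    [Fintype (Cfsg.IrrCharacter U)] (E : (P × U) ≃* K)
    (hE : ∀ a : P, ∀ b : U, E (a, b) = (a : K) * b)
    (hPn : (P.map K.subtype).Normal) (hUn : (U.map K.subtype).Normal) (hP : P ≠ ⊤) (hU : U ≠ ⊤) :
    K.index < (Finset.univ.filter fun φ : Cfsg.IrrCharacter P => natDeg (φ : P → ℂ) = 1).card ∧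
    K.index < (Finset.univ.filter fun φ : Cfsg.IrrCharacter U => natDeg (φ : U → ℂ) = 1).card := by
  haveI := hPn
  haveI := hUn
  have hlt : ∀ {A : Subgroup K}, A ≠ ⊤ → A.map K.subtype < K := fun {A} hA =>
    lt_of_le_of_ne (Subgroup.map_subtype_le _) fun h => hA
      (Subgroup.map_injective K.subtype_injective (by
        rw [h, ← MonoidHom.range_eq_map, Subgroup.range_subtype]))
  have hone : ∀ {A : Subgroup K} [Fintype A] (φ : Cfsg.IrrCharacter A), natDeg (φ : A → ℂ) = 1 →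
      (∀ a, (φ : A → ℂ) a = (φ : A → ℂ) 1) → φ = ⟨fun _ => 1, isIrrCharacter_one⟩ :=
    fun {A} _ φ hd h => Subtype.ext (funext fun x => (h x).trans (by rw [natDeg_spec φ.2, hd]; simp))
  constructor
  · refine (index_lt_card_linear K hsolv hirr (U.map K.subtype) (hlt hU)).trans_le
      ((Finset.card_le_card fun θ hθ => ?_).trans (Finset.card_image_le
        (f := fun φ => pair E φ ⟨fun _ => 1, isIrrCharacter_one⟩)))
    obtain ⟨-, hd, ht⟩ := Finset.mem_filter.mp hθ
    obtain ⟨φ, ψ, rfl⟩ := exists_pair E θ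
    rw [natDeg_pair] at hd
    obtain ⟨h1, h2⟩ := mul_eq_one.mp hd
    have : ψ = ⟨fun _ => 1, isIrrCharacter_one⟩ := hone ψ h2 fun b => by
      have h3 := ht (b : K) ⟨b, b.2, rfl⟩
      rw [show (b : K) = E (1, b) by rw [hE]; simp, pair_apply,
        show (1 : K) = E (1, 1) from (map_one E).symm, pair_apply] at h3
      exact mul_left_cancel₀ (IsIrrCharacter.apply_one_ne_zero φ.2) h3
    subst this
    exact Finset.mem_image_of_mem _ (Finset.mem_filter.mpr ⟨Finset.mem_univ _, h1⟩)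
  · refine (index_lt_card_linear K hsolv hirr (P.map K.subtype) (hlt hP)).trans_le
      ((Finset.card_le_card fun θ hθ => ?_).trans (Finset.card_image_le
        (f := fun ψ => pair E ⟨fun _ => 1, isIrrCharacter_one⟩ ψ)))
    obtain ⟨-, hd, ht⟩ := Finset.mem_filter.mp hθ
    obtain ⟨φ, ψ, rfl⟩ := exists_pair E θ
    rw [natDeg_pair] at hd
    obtain ⟨h1, h2⟩ := mul_eq_one.mp hd
    have : φ = ⟨fun _ => 1, isIrrCharacter_one⟩ := hone φ h1 fun a => by
      have h3 := ht (a : K) ⟨a, a.2, rfl⟩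
      rw [show (a : K) = E (a, 1) by rw [hE]; simp, pair_apply,
        show (1 : K) = E (1, 1) from (map_one E).symm, pair_apply] at h3
      exact mul_right_cancel₀ (IsIrrCharacter.apply_one_ne_zero ψ.2) h3
    subst this
    exact Finset.mem_image_of_mem _ (Finset.mem_filter.mpr ⟨Finset.mem_univ _, h2⟩)

open scoped Classical in
/-- In a `p`-group the squares of the degrees below `a` add up to a multiple of `a²`. -/
theorem sq_dvd_sum_below {p : ℕ} [Fact p.Prime] {X : Type*} [Group X] [Fintype X]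
    (hX : IsPGroup p X) (θ : Cfsg.IrrCharacter X) :
    natDeg (θ : X → ℂ) ^ 2 ∣
      ∑ φ ∈ Finset.univ.filter (fun φ : Cfsg.IrrCharacter X =>
        natDeg (φ : X → ℂ) < natDeg (θ : X → ℂ)), natDeg (φ : X → ℂ) ^ 2 := by
  have h1 : ∑ φ : Cfsg.IrrCharacter X, natDeg (φ : X → ℂ) ^ 2 = Nat.card X := by
    have h := sum_sq_apply_one (G := X)
    simp only [natDeg_spec (Subtype.prop _)] at h
    exact_mod_cast h
  obtain ⟨h2, i, hi⟩ := natDeg_sq_dvd_card hX θ.2
  rw [← h1, ← Finset.sum_filter_add_sum_filter_not (Finset.univ : Finset (Cfsg.IrrCharacter X))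
    (fun φ => natDeg (φ : X → ℂ) < natDeg (θ : X → ℂ))] at h2
  refine (Nat.dvd_add_left (Finset.dvd_sum fun φ hφ => pow_dvd_pow_of_dvd ?_ 2)).mp h2
  obtain ⟨-, j, hj⟩ := natDeg_sq_dvd_card hX φ.2
  have := not_lt.mp (Finset.mem_filter.mp hφ).2
  rw [hi, hj] at this ⊢
  exact pow_dvd_pow p ((Nat.pow_le_pow_iff_right (Fact.out : p.Prime).one_lt).mp this)

open scoped Classical in
/-- The numerical condition that makes all of `S` coherent. -/
def Grows (K : Subgroup L) [Fintype K] : Prop :=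
  K.index + 1 < (Finset.univ.filter fun φ : Cfsg.IrrCharacter K => natDeg (φ : K → ℂ) = 1).card ∧
    ∀ θ : Cfsg.IrrCharacter K, 1 < natDeg (θ : K → ℂ) → 2 * K.index * natDeg (θ : K → ℂ) + 1 <
      ∑ φ ∈ Finset.univ.filter (fun φ : Cfsg.IrrCharacter K =>
        natDeg (φ : K → ℂ) < natDeg (θ : K → ℂ)), natDeg (φ : K → ℂ) ^ 2

open scoped Classical in
theorem grows_of_comm [Fintype K]
    (hirr : ∀ φ : Cfsg.IrrCharacter K, φ ≠ one K →
      Cfsg.IsIrrCharacter L (Cfsg.indFun K (φ : K → ℂ)))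
    (hne : K ≠ ⊥) (hc : IsMulCommutative K) (he : Nat.card K ≠ K.index + 1) : Grows K := by
  have hd : ∀ φ : Cfsg.IrrCharacter K, natDeg (φ : K → ℂ) = 1 := fun φ => by
    have := natDeg_spec φ.2
    rw [apply_one_eq_one_of_comm hc.is_comm.comm φ.2] at this
    exact_mod_cast this.symm
  have hsolv : Group.IsSolvable K := isSolvable_of_comm fun a b => hc.is_comm.comm a b
  refine ⟨?_, fun θ h => absurd (hd θ) h.ne'⟩
  have h1 := index_lt_card_linear K hsolv hirr ⊥ (bot_lt_iff_ne_bot.mpr hne)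
  have h2 : (Finset.univ.filter fun φ : Cfsg.IrrCharacter K =>
      natDeg (φ : K → ℂ) = 1).card = Nat.card K := by
    rw [card_linear_eq, show ⁅K, K⁆ = ⊥ from ?_, Subgroup.relIndex_bot_left]
    exact Subgroup.commutator_eq_bot_iff_le_centralizer.mpr fun a ha b hb =>
      congrArg Subtype.val (hc.is_comm.comm (⟨b, hb⟩ : K) ⟨a, ha⟩)
  have h3 : (Finset.univ.filter fun φ : Cfsg.IrrCharacter K =>
      natDeg (φ : K → ℂ) = 1 ∧ TrivOn K ⊥ (φ : K → ℂ)).card ≤ (Finset.univ.filter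
        fun φ : Cfsg.IrrCharacter K => natDeg (φ : K → ℂ) = 1).card :=
    Finset.card_le_card fun φ hφ => Finset.mem_filter.mpr
      ⟨Finset.mem_univ _, (Finset.mem_filter.mp hφ).2.1⟩
  omega

open scoped Classical in
theorem grows_of_not_primePow [Fintype K] (hnil : Group.IsNilpotent K)
    (hirr : ∀ φ : Cfsg.IrrCharacter K, φ ≠ one K →
      Cfsg.IsIrrCharacter L (Cfsg.indFun K (φ : K → ℂ)))
    (hpp : ¬ ∃ p m : ℕ, p.Prime ∧ Nat.card K = p ^ m) : Grows K := by
  haveI := hnil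
  have hsolv : Group.IsSolvable K := inferInstance
  have key : ∀ p : ℕ, p.Prime → p ∣ Nat.card K →
      ∃ (P U : Subgroup K) (E : (P × U) ≃* K), IsPGroup p P ∧ ¬ p ∣ Nat.card U ∧
        K.index < (Finset.univ.filter fun φ : Cfsg.IrrCharacter P => natDeg (φ : P → ℂ) = 1).card ∧
        K.index < (Finset.univ.filter fun φ : Cfsg.IrrCharacter U =>
          natDeg (φ : U → ℂ) = 1).card := by
    intro p hp hdvd
    haveI : Fact p.Prime := ⟨hp⟩
    obtain ⟨P, U, E, h1, h2, h3, h4, hE⟩ := exists_split K hnil p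
    have hP : P ≠ ⊤ := fun h => by
      obtain ⟨m, hm⟩ := IsPGroup.iff_card.mp h1
      exact hpp ⟨p, m, hp, by rw [← hm, h, Subgroup.card_top]⟩
    have hU : U ≠ ⊤ := fun h => h2 (by rwa [h, Subgroup.card_top])
    exact ⟨P, U, E, h1, h2, index_lt_card_linear_factor hsolv hirr E hE h3 h4 hP hU⟩
  refine ⟨?_, fun θ hθ => ?_⟩
  · obtain ⟨P, U, E, -, -, hP, hU⟩ := key _ (Nat.minFac_prime fun h => hpp ⟨2, 0, Nat.prime_two,
      by simpa using h⟩) (Nat.minFac_dvd _)
    refine lt_of_lt_of_le ?_ (Finset.card_le_card_of_injOn (s := (Finset.univ.filter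
        fun φ : Cfsg.IrrCharacter P => natDeg (φ : P → ℂ) = 1) ×ˢ (Finset.univ.filter
          fun φ : Cfsg.IrrCharacter U => natDeg (φ : U → ℂ) = 1))
      (fun x => pair E x.1 x.2) (fun x hx => ?_) fun x hx y hy h => ?_)
    · rw [Finset.card_product]
      have h0 : 0 < K.index := Nat.pos_of_ne_zero K.index_ne_zero_of_finite
      have := Nat.mul_le_mul hP hU
      nlinarith
    · simp only [Finset.coe_product, Set.mem_prod, Finset.coe_filter, Set.mem_setOf_eq,
        Finset.mem_univ, true_and] at hx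
      simp [natDeg_pair, hx.1, hx.2]
    · simp only [Finset.coe_product, Set.mem_prod, Finset.coe_filter, Set.mem_setOf_eq,
        Finset.mem_univ, true_and] at hx hy
      obtain ⟨h1, h2⟩ := pair_inj E (hx.2.trans hy.2.symm) h
      exact Prod.ext h1 h2
  · obtain ⟨p, hp, hpθ⟩ := Nat.exists_prime_and_dvd hθ.ne'
    haveI : Fact p.Prime := ⟨hp⟩
    have hcard : natDeg (θ : K → ℂ) ∣ Nat.card K := by
      obtain ⟨d, hd, hdvd⟩ := IsIrrCharacter.apply_one_dvd_card θ.2
      rwa [show natDeg (θ : K → ℂ) = d by exact_mod_cast (natDeg_spec θ.2).symm.trans hd]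
    obtain ⟨P, U, E, hPp, hpU, hP, hU⟩ := key p hp (hpθ.trans hcard)
    obtain ⟨φ₀, ψ₀, rfl⟩ := exists_pair E θ
    rw [natDeg_pair] at hθ hpθ ⊢
    set a := natDeg (φ₀ : P → ℂ) with ha
    set b := natDeg (ψ₀ : U → ℂ) with hb
    have hpb : ¬ p ∣ b := fun h => by
      obtain ⟨d, hd, hdvd⟩ := IsIrrCharacter.apply_one_dvd_card ψ₀.2
      rw [hb, show natDeg (ψ₀ : U → ℂ) = d by exact_mod_cast (natDeg_spec ψ₀.2).symm.trans hd] at h
      exact hpU (h.trans hdvd)
    have ha1 : 1 < a := by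
      have := natDeg_pos φ₀.2
      rcases Nat.lt_or_ge 1 a with h | h
      · exact h
      · rw [show a = 1 by omega, one_mul] at hpθ; exact absurd hpθ hpb
    set LP := Finset.univ.filter fun φ : Cfsg.IrrCharacter P => natDeg (φ : P → ℂ) = 1 with hLP
    set LU := Finset.univ.filter fun φ : Cfsg.IrrCharacter U => natDeg (φ : U → ℂ) = 1 with hLU
    have himg : ∀ (A : Finset (Cfsg.IrrCharacter P)) (B : Finset (Cfsg.IrrCharacter U)) (c : ℕ),
        (∀ ψ ∈ B, natDeg (ψ : U → ℂ) = c) →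
        ∑ χ ∈ (A ×ˢ B).image (fun x => pair E x.1 x.2), natDeg (χ : K → ℂ) ^ 2 =
          (∑ φ ∈ A, natDeg (φ : P → ℂ) ^ 2) * (B.card * c ^ 2) := by
      intro A B c hB
      rw [Finset.sum_image, Finset.sum_product, Finset.sum_mul]
      · refine Finset.sum_congr rfl fun φ _ => ?_
        dsimp only
        rw [Finset.sum_congr rfl fun ψ hψ => by rw [natDeg_pair, hB ψ hψ], Finset.sum_const,
          smul_eq_mul]
        ring
      · intro x hx y hy h
        obtain ⟨h1, h2⟩ := pair_inj E ((hB _ (Finset.mem_product.mp hx).2).trans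
          (hB _ (Finset.mem_product.mp hy).2).symm) h
        exact Prod.ext h1 h2
    rcases Nat.lt_or_ge 1 b with hb1 | hb1
    · set X₁ := (({φ₀} : Finset _) ×ˢ LU).image (fun x => pair E x.1 x.2) with hX₁
      set X₂ := (LP ×ˢ ({ψ₀} : Finset _)).image (fun x => pair E x.1 x.2) with hX₂
      have d1 : ∀ χ ∈ X₁, natDeg (χ : K → ℂ) = a := fun χ hχ => by
        obtain ⟨⟨φ, ψ⟩, hx, rfl⟩ := Finset.mem_image.mp hχ
        obtain ⟨h1, h2⟩ := Finset.mem_product.mp hx
        rw [natDeg_pair, Finset.mem_singleton.mp h1, (Finset.mem_filter.mp h2).2, mul_one]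
      have d2 : ∀ χ ∈ X₂, natDeg (χ : K → ℂ) = b := fun χ hχ => by
        obtain ⟨⟨φ, ψ⟩, hx, rfl⟩ := Finset.mem_image.mp hχ
        obtain ⟨h1, h2⟩ := Finset.mem_product.mp hx
        rw [natDeg_pair, Finset.mem_singleton.mp h2, (Finset.mem_filter.mp h1).2, one_mul]
      have hdisj : Disjoint X₁ X₂ := Finset.disjoint_left.mpr fun χ h1 h2 => hpb (by
        rw [← d2 χ h2, d1 χ h1]
        rcases hp.dvd_mul.mp hpθ with h | h
        · exact h
        · exact absurd h hpb)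
      refine lt_of_lt_of_le ?_ (Finset.sum_le_sum_of_subset (s := X₁ ∪ X₂) fun χ hχ => ?_)
      · rw [Finset.sum_union hdisj, himg _ LU 1 fun ψ hψ => (Finset.mem_filter.mp hψ).2,
          himg _ _ b fun ψ hψ => by rw [Finset.mem_singleton.mp hψ],
          Finset.sum_singleton, Finset.card_singleton, one_mul, one_pow, mul_one, ← ha,
          Finset.sum_congr rfl fun φ hφ => by rw [(Finset.mem_filter.mp hφ).2, one_pow],
          ← Finset.card_eq_sum_ones]
        have h3 : 2 * a * b ≤ a ^ 2 + b ^ 2 := two_mul_le_add_sq a b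
        have h4 := Nat.mul_le_mul_left (K.index + 1) h3
        have h5 : a ^ 2 * (K.index + 1) ≤ a ^ 2 * LU.card := Nat.mul_le_mul_left _ hU
        have h6 : (K.index + 1) * b ^ 2 ≤ LP.card * b ^ 2 := Nat.mul_le_mul_right _ hP
        have h7 : 2 * 2 ≤ a * b := Nat.mul_le_mul ha1 hb1
        linarith
      · refine Finset.mem_filter.mpr ⟨Finset.mem_univ _, ?_⟩
        rcases Finset.mem_union.mp hχ with h | h
        · rw [d1 χ h]; exact (lt_mul_iff_one_lt_right (by omega)).mpr hb1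
        · rw [d2 χ h]; exact (lt_mul_iff_one_lt_left (by omega)).mpr ha1
    · have hb' : b = 1 := by have := natDeg_pos ψ₀.2; omega
      rw [hb', mul_one]
      set A := Finset.univ.filter fun φ : Cfsg.IrrCharacter P => natDeg (φ : P → ℂ) < a with hA
      have hsum : a ^ 2 ≤ ∑ φ ∈ A, natDeg (φ : P → ℂ) ^ 2 := by
        refine Nat.le_of_dvd (lt_of_lt_of_le Nat.one_pos ?_) (sq_dvd_sum_below hPp φ₀)
        refine le_trans ?_ (Finset.single_le_sum (f := fun φ : Cfsg.IrrCharacter P =>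
          natDeg (φ : P → ℂ) ^ 2) (fun _ _ => Nat.zero_le _)
          (Finset.mem_filter.mpr ⟨Finset.mem_univ (⟨fun _ => 1, isIrrCharacter_one⟩ : Cfsg.IrrCharacter P),
            by rw [natDeg_one]; exact ha1⟩))
        simp [natDeg_one]
      refine lt_of_lt_of_le ?_ (Finset.sum_le_sum_of_subset
        (s := (A ×ˢ LU).image (fun x => pair E x.1 x.2)) fun χ hχ => ?_)
      · rw [himg _ LU 1 fun ψ hψ => (Finset.mem_filter.mp hψ).2, one_pow, mul_one]
        have h5 : a ^ 2 * (K.index + 1) ≤ (∑ φ ∈ A, natDeg (φ : P → ℂ) ^ 2) * LU.card :=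
          Nat.mul_le_mul hsum hU
        have h6 : 2 * (a * (K.index + 1)) ≤ a * (a * (K.index + 1)) := Nat.mul_le_mul_right _ ha1
        linarith
      · obtain ⟨⟨φ, ψ⟩, hx, rfl⟩ := Finset.mem_image.mp hχ
        obtain ⟨h1, h2⟩ := Finset.mem_product.mp hx
        refine Finset.mem_filter.mpr ⟨Finset.mem_univ _, ?_⟩
        rw [natDeg_pair, (Finset.mem_filter.mp h2).2, mul_one]
        exact (Finset.mem_filter.mp h1).2

open scoped Classical in
theorem grows_of_large [Fintype K] {p : ℕ} [Fact p.Prime] (hKp : IsPGroup p K)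
    (hbig : 4 * K.index ^ 2 + 1 < (⁅K, K⁆).relIndex K) : Grows K := by
  have he : 0 < K.index := Nat.pos_of_ne_zero K.index_ne_zero_of_finite
  refine ⟨by rw [card_linear_eq]; nlinarith, fun θ hθ => ?_⟩
  set d := natDeg (θ : K → ℂ)
  set A := Finset.univ.filter fun φ : Cfsg.IrrCharacter K => natDeg (φ : K → ℂ) < d
  have hm : (⁅K, K⁆).relIndex K ≤ ∑ φ ∈ A, natDeg (φ : K → ℂ) ^ 2 := by
    rw [← card_linear_eq, Finset.card_eq_sum_ones]
    refine le_trans (le_of_eq ?_) (Finset.sum_le_sum_of_subset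
      (s := Finset.univ.filter fun φ : Cfsg.IrrCharacter K => natDeg (φ : K → ℂ) = 1) (fun φ hφ =>
      Finset.mem_filter.mpr ⟨Finset.mem_univ _, lt_of_eq_of_lt (Finset.mem_filter.mp hφ).2 hθ⟩))
    exact Finset.sum_congr rfl fun φ hφ => by rw [(Finset.mem_filter.mp hφ).2, one_pow]
  have hdvd := Nat.le_of_dvd (lt_of_lt_of_le (by omega) hm) (sq_dvd_sum_below hKp θ)
  change 2 * K.index * d + 1 < _
  rcases Nat.lt_or_ge (2 * K.index) d with h | h
  · refine lt_of_lt_of_le ?_ hdvd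
    have := Nat.mul_le_mul_right d (Nat.succ_le_of_lt h)
    nlinarith
  · refine lt_of_lt_of_le (lt_of_le_of_lt ?_ hbig) hm
    have := Nat.mul_le_mul_left (2 * K.index) h
    nlinarith

variable {G : Type*} [Group G] [Fintype G] (K)

open scoped Classical in
/-- Coherence of all the induced characters of a Frobenius group. -/
theorem isCoherent_of_grows [Fintype K]
    (hirr : ∀ φ : Cfsg.IrrCharacter K, φ ≠ one K →
      Cfsg.IsIrrCharacter L (Cfsg.indFun K (φ : K → ℂ)))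
    (hg : Grows K) (τ : (L → ℂ) → (G → ℂ))
    (hτ : Cfsg.IsLinearIsometryOn (Cfsg.zspanOn (indNontriv K K) {1}ᶜ) τ)
    (hτ1 : ∀ α ∈ Cfsg.zspanOn (indNontriv K K) {1}ᶜ, τ α 1 = 0) :
    Cfsg.IsCoherent (indNontriv K K) {1}ᶜ τ := by
  set Θ := (Finset.univ : Finset (Cfsg.IrrCharacter K)).erase (one K) with hΘ
  set Θ₀ := (Finset.univ.filter fun φ : Cfsg.IrrCharacter K =>
    natDeg (φ : K → ℂ) = 1).erase (one K) with hΘ₀
  have hone : ∀ φ : Cfsg.IrrCharacter K, TrivOn K K (φ : K → ℂ) ↔ φ = one K := by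
    refine fun φ => ⟨fun h => ?_, fun h a _ => by subst h; rfl⟩
    exact eq_one_of_const K ((trivOn_commutator_iff K φ.2).mp fun a ha =>
      h a (Subgroup.commutator_le_left K K ha)) fun x => h x x.2
  have hS : ∀ η, η ∈ indNontriv K K ↔ ∃ φ ∈ Θ, Cfsg.indFun K (φ : K → ℂ) = η := fun η =>
    ⟨fun ⟨θ, hθ, hnt, he⟩ => ⟨⟨θ, hθ⟩, Finset.mem_erase.mpr
      ⟨fun h => hnt ((hone ⟨θ, hθ⟩).mpr h), Finset.mem_univ _⟩, he.symm⟩,
    fun ⟨φ, hφ, he⟩ => ⟨φ, φ.2, fun h => (Finset.mem_erase.mp hφ).1 ((hone φ).mp h), he.symm⟩⟩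
  have hst : ∀ φ ∈ Θ, ∀ ψ : Cfsg.IrrCharacter K,
      Cfsg.indFun K (ψ : K → ℂ) = Cfsg.indFun K (φ : K → ℂ) → ψ ∈ Θ := fun φ hφ ψ h =>
    Finset.mem_erase.mpr ⟨fun he => (Finset.mem_erase.mp hφ).1
      ((hone φ).mp (trivOn_of_indFun_eq φ.2 ψ.2 h.symm ((hone ψ).mpr he))), Finset.mem_univ _⟩
  have hst₀ : ∀ φ ∈ Θ₀, ∀ ψ : Cfsg.IrrCharacter K,
      Cfsg.indFun K (ψ : K → ℂ) = Cfsg.indFun K (φ : K → ℂ) → ψ ∈ Θ₀ := by
    intro φ hφ ψ h
    obtain ⟨hne, hd⟩ := Finset.mem_erase.mp hφ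
    refine Finset.mem_erase.mpr ⟨fun he => (hne ((hone φ).mp
      (trivOn_of_indFun_eq φ.2 ψ.2 h.symm ((hone ψ).mpr he)))), Finset.mem_filter.mpr
      ⟨Finset.mem_univ _, (natDeg_eq_of_indFun_eq K h).trans (Finset.mem_filter.mp hd).2⟩⟩
  have hsub : Θ₀ ⊆ Θ := fun φ hφ =>
    Finset.mem_erase.mpr ⟨(Finset.mem_erase.mp hφ).1, Finset.mem_univ _⟩
  have hcard : Θ₀.card + 1 = (Finset.univ.filter fun φ : Cfsg.IrrCharacter K =>
      natDeg (φ : K → ℂ) = 1).card :=
    Finset.card_erase_add_one (Finset.mem_filter.mpr ⟨Finset.mem_univ _, natDeg_one⟩)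
  have h0 : K.index < Θ₀.card := by have := hg.1; omega
  set F := fun φ : Cfsg.IrrCharacter K => Cfsg.indFun K (φ : K → ℂ) with hF
  have hsubS : F '' (↑Θ₀ : Set _) ⊆ indNontriv K K := by
    rintro _ ⟨φ, hφ, rfl⟩
    exact (hS _).mpr ⟨φ, hsub hφ, rfl⟩
  obtain ⟨φ₁, hφ₁⟩ := Finset.card_pos.mp (lt_of_le_of_lt (Nat.zero_le _) h0)
  have hcoh₀ : Cfsg.IsCoherent (F '' (↑Θ₀ : Set _)) {1}ᶜ τ := by
    rw [← Finset.coe_image] at hsubS ⊢
    refine isCoherent_of_irr_degree_eq _ (fun χ hχ => ?_) (fun χ hχ χ' hχ' => ?_) ?_ τ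
      (isometry_mono hsubS hτ) fun α hα => hτ1 α (zspanOn_mono hsubS hα)
    · obtain ⟨φ, hφ, rfl⟩ := Finset.mem_image.mp hχ
      exact hirr φ (Finset.mem_erase.mp hφ).1
    · obtain ⟨φ, hφ, rfl⟩ := Finset.mem_image.mp hχ
      obtain ⟨φ', hφ', rfl⟩ := Finset.mem_image.mp hχ'
      simp only [hF, indFun_one, natDeg_spec φ.2, natDeg_spec φ'.2,
        (Finset.mem_filter.mp (Finset.mem_erase.mp hφ).2).2,
        (Finset.mem_filter.mp (Finset.mem_erase.mp hφ').2).2]
    · have h := sum_indFun K Θ₀ (fun φ hφ => hirr φ (Finset.mem_erase.mp hφ).1) hst₀ fun _ => 1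
      simp only [Finset.sum_const, smul_eq_mul, mul_one] at h
      simp only [hF] at h ⊢
      by_contra hc
      have := Nat.mul_le_mul_left K.index (not_lt.mp hc)
      omega
  refine isCoherent_grow_ind K Θ Θ₀ hsub (fun φ hφ => hirr φ (Finset.mem_erase.mp hφ).1) hst hst₀
    hS τ hτ hτ1 hcoh₀ hφ₁ (fun φ _ => by
      rw [(Finset.mem_filter.mp (Finset.mem_erase.mp hφ₁).2).2]; exact one_dvd _) fun φ hφ hφ₀ => ?_
  have hd : 1 < natDeg (φ : K → ℂ) := by
    have h1 := natDeg_pos φ.2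
    refine lt_of_le_of_ne h1 fun h => hφ₀ (Finset.mem_erase.mpr
      ⟨(Finset.mem_erase.mp hφ).1, Finset.mem_filter.mpr ⟨Finset.mem_univ _, h.symm⟩⟩)
  have h := hg.2 φ hd
  rw [(Finset.mem_filter.mp (Finset.mem_erase.mp hφ₁).2).2, mul_one]
  rw [← Finset.add_sum_erase _ _ (show one K ∈ Finset.univ.filter (fun ψ : Cfsg.IrrCharacter K =>
      natDeg (ψ : K → ℂ) < natDeg (φ : K → ℂ)) from Finset.mem_filter.mpr ⟨Finset.mem_univ _, by
        show natDeg (fun _ : K => (1 : ℂ)) < _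
        rw [natDeg_one]; exact hd⟩)] at h
  simp only [one, natDeg_one, one_pow] at h
  refine lt_of_lt_of_le (b := ∑ ψ ∈ (Finset.univ.filter (fun ψ : Cfsg.IrrCharacter K =>
    natDeg (ψ : K → ℂ) < natDeg (φ : K → ℂ))).erase (one K), natDeg (ψ : K → ℂ) ^ 2) ?_
    (Finset.sum_le_sum_of_subset fun ψ hψ => ?_)
  · simp only [one]; omega
  · obtain ⟨h1, h2⟩ := Finset.mem_erase.mp hψ
    exact Finset.mem_filter.mpr ⟨Finset.mem_erase.mpr ⟨h1, Finset.mem_univ _⟩,
      Or.inr (Finset.mem_filter.mp h2).2⟩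

end CfsgLib.Char.Feit
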