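import Cfsg.Agent.Lib.Char.CoherenceFeit
import Cfsg.Agent.Lib.Solvable.FPFNilpotent
import Cfsg.Agent.Lib.Solvable.FrattiniFitting
import Mathlib.GroupTheory.FixedPointFree

/-!
# Frobenius groups: the structure needed for Feit's coherence theorem
-/

set_option autoImplicit false

open scoped ComplexConjugate commutatorElement

namespace CfsgLib.Char.Feit

open Coherence

variable {N : Type*} [Group N] [Fintype N] (H : Subgroup N) [hH : H.Normal]
  (hC : ∀ h ∈ H, h ≠ 1 → Subgroup.centralizer ({h} : Set N) ≤ H)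
include hC

/-- A Frobenius kernel has order prime to its index. -/
theorem coprime_index : (Nat.card H).Coprime H.index := by
  refine Nat.coprime_of_dvd fun p hp hpH hpi => ?_
  haveI : Fact p.Prime := ⟨hp⟩
  let P : Sylow p N := default
  haveI := P.2.isNilpotent
  have hne : H.subgroupOf (P : Subgroup N) ≠ ⊥ := by
    obtain ⟨h, hh⟩ := exists_prime_orderOf_dvd_card' p hpH
    have hhN : orderOf (h : N) = p := by rw [Subgroup.orderOf_coe, hh]
    obtain ⟨Q, hQ⟩ := (IsPGroup.of_card (n := 1)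
      (show Nat.card (Subgroup.zpowers (h : N)) = p ^ 1 by rw [Nat.card_zpowers, hhN, pow_one])).exists_le_sylow
    obtain ⟨g, hg⟩ := MulAction.exists_smul_eq N Q P
    intro hbot
    have h1 : g * (h : N) * g⁻¹ ∈ (P : Subgroup N) := by
      rw [← hg, Sylow.coe_subgroup_smul, Subgroup.mem_pointwise_smul_iff_inv_smul_mem]
      convert hQ (Subgroup.mem_zpowers (h : N)) using 1
      simp [MulAut.smul_def, mul_assoc]
    have h2 : (⟨_, h1⟩ : (P : Subgroup N)) ∈ H.subgroupOf (P : Subgroup N) :=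
      Subgroup.mem_subgroupOf.mpr (hH.conj_mem _ h.2 g)
    rw [hbot, Subgroup.mem_bot] at h2
    have h3 : g * (h : N) * g⁻¹ = 1 := congrArg Subtype.val h2
    rw [conj_eq_one_iff] at h3
    rw [h3, orderOf_one] at hhN
    exact hp.one_lt.ne hhN
  obtain ⟨z, hz⟩ := Subgroup.ne_bot_iff_exists_ne_one.mp
    (CfsgLib.Solvable.FrattiniFitting.inf_center_ne_bot (H.subgroupOf (P : Subgroup N)) hne)
  obtain ⟨hzH, hzc⟩ := Subgroup.mem_inf.mp z.2
  have hz1 : ((z : (P : Subgroup N)) : N) ≠ 1 := fun h => hz (Subtype.ext (Subtype.ext h))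
  have hle : (P : Subgroup N) ≤ H := fun y hy => hC _ (Subgroup.mem_subgroupOf.mp hzH) hz1
    (Subgroup.mem_centralizer_singleton_iff.mpr
      (congrArg Subtype.val (Subgroup.mem_center_iff.mp hzc ⟨y, hy⟩)))
  exact P.not_dvd_index (hpi.trans (Subgroup.index_dvd_of_le hle))

/-- Conjugation by an element of prime order outside the kernel has no fixed points on it. -/
theorem fpf_of_notMem {x : N} (hx : x ∉ H) (n : H)
    (hn : MulAut.conjNormal (H := H) x n = n) : n = 1 := by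
  by_contra hne
  refine hx (hC _ n.2 (fun h => hne (Subtype.ext h)) (Subgroup.mem_centralizer_singleton_iff.mpr ?_))
  have e := congrArg Subtype.val hn
  rw [MulAut.conjNormal_apply] at e
  exact mul_inv_eq_iff_eq_mul.mp e

/-- An element of prime order outside the kernel. -/
theorem exists_prime_notMem {p : ℕ} [Fact p.Prime] (hp : p ∣ H.index) :
    ∃ x : N, orderOf x = p ∧ x ∉ H := by
  obtain ⟨x, hx⟩ := exists_prime_orderOf_dvd_card' p (hp.trans H.index_dvd_card)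
  refine ⟨x, hx, fun h => ?_⟩
  have h1 : p ∣ Nat.card H := hx ▸ Subgroup.orderOf_dvd_natCard H h
  exact (Fact.out : p.Prime).not_dvd_one ((coprime_index H hC).gcd_eq_one ▸ Nat.dvd_gcd h1 hp)

/-- A Frobenius kernel is nilpotent. -/
theorem kernel_isNilpotent (hH2 : H ≠ ⊤) : Group.IsNilpotent H := by
  obtain ⟨p, hp, hpd⟩ := Nat.exists_prime_and_dvd (n := H.index) fun h =>
    hH2 (Subgroup.index_eq_one.mp h)
  haveI : Fact p.Prime := ⟨hp⟩
  obtain ⟨x, hx, hxH⟩ := exists_prime_notMem H hC hpd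
  refine CfsgLib.Solvable.FPFNilpotent.isNilpotent_of_mulAut hp
    (MulAut.conjNormal (H := H) x) ?_ (fpf_of_notMem H hC hxH)
  rw [← map_pow, ← hx, pow_orderOf_eq_one, map_one]

/-- A Frobenius kernel of even index is abelian. -/
theorem comm_of_even (he : Even H.index) : IsMulCommutative H := by
  obtain ⟨x, hx, hxH⟩ := exists_prime_notMem (p := 2) H hC (even_iff_two_dvd.mp he)
  set α := MulAut.conjNormal (H := H) x with hα
  have h2 : Function.Involutive α := fun n => by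
    show (α * α) n = n
    rw [hα, ← map_mul, ← sq, ← hx, pow_orderOf_eq_one, map_one]
    rfl
  have hfpf : MonoidHom.FixedPointFree α.toMonoidHom := fpf_of_notMem H hC hxH
  exact ⟨⟨fun a b => MonoidHom.FixedPointFree.commute_all_of_involutive hfpf h2 a b⟩⟩

theorem isIrr_of_ne_one [Fintype H] (φ : Cfsg.IrrCharacter H) (hφ : φ ≠ one H) :
    Cfsg.IsIrrCharacter N (Cfsg.indFun H (φ : H → ℂ)) :=
  isIrr_indFun_of_frobenius H hC φ.2 fun h => hφ (Subtype.ext h)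

theorem isIrr_indNontriv [Fintype H] : ∀ η ∈ indNontriv H H, Cfsg.IsIrrCharacter N η := by
  rintro _ ⟨θ, hθ, hnt, rfl⟩
  exact isIrr_indFun_of_frobenius H hC hθ fun h => hnt fun a _ => by rw [h]

/-- The characters not trivial on a Frobenius kernel. -/
theorem S_eq [Fintype H] :
    indNontriv H H = {χ | Cfsg.IsIrrCharacter N χ ∧ ∃ h ∈ H, χ h ≠ χ 1} :=
  indNontriv_eq H H le_rfl (isIrr_indNontriv H hC)

variable {G : Type*} [Group G] [Fintype G]

/-- Feit's theorem, all cases but the small `p`-groups. -/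
theorem isCoherent_feit [Fintype H] (hH1 : H ≠ ⊥) (hH2 : H ≠ ⊤)
    (hgood : (IsMulCommutative H ∧ Nat.card H ≠ H.index + 1) ∨
      (¬ ∃ p m : ℕ, p.Prime ∧ Nat.card H = p ^ m) ∨
      (∃ p m : ℕ, p.Prime ∧ Nat.card H = p ^ m ∧ 4 * H.index ^ 2 + 1 < (⁅H, H⁆).relIndex H))
    (τ : (N → ℂ) → (G → ℂ))
    (hτ : Cfsg.IsLinearIsometryOn
      (Cfsg.zspanOn {χ : N → ℂ | Cfsg.IsIrrCharacter N χ ∧ ∃ h ∈ H, χ h ≠ χ 1} {1}ᶜ) τ)
    (hτ1 : ∀ α ∈ Cfsg.zspanOn {χ : N → ℂ | Cfsg.IsIrrCharacter N χ ∧ ∃ h ∈ H, χ h ≠ χ 1} {1}ᶜ,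
      τ α 1 = 0) :
    Cfsg.IsCoherent {χ : N → ℂ | Cfsg.IsIrrCharacter N χ ∧ ∃ h ∈ H, χ h ≠ χ 1} {1}ᶜ τ := by
  rw [← S_eq H hC] at hτ hτ1 ⊢
  refine isCoherent_of_grows H (isIrr_of_ne_one H hC) ?_ τ hτ hτ1
  rcases hgood with ⟨hc, he⟩ | hpp | ⟨p, m, hp, hm, hbig⟩
  · exact grows_of_comm (isIrr_of_ne_one H hC) hH1 hc he
  · exact grows_of_not_primePow (kernel_isNilpotent H hC hH2) (isIrr_of_ne_one H hC) hpp
  · haveI : Fact p.Prime := ⟨hp⟩
    exact grows_of_large (IsPGroup.of_card hm) hbig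

theorem isCoherent_or_small [Fintype H] (hH1 : H ≠ ⊥) (hH2 : H ≠ ⊤) (he : Nat.card H ≠ H.index + 1)
    (τ : (N → ℂ) → (G → ℂ))
    (hτ : Cfsg.IsLinearIsometryOn
      (Cfsg.zspanOn {χ : N → ℂ | Cfsg.IsIrrCharacter N χ ∧ ∃ h ∈ H, χ h ≠ χ 1} {1}ᶜ) τ)
    (hτ1 : ∀ α ∈ Cfsg.zspanOn {χ : N → ℂ | Cfsg.IsIrrCharacter N χ ∧ ∃ h ∈ H, χ h ≠ χ 1} {1}ᶜ,
      τ α 1 = 0) :
    Cfsg.IsCoherent {χ : N → ℂ | Cfsg.IsIrrCharacter N χ ∧ ∃ h ∈ H, χ h ≠ χ 1} {1}ᶜ τ ∨
      ∃ p : ℕ, p.Prime ∧ (∃ m : ℕ, Nat.card H = p ^ m) ∧ ¬ IsMulCommutative H ∧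
        (⁅H, H⁆.subgroupOf H).index ≤ 4 * H.index ^ 2 + 1 := by
  by_cases hc : IsMulCommutative H
  · exact Or.inl (isCoherent_feit H hC hH1 hH2 (Or.inl ⟨hc, he⟩) τ hτ hτ1)
  by_cases hpp : ∃ p m : ℕ, p.Prime ∧ Nat.card H = p ^ m
  · obtain ⟨p, m, hp, hm⟩ := hpp
    rcases Nat.lt_or_ge (4 * H.index ^ 2 + 1) ((⁅H, H⁆).relIndex H) with h | h
    · exact Or.inl (isCoherent_feit H hC hH1 hH2 (Or.inr (Or.inr ⟨p, m, hp, hm, h⟩)) τ hτ hτ1)
    · exact Or.inr ⟨p, hp, ⟨m, hm⟩, hc, h⟩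
  · exact Or.inl (isCoherent_feit H hC hH1 hH2 (Or.inr (Or.inl hpp)) τ hτ hτ1)

end CfsgLib.Char.Feit
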