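import Cfsg.Agent.Lib.Char.CoherenceCriteria
import Cfsg.Agent.Lib.Solvable.FrattiniFitting
import Mathlib.GroupTheory.SchurZassenhaus
import Mathlib.GroupTheory.GroupAction.ConjAct

/-!
# Coherence of `S(M)` above a Frobenius quotient of odd order
-/

set_option autoImplicit false

open scoped ComplexConjugate

namespace CfsgLib.Char.CoherenceKernel

open Coherence
open scoped commutatorElement

variable {L : Type*} [Group L] [Fintype L] {G : Type*} [Group G] [Fintype G]
  (K : Subgroup L) [hK : K.Normal] {τ : (L → ℂ) → (G → ℂ)} {R : (L → ℂ) → Finset (G → ℂ)}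

/-- In a finite nilpotent group only the whole group supplements the derived subgroup. -/
theorem eq_top_of_sup_commutator {Q : Type*} [Group Q] [Finite Q] [Group.IsNilpotent Q]
    {U : Subgroup Q} (h : U ⊔ commutator Q = ⊤) : U = ⊤ := by
  refine frattini_nongenerating (top_le_iff.mp ?_)
  rw [← h]
  exact sup_le_sup_left CfsgLib.Solvable.FrattiniFitting.commutator_le_frattini _

/-- Coherence of `S(A)` when `K / A` is abelian. -/
theorem isCoherent_abelian_quotient (hsolv : Group.IsSolvable K)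
    (hS : Cfsg.IsCoherenceSystem (Cfsg.inducedIrrAbove K ⊥) τ R) (A : Subgroup L) [A.Normal]
    (hAK : A < K) (hcomm : ⁅K, K⁆ ≤ A) :
    Cfsg.IsCoherent (Cfsg.inducedIrrAbove K A) {1}ᶜ τ := by
  cases nonempty_fintype K
  obtain ⟨l, hl⟩ := exists_mem K hsolv A hAK
  have hsub := subset_bot (K := K) A
  have hz : Cfsg.zspanOn (Cfsg.inducedIrrAbove K A) {1}ᶜ ⊆
      Cfsg.zspanOn (Cfsg.inducedIrrAbove K ⊥) {1}ᶜ := fun α hα =>
    mem_zspanOn_one.mpr ⟨Submodule.span_mono hsub (mem_zspanOn_one.mp hα).1,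
      (mem_zspanOn_one.mp hα).2⟩
  have hS' : Cfsg.IsCoherenceSystem (Cfsg.inducedIrrAbove K A) τ R :=
    { nonempty := ⟨_, hl⟩
      isCharacter := fun χ hχ => hS.isCharacter χ (hsub hχ)
      conj_mem := fun χ hχ => conj_mem_set hχ
      conj_ne := fun χ hχ => hS.conj_ne χ (hsub hχ)
      isometry := ⟨fun a ha b hb => hS.isometry.1 a (hz ha) b (hz hb),
        fun a ha n => hS.isometry.2.1 a (hz ha) n,
        fun a ha b hb => hS.isometry.2.2.1 a (hz ha) b (hz hb),
        fun a ha => hS.isometry.2.2.2 a (hz ha)⟩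
      map_one := fun α hα => hS.map_one α (hz hα)
      orthogonal := fun χ hχ φ hφ => hS.orthogonal χ (hsub hχ) φ (hsub hφ)
      orthonormal := fun χ hχ => hS.orthonormal χ (hsub hχ)
      virtual := fun χ hχ => hS.virtual χ (hsub hχ)
      sum_eq := fun χ hχ => hS.sum_eq χ (hsub hχ)
      disjoint := fun χ hχ φ hφ => hS.disjoint χ (hsub hχ) φ (hsub hφ) }
  have hval : ∀ φ ∈ Cfsg.inducedIrrAbove K A, φ 1 = (K.index : ℂ) := by
    rintro _ ⟨θ, hθ, -, hker, rfl⟩
    obtain ⟨d, hd, hd2⟩ := degree_sq_le (⊤ : Subgroup K) (A.subgroupOf K)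
      (fun x _ y => Subgroup.mem_subgroupOf.mpr
        (hcomm (Subgroup.commutator_mem_commutator x.2 y.2)))
      hθ fun b hb => hker b (Subgroup.mem_subgroupOf.mp hb)
    obtain ⟨d', hd0', hd'⟩ := IsIrrCharacter.apply_one_eq hθ
    have hdd : d = d' := by exact_mod_cast hd.symm.trans hd'
    rw [Subgroup.index_top] at hd2
    have h1 : d = 1 := by nlinarith
    rw [indFun_one, hd, h1, Nat.cast_one, mul_one]
  exact isCoherent_of_degree_eq hS' fun φ hφ ψ hψ => (hval φ hφ).trans (hval ψ hψ).symm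

omit [Fintype L] in
/-- In a Frobenius quotient `L / A` the index of `K` divides `[B : A] - 1`. -/
theorem index_dvd_relIndex_sub_one [Finite L] (A B : Subgroup L) [A.Normal] [B.Normal]
    (hAB : A ≤ B) (hBK : B ≤ K) (hcomm : ⁅K, K⁆ ≤ A)
    (hfrob : ∀ k ∈ K, k ∉ A → ∀ x : L, x * k * x⁻¹ * k⁻¹ ∈ A → x ∈ K) :
    K.index ∣ A.relIndex B - 1 := by
  classical
  set π := QuotientGroup.mk' A
  have hπ : Function.Surjective π := QuotientGroup.mk'_surjective A
  cases nonempty_fintype (L ⧸ A)
  set B₁ := B.map π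
  haveI : B₁.Normal := Subgroup.Normal.map ‹B.Normal› π hπ
  set X := Finset.univ.filter fun b : L ⧸ A => b ∈ B₁ ∧ b ≠ 1
  have hcard : X.card = A.relIndex B - 1 := by
    have h1 : X = (Finset.univ.filter fun b : L ⧸ A => b ∈ B₁).erase 1 := by
      ext b; simp [X, and_comm]
    rw [h1, Finset.card_erase_of_mem (by simp), ← Fintype.card_subtype,
      ← Nat.card_eq_fintype_card]
    congr 1
    have h2 := Subgroup.relIndex_ker B π
    rw [QuotientGroup.ker_mk'] at h2
    exact h2.symm
  rw [← hcard, Finset.card_eq_sum_card_image ConjClasses.mk X]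
  refine Finset.dvd_sum fun c hc => ?_
  obtain ⟨b, hb, rfl⟩ := Finset.mem_image.mp hc
  obtain ⟨-, hbB, hb1⟩ := Finset.mem_filter.mp hb
  obtain ⟨k, hkB, rfl⟩ := hbB
  refine dvd_of_eq ?_
  have hkA : k ∉ A := fun h => hb1 ((QuotientGroup.eq_one_iff k).mpr h)
  have hfib : X.filter (fun y => ConjClasses.mk y = ConjClasses.mk (π k)) =
      (MulAction.orbit (ConjAct (L ⧸ A)) (π k)).toFinset := by
    ext y
    rw [Set.mem_toFinset, Finset.mem_filter, ConjAct.mem_orbit_conjAct,
      ← ConjClasses.mk_eq_mk_iff_isConj]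
    refine ⟨fun h => h.2, fun h => ⟨?_, h⟩⟩
    obtain ⟨g, hg⟩ := isConj_iff.mp (ConjClasses.mk_eq_mk_iff_isConj.mp h.symm)
    refine Finset.mem_filter.mpr ⟨Finset.mem_univ _, ?_, ?_⟩
    · rw [← hg]
      exact Subgroup.Normal.conj_mem ‹B₁.Normal› _ ⟨k, hkB, rfl⟩ g
    · rw [← hg]
      simpa using hb1
  rw [hfib, ← Set.ncard_eq_toFinset_card', ← MulAction.index_stabilizer]
  rw [← Subgroup.index_comap_of_surjective (f := ((ConjAct.toConjAct : (L ⧸ A) ≃* _).toMonoidHom))
    (H := MulAction.stabilizer (ConjAct (L ⧸ A)) (π k)) (MulEquiv.surjective _),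
    ← Subgroup.index_comap_of_surjective (f := π) _ hπ]
  congr 1
  ext x
  simp only [Subgroup.mem_comap, MulAction.mem_stabilizer_iff, MulEquiv.coe_toMonoidHom,
    ConjAct.toConjAct_smul]
  rw [← map_inv, ← map_mul, ← map_mul, ← mul_inv_eq_one, ← map_inv, ← map_mul,
    QuotientGroup.mk'_apply, QuotientGroup.eq_one_iff]
  exact ⟨fun hx => hcomm (Subgroup.commutator_mem_commutator hx (hBK hkB)),
    hfrob k (hBK hkB) hkA x⟩

/-- Sibley's criterion: `S(M)` is coherent unless `K / M` is a small `p`-group with chief top. -/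
theorem isCoherent_unless_chief (hsolv : Group.IsSolvable K)
    (hS : Cfsg.IsCoherenceSystem (Cfsg.inducedIrrAbove K ⊥) τ R) (hodd : Odd (Nat.card L))
    (M : Subgroup L) [M.Normal] (hMK : M ≤ K) [(M.subgroupOf K).Normal]
    (hnil : Group.IsNilpotent (↥K ⧸ M.subgroupOf K)) (H₁ : Subgroup L)
    (hH₁ : H₁ = ⁅K, K⁆ ⊔ M) (hH₁K : H₁ < K) (hKL : K < ⊤)
    (hfrob : ∀ k ∈ K, k ∉ H₁ → ∀ x : L, x * k * x⁻¹ * k⁻¹ ∈ H₁ → x ∈ K)
    (hgood : (∃ N : Subgroup L, N.Normal ∧ H₁ < N ∧ N < K) ∨
      4 * K.index ^ 2 + 1 < H₁.relIndex K ∨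
      (¬ ∃ p m : ℕ, p.Prime ∧ M.relIndex K = p ^ m) ∨ ⁅K, K⁆ ≤ M ∨
      (∃ p m : ℕ, p.Prime ∧ M.relIndex K = p ^ m ∧ K.index ∣ p - 1)) :
    Cfsg.IsCoherent (Cfsg.inducedIrrAbove K M) {1}ᶜ τ := by
  classical
  haveI : H₁.Normal := by subst hH₁; infer_instance
  have hMH₁ : M ≤ H₁ := hH₁ ▸ le_sup_right
  have hcomm : ⁅K, K⁆ ≤ H₁ := hH₁ ▸ le_sup_left
  have hbase := isCoherent_abelian_quotient K hsolv hS H₁ hH₁K hcomm
  set e := K.index with he
  have he3 : 3 ≤ e := by
    have h1 : e ≠ 1 := fun h => hKL.ne (Subgroup.index_eq_one.mp h)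
    have h2 : Odd e := Odd.of_dvd_nat hodd K.index_dvd_card
    obtain ⟨t, ht⟩ := h2
    omega
  have heodd : Odd e := Odd.of_dvd_nat hodd K.index_dvd_card
  have hrel_odd : ∀ A B : Subgroup L, Odd (A.relIndex B) := fun A B =>
    Odd.of_dvd_nat hodd
      ((Subgroup.relIndex_dvd_card A B).trans B.card_subgroup_dvd_card)
  have hge : ∀ n : ℕ, Odd n → 1 < n → e ∣ n - 1 → 2 * e + 1 ≤ n := by
    intro n hn h1 hdvd
    have h2 : 2 ∣ n - 1 := by obtain ⟨t, rfl⟩ := hn; omega
    have h3 : 2 * e ∣ n - 1 :=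
      Nat.Coprime.mul_dvd_of_dvd_of_dvd ((Nat.coprime_two_left).mpr heodd) h2 hdvd
    have := Nat.le_of_dvd (by omega) h3
    omega
  have big : 4 * e ^ 2 + 1 < H₁.relIndex K →
      Cfsg.IsCoherent (Cfsg.inducedIrrAbove K M) {1}ᶜ τ := fun h =>
    isCoherent_of_nilpotent K hsolv hS M H₁ K hMH₁ hH₁K.le le_rfl hnil hbase h
  have inter : ∀ N : Subgroup L, N.Normal → H₁ < N → N < K →
      Cfsg.IsCoherent (Cfsg.inducedIrrAbove K M) {1}ᶜ τ := by
    intro N hN h1 h2
    haveI := hN
    have a1 := index_dvd_relIndex_sub_one K H₁ N h1.le h2.le hcomm hfrob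
    have m1 := index_dvd_relIndex_sub_one K H₁ K hH₁K.le le_rfl hcomm hfrob
    have hmul : H₁.relIndex N * N.relIndex K = H₁.relIndex K :=
      Subgroup.relIndex_mul_relIndex H₁ N K h1.le h2.le
    have ha0 : 1 < H₁.relIndex N := by
      rcases Nat.lt_trichotomy (H₁.relIndex N) 1 with h | h | h
      · exact absurd (Nat.lt_one_iff.mp h) relIndex_ne_zero'
      · exact absurd (Subgroup.relIndex_eq_one.mp h) h1.not_ge
      · exact h
    have hb0 : 1 < N.relIndex K := by
      rcases Nat.lt_trichotomy (N.relIndex K) 1 with h | h | h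
      · exact absurd (Nat.lt_one_iff.mp h) relIndex_ne_zero'
      · exact absurd (Subgroup.relIndex_eq_one.mp h) h2.not_ge
      · exact h
    have b1 : e ∣ N.relIndex K - 1 := by
      have h3 : H₁.relIndex K - 1 =
          (H₁.relIndex N - 1) * N.relIndex K + (N.relIndex K - 1) := by
        rw [← hmul, Nat.sub_mul]
        have : N.relIndex K ≤ H₁.relIndex N * N.relIndex K := Nat.le_mul_of_pos_left _ (by omega)
        omega
      exact (Nat.dvd_add_right (dvd_mul_of_dvd_left a1 _)).mp (h3 ▸ m1)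
    refine big ?_
    rw [← hmul]
    have := Nat.mul_le_mul (hge _ (hrel_odd _ _) ha0 a1) (hge _ (hrel_odd _ _) hb0 b1)
    nlinarith
  -- the image of `K` modulo `M`
  set π := QuotientGroup.mk' M
  have hπ : Function.Surjective π := QuotientGroup.mk'_surjective M
  set K₁ := K.map π with hK₁
  haveI hK₁n : K₁.Normal := Subgroup.Normal.map hK π hπ
  haveI hK₁nil : Group.IsNilpotent K₁ := by
    let f : ↥K ⧸ M.subgroupOf K →* K₁ := QuotientGroup.lift (M.subgroupOf K) (π.subgroupMap K)
      fun x hx => Subtype.ext ((QuotientGroup.eq_one_iff _).mpr (Subgroup.mem_subgroupOf.mp hx))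
    exact Group.nilpotent_of_surjective f fun y => by
      obtain ⟨x, hx⟩ := π.subgroupMap_surjective K y
      exact ⟨QuotientGroup.mk x, hx⟩
  have hcardK₁ : Nat.card K₁ = M.relIndex K := by
    have h := Subgroup.relIndex_ker K π
    rw [QuotientGroup.ker_mk'] at h
    exact h.symm
  have hC : (commutator K₁).map K₁.subtype = ⁅K, K⁆.map π := by
    rw [Subgroup.map_subtype_commutator, Subgroup.map_commutator]
  have hcomapH : (⁅K, K⁆.map π).comap π = H₁ := by
    rw [Subgroup.comap_map_eq, QuotientGroup.ker_mk', hH₁]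
  have abel : ⁅K, K⁆ ≤ M → Cfsg.IsCoherent (Cfsg.inducedIrrAbove K M) {1}ᶜ τ := fun h => by
    have : H₁ = M := by rw [hH₁, sup_eq_right.mpr h]
    exact this ▸ hbase
  rcases hgood with ⟨N, hN, h1, h2⟩ | h | h | h | ⟨p, j, hp, hpj, hpe⟩
  · exact inter N hN h1 h2
  · exact big h
  · -- two primes divide `[K : M]`
    rw [← hcardK₁] at h
    have h1 : Nat.card K₁ ≠ 1 := fun hc => h ⟨2, 0, Nat.prime_two, by simpa using hc⟩
    set p := (Nat.card K₁).minFac
    haveI : Fact p.Prime := ⟨Nat.minFac_prime h1⟩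
    let P : Sylow p K₁ := default
    haveI hPn : (P : Subgroup K₁).Normal :=
      ((Group.isNilpotent_of_finite_tfae (G := K₁)).out 0 3 rfl rfl).mp hK₁nil p inferInstance P
    have hPtop : (P : Subgroup K₁) ≠ ⊤ := fun hc => by
      obtain ⟨i, hi⟩ := IsPGroup.iff_card.mp P.2
      exact h ⟨p, i, Nat.minFac_prime h1, by rw [← hi, hc, Subgroup.card_top]⟩
    have hPbot : (P : Subgroup K₁) ≠ ⊥ :=
      Sylow.ne_bot_of_dvd_card P (Nat.minFac_dvd _)
    obtain ⟨U, hU⟩ := Subgroup.exists_right_complement'_of_coprime (N := (P : Subgroup K₁))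
      P.card_coprime_index
    have hUtop : U ≠ ⊤ := fun hc => hPbot (by
      have := hU.disjoint
      rwa [hc, disjoint_top] at this)
    set N₁ := ((P : Subgroup K₁) ⊔ commutator K₁).map K₁.subtype with hN₁
    haveI : (P : Subgroup K₁).Characteristic := Sylow.characteristic_of_normal P hPn
    haveI : N₁.Normal := by
      rw [hN₁, Subgroup.map_sup]
      infer_instance
    refine inter (N₁.comap π) inferInstance ?_ ?_
    · rw [← hcomapH, Subgroup.comap_lt_comap_of_surjective hπ, hN₁, ← hC]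
      refine (Subgroup.map_lt_map_iff_of_injective K₁.subtype_injective).mpr ?_
      refine lt_of_le_of_ne le_sup_right fun hc => hUtop (eq_top_of_sup_commutator ?_)
      rw [eq_top_iff, ← hU.sup_eq_top]
      exact sup_le ((hc ▸ le_sup_left).trans le_sup_right) le_sup_left
    · have h2 : N₁ < K₁ := by
        refine lt_of_le_of_ne (hN₁ ▸ Subgroup.map_subtype_le _) fun hc => hPtop
          (eq_top_of_sup_commutator (Subgroup.map_injective K₁.subtype_injective ?_))
        rw [← hN₁, hc, ← MonoidHom.range_eq_map, Subgroup.range_subtype]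
      calc N₁.comap π < K₁.comap π := (Subgroup.comap_lt_comap_of_surjective hπ).mpr h2
        _ = K := by
          rw [hK₁, Subgroup.comap_map_eq, QuotientGroup.ker_mk', sup_eq_left.mpr hMK]
  · exact abel h
  · have hdvd : H₁.relIndex K ∣ p ^ j :=
      hpj ▸ Subgroup.relIndex_dvd_of_le_left K hMH₁
    obtain ⟨i, -, hi⟩ := (Nat.dvd_prime_pow hp).mp hdvd
    rcases Nat.lt_trichotomy i 1 with h | h | h
    · rw [Nat.lt_one_iff.mp h, pow_zero] at hi
      exact absurd (Subgroup.relIndex_eq_one.mp hi) hH₁K.not_ge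
    · subst h
      rw [pow_one] at hi
      haveI : Fact p.Prime := ⟨hp⟩
      -- the abelianisation of `K / M` is cyclic
      have hidx : (commutator K₁).index = p := by
        have e1 := Subgroup.relIndex_comap (⁅K, K⁆.map π) π K
        rw [hcomapH, hi, ← hK₁, ← hC] at e1
        rw [e1]
        show (commutator K₁).index =
          (((commutator K₁).map K₁.subtype).subgroupOf K₁).index
        congr 1
        exact (Subgroup.comap_map_eq_self_of_injective K₁.subtype_injective _).symm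
      obtain ⟨x, hx⟩ : ∃ x : K₁, x ∉ commutator K₁ := by
        by_contra hc
        push Not at hc
        rw [(Subgroup.eq_top_iff' _).mpr hc, Subgroup.index_top] at hidx
        exact hp.one_lt.ne hidx
      have htop : Subgroup.zpowers x = ⊤ := by
        refine eq_top_of_sup_commutator ?_
        have h1 : commutator K₁ ≤ Subgroup.zpowers x ⊔ commutator K₁ := le_sup_right
        rcases (Nat.dvd_prime hp).mp (hidx ▸ Subgroup.index_dvd_of_le h1) with h2 | h2
        · exact Subgroup.index_eq_one.mp h2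
        · have h3 := Subgroup.relIndex_mul_index h1
          rw [hidx, h2] at h3
          have h4 : (commutator K₁).relIndex (Subgroup.zpowers x ⊔ commutator K₁) = 1 :=
            mul_right_cancel₀ hp.ne_zero (h3.trans (one_mul p).symm)
          exact absurd ((Subgroup.relIndex_eq_one.mp h4) (Subgroup.mem_sup_left
            (Subgroup.mem_zpowers x))) hx
      refine abel ?_
      have hbot : commutator K₁ = ⊥ := by
        rw [commutator_def, Subgroup.commutator_eq_bot_iff_le_centralizer]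
        intro a _ b _
        obtain ⟨u, hu⟩ := (Subgroup.eq_top_iff' _).mp htop a
        obtain ⟨v, hv⟩ := (Subgroup.eq_top_iff' _).mp htop b
        rw [← hu, ← hv]
        exact ((Commute.refl x).zpow_zpow v u).eq
      rw [hbot, Subgroup.map_bot] at hC
      rw [← QuotientGroup.ker_mk' M]
      exact (Subgroup.map_eq_bot_iff _).mp hC.symm
    · refine big ?_
      have hp0 := hp.two_le
      have hpodd : Odd p :=
        Odd.of_dvd_nat (hi ▸ hrel_odd H₁ K) (dvd_pow_self p (by omega))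
      have h2 := hge p hpodd (by omega) hpe
      have h3 : p ^ 2 ≤ p ^ i := Nat.pow_le_pow_right (by omega) h
      rw [hi]
      nlinarith

end CfsgLib.Char.CoherenceKernel
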