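import Cfsg.Agent.Lib.Char.CoherenceIrr
import Cfsg.Agent.Lib.Char.Clifford
import Cfsg.Agent.Lib.Char.ClassSum
import Cfsg.Agent.Lib.Char.Constituent
import Cfsg.Agent.Lib.Char.Quotient

/-!
# Growing coherent sets of irreducible characters along the degrees
-/

set_option autoImplicit false

open scoped ComplexConjugate

namespace CfsgLib.Char.Coherence

variable {L : Type*} [Group L] [Fintype L] {G : Type*} [Group G] [Fintype G]

/-- The degree of a function, read as a natural number. -/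
noncomputable def natDeg {X : Type*} [One X] (f : X → ℂ) : ℕ := ⌊(f 1).re⌋₊

theorem natDeg_spec {X : Type*} [Group X] [Finite X] {f : X → ℂ} (hf : Cfsg.IsIrrCharacter X f) :
    f 1 = (natDeg f : ℂ) := by
  obtain ⟨d, -, hd⟩ := IsIrrCharacter.apply_one_eq hf
  rw [natDeg, hd, Complex.natCast_re, Nat.floor_natCast]

theorem natDeg_pos {X : Type*} [Group X] [Finite X] {f : X → ℂ} (hf : Cfsg.IsIrrCharacter X f) :
    0 < natDeg f := by
  obtain ⟨d, hd0, hd⟩ := IsIrrCharacter.apply_one_eq hf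
  rwa [natDeg, hd, Complex.natCast_re, Nat.floor_natCast]

theorem natDeg_indFun (K : Subgroup L) {θ : K → ℂ} (hθ : Cfsg.IsIrrCharacter K θ) :
    natDeg (Cfsg.indFun K θ) = K.index * natDeg θ := by
  conv_lhs => rw [natDeg, indFun_one, natDeg_spec hθ, ← Nat.cast_mul, Complex.natCast_re,
    Nat.floor_natCast]

omit [Fintype G] in
theorem isometry_mono [Fintype G] {S T : Set (L → ℂ)} (h : T ⊆ S) {τ : (L → ℂ) → (G → ℂ)}
    (hτ : Cfsg.IsLinearIsometryOn (Cfsg.zspanOn S {1}ᶜ) τ) :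
    Cfsg.IsLinearIsometryOn (Cfsg.zspanOn T {1}ᶜ) τ := by
  have hz : ∀ α ∈ Cfsg.zspanOn T {1}ᶜ, α ∈ Cfsg.zspanOn S {1}ᶜ := fun α hα =>
    mem_zspanOn_one.mpr ⟨Submodule.span_mono h (mem_zspanOn_one.mp hα).1, (mem_zspanOn_one.mp hα).2⟩
  exact ⟨fun a ha b hb => hτ.1 a (hz a ha) b (hz b hb), fun a ha n => hτ.2.1 a (hz a ha) n,
    fun a ha b hb => hτ.2.2.1 a (hz a ha) b (hz b hb), fun a ha => hτ.2.2.2 a (hz a ha)⟩

omit [Fintype L] in
theorem zspanOn_mono [Fintype L] {S T : Set (L → ℂ)} (h : T ⊆ S) :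
    Cfsg.zspanOn T {1}ᶜ ⊆ Cfsg.zspanOn S {1}ᶜ := fun _ hα =>
  mem_zspanOn_one.mpr ⟨Submodule.span_mono h (mem_zspanOn_one.mp hα).1, (mem_zspanOn_one.mp hα).2⟩

theorem isCoherent_mono {S T : Set (L → ℂ)} (h : T ⊆ S) {τ : (L → ℂ) → (G → ℂ)}
    (hne : ∃ α ∈ Cfsg.zspanOn T {1}ᶜ, α ≠ 0) (hc : Cfsg.IsCoherent S {1}ᶜ τ) :
    Cfsg.IsCoherent T {1}ᶜ τ := by
  obtain ⟨-, τ₁, hτ₁, hag⟩ := hc
  have hspan : Submodule.span ℤ T ≤ Submodule.span ℤ S := Submodule.span_mono h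
  exact ⟨hne, τ₁, ⟨fun a ha b hb => hτ₁.1 a (hspan ha) b (hspan hb),
    fun a ha n => hτ₁.2.1 a (hspan ha) n, fun a ha b hb => hτ₁.2.2.1 a (hspan ha) b (hspan hb),
    fun a ha => hτ₁.2.2.2 a (hspan ha)⟩, fun α hα => hag α (zspanOn_mono h hα)⟩

/-- Two distinct irreducible characters of equal degree give a nonzero element of degree zero. -/
theorem exists_ne_zero_of_two {S : Set (L → ℂ)} {χ χ' : L → ℂ} (hχ : χ ∈ S) (hχ' : χ' ∈ S)
    (hne : χ ≠ χ') (hdeg : χ 1 = χ' 1) : ∃ α ∈ Cfsg.zspanOn S {1}ᶜ, α ≠ 0 :=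
  ⟨χ - χ', mem_zspanOn_one.mpr ⟨(Submodule.span ℤ S).sub_mem (Submodule.subset_span hχ)
    (Submodule.subset_span hχ'), by rw [Pi.sub_apply, hdeg, sub_self]⟩, sub_ne_zero.mpr hne⟩

/-- At least two irreducible characters of one degree form a coherent set. -/
theorem isCoherent_of_irr_degree_eq (F : Finset (L → ℂ))
    (hirr : ∀ χ ∈ F, Cfsg.IsIrrCharacter L χ) (hdeg : ∀ χ ∈ F, ∀ φ ∈ F, χ 1 = φ 1)
    (htwo : 1 < F.card) (τ : (L → ℂ) → (G → ℂ))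
    (hτ : Cfsg.IsLinearIsometryOn (Cfsg.zspanOn (↑F : Set (L → ℂ)) {1}ᶜ) τ)
    (hτ1 : ∀ α ∈ Cfsg.zspanOn (↑F : Set (L → ℂ)) {1}ᶜ, τ α 1 = 0) :
    Cfsg.IsCoherent (↑F : Set (L → ℂ)) {1}ᶜ τ := by
  classical
  obtain ⟨χ₀, h₀, χ₁, h₁, hne⟩ := Finset.one_lt_card.mp htwo
  have hiso : Cfsg.IsLinearIsometryOn
      ((onSub (↑F : Set (L → ℂ)) : Submodule ℤ (L → ℂ)) : Set (L → ℂ)) τ := hτ
  have hdiff : ∀ χ ∈ F, χ - χ₀ ∈ onSub (↑F : Set (L → ℂ)) := fun χ hχ => mem_zspanOn_one.mpr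
    ⟨(Submodule.span ℤ _).sub_mem (Submodule.subset_span (Finset.mem_coe.mpr hχ))
      (Submodule.subset_span (Finset.mem_coe.mpr h₀)),
      by rw [Pi.sub_apply, hdeg χ hχ χ₀ h₀, sub_self]⟩
  obtain ⟨ε, hε, μ, hμ, hinj, hτμ⟩ := exists_exceptional (⟨χ₀, h₀⟩ : F)
    (fun i : F => τ (i.1 - χ₀)) (by simp only [sub_self]; exact map_zero' hiso)
    (fun i => hiso.2.2.2 _ (hdiff _ i.2)) (fun i => hτ1 _ (hdiff _ i.2))
    (fun i j hi hj => by
      have hi' : i.1 ≠ χ₀ := fun h => hi (Subtype.ext h)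
      have hj' : j.1 ≠ χ₀ := fun h => hj (Subtype.ext h)
      have hval : Cfsg.classInner (τ (i.1 - χ₀)) (τ (j.1 - χ₀)) =
          (if i.1 = j.1 then 1 else 0) + 1 := by
        rw [hiso.2.2.1 _ (hdiff _ i.2) _ (hdiff _ j.2), classInner_sub_left, classInner_sub_right,
          classInner_sub_right, classInner_irr (hirr _ i.2) (hirr _ j.2),
          classInner_irr_ne (hirr _ i.2) (hirr _ h₀) hi',
          classInner_irr_ne (hirr _ h₀) (hirr _ j.2) hj'.symm, classInner_irr_self (hirr _ h₀)]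
        ring
      refine ⟨fun h => ?_, fun h => ?_⟩
      · rw [hval, if_pos (congrArg Subtype.val h)]; norm_num
      · rw [hval, if_neg fun e => h (Subtype.ext e)]; norm_num)
  refine isCoherent_of_images F (fun χ hχ φ hφ h => classInner_irr_ne (hirr χ hχ) (hirr φ hφ) h)
    (fun χ hχ h => IsIrrCharacter.apply_one_ne_zero (hirr χ hχ) (by rw [h]; rfl))
    (fun χ => if h : χ ∈ F then ε • μ ⟨χ, h⟩ else 0) (fun χ hχ => ?_) (fun χ hχ φ hφ => ?_)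
    (exists_ne_zero_of_two (Finset.mem_coe.mpr h₀) (Finset.mem_coe.mpr h₁) hne
      (hdeg _ h₀ _ h₁)) τ (fun a ha => ?_)
  · rw [dif_pos hχ]
    have hg := IsCharacter.isGeneralizedCharacter (IsIrrCharacter.isCharacter (hμ ⟨χ, hχ⟩))
    rcases hε with rfl | rfl
    · rwa [one_smul]
    · obtain ⟨p, q, hp, hq, hpq⟩ := hg
      exact ⟨q, p, hq, hp, by rw [hpq, neg_one_smul, neg_sub]⟩
  · rw [dif_pos hχ, dif_pos hφ, classInner_smul_left, classInner_smul_right,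
      classInner_irr (hμ _) (hμ _), classInner_irr (hirr χ hχ) (hirr φ hφ)]
    have e : (⟨χ, hχ⟩ : F) = ⟨φ, hφ⟩ ↔ χ = φ := Subtype.mk_eq_mk
    by_cases h : χ = φ
    · rw [if_pos h, if_pos (congrArg μ (e.mpr h))]
      rcases hε with rfl | rfl <;> simp
    · rw [if_neg h, if_neg fun hh => h (e.mp (hinj hh))]
      simp
  · -- the coefficients add up to zero
    have hsum : ∑ χ ∈ F, (a χ : ℂ) = 0 := by
      simp only [Finset.sum_apply, Pi.smul_apply, smul_eq_mul] at ha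
      rw [Finset.sum_congr rfl fun χ hχ => by rw [hdeg χ hχ χ₀ h₀], ← Finset.sum_mul] at ha
      exact (mul_eq_zero.mp ha).resolve_right (IsIrrCharacter.apply_one_ne_zero (hirr χ₀ h₀))
    have hre : ∀ f : (L → ℂ) → G → ℂ, ∑ χ ∈ F, (a χ : ℂ) • (f χ - f χ₀) =
        ∑ χ ∈ F, (a χ : ℂ) • f χ := fun f => by
      rw [Finset.sum_congr rfl fun χ _ => smul_sub _ _ _, Finset.sum_sub_distrib, ← Finset.sum_smul,
        hsum, zero_smul, sub_zero]
    have hre' : ∑ χ ∈ F, (a χ : ℂ) • (χ - χ₀) = ∑ χ ∈ F, (a χ : ℂ) • χ := by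
      rw [Finset.sum_congr rfl fun χ _ => smul_sub _ _ _, Finset.sum_sub_distrib, ← Finset.sum_smul,
        hsum, zero_smul, sub_zero]
    rw [← hre', map_sum' hiso _ _ fun χ hχ => by
        rw [Int.cast_smul_eq_zsmul]; exact (onSub _).smul_mem _ (hdiff χ hχ),
      Finset.sum_congr rfl fun χ hχ => map_intCast_smul hiso (hdiff χ hχ) (a χ),
      ← hre fun χ => if h : χ ∈ F then ε • μ ⟨χ, h⟩ else 0]
    refine Finset.sum_congr rfl fun χ hχ => ?_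
    rw [dif_pos hχ, dif_pos h₀, ← smul_sub]
    exact congrArg _ (hτμ ⟨χ, hχ⟩)

open scoped Classical in
/-- A coherent set grows along the degrees. -/
theorem isCoherent_grow (S S₀ : Finset (L → ℂ)) (h₀ : S₀ ⊆ S)
    (hirr : ∀ χ ∈ S, Cfsg.IsIrrCharacter L χ) (τ : (L → ℂ) → (G → ℂ))
    (hτ : Cfsg.IsLinearIsometryOn (Cfsg.zspanOn (↑S : Set (L → ℂ)) {1}ᶜ) τ)
    (hτ1 : ∀ α ∈ Cfsg.zspanOn (↑S : Set (L → ℂ)) {1}ᶜ, τ α 1 = 0)
    (hcoh : Cfsg.IsCoherent (↑S₀ : Set (L → ℂ)) {1}ᶜ τ) {ψ : L → ℂ} (hψ : ψ ∈ S₀)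
    (hdvd : ∀ χ ∈ S, natDeg ψ ∣ natDeg χ)
    (hlt : ∀ χ ∈ S, χ ∉ S₀ → 2 * natDeg ψ * natDeg χ <
      ∑ ξ ∈ S.filter (fun ξ => ξ ∈ S₀ ∨ natDeg ξ < natDeg χ), natDeg ξ ^ 2) :
    Cfsg.IsCoherent (↑S : Set (L → ℂ)) {1}ᶜ τ := by
  suffices key : ∀ T : Finset (L → ℂ), T ⊆ S \ S₀ →
      (∀ χ ∈ S \ S₀, ∀ φ ∈ T, natDeg χ < natDeg φ → χ ∈ T) →
      Cfsg.IsCoherent (↑(S₀ ∪ T) : Set (L → ℂ)) {1}ᶜ τ by
    have := key (S \ S₀) subset_rfl fun χ hχ _ _ _ => hχ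
    rwa [Finset.union_sdiff_of_subset h₀] at this
  intro T
  refine Finset.induction_on_max_value natDeg T ?_ ?_
  · intro _ _
    rw [Finset.union_empty]; exact hcoh
  · intro χ T hχT hmax ih hT hclosed
    obtain ⟨hχ, hT'⟩ := Finset.insert_subset_iff.mp hT
    obtain ⟨hχS, hχ0⟩ := Finset.mem_sdiff.mp hχ
    have hT'S : S₀ ∪ T ⊆ S := Finset.union_subset h₀ fun x hx => (Finset.mem_sdiff.mp (hT' hx)).1
    have hsub : insert χ (↑(S₀ ∪ T) : Set (L → ℂ)) ⊆ (↑S : Set (L → ℂ)) :=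
      Set.insert_subset hχS (Finset.coe_subset.mpr hT'S)
    have hih := ih hT' fun φ hφ ξ hξ hlt' => by
      rcases Finset.mem_insert.mp (hclosed φ hφ ξ (Finset.mem_insert_of_mem hξ) hlt') with rfl | h
      · exact absurd hlt' (hmax ξ hξ).not_gt
      · exact h
    rw [Finset.union_insert, Finset.coe_insert]
    refine isCoherent_insert (S₀ ∪ T) (fun ξ hξ => hirr ξ (hT'S hξ)) (hirr χ hχS) ?_ natDeg
      (fun ξ hξ => natDeg_spec (hirr ξ (hsub hξ))) τ (isometry_mono hsub hτ)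
      (fun α hα => hτ1 α (zspanOn_mono hsub hα)) hih (Finset.mem_union_left _ hψ)
      (hdvd χ hχS) ((hlt χ hχS hχ0).trans_le (Finset.sum_le_sum_of_subset fun ξ hξ => ?_))
    · simp [hχ0, hχT]
    · obtain ⟨hξS, hξ⟩ := Finset.mem_filter.mp hξ
      by_cases hξ0 : ξ ∈ S₀
      · exact Finset.mem_union_left _ hξ0
      have hξlt := hξ.resolve_left hξ0
      rcases Finset.mem_insert.mp (hclosed ξ (Finset.mem_sdiff.mpr ⟨hξS, hξ0⟩) χ
          (Finset.mem_insert_self χ T) hξlt) with rfl | h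
      · exact absurd hξlt (lt_irrefl _)
      · exact Finset.mem_union_right _ h

section Induced

variable (K : Subgroup L) [hK : K.Normal]

open scoped Classical in
/-- The orbits behind irreducible induced characters have length equal to the index. -/
theorem card_fibre [Fintype K] {φ₀ : Cfsg.IrrCharacter K}
    (hirr : Cfsg.IsIrrCharacter L (Cfsg.indFun K (φ₀ : K → ℂ))) :
    (Finset.univ.filter fun φ : Cfsg.IrrCharacter K =>
      Cfsg.indFun K (φ : K → ℂ) = Cfsg.indFun K (φ₀ : K → ℂ)).card = K.index := by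
  set Φ := Finset.univ.filter fun φ : Cfsg.IrrCharacter K =>
    Cfsg.indFun K (φ : K → ℂ) = Cfsg.indFun K (φ₀ : K → ℂ)
  have hstab : Nat.card (stab (φ₀ : K → ℂ)) = Nat.card K := by
    have h := classInner_irr_self hirr
    rw [classInner_indFun_irr φ₀.2 φ₀.2, div_eq_iff (Nat.cast_ne_zero.mpr Nat.card_pos.ne'),
      one_mul] at h
    exact_mod_cast h
  have horb : ∀ φ ∈ Φ, ∃ g : L, conjG (φ₀ : K → ℂ) g = (φ : K → ℂ) := by
    intro φ hφ
    by_contra hc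
    push Not at hc
    have h0 := classInner_indFun_eq_zero φ.2 φ₀.2 fun g hg => hc g hg.symm
    rw [(Finset.mem_filter.mp hφ).2, classInner_irr_self hirr] at h0
    exact one_ne_zero h0
  have hcard : Φ.card * Nat.card K = Nat.card L := by
    calc Φ.card * Nat.card K
        = ∑ φ ∈ Φ, (Finset.univ.filter fun g : L => conjG (φ₀ : K → ℂ) g = (φ : K → ℂ)).card := by
          rw [Finset.sum_congr rfl fun (φ : Cfsg.IrrCharacter K) (hφ : φ ∈ Φ) => show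
              (Finset.univ.filter fun g : L => conjG (φ₀ : K → ℂ) g = (φ : K → ℂ)).card =
                Nat.card K by
              obtain ⟨g, hg⟩ := horb φ hφ
              rw [← hstab, ← card_filter_conjG_eq (φ₀ : K → ℂ) g]
              congr 1
              ext x; simp [hg],
            Finset.sum_const, smul_eq_mul]
      _ = Nat.card L := by
          rw [← Finset.card_biUnion, Nat.card_eq_fintype_card, ← Finset.card_univ]
          · congr 1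
            refine Finset.eq_univ_of_forall fun g => Finset.mem_biUnion.mpr
              ⟨⟨_, IsIrrCharacter.conjG φ₀.2 g⟩, Finset.mem_filter.mpr ⟨Finset.mem_univ _, ?_⟩, by simp⟩
            exact indFun_conjG _ _
          · intro φ _ ψ _ hne
            simp only [Function.onFun, Finset.disjoint_filter]
            exact fun g _ h1 h2 => hne (Subtype.ext (h1.symm.trans h2))
  rw [← K.card_mul_index, mul_comm] at hcard
  exact Nat.eq_of_mul_eq_mul_left Nat.card_pos hcard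

open scoped Classical in
/-- Summing over characters of `K` and over their induced characters. -/
theorem sum_indFun [Fintype K] (Θ : Finset (Cfsg.IrrCharacter K))
    (hirr : ∀ φ ∈ Θ, Cfsg.IsIrrCharacter L (Cfsg.indFun K (φ : K → ℂ)))
    (hst : ∀ φ ∈ Θ, ∀ ψ : Cfsg.IrrCharacter K,
      Cfsg.indFun K (ψ : K → ℂ) = Cfsg.indFun K (φ : K → ℂ) → ψ ∈ Θ) (g : (L → ℂ) → ℕ) :
    ∑ φ ∈ Θ, g (Cfsg.indFun K (φ : K → ℂ)) =
      K.index * ∑ η ∈ Θ.image (fun φ : Cfsg.IrrCharacter K => Cfsg.indFun K (φ : K → ℂ)), g η := by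
  rw [← Finset.sum_fiberwise_of_maps_to
      (g := fun φ : Cfsg.IrrCharacter K => Cfsg.indFun K (φ : K → ℂ))
      fun φ hφ => Finset.mem_image_of_mem (fun φ : Cfsg.IrrCharacter K => Cfsg.indFun K (φ : K → ℂ)) hφ,
    Finset.mul_sum]
  refine Finset.sum_congr rfl fun η hη => ?_
  obtain ⟨φ₀, hφ₀, rfl⟩ := Finset.mem_image.mp hη
  rw [Finset.sum_congr rfl fun φ hφ => by rw [(Finset.mem_filter.mp hφ).2], Finset.sum_const,
    smul_eq_mul]
  congr 1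
  rw [← card_fibre K (hirr φ₀ hφ₀)]
  congr 1
  ext φ
  simp only [Finset.mem_filter, Finset.mem_univ, true_and]
  exact ⟨fun h => h.2, fun h => ⟨hst φ₀ hφ₀ φ h, h⟩⟩

theorem natDeg_eq_of_indFun_eq {φ ψ : Cfsg.IrrCharacter K}
    (h : Cfsg.indFun K (φ : K → ℂ) = Cfsg.indFun K (ψ : K → ℂ)) :
    natDeg (φ : K → ℂ) = natDeg (ψ : K → ℂ) := by
  have := congrArg natDeg h
  rw [natDeg_indFun K φ.2, natDeg_indFun K ψ.2] at this
  exact Nat.eq_of_mul_eq_mul_left (Nat.pos_of_ne_zero K.index_ne_zero_of_finite) this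

open scoped Classical in
/-- Growing a coherent set of induced characters along the degrees of `K`. -/
theorem isCoherent_grow_ind [Fintype K] (Θ Θ₀ : Finset (Cfsg.IrrCharacter K)) (h₀ : Θ₀ ⊆ Θ)
    (hirr : ∀ φ ∈ Θ, Cfsg.IsIrrCharacter L (Cfsg.indFun K (φ : K → ℂ)))
    (hst : ∀ φ ∈ Θ, ∀ ψ : Cfsg.IrrCharacter K,
      Cfsg.indFun K (ψ : K → ℂ) = Cfsg.indFun K (φ : K → ℂ) → ψ ∈ Θ)
    (hst₀ : ∀ φ ∈ Θ₀, ∀ ψ : Cfsg.IrrCharacter K,
      Cfsg.indFun K (ψ : K → ℂ) = Cfsg.indFun K (φ : K → ℂ) → ψ ∈ Θ₀)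
    {S : Set (L → ℂ)} (hS : ∀ η, η ∈ S ↔ ∃ φ ∈ Θ, Cfsg.indFun K (φ : K → ℂ) = η)
    (τ : (L → ℂ) → (G → ℂ)) (hτ : Cfsg.IsLinearIsometryOn (Cfsg.zspanOn S {1}ᶜ) τ)
    (hτ1 : ∀ α ∈ Cfsg.zspanOn S {1}ᶜ, τ α 1 = 0)
    (hcoh : Cfsg.IsCoherent
      ((fun φ : Cfsg.IrrCharacter K => Cfsg.indFun K (φ : K → ℂ)) '' (↑Θ₀ : Set _)) {1}ᶜ τ)
    {φ₁ : Cfsg.IrrCharacter K} (hφ₁ : φ₁ ∈ Θ₀)
    (hdvd : ∀ φ ∈ Θ, natDeg (φ₁ : K → ℂ) ∣ natDeg (φ : K → ℂ))
    (hlt : ∀ φ ∈ Θ, φ ∉ Θ₀ → 2 * K.index * natDeg (φ₁ : K → ℂ) * natDeg (φ : K → ℂ) <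
      ∑ ψ ∈ Θ.filter (fun ψ => ψ ∈ Θ₀ ∨ natDeg (ψ : K → ℂ) < natDeg (φ : K → ℂ)),
        natDeg (ψ : K → ℂ) ^ 2) :
    Cfsg.IsCoherent S {1}ᶜ τ := by
  set F := fun φ : Cfsg.IrrCharacter K => Cfsg.indFun K (φ : K → ℂ) with hF
  set e := K.index
  have he : 0 < e := Nat.pos_of_ne_zero K.index_ne_zero_of_finite
  have hS' : S = ↑(Θ.image F) := by ext η; simp [hS, hF]
  subst hS'
  refine isCoherent_grow (Θ.image F) (Θ₀.image F) (Finset.image_subset_image h₀) ?_ τ hτ hτ1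
    (by rw [Finset.coe_image]; exact hcoh) (Finset.mem_image_of_mem F hφ₁) ?_ ?_
  · intro χ hχ
    obtain ⟨φ, hφ, rfl⟩ := Finset.mem_image.mp hχ
    exact hirr φ hφ
  · intro χ hχ
    obtain ⟨φ, hφ, rfl⟩ := Finset.mem_image.mp hχ
    simp only [hF, natDeg_indFun K φ.2, natDeg_indFun K φ₁.2]
    exact Nat.mul_dvd_mul_left _ (hdvd φ hφ)
  · intro χ hχ hχ₀
    obtain ⟨φ, hφ, rfl⟩ := Finset.mem_image.mp hχ
    have hφ₀ : φ ∉ Θ₀ := fun h => hχ₀ (Finset.mem_image_of_mem F h)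
    set Q := Θ.filter fun ψ => ψ ∈ Θ₀ ∨ natDeg (ψ : K → ℂ) < natDeg (φ : K → ℂ) with hQ
    have hiff : ∀ ψ : Cfsg.IrrCharacter K, ψ ∈ Θ →
        ((F ψ ∈ Θ₀.image F ∨ natDeg (F ψ) < natDeg (F φ)) ↔
          (ψ ∈ Θ₀ ∨ natDeg (ψ : K → ℂ) < natDeg (φ : K → ℂ))) := by
      intro ψ _
      refine or_congr ⟨fun h => ?_, fun h => Finset.mem_image_of_mem F h⟩ ?_
      · obtain ⟨χ, hχ', hχe⟩ := Finset.mem_image.mp h
        exact hst₀ χ hχ' ψ hχe.symm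
      · simp only [hF, natDeg_indFun K ψ.2, natDeg_indFun K φ.2]
        exact Nat.mul_lt_mul_left he
    rw [Finset.filter_image, Finset.filter_congr hiff, ← hQ]
    have hQst : ∀ φ' ∈ Q, ∀ ψ : Cfsg.IrrCharacter K,
        Cfsg.indFun K (ψ : K → ℂ) = Cfsg.indFun K (φ' : K → ℂ) → ψ ∈ Q := by
      intro φ' hφ' ψ hψ
      rw [hQ, Finset.mem_filter] at hφ' ⊢
      refine ⟨hst φ' hφ'.1 ψ hψ, hφ'.2.imp (fun h => hst₀ φ' h ψ hψ) fun h => ?_⟩
      rwa [natDeg_eq_of_indFun_eq K hψ]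
    have hsum := sum_indFun K Q (fun φ' h => hirr φ' (Finset.mem_filter.mp h).1) hQst
      fun η => natDeg η ^ 2
    simp only [natDeg_indFun K (Subtype.prop _), mul_pow, ← Finset.mul_sum] at hsum
    rw [sq e, mul_assoc] at hsum
    have h2 := Nat.eq_of_mul_eq_mul_left he hsum
    have h3 := hlt φ hφ hφ₀
    simp only [hF, natDeg_indFun K φ.2, natDeg_indFun K φ₁.2]
    rw [← h2]
    calc 2 * (e * natDeg (φ₁ : K → ℂ)) * (e * natDeg (φ : K → ℂ))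
        = e * (2 * e * natDeg (φ₁ : K → ℂ) * natDeg (φ : K → ℂ)) := by ring
      _ < e * _ := Nat.mul_lt_mul_of_pos_left h3 he

end Induced

end CfsgLib.Char.Coherence
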