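import Cfsg.Agent.Lib.Char.Coherence
import Cfsg.Agent.Lib.CharDeep.GenChar

/-!
# Coherence for sets of irreducible characters
-/

set_option autoImplicit false

open scoped ComplexConjugate

namespace CfsgLib.Char.Coherence

variable {L : Type*} [Group L] [Fintype L] {G : Type*} [Group G] [Fintype G]

/-- A virtual character of norm one does not vanish at `1`. -/
theorem apply_one_ne_zero_of_norm_one {θ : G → ℂ} (hθ : Cfsg.IsGeneralizedCharacter G θ)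
    (h : Cfsg.classInner θ θ = 1) : θ 1 ≠ 0 := by
  obtain ⟨z, φ, hz, rfl⟩ := CharDeep.GenChar.exists_sign_irr hθ h
  have := IsIrrCharacter.apply_one_ne_zero φ.2
  rcases hz with rfl | rfl <;> simpa using this

/-- Two virtual characters of norm one with nonzero inner product agree up to sign. -/
theorem eq_smul_of_norm_one {θ η : G → ℂ} (hθ : Cfsg.IsGeneralizedCharacter G θ)
    (h : Cfsg.classInner θ θ = 1) (hη : Cfsg.IsGeneralizedCharacter G η)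
    (h' : Cfsg.classInner η η = 1) (hne : Cfsg.classInner θ η ≠ 0) :
    ∃ ε : ℤ, (ε = 1 ∨ ε = -1) ∧ η = (ε : ℂ) • θ := by
  obtain ⟨z, φ, hz, rfl⟩ := CharDeep.GenChar.exists_sign_irr hθ h
  obtain ⟨w, ψ, hw, rfl⟩ := CharDeep.GenChar.exists_sign_irr hη h'
  have he : (φ : G → ℂ) = (ψ : G → ℂ) := by
    by_contra hc
    exact hne (by rw [classInner_smul_left, classInner_smul_right,
      classInner_irr_ne φ.2 ψ.2 hc, mul_zero, mul_zero])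
  refine ⟨w * z, ?_, ?_⟩
  · rcases hz with rfl | rfl <;> rcases hw with rfl | rfl <;> simp
  · rw [he, smul_smul, ← Int.cast_mul, show w * z * z = w by
      rcases hz with rfl | rfl <;> ring]

/-- Feit's criterion: adjoining one irreducible character to a coherent set. -/
theorem isCoherent_insert (S₀ : Finset (L → ℂ)) {χ : L → ℂ}
    (hirr : ∀ ξ ∈ S₀, Cfsg.IsIrrCharacter L ξ) (hχ : Cfsg.IsIrrCharacter L χ) (hχS : χ ∉ S₀)
    (d : (L → ℂ) → ℕ) (hd : ∀ ξ ∈ insert χ (↑S₀ : Set (L → ℂ)), ξ 1 = (d ξ : ℂ))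
    (τ : (L → ℂ) → (G → ℂ))
    (hτ : Cfsg.IsLinearIsometryOn (Cfsg.zspanOn (insert χ (↑S₀ : Set (L → ℂ))) {1}ᶜ) τ)
    (hτ1 : ∀ α ∈ Cfsg.zspanOn (insert χ (↑S₀ : Set (L → ℂ))) {1}ᶜ, τ α 1 = 0)
    (hcoh : Cfsg.IsCoherent (↑S₀ : Set (L → ℂ)) {1}ᶜ τ) {ψ : L → ℂ} (hψ : ψ ∈ S₀)
    (hdvd : d ψ ∣ d χ) (hlt : 2 * d ψ * d χ < ∑ ξ ∈ S₀, d ξ ^ 2) :
    Cfsg.IsCoherent (insert χ (↑S₀ : Set (L → ℂ))) {1}ᶜ τ := by
  classical
  set S : Set (L → ℂ) := insert χ (↑S₀ : Set (L → ℂ)) with hSdef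
  have hS₀S : (↑S₀ : Set (L → ℂ)) ⊆ S := Set.subset_insert _ _
  have hirrS : ∀ ξ ∈ S, Cfsg.IsIrrCharacter L ξ := fun ξ h => by
    rcases h with h | h
    · exact h.symm ▸ hχ
    · exact hirr ξ h
  obtain ⟨⟨α₀, hα₀, hα₀ne⟩, τ₁, hτ₁, hag⟩ := hcoh
  have hiso : Cfsg.IsLinearIsometryOn ((onSub S : Submodule ℤ (L → ℂ)) : Set (L → ℂ)) τ := hτ
  have hτ₁' : Cfsg.IsLinearIsometryOn
      ((Submodule.span ℤ (↑S₀ : Set (L → ℂ)) : Submodule ℤ (L → ℂ)) : Set (L → ℂ)) τ₁ := hτ₁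
  have hmem : ∀ ξ ∈ S₀, ξ ∈ Cfsg.zspan (↑S₀ : Set (L → ℂ)) := fun ξ h => Submodule.subset_span h
  have hsub : ∀ α ∈ Cfsg.zspanOn (↑S₀ : Set (L → ℂ)) {1}ᶜ, α ∈ onSub S := fun α h =>
    mem_zspanOn_one.mpr
      ⟨Submodule.span_mono hS₀S (mem_zspanOn_one.mp h).1, (mem_zspanOn_one.mp h).2⟩
  have hdpos : ∀ ξ ∈ S, 0 < d ξ := fun ξ h => by
    obtain ⟨k, hk, hk'⟩ := IsIrrCharacter.apply_one_eq (hirrS ξ h)
    rw [hd ξ h, Nat.cast_inj] at hk'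
    omega
  have horth : ∀ ξ ∈ S, ∀ η ∈ S, ξ ≠ η → Cfsg.classInner ξ η = 0 := fun ξ h η h' hne =>
    classInner_irr_ne (hirrS ξ h) (hirrS η h') hne
  have hnorm : ∀ ξ ∈ S, Cfsg.classInner ξ ξ = 1 := fun ξ h => classInner_irr_self (hirrS ξ h)
  have hχmem : χ ∈ S := Set.mem_insert _ _
  have hψmem : ψ ∈ S := hS₀S hψ
  obtain ⟨a, ha⟩ := hdvd
  have hapos : (1 : ℤ) ≤ a := by
    have := hdpos χ hχmem
    rcases Nat.eq_zero_or_pos a with rfl | h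
    · simp [ha] at this
    · exact_mod_cast h
  have hne : ψ ≠ χ := fun h => hχS (h ▸ hψ)
  set γ := χ - ((a : ℤ) : ℂ) • ψ with hγ
  have hγmem : γ ∈ onSub S := mem_zspanOn_one.mpr ⟨(Submodule.span ℤ S).sub_mem
    (Submodule.subset_span hχmem) (intCast_smul_mem (Submodule.subset_span hψmem) _), by
    rw [hγ, Pi.sub_apply, Pi.smul_apply, hd χ hχmem, hd ψ hψmem, ha]; push_cast; simp [mul_comm]⟩
  set β := τ γ with hβ
  have hβgen : Cfsg.IsGeneralizedCharacter G β := hiso.2.2.2 _ hγmem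
  choose! b hb using fun ξ (hξ : ξ ∈ S₀) =>
    IsGeneralizedCharacter.classInner_int hβgen (hτ₁.2.2.2 ξ (hmem ξ hξ))
  have he : ∀ ξ ∈ S₀, ((d ψ : ℤ) : ℂ) • ξ - ((d ξ : ℤ) : ℂ) • ψ ∈
      Cfsg.zspanOn (↑S₀ : Set (L → ℂ)) {1}ᶜ := fun ξ hξ => mem_zspanOn_one.mpr
    ⟨(Submodule.span ℤ _).sub_mem (intCast_smul_mem (hmem ξ hξ) _)
      (intCast_smul_mem (hmem ψ hψ) _), by
      simp [hd ξ (hS₀S hξ), hd ψ hψmem, mul_comm]⟩
  set s : ℤ := b ψ + a with hs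
  have hbrel : ∀ ξ ∈ S₀, (d ψ : ℤ) * b ξ = d ξ * s - if ξ = ψ then (a * d ψ : ℤ) else 0 := by
    intro ξ hξ
    have key := hiso.2.2.1 _ hγmem _ (hsub _ (he ξ hξ))
    rw [← hag _ (he ξ hξ), ← hβ,
      map_sub' hτ₁' (intCast_smul_mem (hmem ξ hξ) _) (intCast_smul_mem (hmem ψ hψ) _),
      map_intCast_smul hτ₁' (hmem ξ hξ), map_intCast_smul hτ₁' (hmem ψ hψ),
      classInner_sub_right, classInner_smul_right, classInner_smul_right, hb ξ hξ, hb ψ hψ, hγ,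
      classInner_sub_left, classInner_sub_right, classInner_sub_right, classInner_smul_left,
      classInner_smul_left, classInner_smul_right, classInner_smul_right, classInner_smul_right,
      classInner_smul_right, horth χ hχmem ξ (hS₀S hξ) (fun h => hχS (h ▸ hξ)),
      horth χ hχmem ψ hψmem hne.symm, hnorm ψ hψmem, map_intCast, map_intCast] at key
    have : (((d ψ : ℤ) * b ξ : ℤ) : ℂ) =
        ((d ξ * s - if ξ = ψ then (a * d ψ : ℤ) else 0 : ℤ) : ℂ) := by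
      rw [hs]
      split_ifs with h
      · rw [h, hnorm ψ hψmem] at key
        rw [h]
        push_cast at key ⊢
        linear_combination key
      · rw [horth ψ hψmem ξ (hS₀S hξ) (Ne.symm h)] at key
        push_cast at key ⊢
        linear_combination key
    exact_mod_cast this
  set Q : ℤ := ∑ ξ ∈ S₀, (d ξ : ℤ) ^ 2 with hQ
  have hQlt : 2 * (d ψ : ℤ) * d χ < Q := by rw [hQ]; exact_mod_cast hlt
  have hbb : (d ψ : ℤ) ^ 2 * ∑ ξ ∈ S₀, b ξ ^ 2 =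
      s ^ 2 * Q - 2 * a * s * (d ψ : ℤ) ^ 2 + (a : ℤ) ^ 2 * (d ψ : ℤ) ^ 2 := by
    have : ∀ ξ ∈ S₀, (d ψ : ℤ) ^ 2 * b ξ ^ 2 = s ^ 2 * (d ξ : ℤ) ^ 2 +
        if ξ = ψ then -(2 * a * s * (d ψ : ℤ) ^ 2) + (a : ℤ) ^ 2 * (d ψ : ℤ) ^ 2 else 0 := by
      intro ξ hξ
      rw [← mul_pow, hbrel ξ hξ]
      split_ifs with h
      · rw [h]; ring
      · ring
    rw [Finset.mul_sum, Finset.sum_congr rfl this, Finset.sum_add_distrib, Finset.sum_ite_eq',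
      if_pos hψ, ← Finset.mul_sum]
    ring
  have hwo : ∀ i ∈ S₀, ∀ j ∈ S₀, Cfsg.classInner (τ₁ i) (τ₁ j) =
      if i = j then (((fun _ : L → ℂ => 1) i : ℕ) : ℂ) else 0 := fun i hi j hj => by
    rw [hτ₁.2.2.1 _ (hmem i hi) _ (hmem j hj)]
    split_ifs with h
    · rw [h, hnorm j (hS₀S hj), Nat.cast_one]
    · exact horth i (hS₀S hi) j (hS₀S hj) h
  obtain ⟨hle, heq⟩ := bessel S₀ τ₁ (fun _ => 1) (fun _ _ => Nat.one_pos) hwo β b hb
  have hββ : Cfsg.classInner β β = 1 + ((a : ℤ) : ℂ) ^ 2 := by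
    rw [hβ, hiso.2.2.1 _ hγmem _ hγmem, hγ, classInner_sub_left, classInner_sub_right,
      classInner_sub_right, classInner_smul_left, classInner_smul_left, classInner_smul_right,
      classInner_smul_right, hnorm χ hχmem, hnorm ψ hψmem, horth χ hχmem ψ hψmem hne.symm,
      horth ψ hψmem χ hχmem hne, map_intCast]
    ring
  have hss : ∑ ξ ∈ S₀, (b ξ : ℝ) ^ 2 / (((fun _ : L → ℂ => 1) ξ : ℕ) : ℝ) =
      ((∑ ξ ∈ S₀, b ξ ^ 2 : ℤ) : ℝ) := by push_cast; simp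
  have hre : (Cfsg.classInner β β).re = (((1 + (a : ℤ) ^ 2 : ℤ)) : ℝ) := by
    rw [hββ, show (1 : ℂ) + ((a : ℤ) : ℂ) ^ 2 = (((1 + (a : ℤ) ^ 2 : ℤ) : ℝ) : ℂ) by
      push_cast; ring, Complex.ofReal_re]
  rw [hss, hre, Int.cast_le] at hle
  rw [hss, hre, Int.cast_inj] at heq
  have hd1 : (1 : ℤ) ≤ (d ψ : ℤ) ^ 2 := one_le_pow₀ (by exact_mod_cast hdpos ψ hψmem)
  have hdχ : (d χ : ℤ) = d ψ * a := by exact_mod_cast ha
  have hkey : s ^ 2 * Q ≤ (d ψ : ℤ) ^ 2 * (1 + 2 * a * s) := by nlinarith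
  have hs01 : s = 0 ∨ s = 1 := by
    by_contra hc
    push Not at hc
    have h2 : (1 : ℤ) ≤ s ^ 2 := by
      rcases lt_or_gt_of_ne hc.1 with h | h <;> nlinarith
    have hQ2 : (d ψ : ℤ) ^ 2 * (2 * a) < Q := by rw [hdχ] at hQlt; linarith
    have h3 : (d ψ : ℤ) ^ 2 * (2 * a * s ^ 2) < (d ψ : ℤ) ^ 2 * (1 + 2 * a * s) := by
      linarith [mul_lt_mul_of_pos_left hQ2 (by linarith : (0 : ℤ) < s ^ 2)]
    have h4 := lt_of_mul_lt_mul_left h3 (by positivity)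
    rcases lt_or_gt_of_ne hc.1 with h | h
    · nlinarith
    · have : 2 ≤ s := by omega
      nlinarith [mul_le_mul_of_nonneg_left this (by positivity : (0 : ℤ) ≤ 2 * a * s)]
  rcases hs01 with hs0 | hs1
  swap
  · -- `s = 1` would force the images to vanish at `1`
    exfalso
    rw [hs1] at hbb hkey
    have hgt : (a : ℤ) ^ 2 < ∑ ξ ∈ S₀, b ξ ^ 2 := by
      refine lt_of_mul_lt_mul_left (a := (d ψ : ℤ) ^ 2) ?_ (by positivity)
      rw [hbb]; nlinarith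
    have hexp := heq (le_antisymm hle (by omega))
    have h1 := hτ1 _ hγmem
    rw [← hβ, hexp] at h1
    have hv : ∀ ξ ∈ S₀, (d ψ : ℂ) * τ₁ ξ 1 = (d ξ : ℂ) * τ₁ ψ 1 := fun ξ hξ => by
      have h := hτ1 _ (hsub _ (he ξ hξ))
      rw [← hag _ (he ξ hξ),
        map_sub' hτ₁' (intCast_smul_mem (hmem ξ hξ) _) (intCast_smul_mem (hmem ψ hψ) _),
        map_intCast_smul hτ₁' (hmem ξ hξ), map_intCast_smul hτ₁' (hmem ψ hψ)] at h
      simpa [sub_eq_zero] using h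
    have h2 : (d ψ : ℂ) ^ 2 * ∑ ξ ∈ S₀, (b ξ : ℂ) * τ₁ ξ 1 =
        ((Q - a * (d ψ : ℤ) ^ 2 : ℤ) : ℂ) * τ₁ ψ 1 := by
      have : ∀ ξ ∈ S₀, (d ψ : ℂ) ^ 2 * ((b ξ : ℂ) * τ₁ ξ 1) =
          ((((d ξ : ℤ) ^ 2 - if ξ = ψ then (a * (d ψ : ℤ) ^ 2 : ℤ) else 0 : ℤ)) : ℂ) * τ₁ ψ 1 := by
        intro ξ hξ
        have h := hbrel ξ hξ
        rw [hs1, mul_one] at h
        have hC := congrArg (fun z : ℤ => (z : ℂ)) h
        split_ifs at hC ⊢ with h'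
        · subst h'
          push_cast at hC ⊢
          linear_combination ((d ξ : ℂ) * τ₁ ξ 1) * hC
        · push_cast at hC ⊢
          linear_combination ((b ξ : ℂ) * (d ψ : ℂ)) * hv ξ hξ + ((d ξ : ℂ) * τ₁ ψ 1) * hC
      rw [Finset.mul_sum, Finset.sum_congr rfl this, ← Finset.sum_mul, ← Int.cast_sum,
        Finset.sum_sub_distrib, Finset.sum_ite_eq', if_pos hψ]
    have h0 : ∑ ξ ∈ S₀, (b ξ : ℂ) * τ₁ ξ 1 = 0 := by
      rw [← h1]; simp [Finset.sum_apply]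
    rw [h0, mul_zero] at h2
    have hQa : Q - a * (d ψ : ℤ) ^ 2 ≠ 0 := by rw [hdχ] at hQlt; nlinarith
    refine apply_one_ne_zero_of_norm_one (hτ₁.2.2.2 ψ (hmem ψ hψ))
      (by rw [hτ₁.2.2.1 _ (hmem ψ hψ) _ (hmem ψ hψ), hnorm ψ hψmem]) ?_
    rcases mul_eq_zero.mp h2.symm with h | h
    · exact absurd (Int.cast_eq_zero.mp h) hQa
    · exact h
  have hbξ : ∀ ξ ∈ S₀, b ξ = if ξ = ψ then -(a : ℤ) else 0 := fun ξ hξ => by
    have h := hbrel ξ hξ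
    rw [hs0, mul_zero, zero_sub] at h
    have hd0 : (d ψ : ℤ) ≠ 0 := by exact_mod_cast (hdpos ψ hψmem).ne'
    split_ifs at h ⊢ <;>
    · apply mul_left_cancel₀ hd0
      linarith
  set X := β + ((a : ℤ) : ℂ) • τ₁ ψ with hX
  have hψgen := hτ₁.2.2.2 ψ (hmem ψ hψ)
  have hXgen : Cfsg.IsGeneralizedCharacter G X := by
    have h := isGen_sum (Finset.univ : Finset (Fin 2)) ![β, τ₁ ψ] ![1, (a : ℤ)]
      (by intro i _; fin_cases i <;> simp [hβgen, hψgen])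
    simpa [Fin.sum_univ_two, hX] using h
  have hXo : ∀ ξ ∈ S₀, Cfsg.classInner X (τ₁ ξ) = 0 := fun ξ hξ => by
    rw [hX, classInner_add_left, classInner_smul_left, hb ξ hξ, hbξ ξ hξ, hwo ψ hψ ξ hξ]
    by_cases h : ξ = ψ
    · simp [h]
    · simp [h, Ne.symm h]
  have hXX : Cfsg.classInner X X = 1 := by
    conv_lhs => arg 2; rw [hX]
    rw [classInner_add_right, classInner_smul_right, hXo ψ hψ, mul_zero, add_zero, hX,
      classInner_add_left, classInner_smul_left, ← classInner_conj_symm β (τ₁ ψ), hb ψ hψ,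
      hbξ ψ hψ, if_pos rfl, hββ, map_intCast]
    push_cast
    ring
  rw [show S = (↑(insert χ S₀) : Set (L → ℂ)) by rw [Finset.coe_insert]]
  let Y : (L → ℂ) → (G → ℂ) := fun ξ => if ξ = χ then X else τ₁ ξ
  have hY1 : Y χ = X := if_pos rfl
  have hY2 : ∀ ξ ∈ S₀, Y ξ = τ₁ ξ := fun ξ hξ => if_neg fun h : ξ = χ => hχS (h ▸ hξ)
  have hFS : ∀ ξ ∈ insert χ S₀, ξ ∈ S := fun ξ h => by
    rw [hSdef]; simpa using h
  refine isCoherent_of_images _ (fun p hp q hq => horth p (hFS p hp) q (hFS q hq))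
    (fun p hp h => by simpa [h, classInner_zero_left] using hnorm p (hFS p hp)) Y
    (fun p hp => ?_) (fun p hp q hq => ?_) ⟨α₀, ?_, hα₀ne⟩ τ fun k hk => ?_
  · rcases Finset.mem_insert.mp hp with e | hp
    · rw [e, hY1]; exact hXgen
    · rw [hY2 p hp]; exact hτ₁.2.2.2 p (hmem p hp)
  · rcases Finset.mem_insert.mp hp with e | hp <;> rcases Finset.mem_insert.mp hq with e' | hq
    · rw [e, e', hY1, hXX, hnorm χ hχmem]
    · rw [e, hY1, hY2 q hq, hXo q hq,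
        horth χ hχmem q (hS₀S hq) fun h => hχS (h ▸ hq)]
    · rw [e', hY1, hY2 p hp, ← classInner_conj_symm, hXo p hp, map_zero,
        horth p (hS₀S hp) χ hχmem fun h => hχS (h ▸ hp)]
    · rw [hY2 p hp, hY2 q hq, hτ₁.2.2.1 _ (hmem p hp) _ (hmem q hq)]
  · rw [Finset.coe_insert]; exact hsub _ hα₀
  · rw [Finset.sum_insert hχS] at hk ⊢
    rw [Finset.sum_insert hχS, hY1, Finset.sum_congr rfl (s₁ := S₀)
      (f := fun ξ => (k ξ : ℂ) • Y ξ) fun ξ hξ => by rw [hY2 ξ hξ]]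
    set P := ∑ ξ ∈ S₀, (k ξ : ℂ) • ξ + ((k χ * a : ℤ) : ℂ) • ψ with hP
    have hm1 : ∑ ξ ∈ S₀, (k ξ : ℂ) • ξ ∈ Submodule.span ℤ (↑S₀ : Set (L → ℂ)) :=
      (Submodule.span ℤ _).sum_mem fun ξ hξ => intCast_smul_mem (hmem ξ hξ) _
    have hPmem : P ∈ Cfsg.zspanOn (↑S₀ : Set (L → ℂ)) {1}ᶜ := mem_zspanOn_one.mpr
      ⟨(Submodule.span ℤ _).add_mem hm1 (intCast_smul_mem (hmem ψ hψ) _), by
        simp only [Pi.add_apply, Pi.smul_apply, smul_eq_mul] at hk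
        have hcast : (d χ : ℂ) = d ψ * a := by exact_mod_cast ha
        rw [hd χ hχmem, hcast] at hk
        rw [hP, Pi.add_apply, Pi.smul_apply, hd ψ hψmem, smul_eq_mul]
        push_cast
        linear_combination hk⟩
    have e1 : (k χ : ℂ) • χ + ∑ ξ ∈ S₀, (k ξ : ℂ) • ξ = (k χ : ℂ) • γ + P := by
      rw [hP, hγ]; push_cast; module
    have hmem1 : (k χ : ℂ) • γ ∈ onSub S := by
      rw [Int.cast_smul_eq_zsmul]; exact (onSub S).smul_mem _ hγmem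
    rw [e1, hiso.1 _ hmem1 _ (hsub _ hPmem), map_intCast_smul hiso hγmem, ← hβ, ← hag _ hPmem,
      hP, hτ₁.1 _ hm1 _ (intCast_smul_mem (hmem ψ hψ) _),
      map_sum' hτ₁' _ _ (fun ξ hξ => intCast_smul_mem (hmem ξ hξ) _),
      Finset.sum_congr rfl fun ξ hξ => map_intCast_smul hτ₁' (hmem ξ hξ) (k ξ),
      map_intCast_smul hτ₁' (hmem ψ hψ), hX]
    push_cast
    module

/-- Images of characters of two disjoint coherent sets are orthogonal. -/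
theorem classInner_coherent_disjoint {S X Y : Set (L → ℂ)}
    (hirr : ∀ ξ ∈ S, Cfsg.IsIrrCharacter L ξ) (hXS : X ⊆ S) (hYS : Y ⊆ S) (hXY : Disjoint X Y)
    (hX2 : ∃ a ∈ X, ∃ b ∈ X, a ≠ b) (hY2 : ∃ a ∈ Y, ∃ b ∈ Y, a ≠ b)
    {α : (L → ℂ) → (G → ℂ)} (hα : Cfsg.IsLinearIsometryOn (Cfsg.zspanOn S {1}ᶜ) α)
    (hα1 : ∀ θ ∈ Cfsg.zspanOn S {1}ᶜ, α θ 1 = 0) {σ τ : (L → ℂ) → (G → ℂ)}
    (hσ : Cfsg.IsLinearIsometryOn (Cfsg.zspan X) σ)
    (hσα : ∀ θ ∈ Cfsg.zspanOn X {1}ᶜ, σ θ = α θ)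
    (hτ : Cfsg.IsLinearIsometryOn (Cfsg.zspan Y) τ)
    (hτα : ∀ θ ∈ Cfsg.zspanOn Y {1}ᶜ, τ θ = α θ) {χ η : L → ℂ} (hχ : χ ∈ X) (hη : η ∈ Y) :
    Cfsg.classInner (σ χ) (τ η) = 0 := by
  obtain ⟨χ', hχ', hχne⟩ : ∃ χ' ∈ X, χ' ≠ χ := by
    obtain ⟨a, ha, b, hb, hab⟩ := hX2
    by_cases h : a = χ
    · exact ⟨b, hb, fun h' => hab (h.trans h'.symm)⟩
    · exact ⟨a, ha, h⟩
  obtain ⟨η', hη', hηne⟩ : ∃ η' ∈ Y, η' ≠ η := by
    obtain ⟨a, ha, b, hb, hab⟩ := hY2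
    by_cases h : a = η
    · exact ⟨b, hb, fun h' => hab (h.trans h'.symm)⟩
    · exact ⟨a, ha, h⟩
  have hpos : ∀ ξ ∈ S, ∃ k : ℕ, 0 < k ∧ ξ 1 = (k : ℂ) := fun ξ h =>
    IsIrrCharacter.apply_one_eq (hirr ξ h)
  obtain ⟨u, hu, hu1⟩ := hpos χ (hXS hχ)
  obtain ⟨u', hu', hu1'⟩ := hpos χ' (hXS hχ')
  obtain ⟨v, hv, hv1⟩ := hpos η (hYS hη)
  obtain ⟨v', hv', hv1'⟩ := hpos η' (hYS hη')
  have hσ' : Cfsg.IsLinearIsometryOn
      ((Submodule.span ℤ X : Submodule ℤ (L → ℂ)) : Set (L → ℂ)) σ := hσ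
  have hτ' : Cfsg.IsLinearIsometryOn
      ((Submodule.span ℤ Y : Submodule ℤ (L → ℂ)) : Set (L → ℂ)) τ := hτ
  have mX : ∀ ξ ∈ X, ξ ∈ Cfsg.zspan X := fun ξ h => Submodule.subset_span h
  have mY : ∀ ξ ∈ Y, ξ ∈ Cfsg.zspan Y := fun ξ h => Submodule.subset_span h
  set θ₁ := ((u' : ℤ) : ℂ) • χ - ((u : ℤ) : ℂ) • χ' with hθ₁
  set θ₂ := ((v' : ℤ) : ℂ) • η - ((v : ℤ) : ℂ) • η' with hθ₂
  have h1 : θ₁ ∈ Cfsg.zspanOn X {1}ᶜ := mem_zspanOn_one.mpr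
    ⟨(Submodule.span ℤ X).sub_mem (intCast_smul_mem (mX χ hχ) _) (intCast_smul_mem (mX χ' hχ') _),
      by simp [hθ₁, hu1, hu1', mul_comm]⟩
  have h2 : θ₂ ∈ Cfsg.zspanOn Y {1}ᶜ := mem_zspanOn_one.mpr
    ⟨(Submodule.span ℤ Y).sub_mem (intCast_smul_mem (mY η hη) _) (intCast_smul_mem (mY η' hη') _),
      by simp [hθ₂, hv1, hv1', mul_comm]⟩
  have h1S : θ₁ ∈ Cfsg.zspanOn S {1}ᶜ := mem_zspanOn_one.mpr
    ⟨Submodule.span_mono hXS (mem_zspanOn_one.mp h1).1, (mem_zspanOn_one.mp h1).2⟩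
  have h2S : θ₂ ∈ Cfsg.zspanOn S {1}ᶜ := mem_zspanOn_one.mpr
    ⟨Submodule.span_mono hYS (mem_zspanOn_one.mp h2).1, (mem_zspanOn_one.mp h2).2⟩
  have e1 : σ θ₁ = ((u' : ℤ) : ℂ) • σ χ - ((u : ℤ) : ℂ) • σ χ' := by
    rw [hθ₁, map_sub' hσ' (intCast_smul_mem (mX χ hχ) _) (intCast_smul_mem (mX χ' hχ') _),
      map_intCast_smul hσ' (mX χ hχ), map_intCast_smul hσ' (mX χ' hχ')]
  have e2 : τ θ₂ = ((v' : ℤ) : ℂ) • τ η - ((v : ℤ) : ℂ) • τ η' := by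
    rw [hθ₂, map_sub' hτ' (intCast_smul_mem (mY η hη) _) (intCast_smul_mem (mY η' hη') _),
      map_intCast_smul hτ' (mY η hη), map_intCast_smul hτ' (mY η' hη')]
  have hcross : ∀ a ∈ X, ∀ b ∈ Y, Cfsg.classInner a b = 0 := fun a ha b hb =>
    classInner_irr_ne (hirr a (hXS ha)) (hirr b (hYS hb))
      fun h => Set.disjoint_left.mp hXY ha (h ▸ hb)
  have key : Cfsg.classInner (σ θ₁) (τ θ₂) = 0 := by
    rw [hσα _ h1, hτα _ h2, hα.2.2.1 _ h1S _ h2S, hθ₁, hθ₂]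
    simp only [classInner_sub_left, classInner_sub_right, classInner_smul_left,
      classInner_smul_right, hcross χ hχ η hη, hcross χ hχ η' hη', hcross χ' hχ' η hη,
      hcross χ' hχ' η' hη', mul_zero, sub_self]
  have nX : ∀ ξ ∈ X, Cfsg.classInner (σ ξ) (σ ξ) = 1 := fun ξ h => by
    rw [hσ.2.2.1 _ (mX ξ h) _ (mX ξ h), classInner_irr_self (hirr ξ (hXS h))]
  have nY : ∀ ξ ∈ Y, Cfsg.classInner (τ ξ) (τ ξ) = 1 := fun ξ h => by
    rw [hτ.2.2.1 _ (mY ξ h) _ (mY ξ h), classInner_irr_self (hirr ξ (hYS h))]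
  by_contra hne
  obtain ⟨ε, hε, hηeq⟩ := eq_smul_of_norm_one (hσ.2.2.2 χ (mX χ hχ)) (nX χ hχ)
    (hτ.2.2.2 η (mY η hη)) (nY η hη) hne
  have z1 : Cfsg.classInner (σ χ') (σ χ) = 0 := by
    rw [hσ.2.2.1 _ (mX χ' hχ') _ (mX χ hχ),
      classInner_irr_ne (hirr χ' (hXS hχ')) (hirr χ (hXS hχ)) hχne]
  have z2 : Cfsg.classInner (τ η) (τ η') = 0 := by
    rw [hτ.2.2.1 _ (mY η hη) _ (mY η' hη'),
      classInner_irr_ne (hirr η (hYS hη)) (hirr η' (hYS hη')) hηne.symm]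
  have hεε : (ε : ℂ) * ε = 1 := by rcases hε with rfl | rfl <;> simp
  have z3 : Cfsg.classInner (σ χ) (τ η') = 0 := by
    have : σ χ = (ε : ℂ) • τ η := by rw [hηeq, smul_smul, hεε, one_smul]
    rw [this, classInner_smul_left, z2, mul_zero]
  have z4 : Cfsg.classInner (σ χ') (τ η) = 0 := by
    rw [hηeq, classInner_smul_right, z1, mul_zero]
  have z5 : Cfsg.classInner (σ χ) (τ η) = (ε : ℂ) := by
    rw [hηeq, classInner_smul_right, nX χ hχ, map_intCast, mul_one]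
  rw [e1, e2, classInner_sub_left, classInner_sub_right, classInner_sub_right, classInner_smul_left,
    classInner_smul_left, classInner_smul_left, classInner_smul_left, classInner_smul_right,
    classInner_smul_right, classInner_smul_right, classInner_smul_right, z3, z4, z5, map_intCast,
    map_intCast] at key
  have hne' : Cfsg.classInner (σ χ') (τ η') ≠ 0 := by
    intro h0
    rw [h0] at key
    have : (u' : ℂ) * (v' : ℂ) = 0 := by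
      push_cast at key
      linear_combination (ε : ℂ) * key - (u' : ℂ) * (v' : ℂ) * hεε
    rcases mul_eq_zero.mp this with h | h <;> simp only [Nat.cast_eq_zero] at h <;> omega
  obtain ⟨ε', hε', hηeq'⟩ := eq_smul_of_norm_one (hσ.2.2.2 χ' (mX χ' hχ')) (nX χ' hχ')
    (hτ.2.2.2 η' (mY η' hη')) (nY η' hη') hne'
  rw [hηeq', classInner_smul_right, nX χ' hχ', map_intCast, mul_one] at key
  have v1 : (u' : ℂ) * σ χ 1 = (u : ℂ) * σ χ' 1 := by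
    have h := hα1 _ h1S
    rw [← hσα _ h1, e1] at h
    simpa [sub_eq_zero] using h
  have v2 : (v' : ℂ) * ((ε : ℂ) * σ χ 1) = (v : ℂ) * ((ε' : ℂ) * σ χ' 1) := by
    have h := hα1 _ h2S
    rw [← hτα _ h2, e2, hηeq, hηeq'] at h
    simpa [sub_eq_zero] using h
  push_cast at key
  have hsq : σ χ 1 * (ε : ℂ) * (v' : ℂ) * ((u : ℂ) ^ 2 + (u' : ℂ) ^ 2) = 0 := by
    linear_combination ((u : ℂ) ^ 2) * v2 - ((u : ℂ) * v * (ε' : ℂ)) * v1
      + ((u' : ℂ) * σ χ 1) * key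
  have hσ1 := apply_one_ne_zero_of_norm_one (hσ.2.2.2 χ (mX χ hχ)) (nX χ hχ)
  have hε0 : (ε : ℂ) ≠ 0 := by rcases hε with rfl | rfl <;> simp
  have : ((u ^ 2 + u' ^ 2 : ℕ) : ℂ) = 0 := by
    simp only [mul_eq_zero, hσ1, hε0, Nat.cast_eq_zero, hv'.ne', false_or, or_false] at hsq
    push_cast; exact hsq
  rw [Nat.cast_eq_zero] at this
  have : 0 < u ^ 2 := pow_pos hu 2
  omega

/-- The union of two coherent sets of irreducible characters with a compatible link. -/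
theorem isCoherent_union {S X Y : Set (L → ℂ)}
    (hirr : ∀ ξ ∈ S, Cfsg.IsIrrCharacter L ξ) (hXS : X ⊆ S) (hYS : Y ⊆ S) (hXY : Disjoint X Y)
    (hX2 : ∃ a ∈ X, ∃ b ∈ X, a ≠ b) (hY2 : ∃ a ∈ Y, ∃ b ∈ Y, a ≠ b)
    {α : (L → ℂ) → (G → ℂ)} (hα : Cfsg.IsLinearIsometryOn (Cfsg.zspanOn S {1}ᶜ) α)
    (hα1 : ∀ θ ∈ Cfsg.zspanOn S {1}ᶜ, α θ 1 = 0) {σ τ : (L → ℂ) → (G → ℂ)}
    (hσ : Cfsg.IsLinearIsometryOn (Cfsg.zspan X) σ)
    (hσα : ∀ θ ∈ Cfsg.zspanOn X {1}ᶜ, σ θ = α θ)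
    (hτ : Cfsg.IsLinearIsometryOn (Cfsg.zspan Y) τ)
    (hτα : ∀ θ ∈ Cfsg.zspanOn Y {1}ᶜ, τ θ = α θ) {χ₀ η₀ : L → ℂ} (hχ₀ : χ₀ ∈ X) (hη₀ : η₀ ∈ Y)
    (hlink : α (χ₀ 1 • η₀ - η₀ 1 • χ₀) = χ₀ 1 • τ η₀ - η₀ 1 • σ χ₀) :
    Cfsg.IsCoherent (X ∪ Y) {1}ᶜ α := by
  classical
  have hfin : ∀ Z : Set (L → ℂ), Z ⊆ S → Z.Finite := fun Z hZ =>
    (finite_setOf_irr (G := L)).subset fun ξ h => hirr ξ (hZ h)
  set FX := (hfin X hXS).toFinset with hFX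
  set FY := (hfin Y hYS).toFinset with hFY
  have hX' : ∀ ξ, ξ ∈ FX ↔ ξ ∈ X := fun ξ => (hfin X hXS).mem_toFinset
  have hY' : ∀ ξ, ξ ∈ FY ↔ ξ ∈ Y := fun ξ => (hfin Y hYS).mem_toFinset
  have hdj : Disjoint FX FY := Finset.disjoint_left.mpr fun ξ h h' =>
    Set.disjoint_left.mp hXY ((hX' ξ).mp h) ((hY' ξ).mp h')
  rw [show X ∪ Y = (↑(FX ∪ FY) : Set (L → ℂ)) by ext ξ; simp [hX', hY']]
  have hFS : ∀ ξ ∈ FX ∪ FY, ξ ∈ S := fun ξ h => by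
    rcases Finset.mem_union.mp h with h | h
    · exact hXS ((hX' ξ).mp h)
    · exact hYS ((hY' ξ).mp h)
  let Z : (L → ℂ) → (G → ℂ) := fun ξ => if ξ ∈ X then σ ξ else τ ξ
  have hZX : ∀ ξ ∈ X, Z ξ = σ ξ := fun ξ h => if_pos h
  have hZY : ∀ ξ ∈ Y, Z ξ = τ ξ := fun ξ h => if_neg fun h' => Set.disjoint_left.mp hXY h' h
  have mX : ∀ ξ ∈ X, ξ ∈ Cfsg.zspan X := fun ξ h => Submodule.subset_span h
  have mY : ∀ ξ ∈ Y, ξ ∈ Cfsg.zspan Y := fun ξ h => Submodule.subset_span h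
  have hperp : ∀ p ∈ X, ∀ q ∈ Y, Cfsg.classInner (σ p) (τ q) = 0 := fun p hp q hq =>
    classInner_coherent_disjoint hirr hXS hYS hXY hX2 hY2 hα hα1 hσ hσα hτ hτα hp hq
  have hσ' : Cfsg.IsLinearIsometryOn
      ((Submodule.span ℤ X : Submodule ℤ (L → ℂ)) : Set (L → ℂ)) σ := hσ
  have hτ' : Cfsg.IsLinearIsometryOn
      ((Submodule.span ℤ Y : Submodule ℤ (L → ℂ)) : Set (L → ℂ)) τ := hτ
  have hα' : Cfsg.IsLinearIsometryOn ((onSub S : Submodule ℤ (L → ℂ)) : Set (L → ℂ)) α := hα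
  obtain ⟨c, hc, hc1⟩ := IsIrrCharacter.apply_one_eq (hirr χ₀ (hXS hχ₀))
  obtain ⟨e, he, he1⟩ := IsIrrCharacter.apply_one_eq (hirr η₀ (hYS hη₀))
  refine isCoherent_of_images _ (fun p hp q hq => classInner_irr_ne (hirr p (hFS p hp))
      (hirr q (hFS q hq))) (fun p hp h => IsIrrCharacter.apply_one_ne_zero (hirr p (hFS p hp))
        (by simp [h])) Z (fun p hp => ?_) (fun p hp q hq => ?_) ?_ α fun k hk => ?_
  · rcases Finset.mem_union.mp hp with h | h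
    · rw [hZX p ((hX' p).mp h)]; exact hσ.2.2.2 p (mX p ((hX' p).mp h))
    · rw [hZY p ((hY' p).mp h)]; exact hτ.2.2.2 p (mY p ((hY' p).mp h))
  · rcases Finset.mem_union.mp hp with h | h <;> rcases Finset.mem_union.mp hq with h' | h'
    all_goals first | replace h := (hX' p).mp h | replace h := (hY' p).mp h
    all_goals first | replace h' := (hX' q).mp h' | replace h' := (hY' q).mp h'
    · rw [hZX p h, hZX q h', hσ.2.2.1 _ (mX p h) _ (mX q h')]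
    · rw [hZX p h, hZY q h', hperp p h q h', classInner_irr_ne (hirr p (hXS h)) (hirr q (hYS h'))
        fun e => Set.disjoint_left.mp hXY h (e ▸ h')]
    · rw [hZY p h, hZX q h', ← classInner_conj_symm, hperp q h' p h, map_zero,
        classInner_irr_ne (hirr p (hYS h)) (hirr q (hXS h'))
        fun e => Set.disjoint_left.mp hXY h' (e ▸ h)]
    · rw [hZY p h, hZY q h', hτ.2.2.1 _ (mY p h) _ (mY q h')]
  · refine ⟨((e : ℤ) : ℂ) • χ₀ - ((c : ℤ) : ℂ) • η₀, mem_zspanOn_one.mpr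
      ⟨(Submodule.span ℤ _).sub_mem (intCast_smul_mem (Submodule.subset_span (by simp [hX', hχ₀])) _)
        (intCast_smul_mem (Submodule.subset_span (by simp [hY', hη₀])) _), by
        simp [hc1, he1, mul_comm]⟩, fun h => ?_⟩
    have h' := congrArg (fun f => Cfsg.classInner f η₀) h
    simp only [classInner_sub_left, classInner_smul_left, classInner_zero_left,
      classInner_irr_ne (hirr χ₀ (hXS hχ₀)) (hirr η₀ (hYS hη₀))
        (fun e => Set.disjoint_left.mp hXY hχ₀ (e ▸ hη₀)),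
      classInner_irr_self (hirr η₀ (hYS hη₀))] at h'
    simp at h'
    omega
  · choose! d hdpos hd1 using fun ξ (h : ξ ∈ S) => IsIrrCharacter.apply_one_eq (hirr ξ h)
    set DX := ∑ ξ ∈ FX, k ξ * (d ξ : ℤ) with hDX
    set DY := ∑ ξ ∈ FY, k ξ * (d ξ : ℤ) with hDY
    have hval : ∀ F : Finset (L → ℂ), (∀ ξ ∈ F, ξ ∈ S) →
        (∑ ξ ∈ F, (k ξ : ℂ) • ξ) 1 = ((∑ ξ ∈ F, k ξ * (d ξ : ℤ) : ℤ) : ℂ) := fun F hF => by
      rw [Finset.sum_apply]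
      push_cast
      exact Finset.sum_congr rfl fun ξ h => by rw [Pi.smul_apply, smul_eq_mul, hd1 ξ (hF ξ h)]
    rw [Finset.sum_union hdj] at hk ⊢
    rw [Finset.sum_union hdj,
      Finset.sum_congr rfl (s₁ := FX) (f := fun ξ => (k ξ : ℂ) • Z ξ)
        fun ξ hξ => by rw [hZX ξ ((hX' ξ).mp hξ)],
      Finset.sum_congr rfl (s₁ := FY) (f := fun ξ => (k ξ : ℂ) • Z ξ)
        fun ξ hξ => by rw [hZY ξ ((hY' ξ).mp hξ)]]
    have hvX := hval FX fun ξ h => hXS ((hX' ξ).mp h)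
    have hvY := hval FY fun ξ h => hYS ((hY' ξ).mp h)
    rw [Pi.add_apply, hvX, hvY] at hk
    rw [← hDX] at hvX hk
    rw [← hDY] at hvY hk
    set SX := ∑ ξ ∈ FX, (k ξ : ℂ) • ξ with hSX
    set SY := ∑ ξ ∈ FY, (k ξ : ℂ) • ξ with hSY
    have msX : SX ∈ Submodule.span ℤ X :=
      (Submodule.span ℤ _).sum_mem fun ξ h => intCast_smul_mem (mX ξ ((hX' ξ).mp h)) _
    have msY : SY ∈ Submodule.span ℤ Y :=
      (Submodule.span ℤ _).sum_mem fun ξ h => intCast_smul_mem (mY ξ ((hY' ξ).mp h)) _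
    set PX := ((c : ℤ) : ℂ) • SX - (DX : ℂ) • χ₀ with hPX
    set PY := ((e : ℤ) : ℂ) • SY - (DY : ℂ) • η₀ with hPY
    set Lk := ((c : ℤ) : ℂ) • η₀ - ((e : ℤ) : ℂ) • χ₀ with hLk
    have hPX' : PX ∈ Cfsg.zspanOn X {1}ᶜ := mem_zspanOn_one.mpr
      ⟨(Submodule.span ℤ X).sub_mem (intCast_smul_mem msX _) (intCast_smul_mem (mX χ₀ hχ₀) _),
        by simp [hPX, hvX, hc1, mul_comm]⟩
    have hPY' : PY ∈ Cfsg.zspanOn Y {1}ᶜ := mem_zspanOn_one.mpr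
      ⟨(Submodule.span ℤ Y).sub_mem (intCast_smul_mem msY _) (intCast_smul_mem (mY η₀ hη₀) _),
        by simp [hPY, hvY, he1, mul_comm]⟩
    have hLk' : Lk ∈ onSub S := mem_zspanOn_one.mpr
      ⟨(Submodule.span ℤ S).sub_mem
        (intCast_smul_mem (Submodule.subset_span (hYS hη₀)) _)
        (intCast_smul_mem (Submodule.subset_span (hXS hχ₀)) _),
        by simp [hLk, hc1, he1, mul_comm]⟩
    have hPXS : PX ∈ onSub S := mem_zspanOn_one.mpr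
      ⟨Submodule.span_mono hXS (mem_zspanOn_one.mp hPX').1, (mem_zspanOn_one.mp hPX').2⟩
    have hPYS : PY ∈ onSub S := mem_zspanOn_one.mpr
      ⟨Submodule.span_mono hYS (mem_zspanOn_one.mp hPY').1, (mem_zspanOn_one.mp hPY').2⟩
    have hsumS : SX + SY ∈ onSub S := mem_zspanOn_one.mpr
      ⟨(Submodule.span ℤ S).add_mem (Submodule.span_mono hXS msX) (Submodule.span_mono hYS msY),
        by rw [Pi.add_apply, hvX, hvY, hk]⟩
    have hDsum : DY = -DX := by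
      have : ((DX + DY : ℤ) : ℂ) = 0 := by rw [Int.cast_add, hk]
      have := Int.cast_eq_zero.mp this
      omega
    have hexp : ((c * e : ℤ) : ℂ) • (SX + SY) =
        ((e : ℤ) : ℂ) • PX + (((c : ℤ) : ℂ) • PY + ((-DX : ℤ) : ℂ) • Lk) := by
      rw [hPX, hPY, hLk, hDsum]; push_cast; module
    have hsm : ∀ (n : ℤ) (θ : L → ℂ), θ ∈ onSub S → (n : ℂ) • θ ∈ onSub S := fun n θ h => by
      rw [Int.cast_smul_eq_zsmul]; exact (onSub S).smul_mem _ h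
    have hlink' : α Lk = ((c : ℤ) : ℂ) • τ η₀ - ((e : ℤ) : ℂ) • σ χ₀ := by
      rw [hLk, Int.cast_natCast, Int.cast_natCast, ← hc1, ← he1, hlink]
    have key := congrArg α hexp
    rw [map_intCast_smul hα' hsumS, hα.1 _ (hsm _ _ hPXS) _
        ((onSub S).add_mem (hsm _ _ hPYS) (hsm _ _ hLk')),
      hα.1 _ (hsm _ _ hPYS) _ (hsm _ _ hLk'), map_intCast_smul hα' hPXS,
      map_intCast_smul hα' hPYS, map_intCast_smul hα' hLk', hlink', ← hσα _ hPX', ← hτα _ hPY',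
      hPX, hPY, map_sub' hσ' (intCast_smul_mem msX _) (intCast_smul_mem (mX χ₀ hχ₀) _),
      map_sub' hτ' (intCast_smul_mem msY _) (intCast_smul_mem (mY η₀ hη₀) _),
      map_intCast_smul hσ' msX, map_intCast_smul hτ' msY, map_intCast_smul hσ' (mX χ₀ hχ₀),
      map_intCast_smul hτ' (mY η₀ hη₀), hSX, hSY,
      map_sum' hσ' _ _ (fun ξ h => intCast_smul_mem (mX ξ ((hX' ξ).mp h)) _),
      map_sum' hτ' _ _ (fun ξ h => intCast_smul_mem (mY ξ ((hY' ξ).mp h)) _),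
      Finset.sum_congr rfl (s₁ := FX) fun ξ h => map_intCast_smul hσ' (mX ξ ((hX' ξ).mp h)) (k ξ),
      Finset.sum_congr rfl (s₁ := FY) fun ξ h => map_intCast_smul hτ' (mY ξ ((hY' ξ).mp h)) (k ξ),
      hDsum] at key
    have hce : ((c * e : ℤ) : ℂ) ≠ 0 := by
      rw [Int.cast_ne_zero]; exact_mod_cast (Nat.mul_pos hc he).ne'
    refine smul_right_injective (G → ℂ) hce ?_
    simp only
    rw [key]
    push_cast
    module

end CfsgLib.Char.Coherence
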