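import Cfsg.Agent.Lib.Char.CoherenceTI
import Cfsg.Agent.Lib.Char.CentralTICongruence
import Cfsg.Agent.S0161

/-!
# Sibley's coherence theorem for a trivial intersection Sylow Frobenius kernel
-/

set_option autoImplicit false

open scoped ComplexConjugate commutatorElement

namespace CfsgLib.Char.Sibley

open Coherence

/-- The values on `Z` of a function orthogonal to the differences in `X`. -/
theorem apply_sub_eq {L : Type*} [Group L] [Fintype L] {F : L → ℂ}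
    (hF : Cfsg.IsClassFunction L F) (X : Set (L → ℂ)) (a : ℂ)
    (hcoef : ∀ χ ∈ X, Cfsg.classInner F χ = a * χ 1) {z : L} (hz : z ≠ 1)
    (hout : ∀ χ, Cfsg.IsIrrCharacter L χ → χ ∉ X → χ z = χ 1) :
    F 1 - F z = a * (Nat.card L : ℂ) := by
  classical
  have hexp := IsClassFunction.eq_sum_irr hF
  have h1 := congrFun hexp 1
  have h2 := congrFun hexp z
  simp only [Finset.sum_apply, Pi.smul_apply, smul_eq_mul] at h1 h2
  rw [h1, h2, ← Finset.sum_sub_distrib,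
    Finset.sum_congr rfl fun (χ : Cfsg.IrrCharacter L) _ => show
      Cfsg.classInner F (χ : L → ℂ) * (χ : L → ℂ) 1 - Cfsg.classInner F (χ : L → ℂ) * (χ : L → ℂ) z =
        a * ((χ : L → ℂ) 1 * (χ : L → ℂ) 1 - (χ : L → ℂ) 1 * (χ : L → ℂ) z) by
      by_cases hχ : (χ : L → ℂ) ∈ X
      · rw [hcoef _ hχ]; ring
      · rw [hout _ χ.2 hχ]; ring,
    ← Finset.mul_sum, Finset.sum_sub_distrib, regular_eq_sum_irr, regular_eq_sum_irr, if_pos rfl,
    if_neg hz, sub_zero]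

/-- The integers solving the norm inequality of the link. -/
theorem link_cases {U s M t c : ℤ} (hU : 2 ≤ U) (hM : 2 ≤ M) (hc : 0 < c) (hdvd : c ∣ t)
    (h : U * s * s + 2 * s + M * t * t - 2 * c * t ≤ 0) :
    (s = 0 ∨ (s = -1 ∧ U = 2)) ∧ (t = 0 ∨ (t = c ∧ M = 2)) := by
  obtain ⟨r, rfl⟩ := hdvd
  have h1 : 0 ≤ r * (M * r - 2) := by
    rcases lt_trichotomy r 0 with hr | hr | hr
    · exact mul_nonneg_of_nonpos_of_nonpos hr.le (by nlinarith)
    · simp [hr]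
    · exact mul_nonneg hr.le (by nlinarith)
  have h2 : 0 ≤ s * (U * s + 2) := by
    rcases lt_trichotomy s 0 with hs | hs | hs
    · exact mul_nonneg_of_nonpos_of_nonpos hs.le (by nlinarith)
    · simp [hs]
    · exact mul_nonneg hs.le (by nlinarith)
  have h3 : c * c * (r * (M * r - 2)) = 0 := by nlinarith [mul_nonneg (mul_self_nonneg c) h1]
  have h4 : s * (U * s + 2) = 0 := by nlinarith
  have h5 : r * (M * r - 2) = 0 := (mul_eq_zero.mp h3).resolve_left (by positivity)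
  refine ⟨(mul_eq_zero.mp h4).imp id fun h6 => ?_, (mul_eq_zero.mp h5).imp (by intro h; simp [h])
    fun h6 => ?_⟩
  · have hs : s < 0 := by nlinarith
    have : -1 ≤ s := by nlinarith
    have hs' : s = -1 := by omega
    subst hs'
    exact ⟨rfl, by linarith⟩
  · have hr : 0 < r := by nlinarith
    have : r ≤ 1 := by nlinarith
    have hr' : r = 1 := by omega
    subst hr'
    exact ⟨mul_one c, by linarith⟩

variable {G : Type*} [Group G] [Fintype G]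

open scoped Classical in
set_option maxHeartbeats 1600000 in
/-- Sibley's theorem for a nonabelian Sylow subgroup of odd order normaliser. -/
theorem isCoherent_sibley {p : ℕ} [Fact p.Prime] (hp : p ≠ 2) (P : Sylow p G)
    (h : TIKernel.IsTIKernel (P : Subgroup G)) (hna : ¬ IsMulCommutative (P : Subgroup G))
    [Fintype (Subgroup.normalizer ((P : Subgroup G) : Set G))]
    (hodd : Odd (Nat.card (Subgroup.normalizer ((P : Subgroup G) : Set G)))) :
    Cfsg.IsCoherent (indNontriv ((P : Subgroup G).subgroupOf (Subgroup.normalizer ((P : Subgroup G) : Set G)))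
        ((P : Subgroup G).subgroupOf (Subgroup.normalizer ((P : Subgroup G) : Set G)))) {1}ᶜ
      (fun α => Cfsg.indFun (Subgroup.normalizer ((P : Subgroup G) : Set G)) α) := by
  set K := (P : Subgroup G).subgroupOf (Subgroup.normalizer ((P : Subgroup G) : Set G)) with hKdef
  set τ := fun α : (Subgroup.normalizer ((P : Subgroup G) : Set G)) → ℂ => Cfsg.indFun (Subgroup.normalizer ((P : Subgroup G) : Set G)) α with hτdef
  cases nonempty_fintype K
  have hC := h.centralizer_le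
  have hPL : (P : Subgroup G) ≤ (Subgroup.normalizer ((P : Subgroup G) : Set G)) := h.lt.le
  have eK : K ≃* (P : Subgroup G) := Subgroup.subgroupOfEquivOfLe hPL
  have hKp : IsPGroup p K := P.2.of_equiv eK.symm
  haveI : Group.IsNilpotent K := hKp.isNilpotent
  have hsolv : Group.IsSolvable K := inferInstance
  have hnaK : ¬ IsMulCommutative K := fun hc => hna ⟨⟨fun a b => eK.symm.injective (by
    rw [map_mul, map_mul]; exact hc.is_comm.comm _ _)⟩⟩
  have he0 : 0 < K.index := Nat.pos_of_ne_zero K.index_ne_zero_of_finite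
  have hK1 : K ≠ ⊥ := fun hb => hnaK (by rw [hb]; infer_instance)
  have hKtop : K ≠ ⊤ := fun ht => h.lt.ne (le_antisymm hPL fun x hx => by
    have : (⟨x, hx⟩ : (Subgroup.normalizer ((P : Subgroup G) : Set G))) ∈ K := ht ▸ Subgroup.mem_top _
    exact Subgroup.mem_subgroupOf.mp this)
  have hpe : ¬ p ∣ K.index := by
    have := Feit.coprime_index K hC
    obtain ⟨n, hn⟩ := IsPGroup.iff_card.mp hKp
    intro hd
    have hn0 : n ≠ 0 := fun h0 => hK1 (Subgroup.card_eq_one.mp (by rw [hn, h0, pow_zero]))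
    exact (Fact.out : p.Prime).not_dvd_one
      (this.gcd_eq_one ▸ Nat.dvd_gcd (hn ▸ dvd_pow_self p hn0) hd)
  -- the central subgroup
  set Z := (commutator K ⊓ Subgroup.center K).map K.subtype with hZdef
  haveI hZn : Z.Normal := by
    rw [hZdef, Subgroup.map_inf _ _ _ K.subtype_injective]; infer_instance
  have hZK : Z ≤ K := Subgroup.map_subtype_le _
  have hcne : commutator K ≠ ⊥ := fun hb => hnaK ⟨⟨fun a b => by
    have : ⁅a, b⁆ ∈ commutator K := Subgroup.commutator_mem_commutator (Subgroup.mem_top a) (Subgroup.mem_top b)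
    rw [hb, Subgroup.mem_bot, commutatorElement_def, mul_inv_eq_one, mul_inv_eq_iff_eq_mul] at this
    exact this⟩⟩
  have hZ1 : Z ≠ ⊥ := by
    rw [hZdef, Ne, Subgroup.map_eq_bot_iff_of_injective _ K.subtype_injective]
    exact CfsgLib.Solvable.FrattiniFitting.inf_center_ne_bot _ hcne
  have hZc : ∀ z ∈ Z, ∀ k ∈ K, z * k = k * z := by
    rintro _ ⟨z, hz, rfl⟩ k hk
    exact (congrArg Subtype.val (Subgroup.mem_center_iff.mp hz.2 ⟨k, hk⟩)).symm
  have hZder : Z ≤ ⁅K, K⁆ := by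
    rw [← Subgroup.map_subtype_commutator]; exact Subgroup.map_mono inf_le_left
  -- the whole set
  set S := indNontriv K K with hSdef
  have hSirr : ∀ η ∈ S, Cfsg.IsIrrCharacter (Subgroup.normalizer ((P : Subgroup G) : Set G)) η := Feit.isIrr_indNontriv K hC
  have hreal : ∀ η ∈ S, Cfsg.conjFun η ≠ η := by
    intro η hη he
    have h2 := hη
    rw [hSdef, Feit.S_eq K hC] at h2
    obtain ⟨hi, x, -, hx⟩ := h2
    have h1 := Cfsg.Agent.S0161.real_unique hodd ⟨η, hi⟩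
      fun g => Complex.conj_eq_iff_im.mp (congrFun he g)
    exact hx (by rw [show η = fun _ => 1 from congrArg Subtype.val h1])
  obtain ⟨hτ, hτ1⟩ := isometry_indFun h K
  have hXS : indNontriv K Z ⊆ S := by
    rintro _ ⟨θ, hθ, hnt, rfl⟩
    exact ⟨θ, hθ, fun ht => hnt fun a _ => ht a a.2, rfl⟩
  set X := indNontriv K Z with hXdef
  have hXcoh := isCoherent_indNontriv K hp hKp hpe Z hZ1 hZK hZc (fun η hη => hSirr η (hXS hη))
    (fun η hη => hreal η (hXS hη)) τ (isometry_mono hXS hτ) fun α hα => hτ1 α (zspanOn_mono hXS hα)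
  set Θ := (Finset.univ : Finset (Cfsg.IrrCharacter K)).erase (Feit.one K) with hΘ
  set ΘY := (Finset.univ.filter fun φ : Cfsg.IrrCharacter K =>
    natDeg (φ : K → ℂ) = 1).erase (Feit.one K) with hΘY
  set ΘX := Finset.univ.filter fun φ : Cfsg.IrrCharacter K => ¬ TrivOn K Z (φ : K → ℂ) with hΘX
  set F := fun φ : Cfsg.IrrCharacter K => Cfsg.indFun K (φ : K → ℂ) with hF
  have hone : ∀ φ : Cfsg.IrrCharacter K, TrivOn K K (φ : K → ℂ) ↔ φ = Feit.one K := by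
    refine fun φ => ⟨fun h => ?_, fun h a _ => by subst h; rfl⟩
    exact Feit.eq_one_of_const K ((Feit.trivOn_commutator_iff K φ.2).mp fun a ha =>
      h a (Subgroup.commutator_le_left K K ha)) fun x => h x x.2
  have hS : ∀ η, η ∈ S ↔ ∃ φ ∈ Θ, F φ = η := fun η =>
    ⟨fun ⟨θ, hθ, hnt, he⟩ => ⟨⟨θ, hθ⟩, Finset.mem_erase.mpr
      ⟨fun h => hnt ((hone ⟨θ, hθ⟩).mpr h), Finset.mem_univ _⟩, he.symm⟩,
    fun ⟨φ, hφ, he⟩ => ⟨φ, φ.2, fun h => (Finset.mem_erase.mp hφ).1 ((hone φ).mp h), he.symm⟩⟩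
  have hstΘ : ∀ φ ∈ Θ, ∀ ψ : Cfsg.IrrCharacter K, F ψ = F φ → ψ ∈ Θ := fun φ hφ ψ h =>
    Finset.mem_erase.mpr ⟨fun he => (Finset.mem_erase.mp hφ).1
      ((hone φ).mp (trivOn_of_indFun_eq φ.2 ψ.2 h.symm ((hone ψ).mpr he))), Finset.mem_univ _⟩
  have hstY : ∀ φ ∈ ΘY, ∀ ψ : Cfsg.IrrCharacter K, F ψ = F φ → ψ ∈ ΘY := by
    intro φ hφ ψ h
    obtain ⟨hne, hd⟩ := Finset.mem_erase.mp hφ
    refine Finset.mem_erase.mpr ⟨fun he => (hne ((hone φ).mp
      (trivOn_of_indFun_eq φ.2 ψ.2 h.symm ((hone ψ).mpr he)))), Finset.mem_filter.mpr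
      ⟨Finset.mem_univ _, (natDeg_eq_of_indFun_eq K h).trans (Finset.mem_filter.mp hd).2⟩⟩
  have hstX : ∀ φ ∈ ΘX, ∀ ψ : Cfsg.IrrCharacter K, F ψ = F φ → ψ ∈ ΘX := fun φ hφ ψ h =>
    Finset.mem_filter.mpr ⟨Finset.mem_univ _, fun ht =>
      (Finset.mem_filter.mp hφ).2 (trivOn_of_indFun_eq φ.2 ψ.2 h.symm ht)⟩
  set Y : Set ((Subgroup.normalizer ((P : Subgroup G) : Set G)) → ℂ) := ↑(ΘY.image F) with hYdef
  have hXeq : X = ↑(ΘX.image F) := by
    ext η
    rw [Finset.coe_image]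
    exact ⟨fun ⟨θ, hθ, hnt, he⟩ => ⟨⟨θ, hθ⟩, Finset.mem_filter.mpr ⟨Finset.mem_univ _, hnt⟩, he.symm⟩,
      fun ⟨φ, hφ, he⟩ => ⟨φ, φ.2, (Finset.mem_filter.mp hφ).2, he.symm⟩⟩
  have hΘYsub : ΘY ⊆ Θ := fun φ hφ =>
    Finset.mem_erase.mpr ⟨(Finset.mem_erase.mp hφ).1, Finset.mem_univ _⟩
  have hΘXsub : ΘX ⊆ Θ := fun φ hφ => Finset.mem_erase.mpr
    ⟨fun h => (Finset.mem_filter.mp hφ).2 (by subst h; exact fun a _ => rfl), Finset.mem_univ _⟩
  have hYS : Y ⊆ S := by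
    intro η hη
    obtain ⟨φ, hφ, rfl⟩ := Finset.mem_image.mp hη
    exact (hS _).mpr ⟨φ, hΘYsub hφ, rfl⟩
  have hYdeg : ∀ η ∈ Y, natDeg η = K.index := by
    intro η hη
    obtain ⟨φ, hφ, rfl⟩ := Finset.mem_image.mp hη
    simp only [hF]
    rw [natDeg_indFun K φ.2, (Finset.mem_filter.mp (Finset.mem_erase.mp hφ).2).2, mul_one]
  have hXY : Disjoint X Y := by
    refine Set.disjoint_left.mpr fun η hx hy => ?_
    obtain ⟨θ, hθ, hnt, rfl⟩ := hx
    obtain ⟨φ, hφ, he⟩ := Finset.mem_image.mp hy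
    refine hnt (trivOn_of_indFun_eq hθ φ.2 he.symm fun a ha => ?_)
    exact (Feit.trivOn_commutator_iff K φ.2).mpr
      (Finset.mem_filter.mp (Finset.mem_erase.mp hφ).2).2 a (hZder ha)
  have hXconj : ∀ η ∈ X, Cfsg.conjFun η ∈ X := by
    rintro _ ⟨θ, hθ, hnt, rfl⟩
    exact ⟨fun k => conj (θ k), IsIrrCharacter.conj' hθ,
      fun ht => hnt fun a ha => by simpa using congrArg conj (ht a ha), (indFun_conj K θ).symm⟩
  have hYconj : ∀ η ∈ Y, Cfsg.conjFun η ∈ Y := by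
    intro η hη
    obtain ⟨φ, hφ, rfl⟩ := Finset.mem_image.mp hη
    obtain ⟨hne, hd⟩ := Finset.mem_erase.mp hφ
    refine Finset.mem_image.mpr ⟨⟨fun k => conj ((φ : K → ℂ) k), IsIrrCharacter.conj' φ.2⟩,
      Finset.mem_erase.mpr ⟨fun h => hne ((hone φ).mp fun a ha => ?_), Finset.mem_filter.mpr
        ⟨Finset.mem_univ _, ?_⟩⟩, indFun_conj K _⟩
    · simpa using congrArg conj ((hone _).mpr h a ha)
    · show ⌊(conj ((φ : K → ℂ) 1)).re⌋₊ = 1
      rw [Complex.conj_re]; exact (Finset.mem_filter.mp hd).2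
  -- base points
  obtain ⟨φ₁, hφ₁, hmin⟩ := Finset.exists_min_image ΘX (fun φ => natDeg (φ : K → ℂ)) (by
    obtain ⟨z, hz⟩ := Subgroup.ne_bot_iff_exists_ne_one.mp hZ1
    by_contra hc
    rw [Finset.not_nonempty_iff_eq_empty] at hc
    refine hz (Subtype.ext (congrArg Subtype.val
      (eq_one_of_forall_irr (g := (⟨z, hZK z.2⟩ : K)) fun φ => ?_) :))
    by_contra hne
    have : φ ∈ ΘX := Finset.mem_filter.mpr ⟨Finset.mem_univ _, fun ht => hne (ht _ z.2)⟩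
    rw [hc] at this
    exact Finset.notMem_empty _ this)
  set χ₀ := F φ₁ with hχ₀
  set c := natDeg (φ₁ : K → ℂ) with hc
  have hc0 : 0 < c := natDeg_pos φ₁.2
  have hχ₀X : χ₀ ∈ X := hXeq ▸ Finset.mem_image_of_mem F hφ₁
  obtain ⟨φ₂, hφ₂⟩ : ΘY.Nonempty := by
    obtain ⟨l, hl1, -⟩ := CoherenceKernel.exists_linear_above K hsolv ⊥
      (bot_lt_iff_ne_bot.mpr hK1)
    exact ⟨⟨_, isIrrCharacter_hom l⟩, Finset.mem_erase.mpr
      ⟨fun he => hl1 (congrArg Subtype.val he), Finset.mem_filter.mpr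
        ⟨Finset.mem_univ _, by simp [natDeg]⟩⟩⟩
  set η₀ := F φ₂ with hη₀
  have hη₀Y : η₀ ∈ Y := Finset.mem_image_of_mem F hφ₂
  have hχdeg : χ₀ 1 = (K.index : ℂ) * c := by
    rw [hχ₀, hF]; simp only [indFun_one, natDeg_spec φ₁.2]; rfl
  have hηdeg : η₀ 1 = (K.index : ℂ) := by
    rw [hη₀, hF]
    simp only [indFun_one, natDeg_spec φ₂.2, (Finset.mem_filter.mp (Finset.mem_erase.mp hφ₂).2).2,
      Nat.cast_one, mul_one]
  have hX2 : ∃ a ∈ X, ∃ b ∈ X, a ≠ b :=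
    ⟨χ₀, hχ₀X, _, hXconj _ hχ₀X, (hreal _ (hXS hχ₀X)).symm⟩
  have hY2 : ∃ a ∈ Y, ∃ b ∈ Y, a ≠ b :=
    ⟨η₀, hη₀Y, _, hYconj _ hη₀Y, (hreal _ (hYS hη₀Y)).symm⟩
  have hYcoh : Cfsg.IsCoherent Y {1}ᶜ τ :=
    isCoherent_of_irr_degree_eq _ (fun χ hχ => hSirr χ (hYS hχ))
      (fun χ hχ χ' hχ' => by
        rw [natDeg_spec (hSirr χ (hYS hχ)), natDeg_spec (hSirr χ' (hYS hχ')), hYdeg χ hχ,
          hYdeg χ' hχ'])
      (Finset.one_lt_card.mpr (by simpa [hYdef] using hY2)) τ (isometry_mono hYS hτ)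
      fun α hα => hτ1 α (zspanOn_mono hYS hα)
  obtain ⟨-, σ, hσ, hσα⟩ := hXcoh
  obtain ⟨-, ρ, hρ, hρα⟩ := hYcoh
  -- the element to be linked
  set β := τ (χ₀ - ((c : ℤ) : ℂ) • η₀) with hβ
  have hβmem : χ₀ - ((c : ℤ) : ℂ) • η₀ ∈ Cfsg.zspanOn S {1}ᶜ := mem_zspanOn_one.mpr
    ⟨(Submodule.span ℤ S).sub_mem (Submodule.subset_span (hXS hχ₀X))
      (intCast_smul_mem (Submodule.subset_span (hYS hη₀Y)) _),
      by rw [Pi.sub_apply, Pi.smul_apply, hχdeg, hηdeg, smul_eq_mul]; push_cast; ring⟩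
  have hβgen : Cfsg.IsGeneralizedCharacter G β := hτ.2.2.2 _ hβmem
  suffices hlink : ∃ σ' ρ' : ((Subgroup.normalizer ((P : Subgroup G) : Set G)) → ℂ) → (G → ℂ),
      Cfsg.IsLinearIsometryOn (Cfsg.zspan X) σ' ∧ (∀ θ ∈ Cfsg.zspanOn X {1}ᶜ, σ' θ = τ θ) ∧
      Cfsg.IsLinearIsometryOn (Cfsg.zspan Y) ρ' ∧ (∀ θ ∈ Cfsg.zspanOn Y {1}ᶜ, ρ' θ = τ θ) ∧
      Cfsg.classInner β (σ' χ₀) = 1 ∧ Cfsg.classInner β (ρ' η₀) = -(c : ℂ) by
    obtain ⟨σ', ρ', hσ', hσ'α, hρ', hρ'α, ha, hb⟩ := hlink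
    -- the link
    have hβeq : β = σ' χ₀ - (c : ℂ) • ρ' η₀ := by
      refine sub_eq_zero.mp (classInner_self_eq_zero.mp ?_)
      have hσn : Cfsg.classInner (σ' χ₀) (σ' χ₀) = 1 := by
        rw [hσ'.2.2.1 _ (Submodule.subset_span hχ₀X) _ (Submodule.subset_span hχ₀X),
          classInner_irr_self (hSirr _ (hXS hχ₀X))]
      have hρn : Cfsg.classInner (ρ' η₀) (ρ' η₀) = 1 := by
        rw [hρ'.2.2.1 _ (Submodule.subset_span hη₀Y) _ (Submodule.subset_span hη₀Y),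
          classInner_irr_self (hSirr _ (hYS hη₀Y))]
      have horth := classInner_coherent_disjoint hSirr hXS hYS hXY hX2 hY2 hτ hτ1 hσ' hσ'α hρ'
        hρ'α hχ₀X hη₀Y
      have hβn : Cfsg.classInner β β = 1 + (c : ℂ) * c := by
        rw [hβ, hτ.2.2.1 _ hβmem _ hβmem]
        have hne : χ₀ ≠ η₀ := fun he => Set.disjoint_left.mp hXY hχ₀X (he ▸ hη₀Y)
        simp only [classInner_sub_left, classInner_sub_right, classInner_smul_left,
          classInner_smul_right, classInner_irr_self (hSirr _ (hXS hχ₀X)),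
          classInner_irr_self (hSirr _ (hYS hη₀Y)),
          classInner_irr_ne (hSirr _ (hXS hχ₀X)) (hSirr _ (hYS hη₀Y)) hne,
          classInner_irr_ne (hSirr _ (hYS hη₀Y)) (hSirr _ (hXS hχ₀X)) hne.symm,
          Int.cast_natCast, map_natCast]
        ring
      have horth' : Cfsg.classInner (ρ' η₀) (σ' χ₀) = 0 := by
        rw [← classInner_conj_symm, horth, map_zero]
      have ha' : Cfsg.classInner (σ' χ₀) β = 1 := by rw [← classInner_conj_symm, ha, map_one]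
      have hb' : Cfsg.classInner (ρ' η₀) β = -(c : ℂ) := by
        rw [← classInner_conj_symm, hb, map_neg, map_natCast]
      simp only [classInner_sub_left, classInner_sub_right, classInner_smul_left,
        classInner_smul_right, hσn, hρn, horth, horth', ha, ha', hb, hb', hβn, map_natCast]
      ring
    have hunion := isCoherent_union hSirr hXS hYS hXY hX2 hY2 hτ hτ1 hσ' hσ'α hρ' hρ'α hχ₀X hη₀Y (by
      have he : χ₀ 1 • η₀ - η₀ 1 • χ₀ = (-(K.index : ℂ)) • (χ₀ - ((c : ℤ) : ℂ) • η₀) := by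
        rw [hχdeg, hηdeg, Int.cast_natCast]; module
      show Cfsg.indFun (Subgroup.normalizer ((P : Subgroup G) : Set G)) _ = _
      rw [he, indFun_smul, show Cfsg.indFun (Subgroup.normalizer ((P : Subgroup G) : Set G)) (χ₀ - ((c : ℤ) : ℂ) • η₀) = β from rfl, hβeq, hχdeg,
        hηdeg]
      module)
    -- the remaining characters
    have hstu : ∀ φ ∈ ΘX ∪ ΘY, ∀ ψ : Cfsg.IrrCharacter K, F ψ = F φ → ψ ∈ ΘX ∪ ΘY := fun φ hφ ψ h =>
      (Finset.mem_union.mp hφ).elim (fun h' => Finset.mem_union_left _ (hstX φ h' ψ h))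
        fun h' => Finset.mem_union_right _ (hstY φ h' ψ h)
    refine isCoherent_grow_ind K Θ (ΘX ∪ ΘY) (Finset.union_subset hΘXsub hΘYsub)
      (fun φ hφ => hSirr _ ((hS _).mpr ⟨φ, hφ, rfl⟩)) hstΘ hstu hS τ hτ hτ1
      (by rw [Finset.coe_union, Set.image_union, ← Finset.coe_image, ← Finset.coe_image]
          exact hXeq ▸ hunion)
      (Finset.mem_union_right _ hφ₂)
      (fun φ _ => by rw [(Finset.mem_filter.mp (Finset.mem_erase.mp hφ₂).2).2]; exact one_dvd _)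
      fun φ hφ hφ0 => ?_
    rw [(Finset.mem_filter.mp (Finset.mem_erase.mp hφ₂).2).2, mul_one]
    have hd1 : 1 < natDeg (φ : K → ℂ) := by
      refine lt_of_le_of_ne (natDeg_pos φ.2) fun h => hφ0 (Finset.mem_union_right _
        (Finset.mem_erase.mpr ⟨(Finset.mem_erase.mp hφ).1,
          Finset.mem_filter.mpr ⟨Finset.mem_univ _, h.symm⟩⟩))
    refine lt_of_lt_of_le ?_ (Finset.sum_le_sum_of_subset (s := ΘX) fun ψ hψ =>
      Finset.mem_filter.mpr ⟨hΘXsub hψ, Or.inl (Finset.mem_union_left _ hψ)⟩)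
    -- the weight of `X`
    have hsum : ∑ ψ ∈ ΘX, natDeg (ψ : K → ℂ) ^ 2 + Z.relIndex K = Nat.card K := by
      have h1 : ((∑ ψ ∈ Finset.univ.filter (fun ψ : Cfsg.IrrCharacter K => TrivOn K Z (ψ : K → ℂ)),
          natDeg (ψ : K → ℂ) ^ 2 : ℕ) : ℂ) = (Z.relIndex K : ℂ) := by
        rw [← CoherenceKernel.sum_sq_above K Z hZK, Nat.cast_sum]
        refine Finset.sum_congr (Finset.filter_congr fun ψ _ => Iff.rfl) fun ψ _ => by
          rw [Nat.cast_pow, sq, ← natDeg_spec ψ.2]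
      have h2 : ((∑ ψ : Cfsg.IrrCharacter K, natDeg (ψ : K → ℂ) ^ 2 : ℕ) : ℂ) = (Nat.card K : ℂ) := by
        rw [← sum_sq_apply_one (G := K), Nat.cast_sum]
        exact Finset.sum_congr rfl fun ψ _ => by rw [Nat.cast_pow, ← natDeg_spec ψ.2]
      rw [← (Nat.cast_injective (R := ℂ)) h1, ← (Nat.cast_injective (R := ℂ)) h2,
        ← Finset.sum_filter_add_sum_filter_not (Finset.univ : Finset (Cfsg.IrrCharacter K))
          (fun ψ => TrivOn K Z (ψ : K → ℂ)), add_comm, hΘX]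
    have hcard : Nat.card Z * Z.relIndex K = Nat.card K := by
      rw [← Subgroup.relIndex_bot_left, ← Subgroup.relIndex_bot_left,
        Subgroup.relIndex_mul_relIndex ⊥ Z K bot_le hZK]
    obtain ⟨z, hz⟩ : ∃ z, Nat.card Z = z + 1 := ⟨Nat.card Z - 1, by
      have := Nat.card_pos (α := Z); omega⟩
    have hA : ∑ ψ ∈ ΘX, natDeg (ψ : K → ℂ) ^ 2 = Z.relIndex K * z := by
      rw [hz] at hcard; nlinarith
    have hez : K.index ∣ z := by
      have h1 : K.index ∣ Z.relIndex K * z := by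
        rw [← hA]
        refine ⟨_, (Finset.sum_congr rfl fun ψ hψ => ?_).trans
          (sum_indFun K ΘX (fun φ' h => hSirr _ ((hS _).mpr ⟨φ', hΘXsub h, rfl⟩)) hstX
            fun η => (natDeg η / K.index) ^ 2)⟩
        rw [natDeg_indFun K ψ.2, Nat.mul_div_cancel_left _ he0]
      refine ((Nat.Coprime.coprime_dvd_right ?_ (Feit.coprime_index K hC).symm)).dvd_of_dvd_mul_left h1
      exact Subgroup.relIndex_dvd_card Z K
    have hzodd : 2 ∣ z := by
      obtain ⟨n, hn⟩ : Odd (Nat.card Z) := hodd.of_dvd_nat Z.card_subgroup_dvd_card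
      omega
    have hz0 : z ≠ 0 := fun h0 => hZ1 (Subgroup.card_eq_one.mp (by rw [hz, h0]))
    have h2e : 2 * K.index ≤ z := Nat.le_of_dvd (Nat.pos_of_ne_zero hz0)
      (Nat.Coprime.mul_dvd_of_dvd_of_dvd
        (Nat.coprime_two_left.mpr (hodd.of_dvd_nat K.index_dvd_card)) hzodd hez)
    haveI : (Z.subgroupOf K).Normal := Subgroup.Normal.subgroupOf hZn K
    obtain ⟨d, hd, hd2⟩ := CoherenceKernel.degree_sq_le (Z.subgroupOf K) (⊥ : Subgroup K)
      (fun x hx y => Subgroup.mem_bot.mpr (by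
        rw [mul_inv_eq_one, mul_inv_eq_iff_eq_mul]
        exact Subtype.ext (hZc _ (Subgroup.mem_subgroupOf.mp hx) _ y.2)))
      φ.2 (fun b hb => by rw [Subgroup.mem_bot.mp hb])
    have hde : natDeg (φ : K → ℂ) = d := by exact_mod_cast (natDeg_spec φ.2).symm.trans hd
    rw [hde] at hd1 ⊢
    rw [hA]
    calc 2 * K.index * d < 2 * K.index * d ^ 2 := by
          refine Nat.mul_lt_mul_of_pos_left ?_ (by omega)
          rw [sq]; exact (lt_mul_iff_one_lt_left (by omega)).mpr hd1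
      _ ≤ z * Z.relIndex K := Nat.mul_le_mul h2e hd2
      _ = _ := mul_comm _ _
  -- the coefficients
  have hσ' : Cfsg.IsLinearIsometryOn ((Submodule.span ℤ X : Submodule ℤ ((Subgroup.normalizer ((P : Subgroup G) : Set G)) → ℂ)) : Set ((Subgroup.normalizer ((P : Subgroup G) : Set G)) → ℂ)) σ := hσ
  have hρ' : Cfsg.IsLinearIsometryOn ((Submodule.span ℤ Y : Submodule ℤ ((Subgroup.normalizer ((P : Subgroup G) : Set G)) → ℂ)) : Set ((Subgroup.normalizer ((P : Subgroup G) : Set G)) → ℂ)) ρ := hρ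
  have hmX : ∀ ξ ∈ X, ξ ∈ Submodule.span ℤ X := fun ξ h => Submodule.subset_span h
  have hmY : ∀ ξ ∈ Y, ξ ∈ Submodule.span ℤ Y := fun ξ h => Submodule.subset_span h
  choose! a ha using fun ξ (hξ : ξ ∈ X) =>
    IsGeneralizedCharacter.classInner_int hβgen (hσ.2.2.2 ξ (hmX ξ hξ))
  choose! b hb using fun ξ (hξ : ξ ∈ Y) =>
    IsGeneralizedCharacter.classInner_int hβgen (hρ.2.2.2 ξ (hmY ξ hξ))
  have hdegX : ∀ ξ ∈ X, ∃ u : ℕ, 0 < u ∧ ξ 1 = (K.index : ℂ) * ((u : ℂ) * c) := by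
    intro ξ hξ
    obtain ⟨φ, hφ, rfl⟩ := Finset.mem_image.mp (show ξ ∈ ΘX.image F by
      rw [← Finset.mem_coe, ← hXeq]; exact hξ)
    obtain ⟨-, i, hi⟩ := natDeg_sq_dvd_card hKp φ.2
    obtain ⟨-, j, hj⟩ := natDeg_sq_dvd_card hKp φ₁.2
    have hle : natDeg (φ₁ : K → ℂ) ≤ natDeg (φ : K → ℂ) := hmin φ hφ
    rw [hi, hj] at hle
    have hji := (Nat.pow_le_pow_iff_right (Fact.out : p.Prime).one_lt).mp hle
    refine ⟨p ^ (i - j), pow_pos (Fact.out : p.Prime).pos _, ?_⟩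
    simp only [hF]
    rw [indFun_one, natDeg_spec φ.2, ← Nat.cast_mul (p ^ (i - j)), hi, hc, hj, ← pow_add,
      Nat.sub_add_cancel hji]
  choose! u hu0 hu using hdegX
  have hu₀ : u χ₀ = 1 := by
    have h1 := hu χ₀ hχ₀X
    rw [hχdeg] at h1
    have h2 : K.index * c = K.index * (u χ₀ * c) := by exact_mod_cast h1
    have h3 := Nat.eq_of_mul_eq_mul_left he0 h2
    nlinarith
  have hneXY : ∀ ξ ∈ X, ∀ η ∈ Y, ξ ≠ η := fun ξ hξ η hη he =>
    Set.disjoint_left.mp hXY hξ (he ▸ hη)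
  -- the differences inside `X`
  have hdiffX : ∀ ξ ∈ X, ξ - ((u ξ : ℤ) : ℂ) • χ₀ ∈ Cfsg.zspanOn X {1}ᶜ := fun ξ hξ =>
    mem_zspanOn_one.mpr ⟨(Submodule.span ℤ X).sub_mem (hmX ξ hξ)
      (intCast_smul_mem (hmX χ₀ hχ₀X) _),
      by rw [Pi.sub_apply, Pi.smul_apply, hu ξ hξ, hχdeg, smul_eq_mul]; push_cast; ring⟩
  have hσdiff : ∀ ξ ∈ X, τ (ξ - ((u ξ : ℤ) : ℂ) • χ₀) = σ ξ - ((u ξ : ℤ) : ℂ) • σ χ₀ := fun ξ hξ => by
    rw [← hσα _ (hdiffX ξ hξ), map_sub' hσ' (hmX ξ hξ) (intCast_smul_mem (hmX χ₀ hχ₀X) _),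
      map_intCast_smul hσ' (hmX χ₀ hχ₀X)]
  have hcoefX : ∀ ξ ∈ X, a ξ = (if ξ = χ₀ then 1 else 0) + (u ξ : ℤ) * (a χ₀ - 1) := by
    intro ξ hξ
    have h1 : Cfsg.classInner β (τ (ξ - ((u ξ : ℤ) : ℂ) • χ₀)) = _ :=
      hτ.2.2.1 _ hβmem _ (zspanOn_mono hXS (hdiffX ξ hξ))
    rw [hσdiff ξ hξ, classInner_sub_right, classInner_smul_right, ha ξ hξ, ha χ₀ hχ₀X,
      classInner_sub_left, classInner_smul_left, classInner_sub_right, classInner_sub_right,
      classInner_smul_right, classInner_smul_right,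
      classInner_irr_self (hSirr _ (hXS hχ₀X)),
      classInner_irr (hSirr _ (hXS hχ₀X)) (hSirr _ (hXS hξ)),
      classInner_irr_ne (hSirr _ (hYS hη₀Y)) (hSirr _ (hXS hξ)) (hneXY ξ hξ η₀ hη₀Y).symm,
      classInner_irr_ne (hSirr _ (hYS hη₀Y)) (hSirr _ (hXS hχ₀X)) (hneXY χ₀ hχ₀X η₀ hη₀Y).symm,
      map_intCast] at h1
    have h2 : ((a ξ : ℤ) : ℂ) =
        ((if ξ = χ₀ then (1 : ℤ) else 0) + (u ξ : ℤ) * (a χ₀ - 1) : ℤ) := by
      by_cases hc' : ξ = χ₀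
      · rw [if_pos hc'] ; rw [if_pos hc'.symm] at h1
        push_cast at h1 ⊢
        linear_combination h1
      · rw [if_neg hc']; rw [if_neg (Ne.symm hc')] at h1
        push_cast at h1 ⊢
        linear_combination h1
    exact_mod_cast h2
  have hdiffY : ∀ ξ ∈ Y, ξ - η₀ ∈ Cfsg.zspanOn Y {1}ᶜ := fun ξ hξ =>
    mem_zspanOn_one.mpr ⟨(Submodule.span ℤ Y).sub_mem (hmY ξ hξ) (hmY η₀ hη₀Y), by
      rw [Pi.sub_apply, natDeg_spec (hSirr ξ (hYS hξ)), hYdeg ξ hξ, hηdeg, sub_self]⟩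
  have hcoefY : ∀ ξ ∈ Y, b ξ = (b η₀ + c) - (c : ℤ) * (if ξ = η₀ then 1 else 0) := by
    intro ξ hξ
    have h1 : Cfsg.classInner β (τ (ξ - η₀)) = _ :=
      hτ.2.2.1 _ hβmem _ (zspanOn_mono hYS (hdiffY ξ hξ))
    rw [← hρα _ (hdiffY ξ hξ), map_sub' hρ' (hmY ξ hξ) (hmY η₀ hη₀Y), classInner_sub_right,
      hb ξ hξ, hb η₀ hη₀Y,
      classInner_sub_left, classInner_smul_left, classInner_sub_right, classInner_sub_right,
      classInner_irr_self (hSirr _ (hYS hη₀Y)),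
      classInner_irr (hSirr _ (hYS hη₀Y)) (hSirr _ (hYS hξ)),
      classInner_irr_ne (hSirr _ (hXS hχ₀X)) (hSirr _ (hYS hξ)) (hneXY χ₀ hχ₀X ξ hξ),
      classInner_irr_ne (hSirr _ (hXS hχ₀X)) (hSirr _ (hYS hη₀Y)) (hneXY χ₀ hχ₀X η₀ hη₀Y)] at h1
    have h2 : ((b ξ : ℤ) : ℂ) =
        (((b η₀ + c) - (c : ℤ) * (if ξ = η₀ then 1 else 0) : ℤ) : ℂ) := by
      by_cases hc' : ξ = η₀
      · rw [if_pos hc'] ; rw [if_pos hc'.symm] at h1
        push_cast at h1 ⊢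
        linear_combination h1
      · rw [if_neg hc']; rw [if_neg (Ne.symm hc')] at h1
        push_cast at h1 ⊢
        linear_combination h1
    exact_mod_cast h2
  -- the congruence
  have hdvd : (c : ℤ) ∣ b η₀ := by
    obtain ⟨ε, ψ, -, hψ⟩ := CharDeep.GenChar.exists_sign_irr (hρ.2.2.2 η₀ (hmY η₀ hη₀Y))
      (by rw [hρ.2.2.1 _ (hmY η₀ hη₀Y) _ (hmY η₀ hη₀Y), classInner_irr_self (hSirr _ (hYS hη₀Y))])
    have hψc := IsIrrCharacter.isClassFunction ψ.2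
    set R := fun n : (Subgroup.normalizer ((P : Subgroup G) : Set G)) => (ψ : G → ℂ) n with hR
    have hres : Cfsg.IsCharacter (Subgroup.normalizer ((P : Subgroup G) : Set G)) R := IsCharacter.restrict (IsIrrCharacter.isCharacter ψ.2) (Subgroup.normalizer ((P : Subgroup G) : Set G))
    obtain ⟨A, hA⟩ := IsCharacter.classInner_nat (IsIrrCharacter.isCharacter (hSirr _ (hXS hχ₀X))) hres
    obtain ⟨B, hB⟩ := IsCharacter.classInner_nat (IsIrrCharacter.isCharacter (hSirr _ (hYS hη₀Y))) hres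
    have hε0 : (ε : ℂ) ≠ 0 := fun h0 => by
      have h2 := hρ.2.2.1 _ (hmY η₀ hη₀Y) _ (hmY η₀ hη₀Y)
      rw [hψ, h0, classInner_smul_left, zero_mul, classInner_irr_self (hSirr _ (hYS hη₀Y))] at h2
      exact zero_ne_one h2
    have hb0 : b η₀ = ε * ((A : ℤ) - c * B) := by
      have h1 := hb η₀ hη₀Y
      rw [hψ, classInner_smul_right, hβ, hτdef] at h1
      simp only at h1
      rw [classInner_indFun (Subgroup.normalizer ((P : Subgroup G) : Set G)) _ hψc, classInner_sub_left, classInner_smul_left, hA, hB,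
        map_intCast] at h1
      have : ((b η₀ : ℤ) : ℂ) = ((ε * ((A : ℤ) - c * B) : ℤ) : ℂ) := by
        push_cast at h1 ⊢; linear_combination -h1
      exact_mod_cast this
    have hprop : ∀ ξ ∈ X, Cfsg.classInner R ξ = ((A : ℂ) / ((K.index : ℂ) * c)) * ξ 1 := by
      intro ξ hξ
      have h1 : Cfsg.classInner (τ (ξ - ((u ξ : ℤ) : ℂ) • χ₀)) (ρ η₀) = 0 := by
        rw [hσdiff ξ hξ, classInner_sub_left, classInner_smul_left,
          classInner_coherent_disjoint hSirr hXS hYS hXY hX2 hY2 hτ hτ1 hσ hσα hρ hρα hξ hη₀Y,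
          classInner_coherent_disjoint hSirr hXS hYS hXY hX2 hY2 hτ hτ1 hσ hσα hρ hρα hχ₀X hη₀Y,
          mul_zero, sub_zero]
      rw [hψ, classInner_smul_right, hτdef] at h1
      simp only at h1
      rw [classInner_indFun (Subgroup.normalizer ((P : Subgroup G) : Set G)) _ hψc, classInner_sub_left, classInner_smul_left, hA,
        map_intCast, mul_eq_zero, or_iff_right hε0, sub_eq_zero,
        IsCharacter.classInner_comm (IsIrrCharacter.isCharacter (hSirr _ (hXS hξ))) hres] at h1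
      rw [h1, hu ξ hξ]
      have hK0 : (K.index : ℂ) ≠ 0 := Nat.cast_ne_zero.mpr he0.ne'
      have hc' : (c : ℂ) ≠ 0 := Nat.cast_ne_zero.mpr hc0.ne'
      push_cast
      field_simp
    obtain ⟨z, hz, hz1⟩ : ∃ z : (Subgroup.normalizer ((P : Subgroup G) : Set G)), z ∈ Z ∧ z ≠ 1 := by
      obtain ⟨z, hz⟩ := Subgroup.ne_bot_iff_exists_ne_one.mp hZ1
      exact ⟨z, z.2, fun h => hz (Subtype.ext h)⟩
    have hXset := indNontriv_eq K Z hZK fun η hη => hSirr η (hXS hη)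
    have hval : ∀ w ∈ Z, w ≠ 1 → R 1 - R w = ((A : ℂ) / ((K.index : ℂ) * c)) * (Nat.card (Subgroup.normalizer ((P : Subgroup G) : Set G)) : ℂ) :=
      fun w hw hw1 => apply_sub_eq (IsGeneralizedCharacter.isClassFunction
        (IsCharacter.isGeneralizedCharacter hres)) X _ hprop hw1 fun χ hχ hχX => by
        by_contra hne
        exact hχX (by rw [hXdef, hXset]; exact ⟨hχ, w, hw, hne⟩)
    set ZG := Z.map (Subgroup.normalizer ((P : Subgroup G) : Set G)).subtype with hZG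
    obtain ⟨n, dd, hn, hd, hdiv⟩ := CentralTI.exists_int_congr P h.ti hodd ZG
      (by rintro _ ⟨w, hw, rfl⟩; exact Subgroup.mem_subgroupOf.mp (hZK hw))
      (by
        rintro x hx _ ⟨w, hw, rfl⟩
        exact ⟨⟨x, hx⟩ * w * ⟨x, hx⟩⁻¹, hZn.conj_mem w hw _, rfl⟩)
      (by
        rintro _ ⟨w, hw, rfl⟩ y hy
        exact congrArg Subtype.val (hZc w hw ⟨y, hPL hy⟩ (Subgroup.mem_subgroupOf.mpr hy)))
      ψ.2 (by
        rintro _ ⟨w, hw, rfl⟩ _ ⟨w', hw', rfl⟩ h1 h1'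
        have e1 := hval w hw fun e => h1 (by rw [e]; rfl)
        have e2 := hval w' hw' fun e => h1' (by rw [e]; rfl)
        exact sub_right_injective (e1.trans e2.symm))
      (z : G) ⟨z, hz, rfl⟩ (fun e => hz1 (Subtype.ext e))
    obtain ⟨k, hk⟩ := hdiv
    have h1 := hval z hz hz1
    simp only [hR, OneMemClass.coe_one, hn, hd] at h1
    have hLK : (Nat.card (Subgroup.normalizer ((P : Subgroup G) : Set G)) : ℂ) = (Nat.card (P : Subgroup G) : ℂ) * K.index := by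
      rw [← Nat.cast_mul, ← Nat.card_congr eK.toEquiv, K.card_mul_index]
    rw [hLK] at h1
    have hP0 : (Nat.card (P : Subgroup G) : ℂ) ≠ 0 := Nat.cast_ne_zero.mpr Nat.card_pos.ne'
    have hK0 : (K.index : ℂ) ≠ 0 := Nat.cast_ne_zero.mpr he0.ne'
    have hc' : (c : ℂ) ≠ 0 := Nat.cast_ne_zero.mpr hc0.ne'
    have hk' : ((dd : ℂ) - n) = (Nat.card (P : Subgroup G) : ℂ) * k := by exact_mod_cast hk
    rw [hk'] at h1
    have hAk : ((A : ℤ) : ℂ) = (((c : ℤ) * k : ℤ) : ℂ) := by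
      push_cast
      field_simp at h1
      linear_combination -h1
    rw [hb0, show (A : ℤ) = c * k by exact_mod_cast hAk]
    exact ⟨ε * (k - B), by ring⟩
  -- the norm bound
  set FX := ΘX.image F with hFX
  set FY := ΘY.image F with hFY
  have hmemX : ∀ ξ, ξ ∈ FX ↔ ξ ∈ X := fun ξ => by rw [hXeq]; exact Finset.mem_coe.symm
  have hmemY : ∀ ξ, ξ ∈ FY ↔ ξ ∈ Y := fun ξ => Finset.mem_coe.symm
  have hdj : Disjoint FX FY := Finset.disjoint_left.mpr fun ξ h1 h2 =>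
    Set.disjoint_left.mp hXY ((hmemX ξ).mp h1) ((hmemY ξ).mp h2)
  set U : ℤ := ∑ ξ ∈ FX, (u ξ : ℤ) ^ 2 with hU
  set M : ℤ := (FY.card : ℤ) with hM
  set s : ℤ := a χ₀ - 1 with hs
  set t : ℤ := b η₀ + c with ht
  have hineq : U * s * s + 2 * s + M * t * t - 2 * c * t ≤ 0 := by
    set w : ((Subgroup.normalizer ((P : Subgroup G) : Set G)) → ℂ) → (G → ℂ) := fun ξ => if ξ ∈ FX then σ ξ else ρ ξ with hw
    set co : ((Subgroup.normalizer ((P : Subgroup G) : Set G)) → ℂ) → ℤ := fun ξ => if ξ ∈ FX then a ξ else b ξ with hco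
    have hwX : ∀ ξ ∈ FX, w ξ = σ ξ := fun ξ h => if_pos h
    have hwY : ∀ ξ ∈ FY, w ξ = ρ ξ := fun ξ h => if_neg fun h' => Finset.disjoint_left.mp hdj h' h
    obtain ⟨hbes, -⟩ := bessel (FX ∪ FY) w (fun _ => 1) (fun _ _ => Nat.one_pos)
      (fun i hi j hj => by
        have key : ∀ ξ ∈ X, ∀ η ∈ Y, Cfsg.classInner (σ ξ) (ρ η) = 0 := fun ξ hξ η hη =>
          classInner_coherent_disjoint hSirr hXS hYS hXY hX2 hY2 hτ hτ1 hσ hσα hρ hρα hξ hη
        rw [Nat.cast_one]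
        rcases Finset.mem_union.mp hi with hi | hi <;> rcases Finset.mem_union.mp hj with hj | hj
        · rw [hwX i hi, hwX j hj, hσ.2.2.1 _ (hmX i ((hmemX i).mp hi)) _ (hmX j ((hmemX j).mp hj)),
            classInner_irr (hSirr _ (hXS ((hmemX i).mp hi))) (hSirr _ (hXS ((hmemX j).mp hj)))]
        · rw [hwX i hi, hwY j hj, key i ((hmemX i).mp hi) j ((hmemY j).mp hj),
            if_neg fun e : i = j => Finset.disjoint_left.mp hdj hi (e ▸ hj)]
        · rw [hwY i hi, hwX j hj, ← classInner_conj_symm, key j ((hmemX j).mp hj) i ((hmemY i).mp hi),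
            map_zero, if_neg fun e : i = j => Finset.disjoint_left.mp hdj hj (e ▸ hi)]
        · rw [hwY i hi, hwY j hj, hρ.2.2.1 _ (hmY i ((hmemY i).mp hi)) _ (hmY j ((hmemY j).mp hj)),
            classInner_irr (hSirr _ (hYS ((hmemY i).mp hi))) (hSirr _ (hYS ((hmemY j).mp hj)))])
      β co (fun i hi => by
        rcases Finset.mem_union.mp hi with hi | hi
        · rw [hwX i hi, ha i ((hmemX i).mp hi)]; simp [hco, hi]
        · rw [hwY i hi, hb i ((hmemY i).mp hi)]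
          simp [hco, Finset.disjoint_right.mp hdj hi])
    have hβn : (Cfsg.classInner β β).re = 1 + (c : ℝ) * c := by
      rw [hβ, hτ.2.2.1 _ hβmem _ hβmem]
      simp only [classInner_sub_left, classInner_sub_right, classInner_smul_left,
        classInner_smul_right, classInner_irr_self (hSirr _ (hXS hχ₀X)),
        classInner_irr_self (hSirr _ (hYS hη₀Y)),
        classInner_irr_ne (hSirr _ (hXS hχ₀X)) (hSirr _ (hYS hη₀Y)) (hneXY χ₀ hχ₀X η₀ hη₀Y),
        classInner_irr_ne (hSirr _ (hYS hη₀Y)) (hSirr _ (hXS hχ₀X)) (hneXY χ₀ hχ₀X η₀ hη₀Y).symm,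
        Int.cast_natCast, map_natCast]
      simp
    rw [hβn, Finset.sum_union hdj] at hbes
    simp only [Nat.cast_one, div_one] at hbes
    have hsX : ∑ ξ ∈ FX, co ξ ^ 2 = 1 + 2 * s + U * s * s := by
      rw [Finset.sum_congr rfl fun ξ hξ => show co ξ ^ 2 = (if ξ = χ₀ then 1 + 2 * s else 0) +
          (u ξ : ℤ) ^ 2 * (s * s) by
        simp only [hco, if_pos hξ]
        rw [hcoefX ξ ((hmemX ξ).mp hξ)]
        by_cases hc' : ξ = χ₀
        · rw [if_pos hc', if_pos hc', hc', hu₀]; push_cast; ring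
        · rw [if_neg hc', if_neg hc']; ring,
        Finset.sum_add_distrib, Finset.sum_ite_eq', if_pos ((hmemX χ₀).mpr hχ₀X), ← Finset.sum_mul,
        ← hU]
      ring
    have hsY : ∑ ξ ∈ FY, co ξ ^ 2 = M * t * t - 2 * c * t + c * c := by
      rw [Finset.sum_congr rfl fun ξ hξ => show co ξ ^ 2 = (if ξ = η₀ then c * c - 2 * c * t else 0) +
          t * t by
        simp only [hco, if_neg (Finset.disjoint_right.mp hdj hξ)]
        rw [hcoefY ξ ((hmemY ξ).mp hξ)]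
        split_ifs <;> ring,
        Finset.sum_add_distrib, Finset.sum_ite_eq', if_pos ((hmemY η₀).mpr hη₀Y),
        Finset.sum_const, nsmul_eq_mul, ← hM]
      ring
    have hsX' : ∑ ξ ∈ FX, (co ξ : ℝ) ^ 2 = ((1 + 2 * s + U * s * s : ℤ) : ℝ) := by
      rw [← hsX]; push_cast; rfl
    have hsY' : ∑ ξ ∈ FY, (co ξ : ℝ) ^ 2 = ((M * t * t - 2 * c * t + c * c : ℤ) : ℝ) := by
      rw [← hsY]; push_cast; rfl
    rw [hsX', hsY'] at hbes
    have : (((U * s * s + 2 * s + M * t * t - 2 * c * t : ℤ)) : ℝ) ≤ ((0 : ℤ) : ℝ) := by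
      push_cast at hbes ⊢; linarith
    exact_mod_cast this
  have hbar : Cfsg.conjFun χ₀ ∈ FX := (hmemX _).mpr (hXconj _ hχ₀X)
  have hbarne : Cfsg.conjFun χ₀ ≠ χ₀ := hreal _ (hXS hχ₀X)
  have hubar : u (Cfsg.conjFun χ₀) = 1 := by
    have h1 := hu _ (hXconj _ hχ₀X)
    rw [Cfsg.conjFun, hχdeg, map_mul, map_natCast, map_natCast] at h1
    have h2 : K.index * c = K.index * (u (Cfsg.conjFun χ₀) * c) := by exact_mod_cast h1
    have h3 := Nat.eq_of_mul_eq_mul_left he0 h2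
    nlinarith
  have hpairU : ({χ₀, Cfsg.conjFun χ₀} : Finset ((Subgroup.normalizer ((P : Subgroup G) : Set G)) → ℂ)) ⊆ FX :=
    Finset.insert_subset_iff.mpr ⟨(hmemX _).mpr hχ₀X, Finset.singleton_subset_iff.mpr hbar⟩
  have hUsplit : U = 2 + ∑ ξ ∈ FX \ {χ₀, Cfsg.conjFun χ₀}, (u ξ : ℤ) ^ 2 := by
    rw [hU, ← Finset.sum_sdiff hpairU, Finset.sum_pair hbarne.symm, hu₀, hubar]
    push_cast; ring
  have hU2 : 2 ≤ U := by
    have : 0 ≤ ∑ ξ ∈ FX \ {χ₀, Cfsg.conjFun χ₀}, (u ξ : ℤ) ^ 2 :=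
      Finset.sum_nonneg fun _ _ => sq_nonneg _
    linarith
  have hpairM : ({η₀, Cfsg.conjFun η₀} : Finset ((Subgroup.normalizer ((P : Subgroup G) : Set G)) → ℂ)) ⊆ FY :=
    Finset.insert_subset_iff.mpr
      ⟨(hmemY _).mpr hη₀Y, Finset.singleton_subset_iff.mpr ((hmemY _).mpr (hYconj _ hη₀Y))⟩
  have hM2 : 2 ≤ M := by
    have := Finset.card_le_card hpairM
    rw [Finset.card_pair (hreal _ (hYS hη₀Y)).symm] at this
    rw [hM]; exact_mod_cast this
  obtain ⟨hsc, htc⟩ := link_cases hU2 hM2 (by exact_mod_cast hc0) (dvd_add hdvd dvd_rfl) hineq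
  obtain ⟨σ', hσ'', hσ''α, hσ''v⟩ : ∃ σ', Cfsg.IsLinearIsometryOn (Cfsg.zspan X) σ' ∧
      (∀ θ ∈ Cfsg.zspanOn X {1}ᶜ, σ' θ = τ θ) ∧ Cfsg.classInner β (σ' χ₀) = 1 := by
    rcases hsc with h0 | ⟨h0, hU'⟩
    · refine ⟨σ, hσ, hσα, ?_⟩
      rw [ha χ₀ hχ₀X, show a χ₀ = 1 by omega, Int.cast_one]
    · have hX' : X = {χ₀, Cfsg.conjFun χ₀} := by
        rw [hXeq]
        have hsub : FX ⊆ {χ₀, Cfsg.conjFun χ₀} := by
          intro ξ hξ
          by_contra hn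
          have h1 : (u ξ : ℤ) ^ 2 ≤ ∑ ξ ∈ FX \ {χ₀, Cfsg.conjFun χ₀}, (u ξ : ℤ) ^ 2 :=
            Finset.single_le_sum (f := fun ξ => (u ξ : ℤ) ^ 2) (fun _ _ => sq_nonneg _)
              (Finset.mem_sdiff.mpr ⟨hξ, hn⟩)
          have h2 : (0 : ℤ) < (u ξ : ℤ) ^ 2 := pow_pos (by exact_mod_cast hu0 ξ ((hmemX ξ).mp hξ)) 2
          linarith
        rw [Finset.Subset.antisymm hsub hpairU, Finset.coe_pair]
      obtain ⟨σ', h1, h2, h3⟩ := exists_swap (hSirr _ (hXS hχ₀X)) hbarne hX' hσ hσα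
      refine ⟨σ', h1, h2, ?_⟩
      rw [h3, ← neg_one_smul ℂ, classInner_smul_right, ha _ (hXconj _ hχ₀X),
        hcoefX _ (hXconj _ hχ₀X), if_neg hbarne, hubar, h0]
      simp
  obtain ⟨ρ', hρ'', hρ''α, hρ''v⟩ : ∃ ρ', Cfsg.IsLinearIsometryOn (Cfsg.zspan Y) ρ' ∧
      (∀ θ ∈ Cfsg.zspanOn Y {1}ᶜ, ρ' θ = τ θ) ∧ Cfsg.classInner β (ρ' η₀) = -(c : ℂ) := by
    rcases htc with h0 | ⟨h0, hM'⟩
    · refine ⟨ρ, hρ, hρα, ?_⟩
      rw [hb η₀ hη₀Y, show b η₀ = -(c : ℤ) by omega, Int.cast_neg, Int.cast_natCast]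
    · have hY' : Y = {η₀, Cfsg.conjFun η₀} := by
        have hcard : FY.card ≤ ({η₀, Cfsg.conjFun η₀} : Finset ((Subgroup.normalizer ((P : Subgroup G) : Set G)) → ℂ)).card := by
          rw [Finset.card_pair (hreal _ (hYS hη₀Y)).symm]
          rw [hM] at hM'; omega
        rw [show Y = (↑FY : Set ((Subgroup.normalizer ((P : Subgroup G) : Set G)) → ℂ)) from rfl, ← Finset.eq_of_subset_of_card_le hpairM hcard,
          Finset.coe_pair]
      obtain ⟨ρ', h1, h2, h3⟩ := exists_swap (hSirr _ (hYS hη₀Y)) (hreal _ (hYS hη₀Y)) hY' hρ hρα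
      refine ⟨ρ', h1, h2, ?_⟩
      rw [h3, ← neg_one_smul ℂ, classInner_smul_right, hb _ (hYconj _ hη₀Y),
        hcoefY _ (hYconj _ hη₀Y), if_neg (hreal _ (hYS hη₀Y)), show t = (c : ℤ) from h0]
      simp
  exact ⟨σ', ρ', hσ'', hσ''α, hρ'', hρ''α, hσ''v, hρ''v⟩

end CfsgLib.Char.Sibley
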