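import Cfsg.Agent.Lib.Char.Induced

/-!
# Induction from the normaliser of a trivial intersection set
-/

set_option autoImplicit false

open scoped ComplexConjugate

namespace CfsgLib.Char

variable {G : Type*} [Group G] [Fintype G] {N : Subgroup G} {V : Set G}

/-- A class function supported on a trivial intersection set is unchanged by induction there. -/
theorem indFun_apply_of_ti (hTI : ∀ x y : G, y ∈ V → x * y * x⁻¹ ∈ V → x ∈ N) {β : N → ℂ}
    (hβ : Cfsg.IsClassFunction N β) (hβV : ∀ x : N, (x : G) ∉ V → β x = 0) (g : N)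
    (hg : (g : G) ∈ V) : Cfsg.indFun N β g = β g := by
  classical
  rw [indFun_def, ← Finset.sum_filter_of_ne (s := (Finset.univ : Finset G))
    (p := fun x : G => x ∈ N)]
  · rw [Finset.sum_subtype (p := fun x : G => x ∈ N) (Finset.univ.filter fun x : G => x ∈ N)
      (fun x => by simp) (fun x => Cfsg.extendByZero N β (x⁻¹ * (g : G) * x)),
      Finset.sum_congr rfl fun x _ => ?_, Finset.sum_const, Finset.card_univ, nsmul_eq_mul,
      ← Nat.card_eq_fintype_card, ← mul_assoc,
      inv_mul_cancel₀ (Nat.cast_ne_zero.mpr Nat.card_pos.ne'), one_mul]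
    have h := extendByZero_coe N β (x⁻¹ * g * x)
    simp only [Subgroup.coe_mul, Subgroup.coe_inv] at h
    rw [h]
    conv_rhs => rw [← hβ g x⁻¹, inv_inv]
  · intro x _ hx
    have hm : x⁻¹ * (g : G) * x ∈ N := by
      by_contra hn
      exact hx (extendByZero_apply_notMem N β hn)
    have hV : x⁻¹ * (g : G) * x ∈ V := by
      by_contra hn
      exact hx (by rw [extendByZero_apply_mem N β hm]; exact hβV _ hn)
    exact hTI x _ hV (by simpa [mul_assoc] using hg)

/-- Induction is an isometry on class functions supported on a trivial intersection set. -/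
theorem classInner_indFun_of_ti [Fintype N] (hTI : ∀ x y : G, y ∈ V → x * y * x⁻¹ ∈ V → x ∈ N)
    {α β : N → ℂ} (hαV : ∀ x : N, (x : G) ∉ V → α x = 0) (hβ : Cfsg.IsClassFunction N β)
    (hβV : ∀ x : N, (x : G) ∉ V → β x = 0) :
    Cfsg.classInner (Cfsg.indFun N α) (Cfsg.indFun N β) = Cfsg.classInner α β := by
  rw [classInner_indFun N α (indFun_isClassFunction N β)]
  simp only [Cfsg.classInner]
  congr 1
  refine Finset.sum_congr rfl fun x _ => ?_
  by_cases hx : (x : G) ∈ V
  · rw [indFun_apply_of_ti hTI hβ hβV x hx]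
  · rw [hαV x hx, zero_mul, zero_mul]

end CfsgLib.Char
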