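import Cfsg.Agent.Lib.Char.Frobenius
import Cfsg.Agent.Lib.Char.TI
import Cfsg.Agent.Lib.Char.TICover.Family
import Cfsg.Agent.Lib.Char.CoherenceIrr

/-!
# Trivial intersection Frobenius kernels
-/

set_option autoImplicit false

open scoped ComplexConjugate

namespace CfsgLib.Char.TIKernel

/-- A class function whose nontrivial coefficients are proportional to the degrees is constant
away from the identity. -/
theorem apply_eq_of_proportional {K : Type*} [Group K] [Fintype K] {F : K → ℂ}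
    (hF : Cfsg.IsClassFunction K F) (a : ℂ)
    (h : ∀ φ, Cfsg.IsIrrCharacter K φ → φ ≠ (fun _ => 1) → Cfsg.classInner F φ = a * φ 1)
    {k : K} (hk : k ≠ 1) : F k = Cfsg.classInner F (fun _ => 1) - a := by
  classical
  let one : Cfsg.IrrCharacter K := ⟨fun _ => 1, isIrrCharacter_one⟩
  have hexp := congrFun (IsClassFunction.eq_sum_irr hF) k
  simp only [Finset.sum_apply, Pi.smul_apply, smul_eq_mul] at hexp
  have hcoef : ∀ φ : Cfsg.IrrCharacter K, Cfsg.classInner F (φ : K → ℂ) * (φ : K → ℂ) k =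
      a * ((φ : K → ℂ) 1 * (φ : K → ℂ) k) +
        if φ = one then Cfsg.classInner F (fun _ => 1) - a else 0 := by
    intro φ
    by_cases hφ : φ = one
    · subst hφ; rw [if_pos rfl]; simp [one]
    · rw [if_neg hφ, h φ φ.2 fun e => hφ (Subtype.ext e)]; ring
  rw [Finset.sum_congr rfl fun φ _ => hcoef φ, Finset.sum_add_distrib, ← Finset.mul_sum,
    regular_eq_sum_irr, if_neg hk, mul_zero, zero_add, Finset.sum_ite_eq',
    if_pos (Finset.mem_univ _)] at hexp
  exact hexp

variable {N : Type*} [Group N] [Fintype N] (K : Subgroup N) [K.Normal]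
  (hC : ∀ n ∈ K, n ≠ 1 → Subgroup.centralizer ({n} : Set N) ≤ K)
include hC

/-- The characters of a Frobenius group not trivial on the kernel. -/
theorem mem_iff {η : N → ℂ} :
    (Cfsg.IsIrrCharacter N η ∧ ∃ k ∈ K, η k ≠ η 1) ↔
      ∃ φ : K → ℂ, Cfsg.IsIrrCharacter K φ ∧ φ ≠ (fun _ => 1) ∧ η = Cfsg.indFun K φ := by
  classical
  cases nonempty_fintype K
  refine ⟨fun h => exists_eq_indFun_of_frobenius K hC h.1 h.2, ?_⟩
  rintro ⟨φ, hφ, hφ1, rfl⟩
  have hirr := isIrr_indFun_of_frobenius K hC hφ hφ1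
  refine ⟨hirr, ?_⟩
  by_contra hc
  push Not at hc
  have h := classInner_irr_self hirr
  rw [classInner_indFun K φ (IsIrrCharacter.isClassFunction hirr),
    show (fun k : K => Cfsg.indFun K φ k) = Cfsg.indFun K φ 1 • fun _ => (1 : ℂ) by
      funext k; simp [hc k k.2],
    classInner_smul_right, classInner_irr_ne hφ isIrrCharacter_one hφ1, mul_zero] at h
  exact zero_ne_one h

theorem sub_apply_eq_zero {φ φ' : K → ℂ} (a b : ℂ) {n : N} (hn : n ∉ K) :
    (a • Cfsg.indFun K φ - b • Cfsg.indFun K φ') n = 0 := by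
  simp [indFun_eq_zero_of_normal K _ hn]

end CfsgLib.Char.TIKernel

namespace CfsgLib.Char.TIKernel

open Coherence

variable {G : Type*} [Group G] [Fintype G] (K : Subgroup G)

/-- A trivial intersection subgroup with Frobenius normaliser. -/
structure IsTIKernel : Prop where
  ti : ∀ g : G, g ∉ Subgroup.normalizer (K : Set G) → ∀ k ∈ K, g * k * g⁻¹ ∈ K → k = 1
  lt : K < Subgroup.normalizer (K : Set G)
  cent : ∀ k ∈ K, k ≠ 1 → Subgroup.centralizer ({k} : Set G) ≤ K

variable {K}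

theorem IsTIKernel.centralizer_le (h : IsTIKernel K) :
    ∀ n ∈ K.subgroupOf (Subgroup.normalizer (K : Set G)), n ≠ 1 →
      Subgroup.centralizer ({n} : Set (Subgroup.normalizer (K : Set G))) ≤
        K.subgroupOf (Subgroup.normalizer (K : Set G)) := fun n hn hn1 x hx =>
  h.cent _ hn (fun e => hn1 (Subtype.ext e))
    (Subgroup.mem_centralizer_singleton_iff.mpr
      (congrArg Subtype.val (Subgroup.mem_centralizer_singleton_iff.mp hx)))

theorem IsTIKernel.indFun_apply (h : IsTIKernel K)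
    {θ : Subgroup.normalizer (K : Set G) → ℂ} (hθ : Cfsg.IsClassFunction _ θ) (h1 : θ 1 = 0)
    (hθK : ∀ n : Subgroup.normalizer (K : Set G), (n : G) ∉ K → θ n = 0)
    (n : Subgroup.normalizer (K : Set G)) (hn : (n : G) ∈ K) (hn1 : n ≠ 1) :
    Cfsg.indFun (Subgroup.normalizer (K : Set G)) θ n = θ n := by
  refine indFun_apply_of_ti (V := {y : G | y ∈ K ∧ y ≠ 1}) (fun x y hy hy' => ?_) hθ
    (fun x hx => ?_) n ⟨hn, fun e => hn1 (Subtype.ext e)⟩
  · by_contra hx
    exact hy.2 (h.ti x hx y hy.1 hy'.1)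
  · by_cases hxK : (x : G) ∈ K
    · have : x = 1 := by
        by_contra hx1
        exact hx ⟨hxK, fun e => hx1 (Subtype.ext e)⟩
      rw [this, h1]
    · exact hθK x hxK

theorem IsTIKernel.isometry (h : IsTIKernel K) [Fintype (Subgroup.normalizer (K : Set G))]
    {α β : Subgroup.normalizer (K : Set G) → ℂ} (hβ : Cfsg.IsClassFunction _ β) (hα1 : α 1 = 0)
    (hβ1 : β 1 = 0) (hαK : ∀ n : Subgroup.normalizer (K : Set G), (n : G) ∉ K → α n = 0)
    (hβK : ∀ n : Subgroup.normalizer (K : Set G), (n : G) ∉ K → β n = 0) :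
    Cfsg.classInner (Cfsg.indFun (Subgroup.normalizer (K : Set G)) α)
      (Cfsg.indFun (Subgroup.normalizer (K : Set G)) β) = Cfsg.classInner α β := by
  have hvan : ∀ {γ : Subgroup.normalizer (K : Set G) → ℂ}, γ 1 = 0 →
      (∀ n : Subgroup.normalizer (K : Set G), (n : G) ∉ K → γ n = 0) →
      ∀ x : Subgroup.normalizer (K : Set G), (x : G) ∉ {y : G | y ∈ K ∧ y ≠ 1} → γ x = 0 := by
    intro γ h1 hγ x hx
    by_cases hxK : (x : G) ∈ K
    · have : x = 1 := by
        by_contra hx1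
        exact hx ⟨hxK, fun e => hx1 (Subtype.ext e)⟩
      rw [this, h1]
    · exact hγ x hxK
  refine classInner_indFun_of_ti (fun x y hy hy' => ?_) (hvan hα1 hαK) hβ (hvan hβ1 hβK)
  by_contra hx
  exact hy.2 (h.ti x hx y hy.1 hy'.1)

/-- A Frobenius kernel has a nontrivial linear character. -/
theorem IsTIKernel.exists_linear (h : IsTIKernel K) (hK : K ≠ ⊥) :
    ∃ φ : K.subgroupOf (Subgroup.normalizer (K : Set G)) → ℂ,
      Cfsg.IsIrrCharacter _ φ ∧ φ ≠ (fun _ => 1) ∧ φ 1 = 1 := by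
  have hS : TICover.Setting K (Subgroup.normalizer (K : Set G)) := by
    refine ⟨h.lt, hK, fun x hx a ha => ?_, fun a ha ha1 x _ hxa => h.cent a ha ha1
      (Subgroup.mem_centralizer_singleton_iff.mpr hxa), fun x a ha ha1 hxa => ?_⟩
    · simpa using (Subgroup.mem_normalizer_iff.mp (inv_mem hx) a).mp ha
    · by_contra hx
      exact ha1 (h.ti x⁻¹ (fun e => hx (by simpa using inv_mem e)) a ha (by simpa using hxa))
  obtain ⟨l, hl⟩ := hS.exists_hom_ne_one
  let l' : K.subgroupOf (Subgroup.normalizer (K : Set G)) →* ℂˣ :=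
    l.comp (Subgroup.subgroupOfEquivOfLe h.lt.le).toMonoidHom
  refine ⟨fun a => (l' a : ℂ), isIrrCharacter_hom l', fun he => hl ?_, by simp⟩
  refine MonoidHom.ext fun a => Units.ext ?_
  have := congrFun he ((Subgroup.subgroupOfEquivOfLe h.lt.le).symm a)
  simpa [l'] using this

variable [Fintype (Subgroup.normalizer (K : Set G))]
  {star : (Subgroup.normalizer (K : Set G) → ℂ) → (G → ℂ)}

/-- If `F` is orthogonal to the images of the differences, it is constant on `K \ 1`. -/
theorem IsTIKernel.exists_const (h : IsTIKernel K) (hK : K ≠ ⊥)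
    {F : Subgroup.normalizer (K : Set G) → ℂ} (hF : Cfsg.IsGeneralizedCharacter _ F)
    (hperp : ∀ η ξ, (∃ φ, Cfsg.IsIrrCharacter (K.subgroupOf (Subgroup.normalizer (K : Set G))) φ ∧
        φ ≠ (fun _ => 1) ∧ η = Cfsg.indFun _ φ) →
      (∃ φ, Cfsg.IsIrrCharacter (K.subgroupOf (Subgroup.normalizer (K : Set G))) φ ∧
        φ ≠ (fun _ => 1) ∧ ξ = Cfsg.indFun _ φ) →
      Cfsg.classInner (ξ 1 • η - η 1 • ξ) F = 0) :
    ∃ r : ℤ, ∀ k : Subgroup.normalizer (K : Set G), (k : G) ∈ K → k ≠ 1 → F k = (r : ℂ) := by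
  classical
  set K' := K.subgroupOf (Subgroup.normalizer (K : Set G)) with hK'
  cases nonempty_fintype K'
  obtain ⟨φ₀, hφ₀, hφ₀1, hdeg⟩ := h.exists_linear hK
  obtain ⟨p, q, hp, hq, hpq⟩ := hF
  have hres : Cfsg.IsGeneralizedCharacter K' fun k : K' => F k :=
    ⟨_, _, IsCharacter.restrict hp K', IsCharacter.restrict hq K', by rw [hpq]; rfl⟩
  have hFc : Cfsg.IsClassFunction _ F :=
    IsGeneralizedCharacter.isClassFunction ⟨p, q, hp, hq, hpq⟩
  obtain ⟨t, ht⟩ := IsGeneralizedCharacter.classInner_int hres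
    (IsCharacter.isGeneralizedCharacter (IsIrrCharacter.isCharacter hφ₀))
  obtain ⟨r, hr⟩ := IsGeneralizedCharacter.classInner_int hres
    (IsCharacter.isGeneralizedCharacter isCharacter_one)
  refine ⟨r - t, fun k hk hk1 => ?_⟩
  have hk' : (⟨k, hk⟩ : K') ≠ 1 := fun e => hk1 (congrArg Subtype.val e)
  have hval : ∀ x : K', F x = (fun x : K' => F x) x := fun x => rfl
  refine (hval ⟨k, hk⟩).trans ?_
  refine (apply_eq_of_proportional (F := fun x : K' => F x)
    (IsGeneralizedCharacter.isClassFunction hres) (t : ℂ) (fun φ hφ hφ1 => ?_) hk').trans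
    (by rw [hr, Int.cast_sub])
  have he := hperp _ _ ⟨φ, hφ, hφ1, rfl⟩ ⟨φ₀, hφ₀, hφ₀1, rfl⟩
  rw [classInner_sub_left, classInner_smul_left, classInner_smul_left, classInner_indFun _ φ hFc,
    classInner_indFun _ φ₀ hFc, indFun_one, indFun_one, hdeg, mul_one] at he
  obtain ⟨z, hz⟩ := IsGeneralizedCharacter.classInner_int hres
    (IsCharacter.isGeneralizedCharacter (IsIrrCharacter.isCharacter hφ))
  rw [← classInner_conj_symm (fun k : K' => F k) φ, ← classInner_conj_symm (fun k : K' => F k) φ₀,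
    hz, ht, map_intCast, map_intCast] at he
  rw [hz]
  have hidx : (K'.index : ℂ) ≠ 0 := Nat.cast_ne_zero.mpr Subgroup.index_ne_zero_of_finite
  refine mul_left_cancel₀ hidx ?_
  linear_combination he

variable {S : Set (Subgroup.normalizer (K : Set G) → ℂ)}
  (hS : S = {χ | Cfsg.IsIrrCharacter _ χ ∧
    ∃ k : Subgroup.normalizer (K : Set G), (k : G) ∈ K ∧ χ k ≠ χ 1})
include hS

theorem IsTIKernel.mem_S (h : IsTIKernel K) {η : Subgroup.normalizer (K : Set G) → ℂ} :
    η ∈ S ↔ ∃ φ, Cfsg.IsIrrCharacter (K.subgroupOf (Subgroup.normalizer (K : Set G))) φ ∧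
      φ ≠ (fun _ => 1) ∧ η = Cfsg.indFun _ φ := by
  rw [hS, ← mem_iff _ h.centralizer_le]
  rfl

theorem IsTIKernel.diff_mem {η ξ : Subgroup.normalizer (K : Set G) → ℂ} (hη : η ∈ S)
    (hξ : ξ ∈ S) : ξ 1 • η - η 1 • ξ ∈ Cfsg.zspanOn S {1}ᶜ := by
  have hirr : ∀ η ∈ S, Cfsg.IsIrrCharacter _ η := fun η h => by rw [hS] at h; exact h.1
  obtain ⟨a, ha⟩ := IsCharacter.apply_one_eq (IsIrrCharacter.isCharacter (hirr η hη))
  obtain ⟨b, hb⟩ := IsCharacter.apply_one_eq (IsIrrCharacter.isCharacter (hirr ξ hξ))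
  refine mem_zspanOn_one.mpr ⟨?_, by simp [ha, hb, mul_comm]⟩
  rw [ha, hb, ← Int.cast_natCast a, ← Int.cast_natCast b]
  exact (Submodule.span ℤ S).sub_mem (intCast_smul_mem (Submodule.subset_span hη) _)
    (intCast_smul_mem (Submodule.subset_span hξ) _)

variable (hstar : Cfsg.IsLinearIsometryOn (Cfsg.zspan S) star)
  (hext : ∀ α ∈ Cfsg.zspanOn S ({1}ᶜ : Set (Subgroup.normalizer (K : Set G))),
    star α = Cfsg.indFun (Subgroup.normalizer (K : Set G)) α)
include hstar hext

theorem IsTIKernel.classInner_diff (h : IsTIKernel K)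
    {η ξ : Subgroup.normalizer (K : Set G) → ℂ} (hη : η ∈ S) (hξ : ξ ∈ S) {ψ : G → ℂ}
    (hψ : Cfsg.IsClassFunction G ψ) :
    Cfsg.classInner (ξ 1 • η - η 1 • ξ)
        (fun x : Subgroup.normalizer (K : Set G) => ψ x) =
      ξ 1 * Cfsg.classInner (star η) ψ - η 1 * Cfsg.classInner (star ξ) ψ := by
  have hm := IsTIKernel.diff_mem hS hη hξ
  rw [← classInner_indFun _ _ hψ, ← hext _ hm]
  have hirr : ∀ η ∈ S, Cfsg.IsIrrCharacter _ η := fun η h => by rw [hS] at h; exact h.1
  obtain ⟨a, ha⟩ := IsCharacter.apply_one_eq (IsIrrCharacter.isCharacter (hirr η hη))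
  obtain ⟨b, hb⟩ := IsCharacter.apply_one_eq (IsIrrCharacter.isCharacter (hirr ξ hξ))
  have hs' : Cfsg.IsLinearIsometryOn
      ((Submodule.span ℤ S : Submodule ℤ _) : Set (Subgroup.normalizer (K : Set G) → ℂ)) star :=
    hstar
  rw [ha, hb, ← Int.cast_natCast a, ← Int.cast_natCast b,
    map_sub' hs' (intCast_smul_mem (Submodule.subset_span hη) _)
      (intCast_smul_mem (Submodule.subset_span hξ) _),
    map_intCast_smul hs' (Submodule.subset_span hη), map_intCast_smul hs' (Submodule.subset_span hξ),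
    classInner_sub_left, classInner_smul_left, classInner_smul_left]

/-- The constant by which the coherent image differs on the kernel. -/
theorem IsTIKernel.exists_shift (h : IsTIKernel K) (hne : S.Nonempty) :
    ∃ m : ℤ, ∀ χ ∈ S, ∀ k : Subgroup.normalizer (K : Set G), (k : G) ∈ K → k ≠ 1 →
      star χ k - χ k = (m : ℂ) * χ 1 /
        ((K.subgroupOf (Subgroup.normalizer (K : Set G))).index : ℂ) := by
  classical
  have hK : K ≠ ⊥ := by
    intro hb
    obtain ⟨η, hη⟩ := hne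
    rw [hS] at hη
    obtain ⟨-, k, hk, hkne⟩ := hη
    exact hkne (by rw [show k = 1 from
      Subtype.ext (Subgroup.mem_bot.mp ((SetLike.ext_iff.mp hb _).mp hk))])
  have hirr : ∀ η ∈ S, Cfsg.IsIrrCharacter _ η := fun η h => by rw [hS] at h; exact h.1
  set e := (K.subgroupOf (Subgroup.normalizer (K : Set G))).index with he
  have hval : ∀ χ ∈ S, ∃ r : ℤ, ∀ k : Subgroup.normalizer (K : Set G), (k : G) ∈ K → k ≠ 1 →
      star χ k - χ k = (r : ℂ) := by
    intro χ hχ
    have hgen : Cfsg.IsGeneralizedCharacter G (star χ) :=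
      hstar.2.2.2 χ (Submodule.subset_span hχ)
    have hcf := IsGeneralizedCharacter.isClassFunction hgen
    have hFgen : Cfsg.IsGeneralizedCharacter _
        ((fun x : Subgroup.normalizer (K : Set G) => star χ x) - χ) := by
      obtain ⟨p, q, hp, hq, hpq⟩ := hgen
      exact IsGeneralizedCharacter.sub
        ⟨_, _, IsCharacter.restrict hp _, IsCharacter.restrict hq _, by rw [hpq]; rfl⟩
        (IsCharacter.isGeneralizedCharacter (IsIrrCharacter.isCharacter (hirr χ hχ)))
    refine h.exists_const hK hFgen fun η ξ hη hξ => ?_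
    have hη' := (h.mem_S hS).mpr hη
    have hξ' := (h.mem_S hS).mpr hξ
    show Cfsg.classInner (ξ 1 • η - η 1 • ξ)
      ((fun x : Subgroup.normalizer (K : Set G) => star χ x) - χ) = 0
    rw [classInner_sub_right, h.classInner_diff hS hstar hext hη' hξ' hcf, classInner_sub_left,
      classInner_smul_left, classInner_smul_left,
      hstar.2.2.1 _ (Submodule.subset_span hη') _ (Submodule.subset_span hχ),
      hstar.2.2.1 _ (Submodule.subset_span hξ') _ (Submodule.subset_span hχ)]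
    ring
  obtain ⟨φ₀, hφ₀, hφ₀1, hdeg⟩ := h.exists_linear hK
  have hη₀ := (h.mem_S hS).mpr ⟨φ₀, hφ₀, hφ₀1, rfl⟩
  obtain ⟨m, hm⟩ := hval _ hη₀
  refine ⟨m, fun χ hχ k hk hk1 => ?_⟩
  obtain ⟨φ, hφ, hφ1, hχeq⟩ := (h.mem_S hS).mp hχ
  obtain ⟨η₀, hη₀eq⟩ : ∃ η₀, η₀ = Cfsg.indFun
      (K.subgroupOf (Subgroup.normalizer (K : Set G))) φ₀ := ⟨_, rfl⟩
  rw [← hη₀eq] at hη₀ hm
  set θ := η₀ 1 • χ - χ 1 • η₀ with hθ
  have hmem : θ ∈ Cfsg.zspanOn S {1}ᶜ := IsTIKernel.diff_mem hS hχ hη₀
  have hval2 := h.indFun_apply (θ := θ)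
    (fun a b => by
      simp only [hθ, Pi.sub_apply, Pi.smul_apply, IsIrrCharacter.isClassFunction (hirr _ hχ) a b,
        IsIrrCharacter.isClassFunction (hirr _ hη₀) a b])
    (mem_zspanOn_one.mp hmem).2
    (fun n hn => by
      rw [hθ, hχeq, hη₀eq]
      exact sub_apply_eq_zero _ h.centralizer_le _ _ fun hn' => hn hn') k hk hk1
  rw [← hext _ hmem] at hval2
  obtain ⟨a, ha⟩ := IsCharacter.apply_one_eq (IsIrrCharacter.isCharacter (hirr _ hη₀))
  obtain ⟨b, hb⟩ := IsCharacter.apply_one_eq (IsIrrCharacter.isCharacter (hirr _ hχ))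
  have hs' : Cfsg.IsLinearIsometryOn
      ((Submodule.span ℤ S : Submodule ℤ _) : Set (Subgroup.normalizer (K : Set G) → ℂ)) star :=
    hstar
  rw [hθ, ha, hb, ← Int.cast_natCast a, ← Int.cast_natCast b,
    map_sub' hs' (intCast_smul_mem (Submodule.subset_span hχ) _)
      (intCast_smul_mem (Submodule.subset_span hη₀) _),
    map_intCast_smul hs' (Submodule.subset_span hχ), map_intCast_smul hs' (Submodule.subset_span hη₀),
    Pi.sub_apply, Pi.sub_apply, Pi.smul_apply, Pi.smul_apply, Pi.smul_apply, Pi.smul_apply,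
    smul_eq_mul, smul_eq_mul, smul_eq_mul, smul_eq_mul, Int.cast_natCast, Int.cast_natCast,
    ← ha, ← hb] at hval2
  have hk₀ := hm k hk hk1
  have he0 : η₀ 1 = (e : ℂ) := by rw [hη₀eq, indFun_one, hdeg, mul_one]
  have hene : (e : ℂ) ≠ 0 := Nat.cast_ne_zero.mpr Subgroup.index_ne_zero_of_finite
  rw [eq_div_iff hene]
  rw [he0] at hval2
  linear_combination hval2 + χ 1 * hk₀

/-- The exceptional characters are those not constant on the kernel. -/
theorem IsTIKernel.exceptional_iff (h : IsTIKernel K) (htwo : ∃ χ ∈ S, ∃ ξ ∈ S, χ ≠ ξ)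
    {ψ : G → ℂ} (hψ : Cfsg.IsIrrCharacter G ψ) :
    (∃ χ ∈ S, ψ = star χ ∨ ψ = -star χ) ↔
      ∃ a ∈ K, ∃ b ∈ K, a ≠ 1 ∧ b ≠ 1 ∧ ψ a ≠ ψ b := by
  classical
  cases nonempty_fintype (K.subgroupOf (Subgroup.normalizer (K : Set G)))
  obtain ⟨χ₀, hχ₀, χ₁, hχ₁, hne⟩ := htwo
  have hirr : ∀ η ∈ S, Cfsg.IsIrrCharacter _ η := fun η h => by rw [hS] at h; exact h.1
  have hK : K ≠ ⊥ := by
    intro hb
    have hη := hχ₀
    rw [hS] at hη
    obtain ⟨-, k, hk, hkne⟩ := hη
    exact hkne (by rw [show k = 1 from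
      Subtype.ext (Subgroup.mem_bot.mp ((SetLike.ext_iff.mp hb _).mp hk))])
  constructor
  · rintro ⟨χ, hχ, hψχ⟩
    by_contra hc
    push Not at hc
    obtain ⟨m, hm⟩ := h.exists_shift hS hstar hext ⟨χ, hχ⟩
    have hconst : ∀ a b : Subgroup.normalizer (K : Set G), (a : G) ∈ K → (b : G) ∈ K → a ≠ 1 →
        b ≠ 1 → χ a = χ b := by
      intro a b ha hb ha1 hb1
      have h1 := hc a ha b hb (fun e => ha1 (Subtype.ext e)) (fun e => hb1 (Subtype.ext e))
      have h2 := hm χ hχ a ha ha1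
      have h3 := hm χ hχ b hb hb1
      rcases hψχ with rfl | rfl
      · linear_combination h3 - h2 + h1
      · simp only [Pi.neg_apply, neg_inj] at h1
        linear_combination h3 - h2 + h1
    -- then `χ` is induced from every nontrivial character of `K`
    set K' := K.subgroupOf (Subgroup.normalizer (K : Set G)) with hK'
    have hall : ∀ φ : K' → ℂ, Cfsg.IsIrrCharacter K' φ → φ ≠ (fun _ => 1) →
        χ = Cfsg.indFun K' φ := by
      intro φ hφ hφ1
      obtain ⟨-, k₀, hk₀, hk₀ne⟩ := (by rw [hS] at hχ; exact hχ :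
        Cfsg.IsIrrCharacter _ χ ∧ ∃ k : Subgroup.normalizer (K : Set G), (k : G) ∈ K ∧ χ k ≠ χ 1)
      have hk₀1 : k₀ ≠ 1 := fun e => hk₀ne (by rw [e])
      by_contra hne'
      have h0 := classInner_irr_ne (hirr χ hχ) (isIrr_indFun_of_frobenius K' h.centralizer_le hφ hφ1)
        hne'
      rw [classInner_indFun_right K' φ (IsIrrCharacter.isClassFunction (hirr χ hχ)),
        show (fun x : K' => χ x) = χ k₀ • (fun _ => (1 : ℂ)) +
            (χ 1 - χ k₀) • fun x : K' => if x = 1 then (1 : ℂ) else 0 by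
          funext x
          simp only [Pi.add_apply, Pi.smul_apply, smul_eq_mul, mul_one]
          by_cases hx : x = 1
          · simp [hx]
          · rw [if_neg hx, mul_zero, add_zero]
            exact hconst x k₀ x.2 hk₀ (fun e => hx (Subtype.ext e)) hk₀1,
        classInner_add_left, classInner_smul_left, classInner_smul_left,
        classInner_irr_ne isIrrCharacter_one hφ (Ne.symm hφ1), mul_zero, zero_add] at h0
      simp only [Cfsg.classInner, ite_mul, one_mul, zero_mul, Finset.sum_ite_eq', Finset.mem_univ,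
        if_true] at h0
      rcases mul_eq_zero.mp h0 with h' | h'
      · exact hk₀ne (sub_eq_zero.mp h').symm
      rcases mul_eq_zero.mp h' with h' | h'
      · exact inv_ne_zero (Nat.cast_ne_zero.mpr Nat.card_pos.ne') h'
      · exact IsIrrCharacter.apply_one_ne_zero hφ (star_eq_zero.mp h')
    obtain ⟨φ, hφ, hφ1, e0⟩ := (h.mem_S hS).mp hχ₀
    obtain ⟨φ', hφ', hφ'1, e1⟩ := (h.mem_S hS).mp hχ₁
    exact hne (e0.trans ((hall φ hφ hφ1).symm.trans ((hall φ' hφ' hφ'1).trans e1.symm)))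
  · rintro ⟨a, ha, b, hb, ha1, hb1, hab⟩
    by_contra hc
    push Not at hc
    have horth : ∀ η ∈ S, Cfsg.classInner (star η) ψ = 0 := by
      intro η hη
      obtain ⟨z, φ, hz, he⟩ := CharDeep.GenChar.exists_sign_irr
        (hstar.2.2.2 η (Submodule.subset_span hη))
        (by rw [hstar.2.2.1 _ (Submodule.subset_span hη) _ (Submodule.subset_span hη),
          classInner_irr_self (hirr η hη)])
      rw [he, classInner_smul_left, classInner_irr_ne φ.2 hψ fun e => ?_, mul_zero]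
      rcases hz with rfl | rfl
      · exact (hc η hη).1 (by rw [he, e, Int.cast_one, one_smul])
      · exact (hc η hη).2 (by rw [he, e, Int.cast_neg, Int.cast_one, neg_one_smul, neg_neg])
    obtain ⟨r, hr⟩ := h.exists_const hK (F := fun x => ψ x)
      (IsCharacter.isGeneralizedCharacter
        (IsCharacter.restrict (IsIrrCharacter.isCharacter hψ) _)) fun η ξ hη hξ => by
        have hη' := (h.mem_S hS).mpr hη
        have hξ' := (h.mem_S hS).mpr hξ
        rw [h.classInner_diff hS hstar hext hη' hξ' (IsIrrCharacter.isClassFunction hψ),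
          horth η hη', horth ξ hξ', mul_zero, mul_zero, sub_zero]
    exact hab ((hr ⟨a, h.lt.le ha⟩ ha fun e => ha1 (congrArg Subtype.val e)).trans
      (hr ⟨b, h.lt.le hb⟩ hb fun e => hb1 (congrArg Subtype.val e)).symm)

end CfsgLib.Char.TIKernel
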