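import Cfsg.Agent.Lib.Char.CoherenceFeitMain
import Cfsg.Agent.Lib.Char.TIKernel

/-!
# Induction from the normaliser of a trivial intersection Frobenius kernel
-/

set_option autoImplicit false

open scoped ComplexConjugate

namespace CfsgLib.Char.Coherence

/-- Integer combinations of induced irreducible characters. -/
theorem span_props {L : Type*} [Group L] [Fintype L] {K : Subgroup L} [K.Normal] {Z : Subgroup L}
    {α : L → ℂ} (h : α ∈ Submodule.span ℤ (indNontriv K Z)) :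
    Cfsg.IsGeneralizedCharacter L α ∧ ∀ n, n ∉ K → α n = 0 := by
  induction h using Submodule.span_induction with
  | mem x hx =>
    obtain ⟨θ, hθ, -, rfl⟩ := hx
    cases nonempty_fintype K
    exact ⟨IsCharacter.isGeneralizedCharacter (IsCharacter.indFun K (IsIrrCharacter.isCharacter hθ)),
      fun n hn => indFun_eq_zero_of_normal K θ hn⟩
  | zero => exact ⟨IsCharacter.isGeneralizedCharacter isCharacter_zero, fun _ _ => rfl⟩
  | add x y _ _ hx hy =>
    refine ⟨isGeneralizedCharacter_iff.mpr ⟨?_, fun χ hχ => ?_⟩,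
      fun n hn => by simp [hx.2 n hn, hy.2 n hn]⟩
    · intro g y'
      simp [IsGeneralizedCharacter.isClassFunction hx.1 g y',
        IsGeneralizedCharacter.isClassFunction hy.1 g y']
    · obtain ⟨a, ha⟩ := (isGeneralizedCharacter_iff.mp hx.1).2 χ hχ
      obtain ⟨b, hb⟩ := (isGeneralizedCharacter_iff.mp hy.1).2 χ hχ
      exact ⟨a + b, by rw [classInner_add_left, ha, hb, Int.cast_add]⟩
  | smul c x _ hx =>
    rw [← Int.cast_smul_eq_zsmul ℂ c x]
    refine ⟨isGeneralizedCharacter_iff.mpr ⟨?_, fun χ hχ => ?_⟩,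
      fun n hn => by simp [hx.2 n hn]⟩
    · intro g y'
      simp [IsGeneralizedCharacter.isClassFunction hx.1 g y']
    · obtain ⟨a, ha⟩ := (isGeneralizedCharacter_iff.mp hx.1).2 χ hχ
      exact ⟨c * a, by rw [classInner_smul_left, ha, Int.cast_mul]⟩

/-- Induction carries generalized characters to generalized characters. -/
theorem indFun_isGeneralized {G : Type*} [Group G] [Fintype G] (N : Subgroup G) [Fintype N]
    {α : N → ℂ} (h : Cfsg.IsGeneralizedCharacter N α) :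
    Cfsg.IsGeneralizedCharacter G (Cfsg.indFun N α) := by
  obtain ⟨p, q, hp, hq, rfl⟩ := h
  exact ⟨_, _, IsCharacter.indFun N hp, IsCharacter.indFun N hq, indFun_sub N p q⟩

variable {G : Type*} [Group G] [Fintype G] {K₀ : Subgroup G}
  [Fintype (Subgroup.normalizer (K₀ : Set G))]

/-- Induction is an isometry on the degree-zero part of the lattice. -/
theorem isometry_indFun (h : TIKernel.IsTIKernel K₀)
    (Z : Subgroup (Subgroup.normalizer (K₀ : Set G))) :
    Cfsg.IsLinearIsometryOn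
        (Cfsg.zspanOn (indNontriv (K₀.subgroupOf (Subgroup.normalizer (K₀ : Set G))) Z) {1}ᶜ)
        (fun α => Cfsg.indFun (Subgroup.normalizer (K₀ : Set G)) α) ∧
      ∀ α ∈ Cfsg.zspanOn (indNontriv (K₀.subgroupOf (Subgroup.normalizer (K₀ : Set G))) Z) {1}ᶜ,
        Cfsg.indFun (Subgroup.normalizer (K₀ : Set G)) α 1 = 0 := by
  refine ⟨⟨fun α _ β _ => indFun_add _ α β, fun α _ n => ?_, fun α hα β hβ => ?_, fun α hα =>
    indFun_isGeneralized _ (span_props (mem_zspanOn_one.mp hα).1).1⟩, fun α hα => ?_⟩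
  · simp only [← Int.cast_smul_eq_zsmul ℂ, indFun_smul]
  · obtain ⟨ha, ha'⟩ := span_props (mem_zspanOn_one.mp hα).1
    obtain ⟨hb, hb'⟩ := span_props (mem_zspanOn_one.mp hβ).1
    exact h.isometry (IsGeneralizedCharacter.isClassFunction hb) (mem_zspanOn_one.mp hα).2
      (mem_zspanOn_one.mp hβ).2 (fun n hn => ha' n fun h => hn (Subgroup.mem_subgroupOf.mp h))
      (fun n hn => hb' n fun h => hn (Subgroup.mem_subgroupOf.mp h))
  · rw [indFun_one, (mem_zspanOn_one.mp hα).2, mul_zero]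

/-- An extension on a conjugate pair may be exchanged for the swapped one. -/
theorem exists_swap {L : Type*} [Group L] [Fintype L] {τ σ : (L → ℂ) → (G → ℂ)} {χ : L → ℂ}
    (hχ : Cfsg.IsIrrCharacter L χ) (hne : Cfsg.conjFun χ ≠ χ) {X : Set (L → ℂ)}
    (hX : X = {χ, Cfsg.conjFun χ})
    (hσ : Cfsg.IsLinearIsometryOn (Cfsg.zspan X) σ)
    (hσα : ∀ θ ∈ Cfsg.zspanOn X {1}ᶜ, σ θ = τ θ) :
    ∃ σ' : (L → ℂ) → (G → ℂ), Cfsg.IsLinearIsometryOn (Cfsg.zspan X) σ' ∧
      (∀ θ ∈ Cfsg.zspanOn X {1}ᶜ, σ' θ = τ θ) ∧ σ' χ = -σ (Cfsg.conjFun χ) := by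
  subst hX
  have hcc : ∀ f : L → ℂ, Cfsg.conjFun (Cfsg.conjFun f) = f := fun f => by
    funext x; simp [Cfsg.conjFun]
  have hc : ∀ a ∈ Cfsg.zspan ({χ, Cfsg.conjFun χ} : Set (L → ℂ)),
      ∃ u v : ℤ, a = u • χ + v • Cfsg.conjFun χ ∧
        Cfsg.conjFun a = v • χ + u • Cfsg.conjFun χ := by
    intro a ha
    obtain ⟨u, v, rfl⟩ := Submodule.mem_span_pair.mp (show a ∈ Submodule.span ℤ _ from ha)
    refine ⟨u, v, rfl, funext fun x => ?_⟩
    simp [Cfsg.conjFun]; ring
  have hmem : ∀ a ∈ Cfsg.zspan ({χ, Cfsg.conjFun χ} : Set (L → ℂ)),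
      Cfsg.conjFun a ∈ Cfsg.zspan ({χ, Cfsg.conjFun χ} : Set (L → ℂ)) := fun a ha => by
    obtain ⟨u, v, -, h⟩ := hc a ha
    exact Submodule.mem_span_pair.mpr ⟨v, u, h.symm⟩
  have hσ' : Cfsg.IsLinearIsometryOn
      ((Submodule.span ℤ ({χ, Cfsg.conjFun χ} : Set (L → ℂ)) : Submodule ℤ (L → ℂ)) : Set (L → ℂ))
      σ := hσ
  have horth : Cfsg.classInner χ (Cfsg.conjFun χ) = 0 :=
    classInner_irr_ne hχ (IsIrrCharacter.conj' hχ) hne.symm
  refine ⟨fun a => -σ (Cfsg.conjFun a), ⟨fun a ha b hb => ?_, fun a ha n => ?_, fun a ha b hb => ?_,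
    fun a ha => ?_⟩, fun θ hθ => ?_, rfl⟩
  · show -σ _ = _
    rw [show Cfsg.conjFun (a + b) = Cfsg.conjFun a + Cfsg.conjFun b by
      funext x; simp [Cfsg.conjFun], hσ.1 _ (hmem a ha) _ (hmem b hb), neg_add]
  · show -σ _ = _
    rw [show Cfsg.conjFun (n • a) = n • Cfsg.conjFun a by funext x; simp [Cfsg.conjFun],
      hσ.2.1 _ (hmem a ha) n, smul_neg]
  · show Cfsg.classInner (-σ _) (-σ _) = _
    rw [← neg_one_smul ℂ (σ (Cfsg.conjFun a)), ← neg_one_smul ℂ (σ (Cfsg.conjFun b)),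
      classInner_smul_left, classInner_smul_right, hσ.2.2.1 _ (hmem a ha) _ (hmem b hb)]
    obtain ⟨u, v, e1, e2⟩ := hc a ha
    obtain ⟨u', v', f1, f2⟩ := hc b hb
    have hns : Cfsg.classInner (Cfsg.conjFun χ) (Cfsg.conjFun χ) = 1 :=
      classInner_irr_self (IsIrrCharacter.conj' hχ)
    have horth' : Cfsg.classInner (Cfsg.conjFun χ) χ = 0 := by
      rw [← classInner_conj_symm, horth, map_zero]
    rw [e2, f2, e1, f1]
    simp only [← Int.cast_smul_eq_zsmul ℂ, classInner_add_left, classInner_add_right,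
      classInner_smul_left, classInner_smul_right, classInner_irr_self hχ, hns, horth, horth',
      map_intCast, map_neg, map_one]
    ring
  · obtain ⟨p, q, hp, hq, hpq⟩ := hσ.2.2.2 _ (hmem a ha)
    exact ⟨q, p, hq, hp, by show -σ _ = _; rw [hpq, neg_sub]⟩
  · obtain ⟨hs, h1⟩ := mem_zspanOn_one.mp hθ
    obtain ⟨u, v, e1, e2⟩ := hc θ hs
    have huv : u = -v := by
      have : ((u : ℂ) + v) * χ 1 = 0 := by
        rw [e1] at h1
        simp only [← Int.cast_smul_eq_zsmul ℂ, Pi.add_apply, Pi.smul_apply, smul_eq_mul, Cfsg.conjFun] at h1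
        rw [natDeg_spec hχ, map_natCast] at h1
        rw [natDeg_spec hχ]
        linear_combination h1
      have h2 := (mul_eq_zero.mp this).resolve_right (IsIrrCharacter.apply_one_ne_zero hχ)
      exact eq_neg_of_add_eq_zero_left (by exact_mod_cast h2)
    show -σ _ = _
    rw [← hσα θ hθ, e2, ← map_neg' hσ' (e2 ▸ hmem θ hs), e1, huv]
    congr 1
    simp only [neg_smul]; abel

end CfsgLib.Char.Coherence
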