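import Cfsg.Agent.Lib.Char.CoherenceSibley
import Cfsg.Prelude.Def_OddOrderLocal
import Cfsg.Prelude.Def_Transfer

/-!
# Coherence for trivial intersection nilpotent Frobenius kernels
-/

set_option autoImplicit false

open scoped ComplexConjugate commutatorElement

namespace CfsgLib.Char.Sibley

open Coherence

variable {G : Type*} [Group G] [Fintype G] {K : Subgroup G}
  [Fintype (Subgroup.normalizer (K : Set G))]

theorem set_eq (h : TIKernel.IsTIKernel K) :
    {χ : (Subgroup.normalizer (K : Set G)) → ℂ | Cfsg.IsIrrCharacter (Subgroup.normalizer (K : Set G)) χ ∧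
      ∃ k : Subgroup.normalizer (K : Set G), (k : G) ∈ K ∧ χ k ≠ χ 1} =
    indNontriv (K.subgroupOf (Subgroup.normalizer (K : Set G)))
      (K.subgroupOf (Subgroup.normalizer (K : Set G))) := by
  cases nonempty_fintype (K.subgroupOf (Subgroup.normalizer (K : Set G)))
  rw [Feit.S_eq _ h.centralizer_le]
  rfl

theorem subgroupOf_ne_top (h : TIKernel.IsTIKernel K) :
    K.subgroupOf (Subgroup.normalizer (K : Set G)) ≠ ⊤ := fun ht => h.lt.ne
  (le_antisymm h.lt.le (Subgroup.subgroupOf_eq_top.mp ht))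

theorem subgroupOf_ne_bot (h : TIKernel.IsTIKernel K) (hK : K ≠ ⊥) :
    K.subgroupOf (Subgroup.normalizer (K : Set G)) ≠ ⊥ := fun hb => hK
  (Subgroup.card_eq_one.mp (by
    rw [← Nat.card_congr (Subgroup.subgroupOfEquivOfLe h.lt.le).toEquiv, hb, Subgroup.card_bot]))

omit [Fintype G] in
theorem comm_subgroupOf_iff (hle : K ≤ Subgroup.normalizer (K : Set G)) :
    IsMulCommutative (K.subgroupOf (Subgroup.normalizer (K : Set G))) ↔ IsMulCommutative K :=
  ⟨fun hc => ⟨⟨fun a b => (Subgroup.subgroupOfEquivOfLe hle).symm.injective (by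
      rw [map_mul, map_mul]; exact hc.is_comm.comm _ _)⟩⟩,
    fun hc => ⟨⟨fun a b => (Subgroup.subgroupOfEquivOfLe hle).injective (by
      rw [map_mul, map_mul]; exact hc.is_comm.comm _ _)⟩⟩⟩

/-- A nonabelian kernel of odd order has a normaliser of odd order. -/
theorem odd_normalizer (h : TIKernel.IsTIKernel K) (hK : Odd (Nat.card K))
    (hna : ¬ IsMulCommutative K) : Odd (Nat.card (Subgroup.normalizer (K : Set G))) := by
  rw [← Subgroup.card_mul_index (K.subgroupOf (Subgroup.normalizer (K : Set G))),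
    Nat.odd_mul, Nat.card_congr (Subgroup.subgroupOfEquivOfLe h.lt.le).toEquiv]
  refine ⟨hK, Nat.not_even_iff_odd.mp fun he => hna ((comm_subgroupOf_iff h.lt.le).mp ?_)⟩
  exact Feit.comm_of_even _ h.centralizer_le he

/-- A `p`-group kernel is a Sylow subgroup. -/
theorem exists_sylow_eq {p : ℕ} [Fact p.Prime] (h : TIKernel.IsTIKernel K) (hK : K ≠ ⊥)
    (hKp : IsPGroup p K) : ∃ P : Sylow p G, (P : Subgroup G) = K := by
  obtain ⟨P, hP⟩ := hKp.exists_le_sylow
  refine ⟨P, le_antisymm ?_ hP⟩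
  haveI := P.2.isNilpotent
  by_contra hne
  have hlt : K.subgroupOf (P : Subgroup G) < ⊤ := lt_top_iff_ne_top.mpr fun ht =>
    hne (Subgroup.subgroupOf_eq_top.mp ht)
  obtain ⟨⟨y, hyP⟩, hyN, hyK⟩ :=
    SetLike.exists_of_lt (Group.normalizerCondition_of_isNilpotent _ hlt)
  have hyN' : y ∈ Subgroup.normalizer (K : Set G) := by
    refine Subgroup.mem_normalizer_iff.mpr fun x => ?_
    constructor
    · intro hx
      exact Subgroup.mem_subgroupOf.mp
        ((Subgroup.mem_normalizer_iff.mp hyN ⟨x, hP hx⟩).mp (Subgroup.mem_subgroupOf.mpr hx))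
    · intro hx
      have hxP : x ∈ (P : Subgroup G) := by
        have := mul_mem (mul_mem (inv_mem hyP) (hP hx)) hyP
        simpa [mul_assoc] using this
      exact Subgroup.mem_subgroupOf.mp
        ((Subgroup.mem_normalizer_iff.mp hyN ⟨x, hxP⟩).mpr (Subgroup.mem_subgroupOf.mpr hx))
  set K' := K.subgroupOf (Subgroup.normalizer (K : Set G)) with hK'
  have hcop : (Nat.card K).Coprime K'.index := by
    rw [← Nat.card_congr (Subgroup.subgroupOfEquivOfLe h.lt.le).toEquiv]
    exact Feit.coprime_index K' h.centralizer_le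
  have hpK : p ∣ Nat.card K := by
    obtain ⟨n, hn⟩ := IsPGroup.iff_card.mp hKp
    rw [hn]
    exact dvd_pow_self p fun h0 => hK (Subgroup.card_eq_one.mp (by rw [hn, h0, pow_zero]))
  refine hyK (Subgroup.mem_subgroupOf.mpr ?_)
  by_contra hy
  have hq : (QuotientGroup.mk (⟨y, hyN'⟩ : Subgroup.normalizer (K : Set G)) :
      Subgroup.normalizer (K : Set G) ⧸ K') ≠ 1 := fun h1 => by
    have h2 : (⟨y, hyN'⟩ : Subgroup.normalizer (K : Set G)) ∈ K' := (QuotientGroup.eq_one_iff _).mp h1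
    exact hy (Subgroup.mem_subgroupOf.mp h2)
  obtain ⟨k, hk⟩ := P.2 ⟨y, hyP⟩
  have hk' : (⟨y, hyN'⟩ : Subgroup.normalizer (K : Set G)) ^ p ^ k = 1 :=
    Subtype.ext (congrArg Subtype.val hk :)
  have hd : orderOf (QuotientGroup.mk (⟨y, hyN'⟩ : Subgroup.normalizer (K : Set G)) :
      Subgroup.normalizer (K : Set G) ⧸ K') ∣ p ^ k := orderOf_dvd_of_pow_eq_one (by
    rw [← QuotientGroup.mk_pow, hk', QuotientGroup.mk_one])
  obtain ⟨i, -, hi⟩ := (Nat.dvd_prime_pow (Fact.out : p.Prime)).mp hd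
  rcases Nat.eq_zero_or_pos i with rfl | hi0
  · exact hq (orderOf_eq_one_iff.mp (by rw [hi, pow_zero]))
  · have : p ∣ K'.index := by
      refine (dvd_pow_self p hi0.ne').trans (hi ▸ ?_)
      rw [Subgroup.index]
      exact orderOf_dvd_natCard _
    exact (Fact.out : p.Prime).not_dvd_one (hcop.gcd_eq_one ▸ Nat.dvd_gcd hpK this)

open scoped Classical in
/-- When `|K| = e + 1` there is one character, and `K` is elementary abelian. -/
theorem single_of_card (h : TIKernel.IsTIKernel K) (hK : K ≠ ⊥)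
    (he : Nat.card K = (K.subgroupOf (Subgroup.normalizer (K : Set G))).index + 1)
    (hc : IsMulCommutative K) :
    Nat.card {χ : (Subgroup.normalizer (K : Set G)) → ℂ //
        Cfsg.IsIrrCharacter (Subgroup.normalizer (K : Set G)) χ ∧
        ∃ k : Subgroup.normalizer (K : Set G), (k : G) ∈ K ∧ χ k ≠ χ 1} = 1 ∧
      ∃ p : ℕ, p.Prime ∧ Cfsg.IsElementaryAbelian p K := by
  set K' := K.subgroupOf (Subgroup.normalizer (K : Set G)) with hK'
  cases nonempty_fintype K'
  have hcard : Nat.card K' = Nat.card K :=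
    Nat.card_congr (Subgroup.subgroupOfEquivOfLe h.lt.le).toEquiv
  have hirr := Feit.isIrr_of_ne_one K' h.centralizer_le
  constructor
  · have hc' := (comm_subgroupOf_iff h.lt.le).mpr hc
    set Θ := (Finset.univ : Finset (Cfsg.IrrCharacter K')).erase (Feit.one K') with hΘ
    have hst : ∀ φ ∈ Θ, ∀ ψ : Cfsg.IrrCharacter K',
        Cfsg.indFun K' (ψ : K' → ℂ) = Cfsg.indFun K' (φ : K' → ℂ) → ψ ∈ Θ := by
      intro φ hφ ψ hψ
      refine Finset.mem_erase.mpr ⟨fun he' => (Finset.mem_erase.mp hφ).1 ?_, Finset.mem_univ _⟩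
      obtain ⟨g, hg⟩ := exists_conjG_of_indFun_eq φ.2 ψ.2 hψ.symm
      subst he'
      exact Subtype.ext (hg.trans rfl)
    have hsum := sum_indFun K' Θ (fun φ hφ => hirr φ (Finset.mem_erase.mp hφ).1) hst fun _ => 1
    simp only [Finset.sum_const, smul_eq_mul, mul_one] at hsum
    have hall : (Finset.univ : Finset (Cfsg.IrrCharacter K')).card = Nat.card K' := by
      have h2 := sum_sq_apply_one (G := K')
      rw [Finset.sum_congr rfl fun χ _ => by
        rw [apply_one_eq_one_of_comm hc'.is_comm.comm χ.2, one_pow]] at h2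
      rw [Finset.sum_const, nsmul_eq_mul, mul_one] at h2
      exact_mod_cast h2
    rw [hΘ, Finset.card_erase_of_mem (Finset.mem_univ _), hall, hcard, he, Nat.add_sub_cancel] at hsum
    have h1 := Nat.eq_of_mul_eq_mul_left (Nat.pos_of_ne_zero Subgroup.index_ne_zero_of_finite)
      ((mul_one K'.index).trans hsum)
    obtain ⟨η, hη⟩ := Finset.card_eq_one.mp h1.symm
    rw [← hΘ] at hη
    have hiff : ∀ χ : Subgroup.normalizer (K : Set G) → ℂ,
        (Cfsg.IsIrrCharacter _ χ ∧
          ∃ k : Subgroup.normalizer (K : Set G), (k : G) ∈ K ∧ χ k ≠ χ 1) ↔ χ = η := by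
      intro χ
      rw [← Finset.mem_singleton, ← hη]
      have := Set.ext_iff.mp (set_eq h) χ
      refine this.trans ⟨fun hm => ?_, fun hm => ?_⟩
      · obtain ⟨θ, hθ, hnt, rfl⟩ := hm
        exact Finset.mem_image.mpr ⟨⟨θ, hθ⟩, Finset.mem_erase.mpr
          ⟨fun he' => hnt (by rw [show θ = fun _ => 1 from congrArg Subtype.val he']; exact fun a _ => rfl),
            Finset.mem_univ _⟩, rfl⟩
      · obtain ⟨φ, hφ, rfl⟩ := Finset.mem_image.mp hm
        exact ⟨φ, φ.2, fun ht => (Finset.mem_erase.mp hφ).1 (Subtype.ext (funext fun a =>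
          (ht a a.2).trans (apply_one_eq_one_of_comm hc'.is_comm.comm φ.2))), rfl⟩
    rw [Nat.card_congr (Equiv.subtypeEquivRight hiff)]
    exact Nat.card_unique
  · obtain ⟨p, hp, hpd⟩ := Nat.exists_prime_and_dvd (n := Nat.card K) fun h1 =>
      hK (Subgroup.card_eq_one.mp h1)
    haveI : Fact p.Prime := ⟨hp⟩
    obtain ⟨x, hx⟩ := exists_prime_orderOf_dvd_card' p hpd
    have hx1 : (x : G) ≠ 1 := fun e => by
      rw [show x = 1 from Subtype.ext e, orderOf_one] at hx
      exact hp.one_lt.ne hx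
    refine ⟨p, hp, hc, fun a ha => ?_⟩
    by_cases ha1 : a = 1
    · rw [ha1, one_pow]
    -- the normaliser is transitive on the non-identity elements
    cases nonempty_fintype K
    set x' : Subgroup.normalizer (K : Set G) := ⟨x, h.lt.le x.2⟩ with hx'
    set T := (Finset.univ.filter fun y : Subgroup.normalizer (K : Set G) => (y : G) ∈ K ∧ y ≠ 1) with hT
    set O := (MulAction.orbit (ConjAct (Subgroup.normalizer (K : Set G))) x').toFinset with hO
    have hOT : O ⊆ T := by
      intro y hy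
      rw [hO, Set.mem_toFinset, ConjAct.mem_orbit_conjAct, isConj_comm, isConj_iff] at hy
      obtain ⟨g, hg⟩ := hy
      refine Finset.mem_filter.mpr ⟨Finset.mem_univ _, ?_, ?_⟩
      · rw [← hg]; exact (Subgroup.mem_normalizer_iff.mp g.2 _).mp x.2
      · rw [← hg, Ne, conj_eq_one_iff]; exact fun e => hx1 (congrArg Subtype.val e)
    have hTc : T.card = K'.index := by
      have e1 : T = (Finset.univ.filter fun y : Subgroup.normalizer (K : Set G) => (y : G) ∈ K).erase 1 := by
        ext y; simp [hT, and_comm]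
      rw [e1, Finset.card_erase_of_mem (by simp), ← Fintype.card_subtype, ← Nat.card_eq_fintype_card,
        show Nat.card {y : Subgroup.normalizer (K : Set G) // (y : G) ∈ K} = Nat.card K' from rfl,
        hcard, he, Nat.add_sub_cancel]
    have hOc : O.card = K'.index := by
      rw [hO, ← Set.ncard_eq_toFinset_card', ← MulAction.index_stabilizer,
        ← Subgroup.index_comap_of_surjective
          (f := ((ConjAct.toConjAct : (Subgroup.normalizer (K : Set G)) ≃* _).toMonoidHom))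
          (H := MulAction.stabilizer (ConjAct (Subgroup.normalizer (K : Set G))) x')
          (MulEquiv.surjective _)]
      congr 1
      ext g
      simp only [Subgroup.mem_comap, MulAction.mem_stabilizer_iff, MulEquiv.coe_toMonoidHom,
        ConjAct.toConjAct_smul, mul_inv_eq_iff_eq_mul]
      refine ⟨fun hg => ?_, fun hg => Subtype.ext (congrArg Subtype.val
        (hc.is_comm.comm (⟨g, Subgroup.mem_subgroupOf.mp hg⟩ : K) x) :)⟩
      exact h.centralizer_le x' (Subgroup.mem_subgroupOf.mpr x.2)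
        (fun e => hx1 (congrArg Subtype.val e)) (Subgroup.mem_centralizer_singleton_iff.mpr hg)
    have hmem : (⟨a, h.lt.le ha⟩ : Subgroup.normalizer (K : Set G)) ∈ O := by
      rw [Finset.eq_of_subset_of_card_le hOT (by rw [hTc, hOc])]
      exact Finset.mem_filter.mpr ⟨Finset.mem_univ _, ha, fun e => ha1 (congrArg Subtype.val e)⟩
    rw [hO, Set.mem_toFinset, ConjAct.mem_orbit_conjAct, isConj_comm, isConj_iff] at hmem
    obtain ⟨g, hg⟩ := hmem
    have hga : (g : G) * x * (g : G)⁻¹ = a := congrArg Subtype.val hg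
    have hxp : (x : G) ^ p = 1 := by
      rw [← hx, Subgroup.orderOf_coe x |>.symm]
      exact pow_orderOf_eq_one _
    rw [← hga, conj_pow, hxp, mul_one, mul_inv_cancel]

theorem isCoherent_feit_TI (h : TIKernel.IsTIKernel K) (hK : K ≠ ⊥)
    (hgood : (IsMulCommutative K ∧
        Nat.card K ≠ (K.subgroupOf (Subgroup.normalizer (K : Set G))).index + 1) ∨
      (¬ ∃ p m : ℕ, p.Prime ∧ Nat.card K = p ^ m) ∨
      (∃ p m : ℕ, p.Prime ∧ Nat.card K = p ^ m ∧
        4 * (K.subgroupOf (Subgroup.normalizer (K : Set G))).index ^ 2 + 1 < (⁅K, K⁆).relIndex K)) :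
    Cfsg.IsCoherent {χ : (Subgroup.normalizer (K : Set G)) → ℂ |
      Cfsg.IsIrrCharacter (Subgroup.normalizer (K : Set G)) χ ∧
        ∃ k : Subgroup.normalizer (K : Set G), (k : G) ∈ K ∧ χ k ≠ χ 1} {1}ᶜ
      (fun α => Cfsg.indFun (Subgroup.normalizer (K : Set G)) α) := by
  set K' := K.subgroupOf (Subgroup.normalizer (K : Set G)) with hK'
  cases nonempty_fintype K'
  have hcard : Nat.card K' = Nat.card K :=
    Nat.card_congr (Subgroup.subgroupOfEquivOfLe h.lt.le).toEquiv
  have hset := Feit.S_eq K' h.centralizer_le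
  obtain ⟨h1, h2⟩ := isometry_indFun h K'
  rw [hset] at h1 h2
  refine Feit.isCoherent_feit K' h.centralizer_le (subgroupOf_ne_bot h hK) (subgroupOf_ne_top h)
    ?_ _ h1 h2
  rcases hgood with ⟨hc, he⟩ | hpp | ⟨p, m, hp, hm, hbig⟩
  · exact Or.inl ⟨(comm_subgroupOf_iff h.lt.le).mpr hc, by rw [hcard]; exact he⟩
  · exact Or.inr (Or.inl (by rw [hcard]; exact hpp))
  · refine Or.inr (Or.inr ⟨p, m, hp, hcard.trans hm, ?_⟩)
    refine lt_of_lt_of_le hbig (le_of_eq ?_)
    have e1 : ⁅K', K'⁆.map (Subgroup.normalizer (K : Set G)).subtype = ⁅K, K⁆ := by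
      rw [Subgroup.map_commutator, hK', Subgroup.map_subgroupOf_eq_of_le h.lt.le]
    rw [← e1, ← Subgroup.relIndex_map_map_of_injective _ _
      (Subgroup.normalizer (K : Set G)).subtype_injective]
    congr 1
    rw [hK', Subgroup.map_subgroupOf_eq_of_le h.lt.le]

open scoped Classical in
theorem isCoherent_sylow {p : ℕ} [Fact p.Prime] (hp : p ≠ 2) (h : TIKernel.IsTIKernel K)
    (hK : K ≠ ⊥) (hKp : IsPGroup p K) (hna : ¬ IsMulCommutative K) :
    Cfsg.IsCoherent {χ : (Subgroup.normalizer (K : Set G)) → ℂ |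
      Cfsg.IsIrrCharacter (Subgroup.normalizer (K : Set G)) χ ∧
        ∃ k : Subgroup.normalizer (K : Set G), (k : G) ∈ K ∧ χ k ≠ χ 1} {1}ᶜ
      (fun α => Cfsg.indFun (Subgroup.normalizer (K : Set G)) α) := by
  obtain ⟨P, rfl⟩ := exists_sylow_eq h hK hKp
  rw [set_eq h]
  refine isCoherent_sibley hp P h hna (odd_normalizer h ?_ hna)
  obtain ⟨n, hn⟩ := IsPGroup.iff_card.mp hKp
  rw [hn]
  exact ((Fact.out : p.Prime).odd_of_ne_two hp).pow

theorem isCoherent_central {p : ℕ} [Fact p.Prime] (hp : p ≠ 2) (h : TIKernel.IsTIKernel K)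
    (hKp : IsPGroup p K) (hna : ¬ IsMulCommutative K) (Z : Subgroup G) (hZ1 : Z ≠ ⊥)
    (hZP : ∀ z ∈ Z, z ∈ K ∧ ∀ y ∈ K, z * y = y * z)
    (hZn : ∀ x ∈ Subgroup.normalizer (K : Set G), ∀ z ∈ Z, x * z * x⁻¹ ∈ Z) :
    Cfsg.IsCoherent {χ : (Subgroup.normalizer (K : Set G)) → ℂ |
      Cfsg.IsIrrCharacter (Subgroup.normalizer (K : Set G)) χ ∧
        ∃ z : Subgroup.normalizer (K : Set G), (z : G) ∈ Z ∧ χ z ≠ χ 1} {1}ᶜ
      (fun α => Cfsg.indFun (Subgroup.normalizer (K : Set G)) α) := by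
  set N := K.subgroupOf (Subgroup.normalizer (K : Set G)) with hN
  cases nonempty_fintype N
  set Z' := Z.subgroupOf (Subgroup.normalizer (K : Set G)) with hZ'
  haveI : Z'.Normal := ⟨fun z hz g => Subgroup.mem_subgroupOf.mpr
    (hZn g g.2 z (Subgroup.mem_subgroupOf.mp hz))⟩
  have hZN : Z' ≤ N := fun z hz =>
    Subgroup.mem_subgroupOf.mpr (hZP z (Subgroup.mem_subgroupOf.mp hz)).1
  have hsub : indNontriv N Z' ⊆ indNontriv N N := by
    rintro _ ⟨θ, hθ, hnt, rfl⟩
    exact ⟨θ, hθ, fun ht => hnt fun a _ => ht a a.2, rfl⟩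
  have hirr : ∀ η ∈ indNontriv N Z', Cfsg.IsIrrCharacter _ η := fun η hη =>
    Feit.isIrr_indNontriv N h.centralizer_le η (hsub hη)
  rw [show {χ : (Subgroup.normalizer (K : Set G)) → ℂ |
      Cfsg.IsIrrCharacter (Subgroup.normalizer (K : Set G)) χ ∧
        ∃ z : Subgroup.normalizer (K : Set G), (z : G) ∈ Z ∧ χ z ≠ χ 1} = indNontriv N Z' from
    (indNontriv_eq N Z' hZN hirr).symm]
  obtain ⟨n, hn⟩ := IsPGroup.iff_card.mp hKp
  have hK1 : K ≠ ⊥ := fun hb => hna (by rw [hb]; infer_instance)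
  have hodd := odd_normalizer h (by rw [hn]; exact ((Fact.out : p.Prime).odd_of_ne_two hp).pow) hna
  have hcard : Nat.card N = Nat.card K :=
    Nat.card_congr (Subgroup.subgroupOfEquivOfLe h.lt.le).toEquiv
  have hn0 : n ≠ 0 := fun h0 => hK1 (Subgroup.card_eq_one.mp (by rw [hn, h0, pow_zero]))
  have hpe : ¬ p ∣ N.index := fun hd => (Fact.out : p.Prime).not_dvd_one
    ((Feit.coprime_index N h.centralizer_le).gcd_eq_one ▸
      Nat.dvd_gcd (hcard ▸ hn ▸ dvd_pow_self p hn0) hd)
  obtain ⟨h1, h2⟩ := isometry_indFun h Z'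
  refine isCoherent_indNontriv N hp (IsPGroup.of_card (hcard.trans hn)) hpe Z' (fun hb => hZ1 ?_) hZN
    (fun z hz k hk => Subtype.ext ((hZP z (Subgroup.mem_subgroupOf.mp hz)).2 k
      (Subgroup.mem_subgroupOf.mp hk))) hirr (fun η hη he => ?_) _ h1 h2
  · refine eq_bot_iff.mpr fun z hz => Subgroup.mem_bot.mpr ?_
    have hzN : z ∈ Subgroup.normalizer (K : Set G) := h.lt.le (hZP z hz).1
    have hm : (⟨z, hzN⟩ : Subgroup.normalizer (K : Set G)) ∈ Z' := Subgroup.mem_subgroupOf.mpr hz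
    rw [hb, Subgroup.mem_bot] at hm
    exact congrArg Subtype.val hm
  · have hh := indNontriv_eq N Z' hZN hirr ▸ hη
    obtain ⟨hi, z, -, hz⟩ := hh
    have h3 := Cfsg.Agent.S0161.real_unique hodd ⟨η, hi⟩
      fun g => Complex.conj_eq_iff_im.mp (congrFun he g)
    exact hz (by rw [show η = fun _ => 1 from congrArg Subtype.val h3])

end CfsgLib.Char.Sibley
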