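import Cfsg.Agent.Lib.Char.CoherenceTIApps

/-!
# The cases of the coherence theorem for nilpotent TI kernels
-/

set_option autoImplicit false

open scoped ComplexConjugate commutatorElement

namespace CfsgLib.Char.Sibley

open Coherence

variable {G : Type*} [Group G] [Fintype G] {K : Subgroup G}
  [Fintype (Subgroup.normalizer (K : Set G))]

theorem sylow_cases {p : ℕ} [Fact p.Prime] (hp : p ≠ 2) (h : TIKernel.IsTIKernel K) (hK : K ≠ ⊥)
    (hKp : IsPGroup p K) :
    (Nat.card {χ : (Subgroup.normalizer (K : Set G)) → ℂ //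
        Cfsg.IsIrrCharacter (Subgroup.normalizer (K : Set G)) χ ∧
        ∃ x : Subgroup.normalizer (K : Set G), (x : G) ∈ K ∧ χ x ≠ χ 1} = 1 ∧
      Cfsg.IsElementaryAbelian p K ∧
      Nat.card K = (K.subgroupOf (Subgroup.normalizer (K : Set G))).index + 1) ∨
    Cfsg.IsCoherent {χ : (Subgroup.normalizer (K : Set G)) → ℂ |
      Cfsg.IsIrrCharacter (Subgroup.normalizer (K : Set G)) χ ∧
        ∃ x : Subgroup.normalizer (K : Set G), (x : G) ∈ K ∧ χ x ≠ χ 1} {1}ᶜ
      (fun α => Cfsg.indFun (Subgroup.normalizer (K : Set G)) α) := by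
  by_cases hc : IsMulCommutative K
  swap
  · exact Or.inr (isCoherent_sylow hp h hK hKp hc)
  by_cases he : Nat.card K = (K.subgroupOf (Subgroup.normalizer (K : Set G))).index + 1
  swap
  · exact Or.inr (isCoherent_feit_TI h hK (Or.inl ⟨hc, he⟩))
  obtain ⟨h1, q, hq, hq'⟩ := single_of_card h hK he hc
  refine Or.inl ⟨h1, ?_, he⟩
  suffices hqp : q = p by rwa [← hqp]
  obtain ⟨a, ha, ha1⟩ := K.bot_or_exists_ne_one.resolve_left hK
  obtain ⟨i, hi⟩ := (IsPGroup.iff_orderOf.mp hKp) ⟨a, ha⟩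
  rw [Subgroup.orderOf_mk] at hi
  have hd : orderOf a ∣ q := orderOf_dvd_of_pow_eq_one (hq'.2 a ha)
  rw [hi] at hd
  rcases Nat.eq_zero_or_pos i with rfl | hi0
  · exact absurd (orderOf_eq_one_iff.mp (by rw [hi, pow_zero])) ha1
  · exact ((Nat.prime_dvd_prime_iff_eq Fact.out hq).mp ((dvd_pow_self p hi0.ne').trans hd)).symm

theorem nilpotent_cases (h : TIKernel.IsTIKernel K) (hK : K ≠ ⊥) :
    (Nat.card {χ : (Subgroup.normalizer (K : Set G)) → ℂ //
        Cfsg.IsIrrCharacter (Subgroup.normalizer (K : Set G)) χ ∧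
        ∃ k : Subgroup.normalizer (K : Set G), (k : G) ∈ K ∧ χ k ≠ χ 1} = 1 ∧
      Nat.card K = (K.subgroupOf (Subgroup.normalizer (K : Set G))).index + 1 ∧
      ∃ p : ℕ, p.Prime ∧ Cfsg.IsElementaryAbelian p K) ∨
    (Nat.card K = 2 ^ (Nat.card G).factorization 2 ∧
      (⁅K, K⁆.subgroupOf K).index <
        4 * (K.subgroupOf (Subgroup.normalizer (K : Set G))).index ^ 2) ∨
    Cfsg.IsCoherent {χ : (Subgroup.normalizer (K : Set G)) → ℂ |
      Cfsg.IsIrrCharacter (Subgroup.normalizer (K : Set G)) χ ∧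
        ∃ k : Subgroup.normalizer (K : Set G), (k : G) ∈ K ∧ χ k ≠ χ 1} {1}ᶜ
      (fun α => Cfsg.indFun (Subgroup.normalizer (K : Set G)) α) := by
  set K' := K.subgroupOf (Subgroup.normalizer (K : Set G)) with hK'
  by_cases hc : IsMulCommutative K
  · by_cases he : Nat.card K = K'.index + 1
    · obtain ⟨h1, h2⟩ := single_of_card h hK he hc
      exact Or.inl ⟨h1, he, h2⟩
    · exact Or.inr (Or.inr (isCoherent_feit_TI h hK (Or.inl ⟨hc, he⟩)))
  by_cases hpp : ∃ p m : ℕ, p.Prime ∧ Nat.card K = p ^ m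
  swap
  · exact Or.inr (Or.inr (isCoherent_feit_TI h hK (Or.inr (Or.inl hpp))))
  obtain ⟨p, m, hp, hm⟩ := hpp
  haveI : Fact p.Prime := ⟨hp⟩
  have hKp : IsPGroup p K := IsPGroup.of_card hm
  rcases eq_or_ne p 2 with rfl | hp2
  swap
  · exact Or.inr (Or.inr (isCoherent_sylow hp2 h hK hKp hc))
  rcases Nat.lt_or_ge ((⁅K, K⁆).relIndex K) (4 * K'.index ^ 2) with hlt | hge
  · obtain ⟨P, hP⟩ := exists_sylow_eq h hK hKp
    refine Or.inr (Or.inl ⟨?_, hlt⟩)
    rw [← hP]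
    exact P.card_eq_multiplicity
  refine Or.inr (Or.inr (isCoherent_feit_TI h hK (Or.inr (Or.inr ⟨2, m, hp, hm, ?_⟩))))
  -- the index of the derived subgroup is a power of two, the index of `K` odd and larger than one
  obtain ⟨i, -, hi⟩ := (Nat.dvd_prime_pow hp).mp
    (show (⁅K, K⁆).relIndex K ∣ 2 ^ m from hm ▸ Subgroup.relIndex_dvd_card _ _)
  cases nonempty_fintype K'
  have hodd : Odd K'.index := Nat.not_even_iff_odd.mp fun he =>
    hc ((comm_subgroupOf_iff h.lt.le).mp (Feit.comm_of_even _ h.centralizer_le he))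
  have hne1 : K'.index ≠ 1 := fun h1 => subgroupOf_ne_top h (Subgroup.index_eq_one.mp h1)
  rw [hi] at hge ⊢
  obtain ⟨q, hq, hqd⟩ := Nat.exists_prime_and_dvd hne1
  have hne : 2 ^ i ≠ 4 * K'.index ^ 2 := fun he => by
    have h2 : q ∣ 2 ^ i := he ▸ dvd_mul_of_dvd_right (dvd_pow hqd two_ne_zero) 4
    have := (Nat.prime_dvd_prime_iff_eq hq hp).mp (hq.dvd_of_dvd_pow h2)
    subst this
    exact Nat.not_even_iff_odd.mpr hodd (even_iff_two_dvd.mpr hqd)
  have hne' : 2 ^ i ≠ 4 * K'.index ^ 2 + 1 := fun he => by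
    rcases Nat.eq_zero_or_pos i with rfl | hi0
    · have := pow_pos (Nat.pos_of_ne_zero (Subgroup.index_ne_zero_of_finite (H := K'))) 2; rw [pow_zero] at he; omega
    · have : 2 ∣ 4 * K'.index ^ 2 + 1 := he ▸ dvd_pow_self 2 hi0.ne'
      omega
  show 4 * K'.index ^ 2 + 1 < 2 ^ i
  omega

end CfsgLib.Char.Sibley
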