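import Cfsg.Prelude.Def_OddOrderLocal
import Cfsg.Prelude.Def_OddOrderChar
import Cfsg.Agent.Lib.Char.TI
import Cfsg.Agent.Lib.Char.Linear
import Cfsg.Agent.Lib.Char.Virtual
import Mathlib.GroupTheory.FiniteAbelian.Duality
import Mathlib.GroupTheory.SpecificGroups.Cyclic

/-!
# Self-normalising cyclic pairs
-/

set_option autoImplicit false

open scoped ComplexConjugate

namespace CfsgLib.Char.CyclicTI

variable {G : Type*} [Group G] {W₁ W₂ : Subgroup G}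

variable (W₁ W₂) in
/-- The elements of `W₁ ⊔ W₂` outside `W₁ ∪ W₂`. -/
def vset : Set G := ((W₁ ⊔ W₂ : Subgroup G) : Set G) \ (↑W₁ ∪ ↑W₂)

theorem mem_vset {g : G} : g ∈ vset W₁ W₂ ↔ g ∈ W₁ ⊔ W₂ ∧ g ∉ W₁ ∧ g ∉ W₂ := by
  simp [vset, not_or]

theorem mem_iff_fix (hW : Cfsg.IsSelfNormalizingCyclic W₁ W₂) {y : G} (hy : y ∈ vset W₁ W₂)
    (g : G) : g ∈ W₁ ⊔ W₂ ↔ g * y * g⁻¹ = y := by
  have h := hW.2.2.2.2.2 {y} (Set.singleton_subset_iff.mpr hy) (Set.singleton_nonempty y)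
  rw [← h, Subgroup.mem_set_normalizer_iff]
  constructor
  · intro hg
    simpa using (hg y).mp rfl
  · intro hg n
    simp only [Set.mem_singleton_iff]
    constructor
    · intro e; rw [e, hg]
    · intro e
      rw [← hg] at e
      exact mul_left_cancel (mul_right_cancel e)

theorem mul_comm' (hW : Cfsg.IsSelfNormalizingCyclic W₁ W₂) (a b : ↥(W₁ ⊔ W₂)) :
    a * b = b * a := by
  let _ : CommGroup ↥(W₁ ⊔ W₂) := hW.2.2.2.2.1.commGroup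
  exact mul_comm a b

theorem isClassFunction (hW : Cfsg.IsSelfNormalizingCyclic W₁ W₂) (f : ↥(W₁ ⊔ W₂) → ℂ) :
    Cfsg.IsClassFunction ↥(W₁ ⊔ W₂) f := fun g h => by
  rw [mul_comm' hW h g, mul_inv_cancel_right]

theorem map_mem (hW : Cfsg.IsSelfNormalizingCyclic W₁ W₂) {x y : G} (hy : y ∈ vset W₁ W₂)
    (hxy : x * y * x⁻¹ ∈ vset W₁ W₂) :
    (∀ w ∈ W₁ ⊔ W₂, x * w * x⁻¹ ∈ W₁ ⊔ W₂) ∧ (∀ w ∈ W₁, x * w * x⁻¹ ∈ W₁) ∧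
      ∀ w ∈ W₂, x * w * x⁻¹ ∈ W₂ := by
  have h1 : ∀ w ∈ W₁ ⊔ W₂, x * w * x⁻¹ ∈ W₁ ⊔ W₂ := fun w hw => by
    rw [mem_iff_fix hW hxy]
    conv_rhs => rw [← (mem_iff_fix hW hy w).mp hw]
    group
  have := hW.2.2.2.2.1
  let σ : ↥(W₁ ⊔ W₂) →* ↥(W₁ ⊔ W₂) :=
    { toFun := fun w => ⟨x * w * x⁻¹, h1 w w.2⟩
      map_one' := Subtype.ext (by simp)
      map_mul' := fun a b => Subtype.ext (by simp [mul_assoc]) }
  obtain ⟨m, hm⟩ := MonoidHom.map_cyclic σ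
  have h2 : ∀ w (hw : w ∈ W₁ ⊔ W₂), x * w * x⁻¹ = w ^ m := fun w hw => by
    simpa [σ] using congrArg Subtype.val (hm ⟨w, hw⟩)
  exact ⟨h1, fun w hw => h2 w (Subgroup.mem_sup_left hw) ▸ W₁.zpow_mem hw m,
    fun w hw => h2 w (Subgroup.mem_sup_right hw) ▸ W₂.zpow_mem hw m⟩

theorem ti (hW : Cfsg.IsSelfNormalizingCyclic W₁ W₂) (x y : G) (hy : y ∈ vset W₁ W₂)
    (hxy : x * y * x⁻¹ ∈ vset W₁ W₂) : x ∈ W₁ ⊔ W₂ := by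
  obtain ⟨a, b, c⟩ := map_mem hW hy hxy
  obtain ⟨a', b', c'⟩ := map_mem hW hxy (x := x⁻¹) (by simpa [mul_assoc] using hy)
  have h := hW.2.2.2.2.2 (vset W₁ W₂) (fun _ h => h) ⟨y, hy⟩
  rw [← h, Subgroup.mem_set_normalizer_iff]
  have back : ∀ (K : Subgroup G), (∀ w ∈ K, x⁻¹ * w * x⁻¹⁻¹ ∈ K) →
      ∀ n, x * n * x⁻¹ ∈ K → n ∈ K := fun K hK n hn => by
    simpa [mul_assoc] using hK _ hn
  intro n
  rw [mem_vset, mem_vset]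
  exact ⟨fun ⟨p, q, r⟩ => ⟨a n p, fun h => q (back W₁ b' n h), fun h => r (back W₂ c' n h)⟩,
    fun ⟨p, q, r⟩ => ⟨back _ a' n p, fun h => q (b n h), fun h => r (c n h)⟩⟩

variable (φ ψ : ↥(W₁ ⊔ W₂) →* ℂˣ)

/-- The function `(1 - φ)(1 - ψ)`. -/
def alpha : ↥(W₁ ⊔ W₂) → ℂ :=
  fun w => 1 - (φ w : ℂ) - (ψ w : ℂ) + (φ w : ℂ) * (ψ w : ℂ)

theorem alpha_eq_zero (hφ : ∀ w : ↥(W₁ ⊔ W₂), (w : G) ∈ W₂ → φ w = 1)
    (hψ : ∀ w : ↥(W₁ ⊔ W₂), (w : G) ∈ W₁ → ψ w = 1) (w : ↥(W₁ ⊔ W₂))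
    (hw : (w : G) ∉ vset W₁ W₂) : alpha φ ψ w = 0 := by
  rw [mem_vset] at hw
  by_cases h1 : (w : G) ∈ W₁
  · simp [alpha, hψ w h1]
  · by_cases h2 : (w : G) ∈ W₂
    · simp [alpha, hφ w h2]
    · exact absurd ⟨w.2, h1, h2⟩ hw

theorem hom_eq_one (f : ↥(W₁ ⊔ W₂) →* ℂˣ) (h1 : ∀ w : ↥(W₁ ⊔ W₂), (w : G) ∈ W₁ → f w = 1)
    (h2 : ∀ w : ↥(W₁ ⊔ W₂), (w : G) ∈ W₂ → f w = 1) : f = 1 := by
  have hle : W₁ ⊔ W₂ ≤ f.ker.map (W₁ ⊔ W₂).subtype := sup_le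
    (fun a ha => ⟨⟨a, Subgroup.mem_sup_left ha⟩, h1 _ ha, rfl⟩)
    (fun b hb => ⟨⟨b, Subgroup.mem_sup_right hb⟩, h2 _ hb, rfl⟩)
  refine MonoidHom.ext fun w => ?_
  obtain ⟨v, hv, hvw⟩ := hle w.2
  rw [← Subtype.ext hvw]
  exact hv

variable {φ ψ}

theorem sep {φ' ψ' : ↥(W₁ ⊔ W₂) →* ℂˣ}
    (hφ : ∀ w : ↥(W₁ ⊔ W₂), (w : G) ∈ W₂ → φ w = 1 ∧ φ' w = 1)
    (hψ : ∀ w : ↥(W₁ ⊔ W₂), (w : G) ∈ W₁ → ψ w = 1 ∧ ψ' w = 1)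
    (h : φ * ψ = φ' * ψ') : φ = φ' ∧ ψ = ψ' := by
  constructor <;> rw [← div_eq_one] <;> refine hom_eq_one _ (fun w hw => ?_) (fun w hw => ?_)
  · have := DFunLike.congr_fun h w
    simp only [MonoidHom.mul_apply, (hψ w hw).1, (hψ w hw).2, mul_one] at this
    simp [this]
  · simp [(hφ w hw).1, (hφ w hw).2]
  · simp [(hψ w hw).1, (hψ w hw).2]
  · have := DFunLike.congr_fun h w
    simp only [MonoidHom.mul_apply, (hφ w hw).1, (hφ w hw).2, one_mul] at this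
    simp [this]

variable [Fintype G]

open scoped Classical in
theorem classInner_hom (f g : ↥(W₁ ⊔ W₂) →* ℂˣ) [Fintype ↥(W₁ ⊔ W₂)] :
    Cfsg.classInner (fun w => (f w : ℂ)) (fun w => (g w : ℂ)) = if f = g then 1 else 0 := by
  rw [classInner_irr (isIrrCharacter_hom f) (isIrrCharacter_hom g)]
  exact if_congr ⟨fun h => coe_hom_injective h, fun h => h ▸ rfl⟩ rfl rfl

theorem alpha_eq (φ ψ : ↥(W₁ ⊔ W₂) →* ℂˣ) :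
    alpha φ ψ = (fun w => (((1 : ↥(W₁ ⊔ W₂) →* ℂˣ) w : ℂˣ) : ℂ)) - (fun w => (φ w : ℂ)) -
      (fun w => (ψ w : ℂ)) + fun w => (((φ * ψ) w : ℂˣ) : ℂ) := by
  funext w; simp [alpha]

theorem isGeneralizedCharacter_alpha (φ ψ : ↥(W₁ ⊔ W₂) →* ℂˣ) :
    Cfsg.IsGeneralizedCharacter ↥(W₁ ⊔ W₂) (alpha φ ψ) := by
  refine ⟨_, _, IsCharacter.add (isCharacter_hom 1) (isCharacter_hom (φ * ψ)),
    IsCharacter.add (isCharacter_hom φ) (isCharacter_hom ψ), ?_⟩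
  rw [alpha_eq]; abel

open scoped Classical in
theorem classInner_alpha_hom [Fintype ↥(W₁ ⊔ W₂)] (φ ψ g : ↥(W₁ ⊔ W₂) →* ℂˣ) :
    Cfsg.classInner (alpha φ ψ) (fun w => (g w : ℂ)) =
      (if 1 = g then 1 else 0) - (if φ = g then 1 else 0) - (if ψ = g then 1 else 0) +
        if φ * ψ = g then 1 else 0 := by
  rw [alpha_eq, classInner_add_left, classInner_sub_left, classInner_sub_left, classInner_hom,
    classInner_hom, classInner_hom, classInner_hom]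

open scoped Classical in
theorem classInner_alpha_alpha [Fintype ↥(W₁ ⊔ W₂)] {φ φ' ψ ψ' : ↥(W₁ ⊔ W₂) →* ℂˣ}
    (hφ : φ ≠ 1) (hφ' : φ' ≠ 1) (hψ : ψ ≠ 1) (hψ' : ψ' ≠ 1)
    (hφ₂ : ∀ w : ↥(W₁ ⊔ W₂), (w : G) ∈ W₂ → φ w = 1 ∧ φ' w = 1)
    (hψ₁ : ∀ w : ↥(W₁ ⊔ W₂), (w : G) ∈ W₁ → ψ w = 1 ∧ ψ' w = 1) :
    Cfsg.classInner (alpha φ ψ) (fun _ => 1) = 1 ∧
    Cfsg.classInner (alpha φ ψ) (alpha φ' ψ') =
      1 + (if φ = φ' then 1 else 0) + (if ψ = ψ' then 1 else 0) +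
        (if φ = φ' then 1 else 0) * (if ψ = ψ' then 1 else 0) := by
  have s1 : ∀ (f g f' g' : ↥(W₁ ⊔ W₂) →* ℂˣ), (f = φ ∨ f = φ' ∨ f = 1) → (f' = φ ∨ f' = φ' ∨ f' = 1) →
      (g = ψ ∨ g = ψ' ∨ g = 1) → (g' = ψ ∨ g' = ψ' ∨ g' = 1) → f * g = f' * g' → f = f' ∧ g = g' := by
    intro f g f' g' hf hf' hg hg' h
    refine sep (fun w hw => ⟨?_, ?_⟩) (fun w hw => ⟨?_, ?_⟩) h
    · rcases hf with rfl | rfl | rfl <;> simp [(hφ₂ w hw).1, (hφ₂ w hw).2]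
    · rcases hf' with rfl | rfl | rfl <;> simp [(hφ₂ w hw).1, (hφ₂ w hw).2]
    · rcases hg with rfl | rfl | rfl <;> simp [(hψ₁ w hw).1, (hψ₁ w hw).2]
    · rcases hg' with rfl | rfl | rfl <;> simp [(hψ₁ w hw).1, (hψ₁ w hw).2]
  have e1 : ∀ f : ↥(W₁ ⊔ W₂) →* ℂˣ, f * 1 = f := fun f => MonoidHom.ext fun _ => mul_one _
  have e2 : ∀ f : ↥(W₁ ⊔ W₂) →* ℂˣ, 1 * f = f := fun f => MonoidHom.ext fun _ => one_mul _
  have n1 : φ * ψ ≠ 1 := fun h => hφ (s1 φ ψ 1 1 (by simp) (by simp) (by simp) (by simp)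
    (by rw [h, e1])).1
  have hone : Cfsg.classInner (alpha φ ψ) (fun w => (((1 : ↥(W₁ ⊔ W₂) →* ℂˣ) w : ℂˣ) : ℂ)) = 1 := by
    rw [classInner_alpha_hom, if_pos rfl, if_neg hφ, if_neg hψ, if_neg n1]; ring
  refine ⟨by simpa using hone, ?_⟩
  rw [alpha_eq φ' ψ', classInner_add_right, classInner_sub_right, classInner_sub_right, hone,
    classInner_alpha_hom, classInner_alpha_hom, classInner_alpha_hom]
  have a1 : (1 : ↥(W₁ ⊔ W₂) →* ℂˣ) ≠ φ' := Ne.symm hφ'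
  have a2 : ψ ≠ φ' := fun h => hψ (s1 φ' 1 1 ψ (by simp) (by simp) (by simp) (by simp)
    (by rw [e1, e2, h])).2.symm
  have a3 : φ * ψ ≠ φ' := fun h => hψ (s1 φ ψ φ' 1 (by simp) (by simp) (by simp) (by simp)
    (by rw [h, e1])).2
  have b1 : (1 : ↥(W₁ ⊔ W₂) →* ℂˣ) ≠ ψ' := Ne.symm hψ'
  have b2 : φ ≠ ψ' := fun h => hφ (s1 φ 1 1 ψ' (by simp) (by simp) (by simp) (by simp)
    (by rw [e1, e2, h])).1
  have b3 : φ * ψ ≠ ψ' := fun h => hφ (s1 φ ψ 1 ψ' (by simp) (by simp) (by simp) (by simp)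
    (by rw [h, e2])).1
  have c1 : (1 : ↥(W₁ ⊔ W₂) →* ℂˣ) ≠ φ' * ψ' := fun h => hφ' (s1 φ' ψ' 1 1 (by simp) (by simp)
    (by simp) (by simp) (by rw [← h, e1])).1
  have c2 : φ ≠ φ' * ψ' := fun h => hψ' (s1 φ 1 φ' ψ' (by simp) (by simp) (by simp) (by simp)
    (by rw [← h, e1])).2.symm
  have c3 : ψ ≠ φ' * ψ' := fun h => hφ' (s1 1 ψ φ' ψ' (by simp) (by simp) (by simp) (by simp)
    (by rw [← h, e2])).1.symm
  rw [if_neg a1, if_neg a2, if_neg a3, if_neg b1, if_neg b2, if_neg b3, if_neg c1, if_neg c2,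
    if_neg c3]
  by_cases hd : φ = φ' <;> by_cases he : ψ = ψ'
  · rw [if_pos hd, if_pos he, if_pos (by rw [hd, he])]; ring
  · rw [if_pos hd, if_neg he, if_neg fun h => he (s1 φ ψ φ' ψ' (by simp) (by simp) (by simp)
      (by simp) h).2]; ring
  · rw [if_neg hd, if_pos he, if_neg fun h => hd (s1 φ ψ φ' ψ' (by simp) (by simp) (by simp)
      (by simp) h).1]; ring
  · rw [if_neg hd, if_neg he, if_neg fun h => hd (s1 φ ψ φ' ψ' (by simp) (by simp) (by simp)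
      (by simp) h).1]; ring

theorem classInner_indFun_alpha (hW : Cfsg.IsSelfNormalizingCyclic W₁ W₂)
    [Fintype ↥(W₁ ⊔ W₂)] {φ φ' ψ ψ' : ↥(W₁ ⊔ W₂) →* ℂˣ}
    (hφ : ∀ w : ↥(W₁ ⊔ W₂), (w : G) ∈ W₂ → φ w = 1 ∧ φ' w = 1)
    (hψ : ∀ w : ↥(W₁ ⊔ W₂), (w : G) ∈ W₁ → ψ w = 1 ∧ ψ' w = 1) :
    Cfsg.classInner (Cfsg.indFun (W₁ ⊔ W₂) (alpha φ ψ))
      (Cfsg.indFun (W₁ ⊔ W₂) (alpha φ' ψ')) = Cfsg.classInner (alpha φ ψ) (alpha φ' ψ') :=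
  classInner_indFun_of_ti (ti hW)
    (alpha_eq_zero φ ψ (fun w h => (hφ w h).1) fun w h => (hψ w h).1) (isClassFunction hW _)
    (alpha_eq_zero φ' ψ' (fun w h => (hφ w h).2) fun w h => (hψ w h).2)

omit [Fintype G] in
theorem finite_hom [Finite G] : Finite (↥(W₁ ⊔ W₂) →* ℂˣ) := by
  cases nonempty_fintype G
  exact Finite.of_injective
    (fun φ => (⟨_, isIrrCharacter_hom φ⟩ : Cfsg.IrrCharacter ↥(W₁ ⊔ W₂)))
    fun _ _ h => coe_hom_injective (congrArg Subtype.val h)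

omit [Fintype G] in
theorem sum_hom_eq_zero [Finite G] [Fintype (↥(W₁ ⊔ W₂) →* ℂˣ)]
    (hW : Cfsg.IsSelfNormalizingCyclic W₁ W₂) (K : Subgroup ↥(W₁ ⊔ W₂)) {c : ↥(W₁ ⊔ W₂)}
    (hc : c ∉ K) [DecidablePred fun φ : ↥(W₁ ⊔ W₂) →* ℂˣ => ∀ k ∈ K, φ k = 1] :
    ∑ φ ∈ Finset.univ.filter (fun φ : ↥(W₁ ⊔ W₂) →* ℂˣ => ∀ k ∈ K, φ k = 1), (φ c : ℂ) = 0 := by
  have := hW.2.2.2.2.1
  let _ : CommGroup ↥(W₁ ⊔ W₂) := IsCyclic.commGroup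
  have : NeZero (Monoid.exponent (↥(W₁ ⊔ W₂) ⧸ K)) := ⟨Monoid.exponent_ne_zero_of_finite⟩
  obtain ⟨f, hf⟩ := CommGroup.exists_apply_ne_one_of_hasEnoughRootsOfUnity
    (↥(W₁ ⊔ W₂) ⧸ K) ℂ (a := (c : ↥(W₁ ⊔ W₂) ⧸ K)) (by rwa [ne_eq, QuotientGroup.eq_one_iff])
  set g : ↥(W₁ ⊔ W₂) →* ℂˣ := f.comp (QuotientGroup.mk' K) with hg
  have hgK : ∀ k ∈ K, g k = 1 := fun k hk => by
    simp [hg, (QuotientGroup.eq_one_iff k).mpr hk]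
  have hshift : ∑ φ ∈ Finset.univ.filter (fun φ : ↥(W₁ ⊔ W₂) →* ℂˣ => ∀ k ∈ K, φ k = 1), (φ c : ℂ) =
      (g c : ℂ) * ∑ φ ∈ Finset.univ.filter (fun φ : ↥(W₁ ⊔ W₂) →* ℂˣ => ∀ k ∈ K, φ k = 1),
        (φ c : ℂ) := by
    rw [Finset.mul_sum]
    refine (Finset.sum_equiv (Equiv.mulLeft g) (fun φ => ?_) fun φ _ => ?_).symm
    · simp only [Finset.mem_filter, Finset.mem_univ, true_and, Equiv.coe_mulLeft,
        MonoidHom.mul_apply]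
      exact forall₂_congr fun k hk => by rw [hgK k hk, one_mul]
    · simp
  have hne : (g c : ℂ) ≠ 1 := by
    rw [ne_eq, Units.val_eq_one]
    exact hf
  by_contra h0
  exact hne ((mul_eq_right₀ h0).mp hshift.symm)

/-- A function on `W` orthogonal to all the `(1 - φ)(1 - ψ)` vanishes outside `W₁ ∪ W₂`. -/
theorem eq_zero_of_orth_alpha (hW : Cfsg.IsSelfNormalizingCyclic W₁ W₂) [Fintype ↥(W₁ ⊔ W₂)]
    (f : ↥(W₁ ⊔ W₂) → ℂ)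
    (h : ∀ φ ψ : ↥(W₁ ⊔ W₂) →* ℂˣ, (∀ w : ↥(W₁ ⊔ W₂), (w : G) ∈ W₂ → φ w = 1) →
      (∀ w : ↥(W₁ ⊔ W₂), (w : G) ∈ W₁ → ψ w = 1) → φ ≠ 1 → ψ ≠ 1 →
      Cfsg.classInner f (alpha φ ψ) = 0)
    (w : ↥(W₁ ⊔ W₂)) (hw₁ : (w : G) ∉ W₁) (hw₂ : (w : G) ∉ W₂) : f w = 0 := by
  classical
  have := finite_hom (W₁ := W₁) (W₂ := W₂)
  cases nonempty_fintype (↥(W₁ ⊔ W₂) →* ℂˣ)
  set K₁ := W₁.subgroupOf (W₁ ⊔ W₂) with hK₁
  set K₂ := W₂.subgroupOf (W₁ ⊔ W₂) with hK₂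
  set X₁ := Finset.univ.filter (fun φ : ↥(W₁ ⊔ W₂) →* ℂˣ => ∀ k ∈ K₂, φ k = 1) with hX₁
  set X₂ := Finset.univ.filter (fun φ : ↥(W₁ ⊔ W₂) →* ℂˣ => ∀ k ∈ K₁, φ k = 1) with hX₂
  have hfac : ∀ (K : Subgroup ↥(W₁ ⊔ W₂)), w ∉ K → ∀ w' : ↥(W₁ ⊔ W₂),
      ∑ φ ∈ Finset.univ.filter (fun φ : ↥(W₁ ⊔ W₂) →* ℂˣ => ∀ k ∈ K, φ k = 1),
        conj (φ w : ℂ) * (1 - (φ w' : ℂ)) =
      if w' * w⁻¹ ∈ K then
        -((Finset.univ.filter (fun φ : ↥(W₁ ⊔ W₂) →* ℂˣ => ∀ k ∈ K, φ k = 1)).card : ℂ)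
      else 0 := by
    intro K hwK w'
    have hconj : ∀ φ : ↥(W₁ ⊔ W₂) →* ℂˣ, conj (φ w : ℂ) = (φ w⁻¹ : ℂ) := fun φ =>
      (IsCharacter.apply_inv (isCharacter_hom φ) w).symm
    have hterm : ∀ φ : ↥(W₁ ⊔ W₂) →* ℂˣ,
        conj (φ w : ℂ) * (1 - (φ w' : ℂ)) = (φ w⁻¹ : ℂ) - (φ (w' * w⁻¹) : ℂ) := fun φ => by
      rw [hconj, map_mul, Units.val_mul]; ring
    rw [Finset.sum_congr rfl fun φ _ => hterm φ, Finset.sum_sub_distrib,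
      sum_hom_eq_zero hW K (fun h => hwK (inv_mem_iff.mp h)), zero_sub]
    split_ifs with hm
    · rw [Finset.sum_congr rfl fun φ hφ => by rw [(Finset.mem_filter.mp hφ).2 _ hm, Units.val_one],
        Finset.sum_const, nsmul_eq_mul, mul_one]
    · rw [sum_hom_eq_zero hW K hm, neg_zero]
  have hF : ∑ φ ∈ X₁, ∑ ψ ∈ X₂, (conj (φ w : ℂ) * conj (ψ w : ℂ)) • alpha φ ψ =
      fun w' => if w' = w then (X₁.card : ℂ) * (X₂.card : ℂ) else 0 := by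
    funext w'
    simp only [Finset.sum_apply, Pi.smul_apply, smul_eq_mul]
    have hsplit : ∀ φ ψ : ↥(W₁ ⊔ W₂) →* ℂˣ, conj (φ w : ℂ) * conj (ψ w : ℂ) * alpha φ ψ w' =
        (conj (φ w : ℂ) * (1 - (φ w' : ℂ))) * (conj (ψ w : ℂ) * (1 - (ψ w' : ℂ))) := fun φ ψ => by
      simp only [alpha]; ring
    simp only [hsplit]
    rw [← Finset.sum_mul_sum, hfac K₂ (fun h => hw₂ (Subgroup.mem_subgroupOf.mp h)) w',
      hfac K₁ (fun h => hw₁ (Subgroup.mem_subgroupOf.mp h)) w']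
    by_cases e : w' = w
    · subst e
      simp [hX₁, hX₂]
    · rw [if_neg e]
      split_ifs with p q <;> try simp
      exfalso
      apply e
      have hb : ((w' * w⁻¹ : ↥(W₁ ⊔ W₂)) : G) ∈ W₁ ⊓ W₂ :=
        ⟨Subgroup.mem_subgroupOf.mp q, Subgroup.mem_subgroupOf.mp p⟩
      rw [hW.2.2.1, Subgroup.mem_bot] at hb
      exact mul_inv_eq_one.mp (Subtype.ext hb)
  have hz : Cfsg.classInner f
      (∑ φ ∈ X₁, ∑ ψ ∈ X₂, (conj (φ w : ℂ) * conj (ψ w : ℂ)) • alpha φ ψ) = 0 := by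
    rw [classInner_sum_right]
    refine Finset.sum_eq_zero fun φ hφ => ?_
    rw [classInner_sum_right]
    refine Finset.sum_eq_zero fun ψ hψ => ?_
    by_cases h1 : φ = 1
    · rw [show alpha φ ψ = 0 from funext fun x => by simp [alpha, h1], smul_zero,
        classInner_zero_right]
    by_cases h2 : ψ = 1
    · rw [show alpha φ ψ = 0 from funext fun x => by simp [alpha, h2], smul_zero,
        classInner_zero_right]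
    rw [classInner_smul_right, h φ ψ
      (fun x hx => (Finset.mem_filter.mp hφ).2 x (Subgroup.mem_subgroupOf.mpr hx))
      (fun x hx => (Finset.mem_filter.mp hψ).2 x (Subgroup.mem_subgroupOf.mpr hx)) h1 h2, mul_zero]
  rw [hF] at hz
  simp only [Cfsg.classInner] at hz
  rw [Finset.sum_eq_single w (fun x _ hx => by simp [hx]) (fun hh => absurd (Finset.mem_univ w) hh),
    if_pos rfl] at hz
  have hc1 : (X₁.card : ℂ) ≠ 0 := Nat.cast_ne_zero.mpr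
    (Finset.card_pos.mpr ⟨1, Finset.mem_filter.mpr ⟨Finset.mem_univ _, fun k _ => rfl⟩⟩).ne'
  have hc2 : (X₂.card : ℂ) ≠ 0 := Nat.cast_ne_zero.mpr
    (Finset.card_pos.mpr ⟨1, Finset.mem_filter.mpr ⟨Finset.mem_univ _, fun k _ => rfl⟩⟩).ne'
  have hn : (Nat.card ↥(W₁ ⊔ W₂) : ℂ) ≠ 0 := Nat.cast_ne_zero.mpr Nat.card_pos.ne'
  simpa [hn, hc1, hc2] using hz

/-- Orthogonality to the induced functions read on a cyclic TI family. -/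
theorem classInner_family (hW : Cfsg.IsSelfNormalizingCyclic W₁ W₂)
    {χ : (↥(W₁ ⊔ W₂) →* ℂˣ) → (G → ℂ)} (hχ : Cfsg.IsCyclicTIFamily W₁ W₂ χ)
    [Fintype ↥(W₁ ⊔ W₂)] {θ : G → ℂ} (hθ : Cfsg.IsClassFunction G θ)
    (φ ψ : ↥(W₁ ⊔ W₂) →* ℂˣ) (hφ : φ ≠ 1) (hψ : ψ ≠ 1)
    (hφ₂ : ∀ w : ↥(W₁ ⊔ W₂), (w : G) ∈ W₂ → φ w = 1)
    (hψ₁ : ∀ w : ↥(W₁ ⊔ W₂), (w : G) ∈ W₁ → ψ w = 1) :
    Cfsg.classInner (fun w : ↥(W₁ ⊔ W₂) => θ w) (alpha φ ψ) =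
      Cfsg.classInner θ (χ 1) - Cfsg.classInner θ (χ φ) - Cfsg.classInner θ (χ ψ) +
        Cfsg.classInner θ (χ (φ * ψ)) := by
  rw [← classInner_indFun_right _ _ hθ, show alpha φ ψ =
      (fun w => 1 - (φ w : ℂ) - (ψ w : ℂ) + (φ w : ℂ) * (ψ w : ℂ)) from rfl,
    hχ.induced_eq φ ψ hφ hψ hφ₂ hψ₁,
    show (fun g => 1 - χ φ g - χ ψ g + χ (φ * ψ) g) = χ 1 - χ φ - χ ψ + χ (φ * ψ) from
      funext fun g => by simp [hχ.map_one],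
    classInner_add_right, classInner_sub_right, classInner_sub_right]

end CfsgLib.Char.CyclicTI
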