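import Cfsg.Agent.Lib.Char.CyclicTI

/-!
# The linear characters of a self-normalising cyclic pair as pairs
-/

set_option autoImplicit false

open scoped ComplexConjugate

namespace CfsgLib.Char.CyclicTI

variable {G : Type*} [Group G] {W₁ W₂ : Subgroup G}

/-- The multiplication map of a disjoint commuting pair. -/
theorem exists_prodEquiv (hW : Cfsg.IsSelfNormalizingCyclic W₁ W₂) :
    ∃ e : W₁ × W₂ ≃* ↥(W₁ ⊔ W₂), ∀ p : W₁ × W₂, (e p : G) = p.1 * p.2 := by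
  obtain ⟨-, -, hdisj, hcomm, -, -⟩ := hW
  let f : W₁ × W₂ →* ↥(W₁ ⊔ W₂) :=
    { toFun := fun p => ⟨p.1 * p.2, mul_mem (Subgroup.mem_sup_left p.1.2) (Subgroup.mem_sup_right p.2.2)⟩
      map_one' := Subtype.ext (by simp)
      map_mul' := fun p q => Subtype.ext (by
        show ((p.1 : G) * q.1) * (p.2 * q.2) = (p.1 * p.2) * (q.1 * q.2)
        simp only [mul_assoc, ← mul_assoc (q.1 : G), hcomm _ q.1.2 _ p.2.2]) }
  have hval : ∀ p, (f p : G) = p.1 * p.2 := fun p => rfl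
  have hinj : Function.Injective f := by
    intro p q h
    have h' : (p.1 : G) * p.2 = q.1 * q.2 := congrArg Subtype.val h
    have hm : (q.1 : G)⁻¹ * p.1 ∈ W₁ ⊓ W₂ := by
      refine Subgroup.mem_inf.mpr ⟨mul_mem (inv_mem q.1.2) p.1.2, ?_⟩
      rw [show (q.1 : G)⁻¹ * p.1 = q.2 * (p.2 : G)⁻¹ by
        rw [eq_mul_inv_iff_mul_eq, mul_assoc, h', inv_mul_cancel_left]]
      exact mul_mem q.2.2 (inv_mem p.2.2)
    rw [hdisj, Subgroup.mem_bot, inv_mul_eq_one] at hm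
    rw [← hm, mul_right_inj] at h'
    exact Prod.ext (Subtype.ext hm.symm) (Subtype.ext h')
  have hsurj : Function.Surjective f := by
    have hle : W₁ ⊔ W₂ ≤ f.range.map (W₁ ⊔ W₂).subtype := sup_le
      (fun a ha => ⟨f (⟨a, ha⟩, 1), ⟨_, rfl⟩, by simp [hval]⟩)
      (fun b hb => ⟨f (1, ⟨b, hb⟩), ⟨_, rfl⟩, by simp [hval]⟩)
    intro w
    obtain ⟨v, ⟨p, rfl⟩, hp⟩ := hle w.2
    exact ⟨p, Subtype.ext hp⟩
  exact ⟨MulEquiv.ofBijective f ⟨hinj, hsurj⟩, hval⟩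

/-- The characters trivial on `W₂`. -/
abbrev FstChar (W₁ W₂ : Subgroup G) :=
  {φ : ↥(W₁ ⊔ W₂) →* ℂˣ // ∀ w : ↥(W₁ ⊔ W₂), (w : G) ∈ W₂ → φ w = 1}

/-- The characters trivial on `W₁`. -/
abbrev SndChar (W₁ W₂ : Subgroup G) :=
  {φ : ↥(W₁ ⊔ W₂) →* ℂˣ // ∀ w : ↥(W₁ ⊔ W₂), (w : G) ∈ W₁ → φ w = 1}

/-- Every linear character is uniquely a product. -/
theorem mul_bijective (hW : Cfsg.IsSelfNormalizingCyclic W₁ W₂) :
    Function.Bijective fun p : FstChar W₁ W₂ × SndChar W₁ W₂ => p.1.1 * p.2.1 := by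
  refine ⟨fun p q h => ?_, fun ω => ?_⟩
  · obtain ⟨h1, h2⟩ := sep (fun w hw => ⟨p.1.2 w hw, q.1.2 w hw⟩)
      (fun w hw => ⟨p.2.2 w hw, q.2.2 w hw⟩) h
    exact Prod.ext (Subtype.ext h1) (Subtype.ext h2)
  obtain ⟨e, he⟩ := exists_prodEquiv hW
  have hl : ∀ w : ↥(W₁ ⊔ W₂), ∀ hw : (w : G) ∈ W₁, e.symm w = (⟨w, hw⟩, 1) := fun w hw =>
    e.symm_apply_eq.mpr (Subtype.ext (by rw [he]; simp))
  have hr : ∀ w : ↥(W₁ ⊔ W₂), ∀ hw : (w : G) ∈ W₂, e.symm w = (1, ⟨w, hw⟩) := fun w hw =>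
    e.symm_apply_eq.mpr (Subtype.ext (by rw [he]; simp))
  let π₁ : ↥(W₁ ⊔ W₂) →* ↥(W₁ ⊔ W₂) :=
    (e.toMonoidHom.comp (MonoidHom.inl W₁ W₂)).comp ((MonoidHom.fst W₁ W₂).comp e.symm.toMonoidHom)
  let π₂ : ↥(W₁ ⊔ W₂) →* ↥(W₁ ⊔ W₂) :=
    (e.toMonoidHom.comp (MonoidHom.inr W₁ W₂)).comp ((MonoidHom.snd W₁ W₂).comp e.symm.toMonoidHom)
  refine ⟨(⟨ω.comp π₁, fun w hw => ?_⟩, ⟨ω.comp π₂, fun w hw => ?_⟩), ?_⟩
  · simp [π₁, hr w hw, Prod.mk_one_one]
  · simp [π₂, hl w hw, Prod.mk_one_one]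
  · refine MonoidHom.ext fun w => ?_
    show ω (e ((e.symm w).1, 1)) * ω (e (1, (e.symm w).2)) = ω w
    rw [← map_mul, ← map_mul e, Prod.mk_mul_mk, mul_one, one_mul, Prod.mk.eta, e.apply_symm_apply]

theorem card_fstChar [Finite G] (hW : Cfsg.IsSelfNormalizingCyclic W₁ W₂) :
    Nat.card (FstChar W₁ W₂) = Nat.card W₁ ∧ Nat.card (SndChar W₁ W₂) = Nat.card W₂ := by
  have := hW.2.2.2.2.1
  obtain ⟨e, he⟩ := exists_prodEquiv hW
  let _ : CommGroup W₁ := { (inferInstance : Group W₁) with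
    mul_comm := fun a b => Subtype.ext (by
      simpa using congrArg Subtype.val (mul_comm' hW ⟨a, Subgroup.mem_sup_left a.2⟩
        ⟨b, Subgroup.mem_sup_left b.2⟩)) }
  let _ : CommGroup W₂ := { (inferInstance : Group W₂) with
    mul_comm := fun a b => Subtype.ext (by
      simpa using congrArg Subtype.val (mul_comm' hW ⟨a, Subgroup.mem_sup_right a.2⟩
        ⟨b, Subgroup.mem_sup_right b.2⟩)) }
  have hl : ∀ w : ↥(W₁ ⊔ W₂), ∀ hw : (w : G) ∈ W₁, e.symm w = (⟨w, hw⟩, 1) := fun w hw =>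
    e.symm_apply_eq.mpr (Subtype.ext (by rw [he]; simp))
  have hr : ∀ w : ↥(W₁ ⊔ W₂), ∀ hw : (w : G) ∈ W₂, e.symm w = (1, ⟨w, hw⟩) := fun w hw =>
    e.symm_apply_eq.mpr (Subtype.ext (by rw [he]; simp))
  have : NeZero (Monoid.exponent W₁) := ⟨Monoid.exponent_ne_zero_of_finite⟩
  have : NeZero (Monoid.exponent W₂) := ⟨Monoid.exponent_ne_zero_of_finite⟩
  refine ⟨?_, ?_⟩
  · rw [← CommGroup.card_monoidHom_of_hasEnoughRootsOfUnity W₁ ℂ]
    refine Nat.card_eq_of_bijective (fun φ => φ.1.comp (e.toMonoidHom.comp (MonoidHom.inl W₁ W₂)))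
      ⟨fun φ φ' h => ?_, fun η => ?_⟩
    · refine Subtype.ext (MonoidHom.ext fun w => ?_)
      obtain ⟨⟨a, b⟩, rfl⟩ := e.surjective w
      have hb : ((e (1, b) : ↥(W₁ ⊔ W₂)) : G) ∈ W₂ := by simp [he]
      have hab : e (a, b) = e (a, 1) * e (1, b) := by
        rw [← map_mul, Prod.mk_mul_mk, mul_one, one_mul]
      rw [hab, map_mul, map_mul, φ.2 _ hb, φ'.2 _ hb, mul_one, mul_one]
      exact DFunLike.congr_fun h a
    · exact ⟨⟨η.comp ((MonoidHom.fst W₁ W₂).comp e.symm.toMonoidHom),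
        fun w hw => by simp [hr w hw]⟩, MonoidHom.ext fun a => by simp⟩
  · rw [← CommGroup.card_monoidHom_of_hasEnoughRootsOfUnity W₂ ℂ]
    refine Nat.card_eq_of_bijective (fun φ => φ.1.comp (e.toMonoidHom.comp (MonoidHom.inr W₁ W₂)))
      ⟨fun φ φ' h => ?_, fun η => ?_⟩
    · refine Subtype.ext (MonoidHom.ext fun w => ?_)
      obtain ⟨⟨a, b⟩, rfl⟩ := e.surjective w
      have ha : ((e (a, 1) : ↥(W₁ ⊔ W₂)) : G) ∈ W₁ := by simp [he]
      have hab : e (a, b) = e (a, 1) * e (1, b) := by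
        rw [← map_mul, Prod.mk_mul_mk, mul_one, one_mul]
      rw [hab, map_mul, map_mul, φ.2 _ ha, φ'.2 _ ha, one_mul, one_mul]
      exact DFunLike.congr_fun h b
    · exact ⟨⟨η.comp ((MonoidHom.snd W₁ W₂).comp e.symm.toMonoidHom),
        fun w hw => by simp [hl w hw]⟩, MonoidHom.ext fun a => by simp⟩

/-- A matrix `r i + c j` with `r` and `c` not constant has many non-zero entries. -/
theorem two_mul_card_le {ι κ : Type*} [Fintype ι] [Fintype κ] (r : ι → ℂ) (c : κ → ℂ)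
    (h3 : 3 ≤ Fintype.card ι) (hlt : Fintype.card ι + 2 ≤ Fintype.card κ)
    (hr : ∃ i i', r i ≠ r i') (hc : ∃ j j', c j ≠ c j') :
    2 * Fintype.card ι ≤ Nat.card {p : ι × κ // r p.1 + c p.2 ≠ 0} := by
  classical
  obtain ⟨i₀, i₀', hi₀⟩ := hr
  let f : ℂ → ℕ := fun v => (Finset.univ.filter fun i => r i = v).card
  obtain ⟨im, -, him⟩ := Finset.exists_max_image Finset.univ (fun i => f (r i)) ⟨i₀, Finset.mem_univ _⟩
  set m := f (r im) with hm
  have hmpos : 1 ≤ m := Finset.card_pos.mpr ⟨im, by simp⟩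
  have hmlt : m + 1 ≤ Fintype.card ι := by
    refine Finset.card_lt_univ_of_notMem (x := if r i₀ = r im then i₀' else i₀) ?_
    simp only [Finset.mem_filter, Finset.mem_univ, true_and]
    split_ifs with h
    · exact fun h' => hi₀ (h.trans h'.symm)
    · exact h
  have hle : ∀ v, f v ≤ m := by
    intro v
    by_cases h : ∃ i, r i = v
    · obtain ⟨i, rfl⟩ := h
      exact him i (Finset.mem_univ _)
    · simp only [not_exists] at h
      simp [f, Finset.filter_false_of_mem fun i _ => h i]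
  have hdis : ∀ v, v ≠ r im → f v + m ≤ Fintype.card ι := by
    intro v hv
    rw [hm, ← Finset.card_union_of_disjoint]
    · exact Finset.card_le_univ _
    · exact Finset.disjoint_filter.mpr fun i _ h1 h2 => hv (h1.symm.trans h2)
  have hcount : Nat.card {p : ι × κ // r p.1 + c p.2 ≠ 0} =
      ∑ j, (Fintype.card ι - f (-c j)) := by
    let e : {p : ι × κ // r p.1 + c p.2 ≠ 0} ≃ Σ j, {i // r i + c j ≠ 0} :=
      { toFun := fun p => ⟨p.1.2, p.1.1, p.2⟩
        invFun := fun s => ⟨(s.2.1, s.1), s.2.2⟩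
        left_inv := fun p => rfl
        right_inv := fun s => rfl }
    rw [Nat.card_congr e, Nat.card_sigma]
    refine Finset.sum_congr rfl fun j _ => ?_
    rw [Nat.card_eq_fintype_card, Fintype.card_subtype, ← Finset.card_compl]
    congr 1
    ext i
    simp [eq_neg_iff_add_eq_zero]
  rw [hcount]
  set S := Finset.univ.filter fun j => -c j = r im with hS
  have hSlt : S.card + 1 ≤ Fintype.card κ := by
    obtain ⟨j, j', hj⟩ := hc
    refine Finset.card_lt_univ_of_notMem (x := if -c j = r im then j' else j) ?_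
    simp only [hS, Finset.mem_filter, Finset.mem_univ, true_and]
    split_ifs with h
    · exact fun h' => hj (neg_injective (h.trans h'.symm))
    · exact h
  have hin : ∀ j ∈ S, (Fintype.card ι - m) ≤ Fintype.card ι - f (-c j) := fun j _ =>
    Nat.sub_le_sub_left (hle _) _
  have hout1 : ∀ j ∈ Sᶜ, m ≤ Fintype.card ι - f (-c j) := fun j hj => by
    have := hdis (-c j) (by simpa [hS] using hj)
    omega
  have hout2 : ∀ j ∈ Sᶜ, (Fintype.card ι - m) ≤ Fintype.card ι - f (-c j) := fun j _ =>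
    Nat.sub_le_sub_left (hle _) _
  rw [← Finset.sum_add_sum_compl S]
  have e1 := Finset.card_nsmul_le_sum S _ _ hin
  have e2 := Finset.card_nsmul_le_sum Sᶜ _ _ hout1
  have e3 := Finset.card_nsmul_le_sum Sᶜ _ _ hout2
  rw [smul_eq_mul] at e1 e2 e3
  have hSc : S.card + Sᶜ.card = Fintype.card κ := Finset.card_add_card_compl S
  obtain ⟨d, hd⟩ : ∃ d, Fintype.card ι = m + d := ⟨Fintype.card ι - m, by omega⟩
  rw [show Fintype.card ι - m = d by omega] at e1 e3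
  by_cases h0 : S.card = 0
  · rw [h0, zero_add] at hSc
    rw [hSc] at e2 e3
    rcases le_total m d with h | h <;> nlinarith
  · rcases le_total m d with h | h <;> nlinarith

end CfsgLib.Char.CyclicTI
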