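import Mathlib.Data.Fintype.Card
import Mathlib.Data.Fintype.Pi
import Mathlib.Data.Fin.Tuple.Basic
import Mathlib.Algebra.BigOperators.Fin
import Mathlib.Algebra.Order.BigOperators.Group.Finset
import Mathlib.SetTheory.Cardinal.Finite
import Mathlib.Data.Finite.Card
import Mathlib.Logic.Equiv.Basic
import Mathlib.Logic.Equiv.Fintype
import Mathlib.Tactic.Ring
import Mathlib.Tactic.FinCases

/-!
# Grids of signed triples

Rows and columns of a grid of signed triples meeting as the constituents of the induced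
functions of a cyclic trivial intersection pair all have a common element.
-/

set_option autoImplicit false

namespace CfsgLib.Char.SignedGrid

variable {P : Type*} [DecidableEq P]

/-- Change of sign. -/
def flip' (x : P × Bool) : P × Bool := (x.1, !x.2)

theorem flip'_ne (x : P × Bool) : flip' x ≠ x := fun h => by
  simp [flip', Prod.ext_iff] at h

/-- A signed triple. -/
structure Tri (T : Finset (P × Bool)) : Prop where
  card : T.card = 3
  inj : ∀ y ∈ T, ∀ z ∈ T, y.1 = z.1 → y = z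

/-- The triples share exactly one signed element and nothing else. -/
def Rel1 (T U : Finset (P × Bool)) : Prop :=
  ∃ x ∈ T, x ∈ U ∧ ∀ y ∈ T, ∀ z ∈ U, y.1 = z.1 → y = x ∧ z = x

/-- The triples share nothing, or one element with the same and one with the opposite sign. -/
def Rel0 (T U : Finset (P × Bool)) : Prop :=
  (∀ y ∈ T, ∀ z ∈ U, y.1 ≠ z.1) ∨
    ∃ x ∈ T, ∃ w ∈ T, x ∈ U ∧ flip' w ∈ U ∧ x.1 ≠ w.1 ∧
      ∀ y ∈ T, ∀ z ∈ U, y.1 = z.1 → y = x ∨ y = w

omit [DecidableEq P] in
theorem Rel1.symm {T U : Finset (P × Bool)} (h : Rel1 T U) : Rel1 U T := by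
  obtain ⟨x, hT, hU, h⟩ := h
  exact ⟨x, hU, hT, fun y hy z hz e => (h z hz y hy e.symm).symm⟩

omit [DecidableEq P] in
theorem Rel0.symm {T U : Finset (P × Bool)} (hU' : Tri U) (h : Rel0 T U) : Rel0 U T := by
  rcases h with h | ⟨x, hxT, w, hwT, hxU, hwU, hne, h⟩
  · exact Or.inl fun y hy z hz e => h z hz y hy e.symm
  · refine Or.inr ⟨x, hxU, flip' w, hwU, hxT, by simpa [flip'] using hwT, hne, fun y hy z hz e => ?_⟩
    rcases h z hz y hy e.symm with rfl | rfl
    · exact Or.inl (hU'.inj y hy z hxU e)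
    · exact Or.inr (hU'.inj y hy (flip' z) hwU e)

/-- The sign with which `x` occurs in `U`. -/
def sval (U : Finset (P × Bool)) (x : P × Bool) : ℤ :=
  if x ∈ U then 1 else if flip' x ∈ U then -1 else 0

theorem sval_of_mem {U : Finset (P × Bool)} {x : P × Bool} (h : x ∈ U) : sval U x = 1 := if_pos h

theorem sval_of_flip {U : Finset (P × Bool)} (hU : Tri U) {x : P × Bool} (h : flip' x ∈ U) :
    sval U x = -1 := by
  rw [sval, if_neg fun hx => flip'_ne x (hU.inj _ h _ hx rfl), if_pos h]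

theorem sval_eq_zero {U : Finset (P × Bool)} {x : P × Bool} (h : ∀ z ∈ U, x.1 ≠ z.1) :
    sval U x = 0 := by
  rw [sval, if_neg (fun hx : x ∈ U => h x hx rfl), if_neg (fun hx : flip' x ∈ U => h _ hx rfl)]

theorem exists_of_sval_ne_zero {U : Finset (P × Bool)} {x : P × Bool} (h : sval U x ≠ 0) :
    ∃ z ∈ U, x.1 = z.1 := by
  by_contra hc
  push Not at hc
  exact h (sval_eq_zero hc)

theorem natAbs_sval (U : Finset (P × Bool)) (x : P × Bool) :
    (sval U x).natAbs = if sval U x = 0 then 0 else 1 := by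
  rw [sval]; split_ifs <;> simp_all

/-! ### The finite check -/

/-- The vectors with entries `-1`, `0`, `1`. -/
def vecs : ∀ n : ℕ, List (Fin n → ℤ)
  | 0 => [Fin.elim0]
  | n + 1 => (vecs n).flatMap fun v => [Fin.cons (-1) v, Fin.cons 0 v, Fin.cons 1 v]

theorem mem_vecs : ∀ {n : ℕ} (v : Fin n → ℤ), (∀ i, v i = -1 ∨ v i = 0 ∨ v i = 1) → v ∈ vecs n
  | 0, v, _ => by simp only [vecs, List.mem_singleton]; exact funext fun i => i.elim0
  | n + 1, v, h => by
    rw [vecs, List.mem_flatMap]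
    refine ⟨Fin.tail v, mem_vecs _ fun i => h i.succ, ?_⟩
    conv => arg 2; rw [← Fin.cons_self_tail v]
    rcases h 0 with e | e | e <;> simp [e]

/-- The support. -/
def supp {n : ℕ} (v : Fin n → ℤ) : ℕ := (List.ofFn fun i => (v i).natAbs).sum

/-- The common support. -/
def common {n : ℕ} (v w : Fin n → ℤ) : ℕ := (List.ofFn fun i => (v i * w i).natAbs).sum

/-- The product. -/
def dot {n : ℕ} (v w : Fin n → ℤ) : ℤ := (List.ofFn fun i => v i * w i).sum

/-- A possible trace of the `k`-th triple of the other row. -/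
def good {n : ℕ} (idx : Fin 4 → List (Fin n)) (k : Fin 4) (v : Fin n → ℤ) : Bool :=
  decide (supp v ≤ 3) && (List.finRange 4).all fun j =>
    decide (((idx j).map v).sum = if j = k then 1 else 0) &&
      decide (((idx j).map fun i => (v i).natAbs).sum ≤ if j = k then 1 else 2)

/-- Two traces within one row. -/
def compat {n : ℕ} (v w : Fin n → ℤ) : Bool :=
  decide (common v w ≤ 1) && decide (dot v w = (common v w : ℤ)) &&
    (decide (common v w = 1) || (decide (supp v ≤ 2) && decide (supp w ≤ 2)))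

/-- No four traces fit together. -/
def check {n : ℕ} (idx : Fin 4 → List (Fin n)) : Bool :=
  let c := fun k => (vecs n).filter (good idx k)
  (c 0).all fun a => (c 1).all fun b => !compat a b || (c 2).all fun d =>
    !(compat a d && compat b d) || (c 3).all fun f => !(compat a f && compat b f && compat d f)

/-- The pattern with three triples through a point. -/
def idxA : Fin 4 → List (Fin 7) := ![[0, 1, 2], [0, 3, 4], [0, 5, 6], [1, 3, 5]]

/-- The pattern with no three triples through a point. -/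
def idxB : Fin 4 → List (Fin 6) := ![[0, 1, 2], [0, 3, 4], [1, 3, 5], [2, 4, 5]]

theorem check_idxA : check idxA = true := by decide +kernel

theorem check_idxB : check idxB = true := by decide +kernel

theorem engine {n : ℕ} (idx : Fin 4 → List (Fin n)) (hnd : ∀ j, (idx j).Nodup)
    (hcheck : check idx = true) (x : Fin n → P × Bool)
    (hx : Function.Injective fun i => (x i).1) (L M : Fin 4 → Finset (P × Bool))
    (hM : ∀ j, Tri (M j))
    (hmem : ∀ j y, y ∈ L j ↔ ∃ i ∈ idx j, x i = y)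
    (hrow : ∀ j k, j ≠ k → Rel1 (M j) (M k)) (hcol : ∀ j, Rel1 (L j) (M j))
    (horth : ∀ j k, j ≠ k → Rel0 (L j) (M k)) : False := by
  classical
  set v : Fin 4 → Fin n → ℤ := fun k i => sval (M k) (x i) with hv
  have hxi : Function.Injective x := fun i j h => hx (congrArg Prod.fst h)
  have hsupp : ∀ k, supp (v k) = (Finset.univ.filter fun i => v k i ≠ 0).card := fun k => by
    rw [supp, List.sum_ofFn, Finset.card_filter]
    refine Finset.sum_congr rfl fun i _ => ?_
    rw [natAbs_sval, ite_not]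
  have hinto : ∀ k (T : Finset (P × Bool)), (∀ i, v k i ≠ 0 → ∃ z ∈ T, (x i).1 = z.1) →
      supp (v k) ≤ T.card := by
    intro k T h
    rw [hsupp]
    refine (Finset.card_le_card_of_injOn (fun i => (x i).1)
      (t := T.image Prod.fst) ?_ hx.injOn).trans Finset.card_image_le
    intro i hi
    obtain ⟨z, hz, e⟩ := h i (Finset.mem_filter.mp hi).2
    exact Finset.mem_image.mpr ⟨z, hz, e.symm⟩
  have hgood : ∀ k, good idx k (v k) = true := by
    intro k
    simp only [good, Bool.and_eq_true, decide_eq_true_eq, List.all_eq_true]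
    refine ⟨(hinto k (M k) fun i => exists_of_sval_ne_zero).trans (hM k).card.le, fun j _ => ?_⟩
    rw [← List.sum_toFinset (v k) (hnd j), ← List.sum_toFinset (fun i => (v k i).natAbs) (hnd j)]
    by_cases hjk : j = k
    · subst hjk
      obtain ⟨y, hyL, hyM, hy⟩ := hcol j
      obtain ⟨i₀, hi₀, rfl⟩ := (hmem j y).mp hyL
      have h0 : ∀ i ∈ (idx j).toFinset, i ≠ i₀ → v j i = 0 := fun i hi hne =>
        sval_eq_zero fun z hz e =>
          hne (hxi (hy _ ((hmem j _).mpr ⟨i, List.mem_toFinset.mp hi, rfl⟩) z hz e).1)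
      rw [Finset.sum_eq_single_of_mem i₀ (List.mem_toFinset.mpr hi₀) h0,
        Finset.sum_eq_single_of_mem i₀ (List.mem_toFinset.mpr hi₀)
          fun i hi hne => by rw [h0 i hi hne]; rfl]
      simp [hv, sval_of_mem hyM]
    · simp only [if_neg hjk]
      rcases horth j k hjk with h | ⟨y, hyL, w, hwL, hyM, hwM, hne, h⟩
      · have h0 : ∀ i ∈ (idx j).toFinset, v k i = 0 := fun i hi =>
          sval_eq_zero (h _ ((hmem j _).mpr ⟨i, List.mem_toFinset.mp hi, rfl⟩))
        rw [Finset.sum_eq_zero h0, Finset.sum_eq_zero fun i hi => by rw [h0 i hi]; rfl]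
        exact ⟨rfl, Nat.zero_le _⟩
      · obtain ⟨a, ha, rfl⟩ := (hmem j y).mp hyL
        obtain ⟨b, hb, rfl⟩ := (hmem j w).mp hwL
        have hab : a ≠ b := fun e => hne (by rw [e])
        have h0 : ∀ i ∈ (idx j).toFinset, i ∉ ({a, b} : Finset (Fin n)) → v k i = 0 :=
          fun i hi hnot => sval_eq_zero fun z hz e => by
            rcases h _ ((hmem j _).mpr ⟨i, List.mem_toFinset.mp hi, rfl⟩) z hz e with e' | e'
            · exact hnot (by simp [hxi e'])
            · exact hnot (by simp [hxi e'])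
        have hsub : ({a, b} : Finset (Fin n)) ⊆ (idx j).toFinset := by
          simp [Finset.insert_subset_iff, ha, hb]
        rw [← Finset.sum_subset hsub h0,
          ← Finset.sum_subset hsub (fun i hi hn => by rw [h0 i hi hn]; rfl),
          Finset.sum_pair hab, Finset.sum_pair hab]
        simp [hv, sval_of_mem hyM, sval_of_flip (hM k) hwM]
  have hcompat : ∀ j k, j ≠ k → compat (v j) (v k) = true := by
    intro j k hjk
    obtain ⟨y, hyj, hyk, hy⟩ := hrow j k hjk
    have h0 : ∀ i, (x i).1 ≠ y.1 → v j i * v k i = 0 := fun i hne => by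
      by_contra hc
      obtain ⟨h1, h2⟩ := mul_ne_zero_iff.mp hc
      obtain ⟨a, ha, e⟩ := exists_of_sval_ne_zero h1
      obtain ⟨b, hb, e'⟩ := exists_of_sval_ne_zero h2
      rw [(hy a ha b hb (e.symm.trans e')).1] at e
      exact hne e
    have hn : common (v j) (v k) = ∑ i, (v j i * v k i).natAbs := List.sum_ofFn
    have hd : dot (v j) (v k) = ∑ i, v j i * v k i := List.sum_ofFn
    simp only [compat, Bool.and_eq_true, Bool.or_eq_true, decide_eq_true_eq]
    by_cases hex : ∃ i, (x i).1 = y.1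
    · obtain ⟨i, hi⟩ := hex
      have hprod : v j i * v k i = 1 := by
        rcases eq_or_ne (x i) y with e | e
        · simp [hv, sval_of_mem (e ▸ hyj : x i ∈ M j), sval_of_mem (e ▸ hyk : x i ∈ M k)]
        · have hf : flip' (x i) = y := by
            refine Prod.ext hi ?_
            show (!(x i).2) = y.2
            have : (x i).2 ≠ y.2 := fun h => e (Prod.ext hi h)
            revert this
            cases (x i).2 <;> cases y.2 <;> simp
          simp [hv, sval_of_flip (hM j) (hf ▸ hyj), sval_of_flip (hM k) (hf ▸ hyk)]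
      have h1 : ∀ l, l ≠ i → v j l * v k l = 0 := fun l hl =>
        h0 l fun e => hl (hx (e.trans hi.symm))
      rw [hn, hd, Finset.sum_eq_single_of_mem i (Finset.mem_univ _)
          fun l _ hl => by rw [h1 l hl]; rfl,
        Finset.sum_eq_single_of_mem i (Finset.mem_univ _) fun l _ hl => h1 l hl, hprod]
      simp
    · push Not at hex
      have e0 : common (v j) (v k) = 0 := by
        rw [hn, Finset.sum_eq_zero fun i _ => by rw [h0 i (hex i)]; rfl]
      have e1 : dot (v j) (v k) = 0 := by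
        rw [hd, Finset.sum_eq_zero fun i _ => h0 i (hex i)]
      refine ⟨⟨by omega, by rw [e1, e0]; rfl⟩, Or.inr ⟨?_, ?_⟩⟩
      · refine (hinto j ((M j).erase y) fun i hi => ?_).trans
          (by rw [Finset.card_erase_of_mem hyj, (hM j).card])
        obtain ⟨z, hz, e⟩ := exists_of_sval_ne_zero hi
        exact ⟨z, Finset.mem_erase.mpr ⟨fun h => hex i (h ▸ e), hz⟩, e⟩
      · refine (hinto k ((M k).erase y) fun i hi => ?_).trans
          (by rw [Finset.card_erase_of_mem hyk, (hM k).card])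
        obtain ⟨z, hz, e⟩ := exists_of_sval_ne_zero hi
        exact ⟨z, Finset.mem_erase.mpr ⟨fun h => hex i (h ▸ e), hz⟩, e⟩
  have hin : ∀ k, v k ∈ (vecs n).filter (good idx k) := fun k =>
    List.mem_filter.mpr ⟨mem_vecs _ fun i => by
      show sval _ _ = _ ∨ sval _ _ = _ ∨ sval _ _ = _
      rw [sval]; split_ifs <;> simp, hgood k⟩
  simp only [check, List.all_eq_true, Bool.or_eq_true, Bool.not_eq_true'] at hcheck
  have h1 := (hcheck _ (hin 0) _ (hin 1)).resolve_left (by rw [hcompat 0 1 (by decide)]; simp)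
  have h2 := (h1 _ (hin 2)).resolve_left (by
    rw [hcompat 0 2 (by decide), hcompat 1 2 (by decide)]; simp)
  have h3 := h2 _ (hin 3)
  rw [hcompat 0 3 (by decide), hcompat 1 3 (by decide), hcompat 2 3 (by decide)] at h3
  simp at h3

/-- Three points of a triple. -/
theorem Tri.eq_triple {T : Finset (P × Bool)} (hT : Tri T) {a b : P × Bool} (ha : a ∈ T) (hb : b ∈ T)
    (hab : a ≠ b) : ∃ c, T = {a, b, c} ∧ c ≠ a ∧ c ≠ b := by
  have hsub : ({a, b} : Finset (P × Bool)) ⊆ T := by simp [Finset.insert_subset_iff, ha, hb]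
  have hcard : (T \ {a, b}).card = 1 := by
    rw [Finset.card_sdiff_of_subset hsub, hT.card, Finset.card_pair hab]
  obtain ⟨c, hc⟩ := Finset.card_eq_one.mp hcard
  have hc' := Finset.mem_sdiff.mp (hc.symm ▸ Finset.mem_singleton_self c : c ∈ T \ {a, b})
  simp only [Finset.mem_insert, Finset.mem_singleton, not_or] at hc'
  refine ⟨c, ?_, hc'.2.1, hc'.2.2⟩
  rw [← Finset.sdiff_union_of_subset hsub, hc]
  ext y
  simp only [Finset.mem_union, Finset.mem_singleton, Finset.mem_insert]
  tauto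

theorem Tri.atom_ne {T : Finset (P × Bool)} (hT : Tri T) {a b : P × Bool} (ha : a ∈ T) (hb : b ∈ T)
    (hab : a ≠ b) : a.1 ≠ b.1 := fun e => hab (hT.inj a ha b hb e)

omit [DecidableEq P] in
theorem Rel1.eq {T U : Finset (P × Bool)} (h : Rel1 T U) {x y z : P × Bool} (hxT : x ∈ T)
    (hxU : x ∈ U) (hy : y ∈ T) (hz : z ∈ U) (e : y.1 = z.1) : y = x ∧ z = x := by
  obtain ⟨x', hx'T, hx'U, h⟩ := h
  obtain ⟨h1, h2⟩ := h x hxT x hxU rfl
  obtain ⟨h3, h4⟩ := h y hy z hz e
  exact ⟨h3.trans h1.symm, h4.trans h1.symm⟩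

omit [DecidableEq P] in
theorem Rel1.atom_ne {T U : Finset (P × Bool)} (h : Rel1 T U) {x y z : P × Bool} (hxT : x ∈ T)
    (hxU : x ∈ U) (hy : y ∈ T) (hz : z ∈ U) (hne : y ≠ x) : y.1 ≠ z.1 := fun e =>
  hne (h.eq hxT hxU hy hz e).1

omit [DecidableEq P] in
theorem injective_atoms {n : ℕ} (x : Fin n → P × Bool) (h : ∀ i j, i < j → (x i).1 ≠ (x j).1) :
    Function.Injective fun i => (x i).1 := fun i j e => by
  rcases lt_trichotomy i j with hl | hl | hl
  · exact absurd e (h i j hl)
  · exact hl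
  · exact absurd e.symm (h j i hl)

/-- Not three triples through a point with the fourth avoiding it. -/
theorem no_three (L M : Fin 4 → Finset (P × Bool)) (hL : ∀ j, Tri (L j)) (hM : ∀ j, Tri (M j))
    (hrowL : ∀ j k, j ≠ k → Rel1 (L j) (L k)) (hrow : ∀ j k, j ≠ k → Rel1 (M j) (M k))
    (hcol : ∀ j, Rel1 (L j) (M j)) (horth : ∀ j k, j ≠ k → Rel0 (L j) (M k))
    {a : P × Bool} (h0 : a ∈ L 0) (h1 : a ∈ L 1) (h2 : a ∈ L 2) (h3 : a ∉ L 3) : False := by
  have r01 := hrowL 0 1 (by decide)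
  have r02 := hrowL 0 2 (by decide)
  have r12 := hrowL 1 2 (by decide)
  obtain ⟨b, hb0, hb3, -⟩ := hrowL 0 3 (by decide)
  obtain ⟨d, hd1, hd3, -⟩ := hrowL 1 3 (by decide)
  obtain ⟨f, hf2, hf3, -⟩ := hrowL 2 3 (by decide)
  have hba : b ≠ a := fun e => h3 (e ▸ hb3)
  have hda : d ≠ a := fun e => h3 (e ▸ hd3)
  have hfa : f ≠ a := fun e => h3 (e ▸ hf3)
  obtain ⟨c, hc, hca, hcb⟩ := (hL 0).eq_triple h0 hb0 hba.symm
  obtain ⟨e, he, hea, hed⟩ := (hL 1).eq_triple h1 hd1 hda.symm
  obtain ⟨g, hg, hga, hgf⟩ := (hL 2).eq_triple h2 hf2 hfa.symm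
  have hc0 : c ∈ L 0 := by simp [hc]
  have he1 : e ∈ L 1 := by simp [he]
  have hg2 : g ∈ L 2 := by simp [hg]
  have nbd := r01.atom_ne h0 h1 hb0 hd1 hba
  have nbf := r02.atom_ne h0 h2 hb0 hf2 hba
  have ndf := r12.atom_ne h1 h2 hd1 hf2 hda
  obtain ⟨q, hq, -, -⟩ := (hL 3).eq_triple hb3 hd3 fun e' => nbd (by rw [e'])
  have hqf : q = f := by
    have := hq ▸ hf3
    simp only [Finset.mem_insert, Finset.mem_singleton] at this
    rcases this with h | h | h
    · exact absurd (by rw [h]) nbf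
    · exact absurd (by rw [h]) ndf
    · exact h.symm
  rw [hqf] at hq
  refine engine idxA (by decide) check_idxA ![a, b, c, d, e, f, g] (injective_atoms _ ?_) L M hM ?_
    hrow hcol horth
  · have a1 := (hL 0).atom_ne h0 hb0 hba.symm
    have a2 := (hL 0).atom_ne h0 hc0 hca.symm
    have a3 := (hL 1).atom_ne h1 hd1 hda.symm
    have a4 := (hL 1).atom_ne h1 he1 hea.symm
    have a5 := (hL 2).atom_ne h2 hf2 hfa.symm
    have a6 := (hL 2).atom_ne h2 hg2 hga.symm
    have b1 := (hL 0).atom_ne hb0 hc0 hcb.symm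
    have b3 := r01.atom_ne h0 h1 hb0 he1 hba
    have b5 := r02.atom_ne h0 h2 hb0 hg2 hba
    have c1 := r01.atom_ne h0 h1 hc0 hd1 hca
    have c2 := r01.atom_ne h0 h1 hc0 he1 hca
    have c3 := r02.atom_ne h0 h2 hc0 hf2 hca
    have c4 := r02.atom_ne h0 h2 hc0 hg2 hca
    have d1 := (hL 1).atom_ne hd1 he1 hed.symm
    have d3 := r12.atom_ne h1 h2 hd1 hg2 hda
    have e2 := r12.atom_ne h1 h2 he1 hf2 hea
    have e3 := r12.atom_ne h1 h2 he1 hg2 hea
    have f1 := (hL 2).atom_ne hf2 hg2 hgf.symm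
    intro i j hij
    fin_cases i <;> fin_cases j <;> first | exact absurd hij (by decide) | assumption
  · intro j y
    fin_cases j <;> simp [idxA, hc, he, hg, hq, eq_comm]

/-- Four triples of a row over a second row have a common element. -/
theorem exists_common_four (L M : Fin 4 → Finset (P × Bool)) (hL : ∀ j, Tri (L j))
    (hM : ∀ j, Tri (M j)) (hrowL : ∀ j k, j ≠ k → Rel1 (L j) (L k))
    (hrow : ∀ j k, j ≠ k → Rel1 (M j) (M k)) (hcol : ∀ j, Rel1 (L j) (M j))
    (horth : ∀ j k, j ≠ k → Rel0 (L j) (M k)) : ∃ a, ∀ j, a ∈ L j := by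
  have key : ∀ (σ : Equiv.Perm (Fin 4)) {a : P × Bool}, a ∈ L (σ 0) → a ∈ L (σ 1) → a ∈ L (σ 2) →
      a ∈ L (σ 3) := by
    intro σ a h0 h1 h2
    by_contra h3
    exact no_three (L ∘ σ) (M ∘ σ) (fun j => hL _) (fun j => hM _)
      (fun j k h => hrowL _ _ (σ.injective.ne h)) (fun j k h => hrow _ _ (σ.injective.ne h))
      (fun j => hcol _) (fun j k h => horth _ _ (σ.injective.ne h)) h0 h1 h2 h3
  obtain ⟨a, a0, a1, -⟩ := hrowL 0 1 (by decide)
  obtain ⟨b, b0, b2, -⟩ := hrowL 0 2 (by decide)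
  obtain ⟨c, c0, c3, -⟩ := hrowL 0 3 (by decide)
  by_cases hab : a = b
  · subst hab
    refine ⟨a, fun j => ?_⟩
    have := key (Equiv.refl _) a0 a1 b2
    fin_cases j <;> assumption
  by_cases hac : a = c
  · subst hac
    refine ⟨a, fun j => ?_⟩
    have := key (Equiv.swap 2 3) a0 a1 c3
    fin_cases j <;> assumption
  by_cases hbc : b = c
  · subst hbc
    refine ⟨b, fun j => ?_⟩
    have := key ((Equiv.swap 1 2).trans (Equiv.swap 1 3)) b0 (by first | exact c3 | exact b2)
      (by first | exact c3 | exact b2)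
    fin_cases j <;> assumption
  exfalso
  obtain ⟨d, d1, d2, -⟩ := hrowL 1 2 (by decide)
  obtain ⟨e, e1, e3, -⟩ := hrowL 1 3 (by decide)
  obtain ⟨f, f2, f3, -⟩ := hrowL 2 3 (by decide)
  have u01 := hrowL 0 1 (by decide)
  have u02 := hrowL 0 2 (by decide)
  have u03 := hrowL 0 3 (by decide)
  have u12 := hrowL 1 2 (by decide)
  have u13 := hrowL 1 3 (by decide)
  have u23 := hrowL 2 3 (by decide)
  have ad : a ≠ d := fun h => hab (u02.eq b0 b2 a0 (h ▸ d2) rfl).1
  have ae : a ≠ e := fun h => hac (u03.eq c0 c3 a0 (h ▸ e3) rfl).1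
  have bd : b ≠ d := fun h => hab (u01.eq a0 a1 b0 (h ▸ d1) rfl).1.symm
  have bf : b ≠ f := fun h => hbc (u03.eq c0 c3 b0 (h ▸ f3) rfl).1
  have ce : c ≠ e := fun h => hac (u01.eq a0 a1 c0 (h ▸ e1) rfl).1.symm
  have cf : c ≠ f := fun h => hbc (u02.eq b0 b2 c0 (h ▸ f2) rfl).1.symm
  have de : d ≠ e := fun h => by
    subst h
    have h0 := key ((Equiv.swap 0 3).trans (Equiv.refl _)) e3 d1 d2
    exact ad (u01.eq a0 a1 h0 d1 rfl).1.symm
  have df : d ≠ f := fun h => de (u13.eq e1 e3 d1 (h ▸ f3) rfl).1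
  have ef : e ≠ f := fun h => de (u12.eq d1 d2 e1 (h ▸ f2) rfl).1.symm
  have t : ∀ j {p q r : P × Bool}, p ∈ L j → q ∈ L j → r ∈ L j → p ≠ q → p ≠ r → q ≠ r →
      L j = {p, q, r} := by
    intro j p q r hp hq hr hpq hpr hqr
    refine (Finset.eq_of_subset_of_card_le (by simp [Finset.insert_subset_iff, hp, hq, hr]) ?_).symm
    rw [(hL j).card, Finset.card_insert_of_notMem (by simp [hpq, hpr]), Finset.card_pair hqr]
  refine engine idxB (by decide) check_idxB ![a, b, c, d, e, f] (injective_atoms _ ?_) L M hM ?_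
    hrow hcol horth
  · have n1 := (hL 0).atom_ne a0 b0 hab
    have n2 := (hL 0).atom_ne a0 c0 hac
    have n3 := (hL 0).atom_ne b0 c0 hbc
    have n4 := (hL 1).atom_ne a1 d1 ad
    have n5 := (hL 1).atom_ne a1 e1 ae
    have n6 := (hL 2).atom_ne b2 d2 bd
    have n7 := (hL 2).atom_ne b2 f2 bf
    have n8 := (hL 3).atom_ne c3 e3 ce
    have n9 := (hL 3).atom_ne c3 f3 cf
    have m1 := (hL 1).atom_ne d1 e1 de
    have m2 := (hL 2).atom_ne d2 f2 df
    have m3 := (hL 3).atom_ne e3 f3 ef
    have o1 : a.1 ≠ f.1 := u02.atom_ne b0 b2 a0 f2 hab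
    have o2 : b.1 ≠ e.1 := u01.atom_ne a0 a1 b0 e1 (Ne.symm hab)
    have o3 : c.1 ≠ d.1 := u01.atom_ne a0 a1 c0 d1 (Ne.symm hac)
    intro i j hij
    fin_cases i <;> fin_cases j <;> first | exact absurd hij (by decide) | assumption
  · intro j y
    fin_cases j
    · simp [idxB, t 0 a0 b0 c0 hab hac hbc, eq_comm]
    · simp [idxB, t 1 a1 d1 e1 ad ae de, eq_comm]
    · simp [idxB, t 2 b2 d2 f2 bd bf df, eq_comm]
    · simp [idxB, t 3 c3 e3 f3 ce cf ef, eq_comm]

/-- A whole row over a second row has a common element. -/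
theorem exists_common {κ : Type*} [Finite κ] (hκ : 4 ≤ Nat.card κ)
    (L M : κ → Finset (P × Bool)) (hL : ∀ j, Tri (L j)) (hM : ∀ j, Tri (M j))
    (hrowL : ∀ j k, j ≠ k → Rel1 (L j) (L k)) (hrow : ∀ j k, j ≠ k → Rel1 (M j) (M k))
    (hcol : ∀ j, Rel1 (L j) (M j)) (horth : ∀ j k, j ≠ k → Rel0 (L j) (M k)) :
    ∃ a, ∀ j, a ∈ L j := by
  classical
  cases nonempty_fintype κ
  rw [Nat.card_eq_fintype_card] at hκ
  have four : ∀ g : Fin 4 → κ, Function.Injective g → ∃ a, ∀ i, a ∈ L (g i) := fun g hg =>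
    exists_common_four (L ∘ g) (M ∘ g) (fun j => hL _) (fun j => hM _)
      (fun j k h => hrowL _ _ (hg.ne h)) (fun j k h => hrow _ _ (hg.ne h)) (fun j => hcol _)
      (fun j k h => horth _ _ (hg.ne h))
  obtain ⟨g⟩ : Nonempty (Fin 4 ↪ κ) := Function.Embedding.nonempty_of_card_le (by simpa using hκ)
  obtain ⟨a, ha⟩ := four g g.injective
  refine ⟨a, fun j => ?_⟩
  by_cases hj : ∃ i, g i = j
  · obtain ⟨i, rfl⟩ := hj
    exact ha i
  push Not at hj
  obtain ⟨b, hb⟩ := four ![g 0, g 1, g 2, j] (by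
    intro i k h
    fin_cases i <;> fin_cases k <;> first
      | rfl
      | exact absurd (g.injective h) (by decide)
      | exact absurd h (hj _)
      | exact absurd h.symm (hj _))
  have hab : a = b := ((hrowL (g 0) (g 1) (g.injective.ne (by decide))).eq (ha 0) (ha 1)
    (hb 0) (hb 1) rfl).1.symm
  rw [hab]
  exact hb 3

/-- The shape of the whole grid. -/
theorem exists_shape {ι κ : Type*} [Finite ι] [Finite κ] [Nontrivial ι] (hκ : 4 ≤ Nat.card κ)
    (hι : Nat.card ι = 2 ∨ 4 ≤ Nat.card ι) (T : ι → κ → Finset (P × Bool))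
    (hT : ∀ i j, Tri (T i j)) (hrow : ∀ i j k, j ≠ k → Rel1 (T i j) (T i k))
    (hcol : ∀ i l j, i ≠ l → Rel1 (T i j) (T l j))
    (horth : ∀ i l j k, i ≠ l → j ≠ k → Rel0 (T i j) (T l k)) :
    ∃ f : ι ⊕ κ ⊕ ι × κ → P × Bool, Function.Injective (fun s => (f s).1) ∧
      ∀ i j, T i j = {f (.inl i), f (.inr (.inl j)), f (.inr (.inr (i, j)))} := by
  classical
  cases nonempty_fintype κ
  haveI : Nonempty κ := Nat.card_pos_iff.mp (by omega) |>.1
  haveI : Nontrivial κ := Finite.one_lt_card_iff_nontrivial.mp (by omega)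
  choose r hr using show ∀ i, ∃ a, ∀ j, a ∈ T i j from fun i => by
    obtain ⟨l, hl⟩ := exists_ne i
    exact exists_common hκ (T i) (T l) (hT i) (hT l) (hrow i) (hrow l)
      (fun j => hcol i l j hl.symm) (fun j k h => horth i l j k hl.symm h)
  choose c hc using show ∀ j, ∃ a, ∀ i, a ∈ T i j from fun j => by
    rcases hι with h2 | h4
    · obtain ⟨u, v, huv, huniv⟩ := Nat.card_eq_two_iff.mp h2
      obtain ⟨a, hau, hav, -⟩ := hcol u v j huv
      refine ⟨a, fun i => ?_⟩
      have : i ∈ ({u, v} : Set ι) := huniv ▸ Set.mem_univ i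
      rcases this with rfl | rfl
      · exact hau
      · exact hav
    · obtain ⟨k, hk⟩ := exists_ne j
      exact exists_common h4 (fun i => T i j) (fun i => T i k) (fun i => hT i j) (fun i => hT i k)
        (fun i l h => hcol i l j h) (fun i l h => hcol i l k h) (fun i => hrow i j k hk.symm)
        (fun i l h => horth i l j k h hk.symm)
  -- a row core is not a column core
  have hrc : ∀ i j, r i ≠ c j := by
    intro i j he
    obtain ⟨l, hl⟩ := exists_ne i
    have hrl : r i ∈ T l j := he ▸ hc j l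
    have hopp : ∀ k, k ≠ j → ∃ w ∈ T l j, w ≠ r i ∧ flip' w ∈ T i k := by
      intro k hk
      rcases horth l i j k hl hk.symm with h | ⟨x, hxl, w, hwl, hxi, hwi, hne, h⟩
      · exact absurd rfl (h _ hrl _ (hr i k))
      · refine ⟨w, hwl, fun e => ?_, hwi⟩
        subst e
        exact flip'_ne (r i) ((hT i k).inj _ hwi _ (hr i k) rfl)
    haveI : Nonempty (P × Bool) := ⟨r i⟩
    choose! w hwm hwne hwf using hopp
    have hcard : (Finset.univ.erase j : Finset κ).card ≤ ((T l j).erase (r i)).card := by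
      refine Finset.card_le_card_of_injOn w ?_ ?_
      · intro k hk
        have hk' := (Finset.mem_erase.mp hk).1
        exact Finset.mem_erase.mpr ⟨hwne k hk', hwm k hk'⟩
      · intro k hk k' hk' e
        by_contra hkk
        have h1 := hwf k (Finset.mem_erase.mp hk).1
        have h2 := hwf k' (Finset.mem_erase.mp hk').1
        rw [← e] at h2
        have h3 := ((hrow i k k' hkk).eq (hr i k) (hr i k') h1 h2 rfl).1
        have h4 : (w k).1 = (r i).1 := (congrArg Prod.fst h3 : (flip' (w k)).1 = (r i).1)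
        exact hwne k (Finset.mem_erase.mp hk).1 ((hT l j).inj _ (hwm k (Finset.mem_erase.mp hk).1) _
          hrl h4)
    rw [Finset.card_erase_of_mem (Finset.mem_univ _), Finset.card_erase_of_mem hrl, (hT l j).card,
      Finset.card_univ, ← Nat.card_eq_fintype_card] at hcard
    omega
  choose x hx hxr hxc using fun i j => (hT i j).eq_triple (hr i j) (hc j i) (hrc i j)
  have hxT : ∀ i j, x i j ∈ T i j := fun i j => by rw [hx i j]; simp
  have rc' : ∀ i j, (r i).1 ≠ (c j).1 := fun i j => (hT i j).atom_ne (hr i j) (hc j i) (hrc i j)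
  have rr : ∀ i l, i ≠ l → (r i).1 ≠ (r l).1 := fun i l h e => by
    obtain ⟨j⟩ := ‹Nonempty κ›
    exact rc' i j (congrArg Prod.fst ((hcol i l j h).eq (hc j i) (hc j l) (hr i j) (hr l j) e).1)
  have cc : ∀ j k, j ≠ k → (c j).1 ≠ (c k).1 := fun j k h e => by
    obtain ⟨i⟩ := (inferInstance : Nonempty ι)
    exact rc' i j (congrArg Prod.fst ((hrow i j k h).eq (hr i j) (hr i k) (hc j i) (hc k i) e).1.symm)
  have xr : ∀ i j l, (x i j).1 ≠ (r l).1 := fun i j l => by
    rcases eq_or_ne i l with rfl | h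
    · exact (hT i j).atom_ne (hxT i j) (hr i j) (hxr i j)
    · exact fun e => hxc i j ((hcol i l j h).eq (hc j i) (hc j l) (hxT i j) (hr l j) e).1
  have xc : ∀ i j k, (x i j).1 ≠ (c k).1 := fun i j k => by
    rcases eq_or_ne j k with rfl | h
    · exact (hT i j).atom_ne (hxT i j) (hc j i) (hxc i j)
    · exact fun e => hxr i j ((hrow i j k h).eq (hr i j) (hr i k) (hxT i j) (hc k i) e).1
  have xx : ∀ i j l k, (x i j).1 = (x l k).1 → i = l ∧ j = k := fun i j l k e => by
    rcases eq_or_ne i l with rfl | hil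
    · refine ⟨rfl, ?_⟩
      by_contra h
      exact hxr i j ((hrow i j k h).eq (hr i j) (hr i k) (hxT i j) (hxT i k) e).1
    rcases eq_or_ne j k with rfl | hjk
    · exact absurd ((hcol i l j hil).eq (hc j i) (hc j l) (hxT i j) (hxT l j) e).1 (hxc i j)
    exfalso
    rcases horth i l j k hil hjk with h | ⟨a, ha, b, hb, hal, hbl, hne, h⟩
    · exact h _ (hxT i j) _ (hxT l k) e
    · -- both shared atoms would have to be `x i j`
      have : ∀ z ∈ T i j, ∀ z' ∈ T l k, z.1 = z'.1 → z.1 = (x i j).1 := by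
        intro z hz z' hz' ez
        rw [hx i j] at hz
        rw [hx l k] at hz'
        simp only [Finset.mem_insert, Finset.mem_singleton] at hz hz'
        rcases hz with rfl | rfl | rfl <;> rcases hz' with rfl | rfl | rfl
        · exact absurd ez (rr i l hil)
        · exact absurd ez (rc' i k)
        · exact absurd ez.symm (xr l k i)
        · exact absurd ez.symm (rc' l j)
        · exact absurd ez (cc j k hjk)
        · exact absurd ez.symm (xc l k j)
        · rfl
        · rfl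
        · rfl
      exact hne ((this a ha a hal rfl).trans (this b hb (flip' b) hbl rfl).symm)
  refine ⟨Sum.elim r (Sum.elim c fun p => x p.1 p.2), ?_, fun i j => hx i j⟩
  intro s t e
  rcases s with i | j | ⟨i, j⟩ <;> rcases t with l | k | ⟨l, k⟩ <;> simp only [Sum.elim_inl, Sum.elim_inr] at e
  · by_contra h
    exact rr i l (fun e' => h (by rw [e'])) e
  · exact absurd e (rc' i k)
  · exact absurd e.symm (xr l k i)
  · exact absurd e.symm (rc' l j)
  · by_contra h
    exact cc j k (fun e' => h (by rw [e'])) e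
  · exact absurd e.symm (xc l k j)
  · exact absurd e (xr i j l)
  · exact absurd e (xc i j k)
  · obtain ⟨rfl, rfl⟩ := xx i j l k e
    rfl

end CfsgLib.Char.SignedGrid
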