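import Cfsg.Agent.Lib.Char.CyclicTI
import Cfsg.Agent.Lib.Char.CyclicTIPair
import Cfsg.Agent.Lib.Char.SignedGrid

/-!
# Existence of the cyclic trivial intersection family
-/

set_option autoImplicit false

open scoped ComplexConjugate

namespace CfsgLib.Char.CyclicTI

open SignedGrid

variable {G : Type*} [Group G] [Fintype G]

/-- The signed irreducible character named by a pair. -/
def sgnChar (x : Cfsg.IrrCharacter G × Bool) : G → ℂ :=
  if x.2 then (x.1 : G → ℂ) else -(x.1 : G → ℂ)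

theorem sgnChar_flip (x : Cfsg.IrrCharacter G × Bool) : sgnChar (flip' x) = -sgnChar x := by
  obtain ⟨φ, s⟩ := x
  cases s <;> simp [sgnChar, flip']

theorem classInner_neg_left' (θ η : G → ℂ) : Cfsg.classInner (-θ) η = -Cfsg.classInner θ η := by
  simp [Cfsg.classInner]

theorem classInner_neg_right' (θ η : G → ℂ) : Cfsg.classInner θ (-η) = -Cfsg.classInner θ η := by
  simp [Cfsg.classInner]

open scoped Classical in
theorem classInner_sgnChar (x y : Cfsg.IrrCharacter G × Bool) :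
    Cfsg.classInner (sgnChar x) (sgnChar y) =
      if x.1 = y.1 then (if x.2 = y.2 then 1 else -1) else 0 := by
  obtain ⟨φ, s⟩ := x
  obtain ⟨ψ, t⟩ := y
  have h := classInner_irr φ.2 ψ.2
  simp only [← Subtype.ext_iff] at h
  by_cases e : φ = ψ
  · subst e
    cases s <;> cases t <;>
      simp [sgnChar, classInner_neg_left', classInner_neg_right', classInner_irr_self φ.2]
  · cases s <;> cases t <;>
      simp [sgnChar, classInner_neg_left', classInner_neg_right', h, e]

theorem sgnChar_apply_one_ne_zero (x : Cfsg.IrrCharacter G × Bool) : sgnChar x 1 ≠ 0 := by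
  obtain ⟨φ, s⟩ := x
  cases s <;> simp [sgnChar, IsIrrCharacter.apply_one_ne_zero φ.2]

open scoped Classical in
theorem classInner_sum_sgn {T U : Finset (Cfsg.IrrCharacter G × Bool)} (hU : Tri U) :
    Cfsg.classInner (∑ y ∈ T, sgnChar y) (∑ z ∈ U, sgnChar z) =
      ((∑ y ∈ T, sval U y : ℤ) : ℂ) := by
  rw [classInner_sum_left, Int.cast_sum]
  refine Finset.sum_congr rfl fun y _ => ?_
  rw [classInner_sum_right]
  by_cases h1 : y ∈ U
  · rw [sval_of_mem h1, Finset.sum_eq_single_of_mem y h1 fun z hz hne => ?_, classInner_sgnChar,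
      if_pos rfl, if_pos rfl, Int.cast_one]
    rw [classInner_sgnChar, if_neg fun e => hne (hU.inj z hz y h1 e.symm)]
  by_cases h2 : flip' y ∈ U
  · rw [sval_of_flip hU h2, Finset.sum_eq_single_of_mem (flip' y) h2 fun z hz hne => ?_,
      classInner_sgnChar, if_pos (show y.1 = (flip' y).1 from rfl),
      if_neg (show ¬ y.2 = (flip' y).2 by cases h : y.2 <;> simp [flip', h])]
    · simp
    rw [classInner_sgnChar, if_neg fun e => hne (hU.inj z hz _ h2 e.symm)]
  have h0 : ∀ z ∈ U, y.1 ≠ z.1 := fun z hz e => by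
    rcases eq_or_ne y.2 z.2 with e' | e'
    · exact h1 (Prod.ext e e' ▸ hz)
    · refine h2 ((show flip' y = z from Prod.ext e ?_) ▸ hz)
      show (!y.2) = z.2
      revert e'
      cases y.2 <;> cases z.2 <;> simp
  rw [sval_eq_zero h0, Int.cast_zero]
  exact Finset.sum_eq_zero fun z hz => by rw [classInner_sgnChar, if_neg (h0 z hz)]

open scoped Classical in
/-- A generalized character of norm three is a sum of three signed irreducible characters. -/
theorem exists_tri {θ : G → ℂ} (hθ : Cfsg.IsGeneralizedCharacter G θ)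
    (h3 : Cfsg.classInner θ θ = 3) (h0 : Cfsg.classInner θ (fun _ => 1) = 0) :
    ∃ T : Finset (Cfsg.IrrCharacter G × Bool), Tri T ∧ θ = ∑ y ∈ T, sgnChar y ∧
      ∀ y ∈ T, (y.1 : G → ℂ) ≠ fun _ => 1 := by
  obtain ⟨z, hz, hexp, hn⟩ := IsGeneralizedCharacter.exists_coeff hθ
  have hsum : ∑ φ : Cfsg.IrrCharacter G, z φ * z φ = 3 := by
    have h' : ((∑ φ : Cfsg.IrrCharacter G, z φ * z φ : ℤ) : ℂ) = ((3 : ℤ) : ℂ) := by
      rw [← hn, h3]; norm_num
    exact_mod_cast h'
  have hb : ∀ φ, z φ = -1 ∨ z φ = 0 ∨ z φ = 1 := fun φ => by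
    have hle : z φ * z φ ≤ 3 := hsum ▸
      Finset.single_le_sum (f := fun ψ => z ψ * z ψ) (fun ψ _ => mul_self_nonneg (z ψ))
        (Finset.mem_univ φ)
    have h1 : z φ ≤ 1 := by nlinarith
    have h2 : -1 ≤ z φ := by nlinarith
    omega
  set S := Finset.univ.filter fun φ => z φ ≠ 0 with hS
  set g : Cfsg.IrrCharacter G → Cfsg.IrrCharacter G × Bool := fun φ => (φ, decide (z φ = 1)) with hg
  have hginj : Function.Injective g := fun a b h => congrArg Prod.fst h
  refine ⟨S.image g, ⟨?_, ?_⟩, ?_, ?_⟩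
  · rw [Finset.card_image_of_injective _ hginj]
    have h4 : ∑ φ ∈ S, z φ * z φ = 3 := by
      rw [← hsum]
      exact Finset.sum_filter_of_ne fun φ _ h hz0 => h (by rw [hz0, mul_zero])
    rw [Finset.sum_congr rfl (g := fun _ => (1 : ℤ)) fun φ hφ => ?_, Finset.sum_const, nsmul_eq_mul,
      mul_one] at h4
    · exact_mod_cast h4
    · rcases hb φ with e | e | e
      · rw [e]; norm_num
      · exact absurd e (Finset.mem_filter.mp hφ).2
      · rw [e]; norm_num
  · intro y hy w hw e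
    obtain ⟨a, -, rfl⟩ := Finset.mem_image.mp hy
    obtain ⟨b, -, rfl⟩ := Finset.mem_image.mp hw
    rw [show a = b from e]
  · rw [Finset.sum_image hginj.injOn]
    conv_lhs => rw [hexp]
    rw [← Finset.sum_filter_of_ne (p := fun φ => z φ ≠ 0) fun φ _ h hz0 => h (by simp [hz0])]
    refine Finset.sum_congr rfl fun φ hφ => ?_
    rcases hb φ with e | e | e
    · simp [hg, sgnChar, e]
    · exact absurd e (Finset.mem_filter.mp hφ).2
    · simp [hg, sgnChar, e]
  · intro y hy he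
    obtain ⟨φ, hφ, rfl⟩ := Finset.mem_image.mp hy
    have he' : (φ : G → ℂ) = fun _ => 1 := he
    have h1 := hz φ
    rw [he', h0] at h1
    exact (Finset.mem_filter.mp hφ).2 (by exact_mod_cast h1.symm)

open scoped Classical in
/-- The signs with which the members of a triple occur in another. -/
theorem filter_card_sub {T U : Finset (Cfsg.IrrCharacter G × Bool)} (hU : Tri U) {n : ℤ}
    (h : Cfsg.classInner (∑ y ∈ T, sgnChar y) (∑ z ∈ U, sgnChar z) = (n : ℂ)) :
    ((T.filter fun y => sval U y = 1).card : ℤ) - (T.filter fun y => sval U y = -1).card = n := by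
  rw [classInner_sum_sgn hU, Int.cast_inj] at h
  rw [← h, Finset.card_filter, Finset.card_filter, Nat.cast_sum, Nat.cast_sum,
    ← Finset.sum_sub_distrib]
  refine Finset.sum_congr rfl fun y _ => ?_
  rw [sval]; split_ifs <;> simp_all

open scoped Classical in
theorem filter_card_add_le {T U : Finset (Cfsg.IrrCharacter G × Bool)} (hT : Tri T) :
    (T.filter fun y => sval U y = 1).card + (T.filter fun y => sval U y = -1).card ≤ 3 := by
  rw [← Finset.card_union_of_disjoint, ← hT.card]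
  · exact Finset.card_le_card (Finset.union_subset (Finset.filter_subset _ _) (Finset.filter_subset _ _))
  · exact Finset.disjoint_filter.mpr fun y _ h1 h2 => by rw [h1] at h2; norm_num at h2

open scoped Classical in
theorem flip_mem_of_sval {U : Finset (Cfsg.IrrCharacter G × Bool)} {y : Cfsg.IrrCharacter G × Bool}
    (h : sval U y = -1) : flip' y ∈ U := by
  rw [sval] at h; split_ifs at h with h1 h2; exact h2

open scoped Classical in
theorem mem_of_sval {U : Finset (Cfsg.IrrCharacter G × Bool)} {y : Cfsg.IrrCharacter G × Bool}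
    (h : sval U y = 1) : y ∈ U := by
  rw [sval] at h; split_ifs at h with h1 h2 <;> first | exact h1 | omega

open scoped Classical in
theorem sval_cases {U : Finset (Cfsg.IrrCharacter G × Bool)} (hU : Tri U)
    {y z : Cfsg.IrrCharacter G × Bool} (hz : z ∈ U) (e : y.1 = z.1) :
    sval U y = 1 ∨ sval U y = -1 := by
  rcases eq_or_ne y.2 z.2 with e' | e'
  · exact Or.inl (sval_of_mem (Prod.ext e e' ▸ hz))
  · refine Or.inr (sval_of_flip hU ((show flip' y = z from Prod.ext e ?_) ▸ hz))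
    show (!y.2) = z.2
    revert e'
    cases y.2 <;> cases z.2 <;> simp

open scoped Classical in
theorem rel1_of_inner {T U : Finset (Cfsg.IrrCharacter G × Bool)} (hT : Tri T) (hU : Tri U)
    (h : Cfsg.classInner (∑ y ∈ T, sgnChar y) (∑ z ∈ U, sgnChar z) = 1)
    (h1 : (∑ y ∈ T, sgnChar y) 1 = (∑ z ∈ U, sgnChar z) 1) : Rel1 T U := by
  have hd := filter_card_sub hU (n := 1) (by rw [h]; simp)
  have hle := filter_card_add_le (U := U) hT
  rcases Nat.eq_zero_or_pos (T.filter fun y => sval U y = -1).card with h0 | h0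
  · rw [h0] at hd
    obtain ⟨x, hx⟩ := Finset.card_eq_one.mp (show (T.filter fun y => sval U y = 1).card = 1 by omega)
    obtain ⟨hxT, hxs⟩ := Finset.mem_filter.mp (hx.symm ▸ Finset.mem_singleton_self x :
      x ∈ T.filter fun y => sval U y = 1)
    refine ⟨x, hxT, mem_of_sval hxs, fun y hy z hz e => ?_⟩
    rcases sval_cases hU hz e with hs | hs
    · have hyx : y = x := Finset.mem_singleton.mp (hx ▸ Finset.mem_filter.mpr ⟨hy, hs⟩)
      exact ⟨hyx, hU.inj z hz x (mem_of_sval hxs) (by rw [← e, hyx])⟩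
    · have := (Finset.mem_filter (p := fun y => sval U y = -1)).mpr ⟨hy, hs⟩
      rw [Finset.card_eq_zero.mp h0] at this
      exact absurd this (Finset.notMem_empty y)
  · exfalso
    obtain ⟨w, hw⟩ := Finset.card_eq_one.mp (show (T.filter fun y => sval U y = -1).card = 1 by omega)
    obtain ⟨hwT, hws⟩ := Finset.mem_filter.mp (hw.symm ▸ Finset.mem_singleton_self w :
      w ∈ T.filter fun y => sval U y = -1)
    have hp : (T.filter fun y => sval U y = 1) = T.erase w := by
      refine Finset.eq_of_subset_of_card_le (fun y hy => ?_) ?_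
      · obtain ⟨hyT, hys⟩ := Finset.mem_filter.mp hy
        exact Finset.mem_erase.mpr ⟨fun e => by rw [e, hws] at hys; norm_num at hys, hyT⟩
      · rw [Finset.card_erase_of_mem hwT, hT.card]; omega
    have hUeq : insert (flip' w) (T.erase w) = U := by
      refine Finset.eq_of_subset_of_card_le (Finset.insert_subset (flip_mem_of_sval hws) ?_) ?_
      · rw [← hp]; exact fun y hy => mem_of_sval (Finset.mem_filter.mp hy).2
      · rw [hU.card, Finset.card_insert_of_notMem fun hm =>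
          flip'_ne w (hT.inj _ (Finset.mem_erase.mp hm).2 _ hwT rfl),
          Finset.card_erase_of_mem hwT, hT.card]
    rw [← hUeq, Finset.sum_insert fun hm => flip'_ne w (hT.inj _ (Finset.mem_erase.mp hm).2 _ hwT rfl),
      ← Finset.add_sum_erase _ _ hwT, sgnChar_flip] at h1
    simp only [Pi.add_apply, Pi.neg_apply] at h1
    exact sgnChar_apply_one_ne_zero w (by linear_combination h1 / 2)

open scoped Classical in
theorem rel0_of_inner {T U : Finset (Cfsg.IrrCharacter G × Bool)} (hT : Tri T) (hU : Tri U)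
    (h : Cfsg.classInner (∑ y ∈ T, sgnChar y) (∑ z ∈ U, sgnChar z) = 0) : Rel0 T U := by
  have hd := filter_card_sub hU (n := 0) (by rw [h]; simp)
  have hle := filter_card_add_le (U := U) hT
  rcases Nat.eq_zero_or_pos (T.filter fun y => sval U y = -1).card with h0 | h0
  · refine Or.inl fun y hy z hz e => ?_
    rcases sval_cases hU hz e with hs | hs
    · have := (Finset.mem_filter (p := fun y => sval U y = 1)).mpr ⟨hy, hs⟩
      rw [Finset.card_eq_zero.mp
        (show (T.filter fun y => sval U y = 1).card = 0 by omega)] at this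
      exact absurd this (Finset.notMem_empty y)
    · have := (Finset.mem_filter (p := fun y => sval U y = -1)).mpr ⟨hy, hs⟩
      rw [Finset.card_eq_zero.mp h0] at this
      exact absurd this (Finset.notMem_empty y)
  · obtain ⟨w, hw⟩ := Finset.card_eq_one.mp (show (T.filter fun y => sval U y = -1).card = 1 by omega)
    obtain ⟨hwT, hws⟩ := Finset.mem_filter.mp (hw.symm ▸ Finset.mem_singleton_self w :
      w ∈ T.filter fun y => sval U y = -1)
    obtain ⟨x, hx⟩ := Finset.card_eq_one.mp (show (T.filter fun y => sval U y = 1).card = 1 by omega)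
    obtain ⟨hxT, hxs⟩ := Finset.mem_filter.mp (hx.symm ▸ Finset.mem_singleton_self x :
      x ∈ T.filter fun y => sval U y = 1)
    refine Or.inr ⟨x, hxT, w, hwT, mem_of_sval hxs, flip_mem_of_sval hws, fun e => ?_,
      fun y hy z hz e => ?_⟩
    · rw [hT.inj x hxT w hwT e, hws] at hxs; norm_num at hxs
    · rcases sval_cases hU hz e with hs | hs
      · exact Or.inl (Finset.mem_singleton.mp (hx ▸ Finset.mem_filter.mpr ⟨hy, hs⟩))
      · exact Or.inr (Finset.mem_singleton.mp (hw ▸ Finset.mem_filter.mpr ⟨hy, hs⟩))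

theorem indFun_gen {H : Subgroup G} [Fintype H] {α : H → ℂ}
    (h : Cfsg.IsGeneralizedCharacter H α) : Cfsg.IsGeneralizedCharacter G (Cfsg.indFun H α) := by
  obtain ⟨p, q, hp, hq, rfl⟩ := h
  exact ⟨_, _, IsCharacter.indFun H hp, IsCharacter.indFun H hq, indFun_sub H p q⟩

variable {W₁ W₂ : Subgroup G}

open scoped Classical in
/-- The cyclic trivial intersection family exists. -/
theorem exists_family (hW : Cfsg.IsSelfNormalizingCyclic W₁ W₂)
    (hodd : Odd (Nat.card ↥(W₁ ⊔ W₂))) :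
    ∃ χ : (↥(W₁ ⊔ W₂) →* ℂˣ) → (G → ℂ), Cfsg.IsCyclicTIFamily W₁ W₂ χ := by
  cases nonempty_fintype ↥(W₁ ⊔ W₂)
  haveI := finite_hom (W₁ := W₁) (W₂ := W₂)
  obtain ⟨hc1, hc2⟩ := card_fstChar hW
  obtain ⟨e, he⟩ := exists_prodEquiv hW
  have hcardW : Nat.card ↥(W₁ ⊔ W₂) = Nat.card W₁ * Nat.card W₂ := by
    rw [← Nat.card_congr e.toEquiv, Nat.card_prod]
  obtain ⟨ho1, ho2⟩ := Nat.odd_mul.mp (hcardW ▸ hodd)
  have hn1 : Nat.card W₁ ≠ 1 := fun h => hW.1 (Subgroup.card_eq_one.mp h)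
  have hn2 : Nat.card W₂ ≠ 1 := fun h => hW.2.1 (Subgroup.card_eq_one.mp h)
  have hnot33 : ¬ (Nat.card W₁ = 3 ∧ Nat.card W₂ = 3) := by
    rintro ⟨h1, h2⟩
    haveI := hW.2.2.2.2.1
    obtain ⟨g, hg⟩ := IsCyclic.exists_ofOrder_eq_natCard (α := ↥(W₁ ⊔ W₂))
    obtain ⟨⟨a, b⟩, rfl⟩ := e.surjective g
    have h3 : e (a, b) ^ 3 = 1 := by
      have ea : a ^ 3 = 1 := h1 ▸ pow_card_eq_one'
      have eb : b ^ 3 = 1 := h2 ▸ pow_card_eq_one'
      rw [← map_pow, Prod.pow_mk, ea, eb, Prod.mk_one_one, map_one]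
    have h4 := Nat.le_of_dvd (by norm_num) (orderOf_dvd_of_pow_eq_one h3)
    rw [hg, hcardW, h1, h2] at h4
    norm_num at h4
  -- the two index types
  set ι := {φ : FstChar W₁ W₂ // φ.1 ≠ 1} with hι
  set κ := {ψ : SndChar W₁ W₂ // ψ.1 ≠ 1} with hκ
  cases nonempty_fintype (FstChar W₁ W₂)
  cases nonempty_fintype (SndChar W₁ W₂)
  have hιc : Nat.card ι + 1 = Nat.card W₁ := by
    rw [← hc1, Nat.card_eq_fintype_card, Nat.card_eq_fintype_card, Fintype.card_subtype_compl,
      show Fintype.card {φ : FstChar W₁ W₂ // φ.1 = 1} = 1 from Fintype.card_eq_one_iff.mpr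
        ⟨⟨⟨1, fun w _ => rfl⟩, rfl⟩, fun x => Subtype.ext (Subtype.ext x.2)⟩]
    have : 0 < Fintype.card (FstChar W₁ W₂) := Fintype.card_pos_iff.mpr ⟨⟨1, fun w _ => rfl⟩⟩
    omega
  have hκc : Nat.card κ + 1 = Nat.card W₂ := by
    rw [← hc2, Nat.card_eq_fintype_card, Nat.card_eq_fintype_card, Fintype.card_subtype_compl,
      show Fintype.card {φ : SndChar W₁ W₂ // φ.1 = 1} = 1 from Fintype.card_eq_one_iff.mpr
        ⟨⟨⟨1, fun w _ => rfl⟩, rfl⟩, fun x => Subtype.ext (Subtype.ext x.2)⟩]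
    have : 0 < Fintype.card (SndChar W₁ W₂) := Fintype.card_pos_iff.mpr ⟨⟨1, fun w _ => rfl⟩⟩
    omega
  -- the triples
  set τ := fun (i : ι) (j : κ) => Cfsg.indFun (W₁ ⊔ W₂) (alpha i.1.1 j.1.1) with hτ
  have hinner : ∀ (i l : ι) (j k : κ), Cfsg.classInner (τ i j) (fun _ => 1) = 1 ∧
      Cfsg.classInner (τ i j) (τ l k) = 1 + (if i = l then 1 else 0) + (if j = k then 1 else 0) +
        (if i = l then 1 else 0) * (if j = k then 1 else 0) := by
    intro i l j k
    have h1 := classInner_alpha_alpha (W₁ := W₁) (W₂ := W₂) i.2 l.2 j.2 k.2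
      (fun w hw => ⟨i.1.2 w hw, l.1.2 w hw⟩) (fun w hw => ⟨j.1.2 w hw, k.1.2 w hw⟩)
    refine ⟨?_, ?_⟩
    · rw [hτ, classInner_indFun _ _ (IsIrrCharacter.isClassFunction isIrrCharacter_one)]
      exact h1.1
    · rw [hτ, classInner_indFun_alpha hW (fun w hw => ⟨i.1.2 w hw, l.1.2 w hw⟩)
        (fun w hw => ⟨j.1.2 w hw, k.1.2 w hw⟩), h1.2]
      simp only [← Subtype.ext_iff]
  set β := fun (i : ι) (j : κ) => τ i j - fun _ => (1 : ℂ) with hβ
  have hone : Cfsg.classInner (fun _ : G => (1 : ℂ)) (fun _ => 1) = 1 :=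
    classInner_irr_self isIrrCharacter_one
  have hβi : ∀ i l j k, Cfsg.classInner (β i j) (β l k) = (if i = l then 1 else 0) +
      (if j = k then 1 else 0) + (if i = l then 1 else 0) * (if j = k then 1 else 0) := by
    intro i l j k
    rw [hβ, classInner_sub_left, classInner_sub_right, classInner_sub_right, hone, (hinner i l j k).2,
      (hinner i l j k).1, ← classInner_conj_symm (τ l k), (hinner l i k j).1, map_one]
    ring
  have hβ1 : ∀ i j, β i j 1 = -1 := fun i j => by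
    have : alpha i.1.1 j.1.1 1 = 0 := by simp [alpha]
    simp [hβ, hτ, indFun_one, this]
  choose T hT hTsum hTone using fun i j => exists_tri (θ := β i j)
    (IsGeneralizedCharacter.sub (indFun_gen (isGeneralizedCharacter_alpha _ _))
      (IsCharacter.isGeneralizedCharacter isCharacter_one))
    (by rw [hβi, if_pos rfl, if_pos rfl]; norm_num)
    (by rw [hβ, classInner_sub_left, (hinner i i j j).1, hone, sub_self])
  have hrow : ∀ i j k, j ≠ k → Rel1 (T i j) (T i k) := fun i j k h =>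
    rel1_of_inner (hT i j) (hT i k)
      (by rw [← hTsum, ← hTsum, hβi, if_pos rfl, if_neg h]; ring)
      (by rw [← hTsum, ← hTsum, hβ1, hβ1])
  have hcol : ∀ i l j, i ≠ l → Rel1 (T i j) (T l j) := fun i l j h =>
    rel1_of_inner (hT i j) (hT l j)
      (by rw [← hTsum, ← hTsum, hβi, if_pos rfl, if_neg h]; ring)
      (by rw [← hTsum, ← hTsum, hβ1, hβ1])
  have horth : ∀ i l j k, i ≠ l → j ≠ k → Rel0 (T i j) (T l k) := fun i l j k h h' =>
    rel0_of_inner (hT i j) (hT l k) (by rw [← hTsum, ← hTsum, hβi, if_neg h, if_neg h']; ring)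
  obtain ⟨t1, ht1⟩ := ho1
  obtain ⟨t2, ht2⟩ := ho2
  haveI : Nontrivial ι := Finite.one_lt_card_iff_nontrivial.mp (by omega)
  haveI : Nontrivial κ := Finite.one_lt_card_iff_nontrivial.mp (by omega)
  obtain ⟨f, hf, hfT⟩ : ∃ f : ι ⊕ κ ⊕ ι × κ → Cfsg.IrrCharacter G × Bool,
      Function.Injective (fun s => (f s).1) ∧
      ∀ i j, T i j = {f (.inl i), f (.inr (.inl j)), f (.inr (.inr (i, j)))} := by
    by_cases h4 : 4 ≤ Nat.card κ
    · exact exists_shape h4 (by omega) T hT hrow hcol horth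
    · obtain ⟨f, hf, hfT⟩ := exists_shape (T := fun j i => T i j) (show 4 ≤ Nat.card ι by omega)
        (by omega) (fun j i => hT i j) (fun j i l h => hcol i l j h) (fun j k i h => hrow i j k h)
        (fun j k i l h h' => horth i l j k h' h)
      set σ : ι ⊕ κ ⊕ ι × κ → κ ⊕ ι ⊕ κ × ι := Sum.elim (fun i => Sum.inr (Sum.inl i))
        (Sum.elim Sum.inl fun p => Sum.inr (Sum.inr (p.2, p.1))) with hσ
      have hσi : Function.Injective σ := by
        rintro (i | j | ⟨i, j⟩) (l | k | ⟨l, k⟩) h <;> simp [hσ] at h <;> simp [h]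
      refine ⟨f ∘ σ, fun a b h => hσi (hf h), fun i j => ?_⟩
      rw [hfT j i]
      simp only [Function.comp_apply, hσ, Sum.elim_inl, Sum.elim_inr]
      exact Finset.insert_comm _ _ _
  have hfmem : ∀ s, ∃ i j, f s ∈ T i j := by
    rintro (i | j | ⟨i, j⟩)
    · exact ⟨i, Classical.arbitrary κ, by rw [hfT]; simp⟩
    · exact ⟨Classical.arbitrary ι, j, by rw [hfT]; simp⟩
    · exact ⟨i, j, by rw [hfT]; simp⟩
  set one : Cfsg.IrrCharacter G := ⟨fun _ => 1, isIrrCharacter_one⟩ with hone'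
  have hfone : ∀ s, (f s).1 ≠ one := fun s h => by
    obtain ⟨i, j, hm⟩ := hfmem s
    exact hTone i j _ hm (congrArg Subtype.val h)
  -- the family
  set g : FstChar W₁ W₂ × SndChar W₁ W₂ → Cfsg.IrrCharacter G × Bool := fun p =>
    if h1 : p.1.1 = 1 then
      if h2 : p.2.1 = 1 then (one, true) else flip' (f (.inr (.inl ⟨p.2, h2⟩)))
    else
      if h2 : p.2.1 = 1 then flip' (f (.inl ⟨p.1, h1⟩))
      else f (.inr (.inr (⟨p.1, h1⟩, ⟨p.2, h2⟩))) with hg
  have hginj : Function.Injective fun p => (g p).1 := by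
    have hcase : ∀ p, (p.1.1 = 1 ∧ p.2.1 = 1 ∧ (g p).1 = one) ∨
        (∃ j : κ, p.1.1 = 1 ∧ j.1 = p.2 ∧ (g p).1 = (f (.inr (.inl j))).1) ∨
        (∃ i : ι, i.1 = p.1 ∧ p.2.1 = 1 ∧ (g p).1 = (f (.inl i)).1) ∨
        (∃ i : ι, ∃ j : κ, i.1 = p.1 ∧ j.1 = p.2 ∧ (g p).1 = (f (.inr (.inr (i, j)))).1) := by
      intro p
      by_cases h1 : p.1.1 = 1 <;> by_cases h2 : p.2.1 = 1
      · refine Or.inl ⟨h1, h2, ?_⟩
        simp only [hg]; rw [dif_pos h1, dif_pos h2]
      · refine Or.inr (Or.inl ⟨⟨p.2, h2⟩, h1, rfl, ?_⟩)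
        simp only [hg]; rw [dif_pos h1, dif_neg h2]; rfl
      · refine Or.inr (Or.inr (Or.inl ⟨⟨p.1, h1⟩, rfl, h2, ?_⟩))
        simp only [hg]; rw [dif_neg h1, dif_pos h2]; rfl
      · refine Or.inr (Or.inr (Or.inr ⟨⟨p.1, h1⟩, ⟨p.2, h2⟩, rfl, rfl, ?_⟩))
        simp only [hg]; rw [dif_neg h1, dif_neg h2]
    intro p q h
    have h' : (g p).1 = (g q).1 := h
    rcases hcase p with ⟨a1, a2, ep⟩ | ⟨j, a1, a2, ep⟩ | ⟨i, a1, a2, ep⟩ | ⟨i, j, a1, a2, ep⟩ <;>
      rcases hcase q with ⟨b1, b2, eq⟩ | ⟨k, b1, b2, eq⟩ | ⟨l, b1, b2, eq⟩ | ⟨l, k, b1, b2, eq⟩ <;>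
      rw [ep, eq] at h'
    · exact Prod.ext (Subtype.ext (a1.trans b1.symm)) (Subtype.ext (a2.trans b2.symm))
    · exact absurd h'.symm (hfone _)
    · exact absurd h'.symm (hfone _)
    · exact absurd h'.symm (hfone _)
    · exact absurd h' (hfone _)
    · cases hf h'
      exact Prod.ext (Subtype.ext (a1.trans b1.symm)) (a2.symm.trans b2)
    · cases hf h'
    · cases hf h'
    · exact absurd h' (hfone _)
    · cases hf h'
    · cases hf h'
      exact Prod.ext (a1.symm.trans b1) (Subtype.ext (a2.trans b2.symm))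
    · cases hf h'
    · exact absurd h' (hfone _)
    · cases hf h'
    · cases hf h'
    · cases hf h'
      exact Prod.ext (a1.symm.trans b1) (a2.symm.trans b2)
  set eb := Equiv.ofBijective _ (mul_bijective hW) with heb
  set χ : (↥(W₁ ⊔ W₂) →* ℂˣ) → (G → ℂ) := fun ω => sgnChar (g (eb.symm ω)) with hχ
  have heb' : ∀ (φ : FstChar W₁ W₂) (ψ : SndChar W₁ W₂),
      χ (φ.1 * ψ.1) = sgnChar (g (φ, ψ)) := fun φ ψ => by
    rw [hχ]
    simp only
    rw [show eb.symm (φ.1 * ψ.1) = (φ, ψ) from eb.symm_apply_apply (φ, ψ)]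
  have horthn : ∀ ω ω', Cfsg.classInner (χ ω) (χ ω') = if ω = ω' then 1 else 0 := by
    intro ω ω'
    rw [hχ, classInner_sgnChar]
    by_cases h : ω = ω'
    · subst h; simp
    · rw [if_neg h, if_neg fun h' => h (eb.symm.injective (hginj h'))]
  set one₁ : FstChar W₁ W₂ := ⟨1, fun w _ => rfl⟩ with hone₁
  set one₂ : SndChar W₁ W₂ := ⟨1, fun w _ => rfl⟩ with hone₂
  have hχ1 : χ 1 = fun _ => 1 := by
    rw [show (1 : ↥(W₁ ⊔ W₂) →* ℂˣ) = one₁.1 * one₂.1 by ext x; simp [hone₁, hone₂], heb']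
    simp [hg, hone₁, hone₂, sgnChar, hone']
  have hind : ∀ (i : ι) (j : κ), τ i j =
      (fun _ => (1 : ℂ)) - χ i.1.1 - χ j.1.1 + χ (i.1.1 * j.1.1) := by
    intro i j
    have h1 : χ i.1.1 = -sgnChar (f (.inl i)) := by
      rw [show i.1.1 = i.1.1 * one₂.1 by ext x; simp [hone₂], heb', ← sgnChar_flip]
      congr 1
      simp only [hg]
      rw [dif_neg i.2, dif_pos rfl]
    have h2 : χ j.1.1 = -sgnChar (f (.inr (.inl j))) := by
      rw [show j.1.1 = one₁.1 * j.1.1 by ext x; simp [hone₁], heb', ← sgnChar_flip]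
      congr 1
      simp only [hg]
      rw [dif_pos rfl, dif_neg j.2]
    have h3 : χ (i.1.1 * j.1.1) = sgnChar (f (.inr (.inr (i, j)))) := by
      rw [heb']
      congr 1
      simp only [hg]
      rw [dif_neg i.2, dif_neg j.2]
    have hne : ∀ {a b : ι ⊕ κ ⊕ ι × κ}, a ≠ b → f a ≠ f b := fun hab e' =>
      hab (hf (congrArg Prod.fst e'))
    have h4 := hTsum i j
    rw [hfT, Finset.sum_insert (by simp [hne]), Finset.sum_pair (hne (by simp))] at h4
    rw [h1, h2, h3, sub_neg_eq_add, sub_neg_eq_add]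
    rw [hβ] at h4
    simp only [sub_eq_iff_eq_add] at h4
    rw [h4]; abel
  refine ⟨χ, ⟨fun ω => ?_, fun ω ω' => by convert horthn ω ω', hχ1, fun ω => ?_, fun φ ψ hφ hψ h1 h2 => ?_⟩⟩
  · rw [hχ]
    simp only
    rcases (g (eb.symm ω)) with ⟨φ, s⟩
    cases s
    · exact Or.inr (by simp [sgnChar, φ.2])
    · exact Or.inl (by simp [sgnChar, φ.2])
  · intro w hw1 hw2
    have hclass : Cfsg.IsClassFunction G (χ ω) := by
      rw [hχ]
      simp only [sgnChar]
      split_ifs
      · exact IsIrrCharacter.isClassFunction (g (eb.symm ω)).1.2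
      · exact (classFunctions G).neg_mem (IsIrrCharacter.isClassFunction (g (eb.symm ω)).1.2)
    refine sub_eq_zero.mp (eq_zero_of_orth_alpha hW (fun v => χ ω v - (ω v : ℂ))
      (fun φ ψ hφ2 hψ1 hφ hψ => ?_) w hw1 hw2)
    show Cfsg.classInner ((fun v : ↥(W₁ ⊔ W₂) => χ ω v) - fun v => (ω v : ℂ)) _ = 0
    rw [classInner_sub_left, ← classInner_conj_symm (alpha φ ψ) (fun v : ↥(W₁ ⊔ W₂) => χ ω v),
      ← classInner_conj_symm (alpha φ ψ) (fun v : ↥(W₁ ⊔ W₂) => (ω v : ℂ)),
      ← classInner_indFun _ _ hclass,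
      show Cfsg.indFun (W₁ ⊔ W₂) (alpha φ ψ) =
        (fun _ => (1 : ℂ)) - χ φ - χ ψ + χ (φ * ψ) from hind ⟨⟨φ, hφ2⟩, hφ⟩ ⟨⟨ψ, hψ1⟩, hψ⟩,
      ← hχ1, classInner_add_left, classInner_sub_left, classInner_sub_left, horthn, horthn, horthn,
      horthn, classInner_alpha_hom, sub_self]
  · show Cfsg.indFun (W₁ ⊔ W₂) (alpha φ ψ) = _
    rw [show Cfsg.indFun (W₁ ⊔ W₂) (alpha φ ψ) =
      (fun _ => (1 : ℂ)) - χ φ - χ ψ + χ (φ * ψ) from hind ⟨⟨φ, h1⟩, hφ⟩ ⟨⟨ψ, h2⟩, hψ⟩]
    funext x; simp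

end CfsgLib.Char.CyclicTI
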