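import Cfsg.Prelude.Def_OddOrderChar
import Cfsg.Agent.Lib.Char.Virtual
import Cfsg.Agent.Lib.Char.CoprimeCoset
import Mathlib.GroupTheory.GroupAction.Quotient

/-!
# The Dade isometry
-/

set_option autoImplicit false

open scoped ComplexConjugate

namespace CfsgLib.Char.Dade

variable {G : Type*} [Group G] [Finite G] {A : Set G} {L : Subgroup G} {H : G → Subgroup G}

theorem comm_of_mem (hD : Cfsg.DadeHypothesis A L H) {a u : G} (ha : a ∈ A) (hu : u ∈ H a) :
    a * u = u * a :=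
  (Subgroup.mem_centralizer_singleton_iff.mp (hD.le_centralizer a ha hu)).symm

theorem self_mem (hD : Cfsg.DadeHypothesis A L H) {a : G} (ha : a ∈ A) :
    a ∈ L ⊓ Subgroup.centralizer ({a} : Set G) :=
  ⟨hD.subset ha, Subgroup.mem_centralizer_singleton_iff.mpr rfl⟩

theorem le_normalizer (hD : Cfsg.DadeHypothesis A L H) {a : G} (ha : a ∈ A) :
    L ⊓ Subgroup.centralizer ({a} : Set G) ≤ Subgroup.normalizer (H a : Set G) := fun c hc =>
  CfsgLib.Coprime.mem_normalizer_of_conj_map_le fun u hu => hD.conj_mem_H a ha c hc.2 u hu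

theorem card_centralizer (hD : Cfsg.DadeHypothesis A L H) {a : G} (ha : a ∈ A) :
    Nat.card (Subgroup.centralizer ({a} : Set G)) =
      Nat.card (H a) * Nat.card ↥(L ⊓ Subgroup.centralizer ({a} : Set G)) := by
  rw [← CfsgLib.Coprime.card_sup_of_le_normalizer (le_normalizer hD ha)
    (disjoint_iff.mpr (hD.inf_eq_bot a ha)), hD.sup_eq a ha]

/-- An element of the centraliser of order prime to the complement lies in `H a`. -/
theorem mem_of_coprime (hD : Cfsg.DadeHypothesis A L H) {a w : G} (ha : a ∈ A)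
    (hw : w ∈ Subgroup.centralizer ({a} : Set G))
    (hcop : Nat.Coprime (orderOf w) (Nat.card ↥(L ⊓ Subgroup.centralizer ({a} : Set G)))) :
    w ∈ H a := by
  rw [← hD.sup_eq a ha, CfsgLib.Coprime.mem_sup_of_le_normalizer (le_normalizer hD ha)] at hw
  obtain ⟨h, hh, c, hc, rfl⟩ := hw
  have hpow : ∀ k : ℕ, ∃ m ∈ H a, (h * c) ^ k = m * c ^ k := by
    intro k
    induction k with
    | zero => exact ⟨1, (H a).one_mem, by simp⟩
    | succ k ih =>
      obtain ⟨m, hm, e⟩ := ih
      refine ⟨m * (c ^ k * h * (c ^ k)⁻¹), (H a).mul_mem hm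
        (hD.conj_mem_H a ha _ (Subgroup.pow_mem _ hc.2 k) h hh), ?_⟩
      rw [pow_succ, e, pow_succ]; group
  obtain ⟨m, hm, hmk⟩ := hpow (Nat.card ↥(L ⊓ Subgroup.centralizer ({a} : Set G)))
  rw [orderOf_dvd_iff_pow_eq_one.mp (Subgroup.orderOf_dvd_natCard _ hc), mul_one] at hmk
  obtain ⟨t, ht⟩ := exists_pow_eq_self_of_coprime hcop.symm
  rw [← ht, hmk]
  exact (H a).pow_mem hm t

theorem conj_mem_H' (hD : Cfsg.DadeHypothesis A L H) {a x u : G} (ha : a ∈ A) (hx : x ∈ L)
    (hu : u ∈ H a) : x * u * x⁻¹ ∈ H (x * a * x⁻¹) := by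
  have hb := hD.conj_mem x hx a ha
  refine mem_of_coprime hD hb (Subgroup.mem_centralizer_singleton_iff.mpr ?_) ?_
  · have := congrArg (fun t => x * t * x⁻¹) (comm_of_mem hD ha hu)
    simp only [← mul_assoc] at this ⊢
    simpa [mul_assoc] using this.symm
  · rw [show orderOf (x * u * x⁻¹) = orderOf u from
      orderOf_injective (MulAut.conj x).toMonoidHom (MulAut.conj x).injective u]
    exact (hD.coprime a ha _ hb).coprime_dvd_left (Subgroup.orderOf_dvd_natCard _ hu)

theorem exists_pow (hD : Cfsg.DadeHypothesis A L H) {a b u v : G} (ha : a ∈ A) (hb : b ∈ A)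
    (hu : u ∈ H a) (hv : v ∈ H b) : ∃ s : ℕ, (a * u) ^ s = a ∧ (b * v) ^ s = b := by
  obtain ⟨s, hs1, hs2⟩ := Nat.chineseRemainder
    (((hD.coprime a ha a ha).mul_left (hD.coprime b hb a ha)).symm.mul_left
      ((hD.coprime a ha b hb).mul_left (hD.coprime b hb b hb)).symm) 1 0
  have key : ∀ {c w : G}, c ∈ A → w ∈ H c →
      orderOf c ∣ Nat.card ↥(L ⊓ Subgroup.centralizer ({a} : Set G)) *
        Nat.card ↥(L ⊓ Subgroup.centralizer ({b} : Set G)) →
      orderOf w ∣ Nat.card (H a) * Nat.card (H b) → (c * w) ^ s = c := by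
    intro c w hc hw h1 h2
    rw [(show Commute c w from comm_of_mem hD hc hw).mul_pow,
      orderOf_dvd_iff_pow_eq_one.mp (h2.trans (Nat.modEq_zero_iff_dvd.mp hs2)), mul_one]
    conv_rhs => rw [← pow_one c]
    exact pow_eq_pow_iff_modEq.mpr (hs1.of_dvd h1)
  exact ⟨s, key ha hu (dvd_mul_of_dvd_left (Subgroup.orderOf_dvd_natCard _ (self_mem hD ha)) _)
      (dvd_mul_of_dvd_left (Subgroup.orderOf_dvd_natCard _ hu) _),
    key hb hv (dvd_mul_of_dvd_right (Subgroup.orderOf_dvd_natCard _ (self_mem hD hb)) _)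
      (dvd_mul_of_dvd_right (Subgroup.orderOf_dvd_natCard _ hv) _)⟩

theorem conj_eq (hD : Cfsg.DadeHypothesis A L H) {a b u v g : G} (ha : a ∈ A) (hb : b ∈ A)
    (hu : u ∈ H a) (hv : v ∈ H b) (h : g * (a * u) * g⁻¹ = b * v) : g * a * g⁻¹ = b := by
  obtain ⟨s, h1, h2⟩ := exists_pow hD ha hb hu hv
  rw [← h, conj_pow, h1] at h2
  exact h2

theorem fusion' (hD : Cfsg.DadeHypothesis A L H) {a b u v g : G} (ha : a ∈ A) (hb : b ∈ A)
    (hu : u ∈ H a) (hv : v ∈ H b) (h : g * (a * u) * g⁻¹ = b * v) :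
    ∃ x ∈ L, x * a * x⁻¹ = b := by
  have h1 := conj_eq hD ha hb hu hv h
  obtain ⟨x, hx, e⟩ := hD.fusion a ha g (h1 ▸ hb)
  exact ⟨x, hx, e.trans h1⟩

variable (A L H) in
/-- The union of the conjugates of the cosets `a * H a`. -/
def supp : Set G := {g | ∃ a : L, (a : G) ∈ A ∧ ∃ x : G, ∃ u ∈ H a, x * g * x⁻¹ = a * u}

omit [Finite G] in
theorem conj_mem_supp {g : G} (hg : g ∈ supp A L H) (y : G) : y * g * y⁻¹ ∈ supp A L H := by
  obtain ⟨a, ha, x, u, hu, e⟩ := hg
  exact ⟨a, ha, x * y⁻¹, u, hu, by rw [← e]; group⟩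

theorem dade_apply (hD : Cfsg.DadeHypothesis A L H) {α : L → ℂ}
    (hα : Cfsg.IsClassFunction L α) (a : L) (ha : (a : G) ∈ A) {x g u : G} (hu : u ∈ H a)
    (e : x * g * x⁻¹ = a * u) : Cfsg.dadeIsometry A L H α g = α a := by
  classical
  have hg : ∃ a : L, (a : G) ∈ A ∧ ∃ x : G, ∃ u ∈ H (a : G), x * g * x⁻¹ = (a : G) * u :=
    ⟨a, ha, x, u, hu, e⟩
  unfold Cfsg.dadeIsometry
  rw [dif_pos hg]
  obtain ⟨hb, y, v, hv, e'⟩ := Classical.choose_spec hg
  obtain ⟨l, hl, hle⟩ := fusion' hD ha hb hu hv (g := y * x⁻¹) (by rw [← e, ← e']; group)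
  rw [← hα a ⟨l, hl⟩]
  exact congrArg α (Subtype.ext hle.symm)

omit [Finite G] in
theorem dade_eq_zero {α : L → ℂ} {g : G} (hg : g ∉ supp A L H) :
    Cfsg.dadeIsometry A L H α g = 0 := by
  unfold Cfsg.dadeIsometry
  exact dif_neg hg

theorem dade_isClassFunction (hD : Cfsg.DadeHypothesis A L H) {α : L → ℂ}
    (hα : Cfsg.IsClassFunction L α) : Cfsg.IsClassFunction G (Cfsg.dadeIsometry A L H α) := by
  intro g y
  by_cases hg : g ∈ supp A L H
  · obtain ⟨a, ha, x, u, hu, e⟩ := hg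
    rw [dade_apply hD hα a ha hu e, dade_apply hD hα a ha hu (x := x * y⁻¹) (by rw [← e]; group)]
  · rw [dade_eq_zero hg, dade_eq_zero fun h => hg (by
      have := conj_mem_supp h y⁻¹
      simpa [mul_assoc] using this)]

theorem dade_conj (hD : Cfsg.DadeHypothesis A L H) {α : L → ℂ}
    (hα : Cfsg.IsClassFunction L α) :
    Cfsg.dadeIsometry A L H (fun x => conj (α x)) =
      fun g => conj (Cfsg.dadeIsometry A L H α g) := by
  funext g
  by_cases hg : g ∈ supp A L H
  · obtain ⟨a, ha, x, u, hu, e⟩ := hg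
    rw [dade_apply hD hα a ha hu e, dade_apply hD (α := fun x => conj (α x))
      (fun p q => by simp [hα p q]) a ha hu e]
  · rw [dade_eq_zero hg, dade_eq_zero hg, map_zero]

open scoped Classical in
/-- The basic counting formula for sums over the support. -/
theorem sum_supp [Fintype G] [Fintype L] (hD : Cfsg.DadeHypothesis A L H) {M : Type*} [Field M]
    [CharZero M] (F : G → M) (hF : ∀ g y : G, F (y * g * y⁻¹) = F g) :
    (Nat.card L : M) * ∑ g ∈ Finset.univ.filter (· ∈ supp A L H), F g =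
      (Nat.card G : M) * ∑ a ∈ Finset.univ.filter (fun a : L => (a : G) ∈ A),
        (Nat.card (H a) : M)⁻¹ * ∑ u : H a, F ((a : G) * u) := by
  set As := Finset.univ.filter (fun a : L => (a : G) ∈ A) with hAs
  let cnt : L → G → M := fun a g =>
    ∑ x : G, if ∃ u ∈ H a, x * g * x⁻¹ = (a : G) * u then 1 else 0
  have hC : ∀ a : L, ∑ g : G, cnt a g * F g = (Nat.card G : M) * ∑ u : H a, F ((a : G) * u) := by
    intro a
    simp only [cnt, Finset.sum_mul]
    rw [Finset.sum_comm]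
    have hx : ∀ x : G,
        ∑ g : G, (if ∃ u ∈ H a, x * g * x⁻¹ = (a : G) * u then (1 : M) else 0) * F g =
          ∑ u : H a, F ((a : G) * u) := by
      intro x
      simp only [ite_mul, one_mul, zero_mul, ← Finset.sum_filter]
      symm
      refine Finset.sum_bij (fun u _ => x⁻¹ * ((a : G) * u) * x) (fun u _ => ?_) (fun u _ v _ h => ?_)
        (fun g hg => ?_) (fun u _ => ?_)
      · exact Finset.mem_filter.mpr ⟨Finset.mem_univ _, u, u.2, by group⟩
      · exact Subtype.ext (mul_left_cancel (mul_left_cancel (mul_right_cancel h)))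
      · obtain ⟨u, hu, e⟩ := (Finset.mem_filter.mp hg).2
        exact ⟨⟨u, hu⟩, Finset.mem_univ _, by rw [← e]; group⟩
      · have := hF ((a : G) * u) x⁻¹
        rw [inv_inv] at this
        exact this.symm
    rw [Finset.sum_congr rfl fun x _ => hx x, Finset.sum_const, Finset.card_univ, nsmul_eq_mul,
      Nat.card_eq_fintype_card]
  have hB : ∀ g : G, ∑ a ∈ As, (Nat.card (H a) : M)⁻¹ * cnt a g =
      if g ∈ supp A L H then (Nat.card L : M) else 0 := by
    intro g
    by_cases hg : g ∈ supp A L H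
    · rw [if_pos hg]
      obtain ⟨a₀, ha₀, x₀, u₀, hu₀, e₀⟩ := hg
      set O := Finset.univ.image (fun l : L => l * a₀ * l⁻¹) with hO
      have hsub : O ⊆ As := fun a ha => by
        obtain ⟨l, -, rfl⟩ := Finset.mem_image.mp ha
        exact Finset.mem_filter.mpr ⟨Finset.mem_univ _, by
          simpa using hD.conj_mem l l.2 a₀ ha₀⟩
      rw [← Finset.sum_subset hsub fun a ha hn => by
        rw [show cnt a g = 0 from Finset.sum_eq_zero fun x _ => if_neg fun ⟨u, hu, e⟩ => hn ?_,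
          mul_zero]
        obtain ⟨l, hl, hle⟩ := fusion' hD ha₀ (Finset.mem_filter.mp ha).2 hu₀ hu (g := x * x₀⁻¹)
          (by rw [← e, ← e₀]; group)
        exact Finset.mem_image.mpr ⟨⟨l, hl⟩, Finset.mem_univ _, Subtype.ext hle⟩]
      rw [show (Nat.card L : M) = ((Finset.univ : Finset L).card : M) by
          rw [Finset.card_univ, Nat.card_eq_fintype_card],
        Finset.card_eq_sum_card_image (fun l : L => l * a₀ * l⁻¹) Finset.univ, Nat.cast_sum]
      refine Finset.sum_congr rfl fun a ha => ?_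
      obtain ⟨l₀, -, hl₀⟩ := Finset.mem_image.mp ha
      have haA : (a : G) ∈ A := (Finset.mem_filter.mp (hsub ha)).2
      have hal : (l₀ : G) * (a₀ : G) * (l₀ : G)⁻¹ = a := by simpa using congrArg Subtype.val hl₀
      have hu₁ : (l₀ : G) * u₀ * (l₀ : G)⁻¹ ∈ H a := hal ▸ conj_mem_H' hD ha₀ l₀.2 hu₀
      set x₁ := (l₀ : G) * x₀ with hx₁
      have he₁ : x₁ * g * x₁⁻¹ = (a : G) * ((l₀ : G) * u₀ * (l₀ : G)⁻¹) := by
        rw [hx₁, ← hal, show (l₀ : G) * x₀ * g * ((l₀ : G) * x₀)⁻¹ =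
          (l₀ : G) * (x₀ * g * x₀⁻¹) * (l₀ : G)⁻¹ by group, e₀]
        group
      have hcnt : cnt a g = (Nat.card (Subgroup.centralizer ({(a : G)} : Set G)) : M) := by
        simp only [cnt, Finset.sum_boole, Nat.card_eq_fintype_card, Fintype.card_subtype]
        congr 1
        refine Finset.card_equiv (Equiv.mulRight x₁⁻¹) fun x => ?_
        simp only [Finset.mem_filter, Finset.mem_univ, true_and, Equiv.coe_mulRight,
          Subgroup.mem_centralizer_singleton_iff]
        constructor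
        · rintro ⟨u, hu, e⟩
          have := conj_eq hD haA haA hu₁ hu (g := x * x₁⁻¹) (by rw [← e, ← he₁]; group)
          exact mul_inv_eq_iff_eq_mul.mp this
        · intro hy
          refine ⟨x * x₁⁻¹ * ((l₀ : G) * u₀ * (l₀ : G)⁻¹) * (x * x₁⁻¹)⁻¹,
            hD.conj_mem_H a haA _ (Subgroup.mem_centralizer_singleton_iff.mpr hy) _ hu₁, ?_⟩
          rw [show x * g * x⁻¹ = x * x₁⁻¹ * (x₁ * g * x₁⁻¹) * (x * x₁⁻¹)⁻¹ by group, he₁,
            show x * x₁⁻¹ * ((a : G) * ((l₀ : G) * u₀ * (l₀ : G)⁻¹)) * (x * x₁⁻¹)⁻¹ =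
              (x * x₁⁻¹ * (a : G)) * ((l₀ : G) * u₀ * (l₀ : G)⁻¹) * (x * x₁⁻¹)⁻¹ by group, hy]
          group
      rw [hcnt, card_centralizer hD haA, Nat.cast_mul, ← mul_assoc,
        inv_mul_cancel₀ (Nat.cast_ne_zero.mpr Nat.card_pos.ne'), one_mul]
      congr 1
      rw [Nat.card_eq_fintype_card, ← Finset.card_univ]
      refine Finset.card_bij (fun c _ => ⟨(c : G), c.2.1⟩ * l₀) (fun c _ => ?_)
        (fun c _ d _ h => ?_) (fun l hl => ?_)
      · refine Finset.mem_filter.mpr ⟨Finset.mem_univ _, Subtype.ext ?_⟩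
        have hc := Subgroup.mem_centralizer_singleton_iff.mp c.2.2
        simp only [Subgroup.coe_mul, Subgroup.coe_inv, mul_inv_rev]
        rw [show (c : G) * l₀ * a₀ * ((l₀ : G)⁻¹ * (c : G)⁻¹) =
          (c : G) * ((l₀ : G) * a₀ * (l₀ : G)⁻¹) * (c : G)⁻¹ by group, hal, hc,
          mul_inv_cancel_right]
      · have := congrArg Subtype.val (mul_right_cancel h)
        exact Subtype.ext this
      · have hl' : (l : G) * a₀ * (l : G)⁻¹ = a := by
          simpa using congrArg Subtype.val (Finset.mem_filter.mp hl).2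
        refine ⟨⟨(l : G) * (l₀ : G)⁻¹, L.mul_mem l.2 (L.inv_mem l₀.2),
          Subgroup.mem_centralizer_singleton_iff.mpr ?_⟩, Finset.mem_univ _, Subtype.ext (by simp)⟩
        have h2 : (l : G) * (l₀ : G)⁻¹ * a = (l : G) * a₀ * (l₀ : G)⁻¹ := by
          rw [← hal]; group
        rw [h2]
        conv_rhs => rw [← hl']
        group
    · rw [if_neg hg]
      refine Finset.sum_eq_zero fun a ha => ?_
      rw [show cnt a g = 0 from Finset.sum_eq_zero fun x _ => if_neg fun ⟨u, hu, e⟩ =>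
        hg ⟨a, (Finset.mem_filter.mp ha).2, x, u, hu, e⟩, mul_zero]
  calc (Nat.card L : M) * ∑ g ∈ Finset.univ.filter (· ∈ supp A L H), F g
      = ∑ g : G, (if g ∈ supp A L H then (Nat.card L : M) else 0) * F g := by
        rw [Finset.mul_sum, Finset.sum_filter]
        refine Finset.sum_congr rfl fun g _ => ?_
        split_ifs <;> simp
    _ = ∑ a ∈ As, (Nat.card (H a) : M)⁻¹ * ∑ g : G, cnt a g * F g := by
        simp only [← hB, Finset.sum_mul, Finset.mul_sum, mul_assoc]
        exact Finset.sum_comm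
    _ = _ := by
        rw [Finset.mul_sum]
        refine Finset.sum_congr rfl fun a _ => ?_
        rw [hC]; ring

open scoped Classical in
/-- Inner products with a Dade image, in terms of coset averages. -/
theorem classInner_dade [Fintype G] [Fintype L] (hD : Cfsg.DadeHypothesis A L H) {α : L → ℂ}
    (hα : Cfsg.IsClassFunction L α) {χ : G → ℂ} (hχ : Cfsg.IsClassFunction G χ) :
    Cfsg.classInner (Cfsg.dadeIsometry A L H α) χ = (Nat.card L : ℂ)⁻¹ *
      ∑ a ∈ Finset.univ.filter (fun a : L => (a : G) ∈ A),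
        α a * conj ((Nat.card (H a) : ℂ)⁻¹ * ∑ u : H a, χ ((a : G) * u)) := by
  have hn : (Nat.card G : ℂ) ≠ 0 := Nat.cast_ne_zero.mpr Nat.card_pos.ne'
  have hl : (Nat.card L : ℂ) ≠ 0 := Nat.cast_ne_zero.mpr Nat.card_pos.ne'
  have key := sum_supp hD (fun g => Cfsg.dadeIsometry A L H α g * conj (χ g)) fun g y => by
    simp only [dade_isClassFunction hD hα g y, hχ g y]
  have hr : ∀ a : L, (a : G) ∈ A →
      (Nat.card (H a) : ℂ)⁻¹ *
        ∑ u : H a, Cfsg.dadeIsometry A L H α ((a : G) * u) * conj (χ ((a : G) * u)) =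
      α a * conj ((Nat.card (H a) : ℂ)⁻¹ * ∑ u : H a, χ ((a : G) * u)) := by
    intro a ha
    rw [Finset.sum_congr rfl fun u _ => by
      rw [dade_apply hD hα a ha u.2 (x := 1) (g := (a : G) * u) (by simp)], ← Finset.mul_sum,
      map_mul, map_sum, map_inv₀, map_natCast]
    ring
  rw [Finset.sum_congr rfl fun a ha => hr a (Finset.mem_filter.mp ha).2] at key
  have h2 : Cfsg.classInner (Cfsg.dadeIsometry A L H α) χ = (Nat.card G : ℂ)⁻¹ *
      ∑ g ∈ Finset.univ.filter (· ∈ supp A L H),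
        Cfsg.dadeIsometry A L H α g * conj (χ g) := by
    rw [Cfsg.classInner, Finset.sum_filter_of_ne]
    intro g _ hg
    by_contra h
    exact hg (by rw [dade_eq_zero h, zero_mul])
  rw [h2, inv_mul_eq_iff_eq_mul₀ hn, mul_left_comm, eq_inv_mul_iff_mul_eq₀ hl]
  exact key

open scoped Classical in
theorem classInner_dade' [Fintype G] [Fintype L] (hD : Cfsg.DadeHypothesis A L H) {α : L → ℂ}
    (hα : Cfsg.IsClassFunction L α) (hαA : ∀ x : L, (x : G) ∉ A → α x = 0) {χ : G → ℂ}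
    (hχ : Cfsg.IsClassFunction G χ) (ψ : L → ℂ)
    (hψ : ∀ a : L, (a : G) ∈ A →
      ψ a = (Nat.card (H a) : ℂ)⁻¹ * ∑ u : H a, χ ((a : G) * u)) :
    Cfsg.classInner (Cfsg.dadeIsometry A L H α) χ = Cfsg.classInner α ψ := by
  rw [classInner_dade hD hα hχ, Cfsg.classInner]
  congr 1
  rw [← Finset.sum_filter_of_ne (s := (Finset.univ : Finset L)) (p := fun a : L => (a : G) ∈ A)
    fun a _ h => by by_contra hn; exact h (by rw [hαA a hn, zero_mul])]
  exact Finset.sum_congr rfl fun a ha => by rw [hψ a (Finset.mem_filter.mp ha).2]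

/-- The Dade map is an isometry on class functions supported on `A`. -/
theorem classInner_dade_dade [Fintype G] [Fintype L] (hD : Cfsg.DadeHypothesis A L H)
    {α β : L → ℂ} (hα : Cfsg.IsClassFunction L α) (hαA : ∀ x : L, (x : G) ∉ A → α x = 0)
    (hβ : Cfsg.IsClassFunction L β) :
    Cfsg.classInner (Cfsg.dadeIsometry A L H α) (Cfsg.dadeIsometry A L H β) =
      Cfsg.classInner α β := by
  classical
  refine classInner_dade' hD hα hαA (dade_isClassFunction hD hβ) β fun a ha => ?_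
  have h : ∀ u : H (a : G), Cfsg.dadeIsometry A L H β ((a : G) * u) = β a := fun u =>
    dade_apply hD hβ a ha u.2 (x := 1) (g := (a : G) * u) (by simp)
  rw [Finset.sum_congr rfl fun u _ => h u, Finset.sum_const, Finset.card_univ, nsmul_eq_mul,
    ← Nat.card_eq_fintype_card, ← mul_assoc,
    inv_mul_cancel₀ (Nat.cast_ne_zero.mpr Nat.card_pos.ne'), one_mul]

end CfsgLib.Char.Dade
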