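import Cfsg.Agent.Lib.Char.Dade
import Mathlib.LinearAlgebra.Trace

/-!
# The Dade isometry takes generalized characters to generalized characters
-/

set_option autoImplicit false

open scoped ComplexConjugate

namespace CfsgLib.Char.Dade

/-- Averaging over a normalised subgroup gives a character of the normalising subgroup. -/
theorem isCharacter_avg {G : Type*} [Group G] [Finite G] {θ : G → ℂ}
    (hθ : Cfsg.IsCharacter G θ) {N : Type*} [Group N] [Finite N] (f : N →* G) (K : Subgroup G)
    [Fintype K] (hK : ∀ n : N, ∀ u ∈ K, f n * u * (f n)⁻¹ ∈ K) :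
    Cfsg.IsCharacter N fun n => (Nat.card K : ℂ)⁻¹ * ∑ u : K, θ ((u : G) * f n) := by
  obtain ⟨d, ρ, rfl⟩ := hθ
  set e : Module.End ℂ (Fin d → ℂ) := (Nat.card K : ℂ)⁻¹ • ∑ u : K, ρ u with he
  have hk : (Nat.card K : ℂ) ≠ 0 := Nat.cast_ne_zero.mpr Nat.card_pos.ne'
  have hu : ∀ u : K, ρ (u : G) * e = e := fun u => by
    rw [he, mul_smul_comm, Finset.mul_sum]
    congr 1
    exact Fintype.sum_equiv (Equiv.mulLeft u) _ _ fun v => by simp
  have hcomm : ∀ n : N, ρ (f n) * e = e * ρ (f n) := fun n => by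
    rw [he, mul_smul_comm, smul_mul_assoc, Finset.mul_sum, Finset.sum_mul]
    congr 1
    refine Fintype.sum_bijective (fun v : K => (⟨f n * v * (f n)⁻¹, hK n v v.2⟩ : K))
      ((Finite.injective_iff_bijective).mp fun v w h => Subtype.ext
        (mul_left_cancel (mul_right_cancel (congrArg Subtype.val h)))) _ _ fun v => ?_
    rw [← map_mul, ← map_mul]
    congr 1
    simp [mul_assoc]
  have hee : ∀ x, e (e x) = e x := fun x => by
    have : e * e = e := by
      conv_lhs => enter [1]; rw [he]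
      rw [smul_mul_assoc, Finset.sum_mul, Finset.sum_congr rfl fun u _ => hu u, Finset.sum_const,
        Finset.card_univ, ← Nat.cast_smul_eq_nsmul ℂ, smul_smul, ← Nat.card_eq_fintype_card,
        inv_mul_cancel₀ hk, one_smul]
    exact DFunLike.congr_fun this x
  let p : Submodule ℂ (Fin d → ℂ) := e.range
  have hp : ∀ (n : N) x, x ∈ p → ρ (f n) x ∈ p := by
    rintro n _ ⟨x, rfl⟩
    exact ⟨ρ (f n) x, (DFunLike.congr_fun (hcomm n) x).symm⟩
  let σ : Representation ℂ N p :=
    { toFun := fun n => (ρ (f n)).restrict (hp n)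
      map_one' := LinearMap.ext fun x => Subtype.ext (by simp)
      map_mul' := fun a b => LinearMap.ext fun x => Subtype.ext (by simp) }
  have hσ : ∀ n, σ.character n = (Nat.card K : ℂ)⁻¹ * ∑ u : K, ρ.character ((u : G) * f n) := by
    intro n
    let g : (Fin d → ℂ) →ₗ[ℂ] p := (ρ (f n) * e).codRestrict p fun x =>
      hp n _ ⟨x, rfl⟩
    have h1 : g ∘ₗ p.subtype = σ n := LinearMap.ext fun x => Subtype.ext (by
      obtain ⟨y, hy⟩ := x.2
      show ρ (f n) (e (x : Fin d → ℂ)) = ρ (f n) (x : Fin d → ℂ)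
      rw [← hy, hee])
    have h2 : p.subtype ∘ₗ g = ρ (f n) * e := LinearMap.ext fun x => rfl
    show LinearMap.trace ℂ p (σ n) = _
    rw [← h1, LinearMap.trace_comp_comm', h2, hcomm, he, smul_mul_assoc, Finset.sum_mul,
      map_smul, map_sum, smul_eq_mul]
    congr 1
    exact Finset.sum_congr rfl fun u _ => by rw [← map_mul]; rfl
  rw [show (fun n => (Nat.card K : ℂ)⁻¹ * ∑ u : K, ρ.character ((u : G) * f n)) = σ.character from
    funext fun n => (hσ n).symm]
  exact isCharacter_of_rep σ

/-- An invariant integral weighting by stabiliser orders sums to a multiple of the group order. -/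
theorem exists_int_sum_stab {L X : Type*} [Group L] [Finite L] [MulAction L X] (s : Finset X)
    (hs : ∀ (l : L), ∀ x ∈ s, l • x ∈ s) (Q : X → ℂ) (hinv : ∀ (l : L), ∀ x ∈ s, Q (l • x) = Q x)
    (hint : ∀ x ∈ s, ∃ z : ℤ, Q x = z * (Nat.card (MulAction.stabilizer L x) : ℂ)) :
    ∃ z : ℤ, ∑ x ∈ s, Q x = z * (Nat.card L : ℂ) := by
  classical
  set O : X → Finset X := fun x => s.filter fun y => y ∈ MulAction.orbit L x with hO
  have hfib : ∀ o ∈ s.image O, ∃ z : ℤ,
      ∑ x ∈ s.filter (fun x => O x = o), Q x = z * (Nat.card L : ℂ) := by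
    intro o ho
    obtain ⟨x₀, hx₀, rfl⟩ := Finset.mem_image.mp ho
    obtain ⟨z, hz⟩ := hint x₀ hx₀
    refine ⟨z, ?_⟩
    have hfe : s.filter (fun x => O x = O x₀) = O x₀ := by
      ext x
      simp only [hO, Finset.mem_filter]
      constructor
      · rintro ⟨hx, e⟩
        refine ⟨hx, ?_⟩
        have : x ∈ s.filter fun y => y ∈ MulAction.orbit L x :=
          Finset.mem_filter.mpr ⟨hx, MulAction.mem_orbit_self x⟩
        rw [e] at this
        exact (Finset.mem_filter.mp this).2
      · rintro ⟨hx, hm⟩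
        exact ⟨hx, by rw [MulAction.orbit_eq_iff.mpr hm]⟩
    rw [hfe, Finset.sum_congr rfl (g := fun _ => Q x₀) fun x hx => by
      obtain ⟨l, rfl⟩ := (Finset.mem_filter.mp hx).2
      exact hinv l x₀ hx₀, Finset.sum_const, nsmul_eq_mul, hz]
    have hset : (O x₀ : Set X) = MulAction.orbit L x₀ := by
      ext x
      simp only [hO, Finset.coe_filter, Set.mem_ofPred_eq, and_iff_right_iff_imp]
      rintro ⟨l, rfl⟩
      exact hs l x₀ hx₀
    have hc : (O x₀).card = Nat.card (MulAction.orbit L x₀) := by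
      rw [← hset, Nat.card_coe_set_eq, Set.ncard_coe_finset]
    have hL : Nat.card L = Nat.card (MulAction.orbit L x₀) *
        Nat.card (MulAction.stabilizer L x₀) := by
      rw [← Nat.card_prod]
      exact (Nat.card_congr (MulAction.orbitProdStabilizerEquivGroup L x₀)).symm
    rw [hc, hL, Nat.cast_mul]
    ring
  choose z hz using hfib
  refine ⟨∑ o ∈ (s.image O).attach, z o.1 o.2, ?_⟩
  rw [← Finset.sum_fiberwise_of_maps_to (g := O) (t := s.image O)
    (fun x hx => Finset.mem_image_of_mem O hx), ← Finset.sum_attach, Int.cast_sum, Finset.sum_mul]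
  exact Finset.sum_congr rfl fun o _ => hz o.1 o.2

open scoped Classical in
/-- On a coset `K n` with `n` acting coprimely, the average of a class function only depends on the
elements centralised by `n`. -/
theorem avg_coset_eq {G : Type*} [Group G] [Fintype G] {θ : G → ℂ}
    (hθ : Cfsg.IsClassFunction G θ) (K C : Subgroup G) (n : G)
    (hC : ∀ u, u ∈ C ↔ u ∈ K ∧ u * n = n * u) (hn : n ∈ Subgroup.normalizer (K : Set G))
    (hcop : Nat.Coprime (orderOf n) (Nat.card K)) :
    (Nat.card K : ℂ)⁻¹ * ∑ u : K, θ ((u : G) * n) =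
      (Nat.card C : ℂ)⁻¹ * ∑ u : C, θ ((u : G) * n) := by
  have hK : (Nat.card K : ℂ) ≠ 0 := Nat.cast_ne_zero.mpr Nat.card_pos.ne'
  have hC' : (Nat.card C : ℂ) ≠ 0 := Nat.cast_ne_zero.mpr Nat.card_pos.ne'
  let Φ : K × C → K := fun p => ⟨(p.1 : G) * ((p.2 : G) * n) * (p.1 : G)⁻¹ * n⁻¹, by
    have h1 : (p.1 : G) * ((p.2 : G) * n) * (p.1 : G)⁻¹ * n⁻¹ =
        (p.1 : G) * (p.2 : G) * (n * (p.1 : G)⁻¹ * n⁻¹) := by group
    rw [h1]
    exact K.mul_mem (K.mul_mem p.1.2 ((hC _).mp p.2.2).1)
      ((Subgroup.mem_normalizer_iff.mp hn _).mp (K.inv_mem p.1.2))⟩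
  have hfib : ∀ h : K, (Finset.univ.filter fun p => Φ p = h).card = Nat.card C := by
    intro h
    obtain ⟨x, hx, c, hc, hcn, e⟩ := exists_conj_commuting K n hn hcop h h.2
    rw [Nat.card_eq_fintype_card, ← Finset.card_univ]
    symm
    refine Finset.card_bij (fun z _ => ((⟨x⁻¹ * z, K.mul_mem (K.inv_mem hx) ((hC _).mp z.2).1⟩ : K),
      (⟨(z : G)⁻¹ * c * z, C.mul_mem (C.mul_mem (C.inv_mem z.2) ((hC _).mpr ⟨hc, hcn⟩)) z.2⟩ : C)))
      (fun z _ => Finset.mem_filter.mpr ⟨Finset.mem_univ _, Subtype.ext ?_⟩)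
      (fun z _ w _ h' => Subtype.ext (mul_left_cancel
        (congrArg (fun p : K × C => (p.1 : G)) h'))) ?_
    · show x⁻¹ * (z : G) * ((z : G)⁻¹ * c * z * n) * (x⁻¹ * z)⁻¹ * n⁻¹ = (h : G)
      rw [show x⁻¹ * (z : G) * ((z : G)⁻¹ * c * z * n) * (x⁻¹ * z)⁻¹ * n⁻¹ =
        x⁻¹ * (c * ((z : G) * n) * (z : G)⁻¹) * x * n⁻¹ by group, ((hC _).mp z.2).2,
        show x⁻¹ * (c * (n * (z : G)) * (z : G)⁻¹) * x * n⁻¹ = x⁻¹ * (c * n) * x * n⁻¹ by group,
        ← e]
      group
    · rintro ⟨y, d⟩ hyd
      have hd := (Finset.mem_filter.mp hyd).2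
      have hd' : (y : G) * ((d : G) * n) * (y : G)⁻¹ * n⁻¹ = (h : G) := congrArg Subtype.val hd
      set z : G := x * (y : G) with hz
      have h3 : z * ((d : G) * n) * z⁻¹ = c * n := by
        rw [← e, ← hd', hz]; group
      obtain ⟨s, hs1, hs2⟩ := Nat.chineseRemainder hcop 1 0
      have hp : ∀ w : G, w ∈ C → (w * n) ^ s = n := fun w hw => by
        rw [(show Commute w n from ((hC w).mp hw).2).mul_pow,
          orderOf_dvd_iff_pow_eq_one.mp ((Subgroup.orderOf_dvd_natCard _ ((hC w).mp hw).1).trans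
            (Nat.modEq_zero_iff_dvd.mp hs2)), one_mul]
        conv_rhs => rw [← pow_one n]
        exact pow_eq_pow_iff_modEq.mpr hs1
      have h4 : z * n * z⁻¹ = n := by
        have h5 := congrArg (· ^ s) h3
        simp only [conj_pow] at h5
        rwa [hp _ d.2, hp _ ((hC _).mpr ⟨hc, hcn⟩)] at h5
      have hzC : z ∈ C := (hC _).mpr ⟨K.mul_mem hx y.2, mul_inv_eq_iff_eq_mul.mp h4⟩
      refine ⟨⟨z, hzC⟩, Finset.mem_univ _, Prod.ext (Subtype.ext ?_) (Subtype.ext ?_)⟩
      · show x⁻¹ * z = (y : G)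
        rw [hz]; group
      · show z⁻¹ * c * z = (d : G)
        have h6 : c = z * (d : G) * z⁻¹ := by
          have h7 : z * (d : G) * z⁻¹ * (z * n * z⁻¹) = c * n := by rw [← h3]; group
          rw [h4] at h7
          exact (mul_right_cancel h7).symm
        rw [h6]; group
  have hsum : ∑ p : K × C, θ ((Φ p : G) * n) = (Nat.card C : ℂ) * ∑ u : K, θ ((u : G) * n) := by
    rw [← Finset.sum_fiberwise Finset.univ Φ, Finset.mul_sum]
    refine Finset.sum_congr rfl fun h _ => ?_
    rw [Finset.sum_congr rfl fun p hp => by rw [(Finset.mem_filter.mp hp).2], Finset.sum_const,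
      hfib, nsmul_eq_mul]
  have hsum' : ∑ p : K × C, θ ((Φ p : G) * n) = (Nat.card K : ℂ) * ∑ u : C, θ ((u : G) * n) := by
    have hterm : ∀ p : K × C, θ ((Φ p : G) * n) = θ ((p.2 : G) * n) := fun p => by
      show θ ((p.1 : G) * ((p.2 : G) * n) * (p.1 : G)⁻¹ * n⁻¹ * n) = _
      rw [inv_mul_cancel_right, hθ]
    rw [Fintype.sum_prod_type, Finset.sum_congr rfl fun y _ =>
      Finset.sum_congr rfl fun d _ => hterm (y, d)]
    simp [Nat.card_eq_fintype_card]
  rw [inv_mul_eq_iff_eq_mul₀ hK, mul_left_comm, eq_inv_mul_iff_mul_eq₀ hC']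
  exact hsum.symm.trans hsum'

variable {G : Type*} [Group G] [Fintype G] {A : Set G} {L : Subgroup G} {H : G → Subgroup G}

open scoped Classical in
/-- Dade's theorem: generalized characters supported on `A` go to generalized characters. -/
theorem isGeneralizedCharacter_dade [Fintype L] (hD : Cfsg.DadeHypothesis A L H) {α : L → ℂ}
    (hα : Cfsg.IsGeneralizedCharacter L α) (hαA : ∀ x : L, (x : G) ∉ A → α x = 0) :
    Cfsg.IsGeneralizedCharacter G (Cfsg.dadeIsometry A L H α) := by
  have hαc := IsGeneralizedCharacter.isClassFunction hα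
  refine isGeneralizedCharacter_iff.mpr ⟨dade_isClassFunction hD hαc, fun θ hθ => ?_⟩
  have hθc := IsIrrCharacter.isClassFunction hθ
  letI : MulAction L (Finset L) :=
    { smul := fun l B => B.map (MulAut.conj l).toEquiv.toEmbedding
      one_smul := fun B => by
        show B.map (MulAut.conj (1 : L)).toEquiv.toEmbedding = B
        ext x
        rw [Finset.mem_map_equiv]
        simp [MulAut.one_def]
      mul_smul := fun a b B => by
        show B.map (MulAut.conj (a * b)).toEquiv.toEmbedding =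
          (B.map (MulAut.conj b).toEquiv.toEmbedding).map (MulAut.conj a).toEquiv.toEmbedding
        rw [Finset.map_map]
        congr 1
        ext x; simp [mul_assoc] }
  have hmem : ∀ (l : L) (B : Finset L) (y : L), y ∈ l • B ↔ l⁻¹ * y * l ∈ B := fun l B y => by
    show y ∈ B.map (MulAut.conj l).toEquiv.toEmbedding ↔ _
    rw [Finset.mem_map_equiv]
    simp
  set S := Finset.univ.filter fun B : Finset L => B.Nonempty ∧ ∀ b ∈ B, (b : G) ∈ A with hS
  let HB : Finset L → Subgroup G := fun B => ⨅ b ∈ B, H (b : G)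
  have hHB : ∀ (B : Finset L) (u : G), u ∈ HB B ↔ ∀ b ∈ B, u ∈ H (b : G) := fun B u => by
    simp [HB, Subgroup.mem_iInf]
  let Φ : Finset L → L → ℂ := fun B n =>
    (Nat.card (HB B) : ℂ)⁻¹ * ∑ u : HB B, θ ((u : G) * n)
  have hHBconj : ∀ (l : L) (B : Finset L), (∀ b ∈ B, (b : G) ∈ A) → ∀ u : G, u ∈ HB B →
      (l : G) * u * (l : G)⁻¹ ∈ HB (l • B) := by
    intro l B hB u hu
    rw [hHB] at hu ⊢
    intro b hb
    rw [hmem] at hb
    have := conj_mem_H' hD (hB _ hb) l.2 (hu _ hb)
    simpa [mul_assoc] using this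
  have hAconj : ∀ (l : L) (B : Finset L), (∀ b ∈ B, (b : G) ∈ A) →
      ∀ b ∈ l • B, (b : G) ∈ A := by
    intro l B hB b hb
    rw [hmem] at hb
    have := hD.conj_mem l l.2 _ (hB _ hb)
    simpa [mul_assoc] using this
  have hΦconj : ∀ (l : L) (B : Finset L), (∀ b ∈ B, (b : G) ∈ A) → ∀ n : L,
      Φ (l • B) (l * n * l⁻¹) = Φ B n := by
    intro l B hB n
    have hback : ∀ u, u ∈ HB (l • B) → (l : G)⁻¹ * u * (l : G) ∈ HB B := fun u hu => by
      have := hHBconj l⁻¹ (l • B) (hAconj l B hB) u hu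
      rw [inv_smul_smul] at this
      simpa using this
    let e : HB B ≃ HB (l • B) :=
      { toFun := fun u => ⟨(l : G) * u * (l : G)⁻¹, hHBconj l B hB u u.2⟩
        invFun := fun u => ⟨(l : G)⁻¹ * u * (l : G), hback u u.2⟩
        left_inv := fun u => Subtype.ext (by simp [mul_assoc])
        right_inv := fun u => Subtype.ext (by simp [mul_assoc]) }
    simp only [Φ]
    rw [Nat.card_congr e]
    congr 1
    refine (Fintype.sum_equiv e _ _ fun u => ?_).symm
    rw [← hθc ((u : G) * n) l]
    congr 1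
    simp [e, mul_assoc]
  let Q : Finset L → ℂ := fun B =>
    (-1 : ℂ) ^ B.card * ∑ n ∈ Finset.univ.filter (fun n : L => n • B = B), α n * conj (Φ B n)
  have hsmulS : ∀ (l : L), ∀ B ∈ S, l • B ∈ S := fun l B hB => by
    obtain ⟨hne, hBA⟩ := (Finset.mem_filter.mp hB).2
    exact Finset.mem_filter.mpr ⟨Finset.mem_univ _, hne.map, hAconj l B hBA⟩
  have hQinv : ∀ (l : L), ∀ B ∈ S, Q (l • B) = Q B := by
    intro l B hB
    obtain ⟨-, hBA⟩ := (Finset.mem_filter.mp hB).2
    simp only [Q]
    rw [show (l • B).card = B.card from Finset.card_map _]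
    congr 1
    symm
    refine Finset.sum_equiv (MulAut.conj l).toEquiv (fun n => ?_) fun n _ => ?_
    · simp only [Finset.mem_filter, Finset.mem_univ, true_and, MulEquiv.toEquiv_eq_coe,
        EquivLike.coe_coe, MulAut.conj_apply, mul_smul, inv_smul_smul]
      exact (smul_left_cancel_iff l).symm
    · simp only [MulEquiv.toEquiv_eq_coe, EquivLike.coe_coe, MulAut.conj_apply]
      rw [hαc n l, hΦconj l B hBA n]
  have hQint : ∀ B ∈ S, ∃ z : ℤ, Q B = z * (Nat.card (MulAction.stabilizer L B) : ℂ) := by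
    intro B hB
    obtain ⟨-, hBA⟩ := (Finset.mem_filter.mp hB).2
    set N := MulAction.stabilizer L B with hN
    have hψ : Cfsg.IsCharacter N (fun n => Φ B (n : L)) :=
      isCharacter_avg (IsIrrCharacter.isCharacter hθ) (L.subtype.comp N.subtype) (HB B)
        fun n u hu => by
          have := hHBconj n B hBA u hu
          rwa [MulAction.mem_stabilizer_iff.mp n.2] at this
    obtain ⟨a, b, ha, hb, hab⟩ := hα
    have hαN : Cfsg.IsGeneralizedCharacter N (fun n : N => α (n : L)) :=
      ⟨_, _, IsCharacter.restrict ha N, IsCharacter.restrict hb N,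
        funext fun n => by rw [hab]; rfl⟩
    obtain ⟨z, hz⟩ := IsGeneralizedCharacter.classInner_int hαN
      (IsCharacter.isGeneralizedCharacter hψ)
    refine ⟨(-1) ^ B.card * z, ?_⟩
    rw [Cfsg.classInner, inv_mul_eq_iff_eq_mul₀ (Nat.cast_ne_zero.mpr Nat.card_pos.ne')] at hz
    simp only [Q]
    push_cast
    rw [Finset.sum_subtype (p := fun n : L => n ∈ N)
      (Finset.univ.filter fun n : L => n • B = B) (fun n => by simp [hN]), hz]
    ring
  obtain ⟨z, hz⟩ := exists_int_sum_stab S hsmulS Q hQinv hQint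
  refine ⟨-z, ?_⟩
  rw [classInner_dade hD hαc hθc]
  have key : ∀ n : L, (n : G) ∈ A →
      ∑ B ∈ S.filter (fun B => n • B = B), (-1 : ℂ) ^ B.card * conj (Φ B n) =
        -conj ((Nat.card (H (n : G)) : ℂ)⁻¹ * ∑ u : H (n : G), θ ((n : G) * u)) := by
    intro n hn
    set T := S.filter (fun B => n • B = B) with hT
    have hfix : n⁻¹ * n * n = n := by simp
    have hsingle : ({n} : Finset L) ∈ T := by
      refine Finset.mem_filter.mpr ⟨Finset.mem_filter.mpr ⟨Finset.mem_univ _,
        Finset.singleton_nonempty n, fun b hb => (Finset.mem_singleton.mp hb) ▸ hn⟩, ?_⟩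
      show ({n} : Finset L).map (MulAut.conj n).toEquiv.toEmbedding = {n}
      simp
    have hred : ∀ B ∈ T, Φ B n = Φ (insert n B) n := by
      intro B hB
      obtain ⟨hBS, hBn⟩ := Finset.mem_filter.mp hB
      obtain ⟨⟨b, hb⟩, hBA⟩ := (Finset.mem_filter.mp hBS).2
      have hcopn : Nat.Coprime (orderOf (n : G)) (Nat.card (HB B)) :=
        ((hD.coprime b (hBA b hb) n hn).coprime_dvd_left (Subgroup.card_dvd_of_le
          fun u hu => (hHB B u).mp hu b hb)).symm.coprime_dvd_left
            (Subgroup.orderOf_dvd_natCard _ (self_mem hD hn))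
      simp only [Φ]
      refine avg_coset_eq hθc (HB B) (HB (insert n B)) n (fun u => ?_)
        (CfsgLib.Coprime.mem_normalizer_of_conj_map_le fun u hu => by
          have := hHBconj n B hBA u hu
          rwa [hBn] at this) hcopn
      rw [hHB, hHB, Finset.forall_mem_insert]
      constructor
      · rintro ⟨h1, h2⟩
        exact ⟨h2, (comm_of_mem hD hn h1).symm⟩
      · rintro ⟨h1, h2⟩
        refine ⟨mem_of_coprime hD hn (Subgroup.mem_centralizer_singleton_iff.mpr h2) ?_, h1⟩
        exact (hD.coprime b (hBA b hb) n hn).coprime_dvd_left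
          (Subgroup.orderOf_dvd_natCard _ (h1 b hb))
    rw [Finset.sum_congr rfl fun B hB => by rw [hred B hB],
      ← Finset.add_sum_erase _ _ hsingle]
    have hzero : ∑ B ∈ T.erase {n}, (-1 : ℂ) ^ B.card * conj (Φ (insert n B) n) = 0 := by
      let inv : Finset L → Finset L := fun B => if n ∈ B then B.erase n else insert n B
      have hins : ∀ B, B ∈ T.erase {n} → inv B ∈ T.erase {n} ∧ inv (inv B) = B ∧
          inv B ≠ B ∧
          (-1 : ℂ) ^ B.card * conj (Φ (insert n B) n) +
            (-1 : ℂ) ^ (inv B).card * conj (Φ (insert n (inv B)) n) = 0 := by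
        intro B hB
        obtain ⟨hne, hBT⟩ := Finset.mem_erase.mp hB
        obtain ⟨hBS, hBn⟩ := Finset.mem_filter.mp hBT
        obtain ⟨hBne, hBA⟩ := (Finset.mem_filter.mp hBS).2
        have hstab : ∀ y, y ∈ B ↔ n⁻¹ * y * n ∈ B := fun y => by
          conv_lhs => rw [← hBn]
          exact hmem n B y
        have hyn : ∀ y : L, n⁻¹ * y * n = n ↔ y = n := fun y => by
          constructor
          · intro h
            have := congrArg (fun t => n * t * n⁻¹) h
            simpa [mul_assoc] using this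
          · rintro rfl; simp
        by_cases hm : n ∈ B
        · simp only [inv, if_pos hm, Finset.notMem_erase, if_false, Finset.insert_erase hm]
          refine ⟨Finset.mem_erase.mpr ⟨fun h => ?_, Finset.mem_filter.mpr
            ⟨Finset.mem_filter.mpr ⟨Finset.mem_univ _, ?_, fun b hb =>
              hBA b (Finset.mem_of_mem_erase hb)⟩, ?_⟩⟩, trivial, ?_, ?_⟩
          · exact Finset.notMem_erase n B (h.symm ▸ Finset.mem_singleton_self n)
          · rw [Finset.erase_nonempty hm]
            exact (Finset.nontrivial_iff_ne_singleton hm).mpr hne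
          · ext y
            rw [hmem, Finset.mem_erase, Finset.mem_erase, ← hstab y, ne_eq, ne_eq, hyn y]
          · exact fun h => Finset.notMem_erase n B (h.symm ▸ hm)
          · rw [Finset.insert_eq_of_mem hm, ← Finset.card_erase_add_one hm, pow_succ]
            ring
        · simp only [inv, if_neg hm, Finset.mem_insert_self, if_true,
            Finset.erase_insert hm]
          refine ⟨Finset.mem_erase.mpr ⟨fun h => ?_, Finset.mem_filter.mpr
            ⟨Finset.mem_filter.mpr ⟨Finset.mem_univ _, Finset.insert_nonempty n B,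
              fun b hb => ?_⟩, ?_⟩⟩, trivial, ?_, ?_⟩
          · obtain ⟨b, hb⟩ := hBne
            have hbn : b = n := Finset.mem_singleton.mp (h ▸ Finset.mem_insert_of_mem hb)
            exact hm (hbn ▸ hb)
          · rcases Finset.mem_insert.mp hb with rfl | hb
            · exact hn
            · exact hBA b hb
          · ext y
            rw [hmem, Finset.mem_insert, Finset.mem_insert, ← hstab y, hyn y]
          · exact fun h => hm (h ▸ Finset.mem_insert_self n B)
          · rw [Finset.insert_idem, Finset.card_insert_of_notMem hm, pow_succ]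
            ring
      exact Finset.sum_involution (fun B _ => inv B) (fun B hB => (hins B hB).2.2.2)
        (fun B hB _ => (hins B hB).2.2.1) (fun B hB => (hins B hB).1)
        (fun B hB => (hins B hB).2.1)
    rw [hzero, add_zero, Finset.card_singleton, pow_one,
      show insert n ({n} : Finset L) = {n} from Finset.insert_eq_of_mem (Finset.mem_singleton_self n)]
    simp only [Φ]
    have hHn : HB {n} = H (n : G) := SetLike.ext fun u => by simp [hHB]
    rw [hHn, neg_one_mul]
    congr 3
    exact Finset.sum_congr rfl fun u _ => congrArg θ (comm_of_mem hD hn u.2).symm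
  have hswap : ∑ B ∈ S, Q B = -∑ n ∈ Finset.univ.filter (fun n : L => (n : G) ∈ A),
      α n * conj ((Nat.card (H (n : G)) : ℂ)⁻¹ * ∑ u : H (n : G), θ ((n : G) * u)) := by
    have hQ : ∀ B, Q B = ∑ n : L,
        (-1 : ℂ) ^ B.card * if n • B = B then α n * conj (Φ B n) else 0 := fun B => by
      simp only [Q, Finset.sum_filter, Finset.mul_sum]
    rw [Finset.sum_congr rfl fun B _ => hQ B, Finset.sum_comm, Finset.sum_filter, ← Finset.sum_neg_distrib]
    refine Finset.sum_congr rfl fun n _ => ?_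
    split_ifs with hn
    · rw [← mul_neg, ← key n hn, Finset.mul_sum]
      conv_rhs => rw [Finset.sum_filter]
      refine Finset.sum_congr rfl fun B _ => ?_
      split_ifs <;> ring
    · simp [hαA n hn]
  rw [hz, eq_neg_iff_add_eq_zero, add_eq_zero_iff_eq_neg'] at hswap
  rw [hswap, Int.cast_neg]
  have hL : (Nat.card L : ℂ) ≠ 0 := Nat.cast_ne_zero.mpr Nat.card_pos.ne'
  field_simp

end CfsgLib.Char.Dade
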