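import Cfsg.Agent.Lib.Char.ClassSum
import Cfsg.Agent.Lib.Char.Virtual
import Cfsg.Agent.Lib.Char.Induced
import Cfsg.Agent.Lib.Char.Linear
import Cfsg.Agent.Lib.Fusion.ThompsonTransfer
import Mathlib

/-!
# An involution with centralizer dihedral of order 8

The exceptional characters of the subgroup `⟨a⟩`, `a` of order four, and the class equation for
products of two involutions determine the order of the group.
-/

set_option autoImplicit false

open scoped ComplexConjugate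

namespace CfsgLib.Char

variable {G : Type*} [Group G] [Fintype G]

open scoped Classical in
/-- The class multiplication formula. -/
theorem sum_conj_mul_eq (x y g : G) :
    (∑ h : G, ∑ k : G, if h * x * h⁻¹ * (k * y * k⁻¹) = g then (1 : ℂ) else 0) =
      (Nat.card G : ℂ) * ∑ χ : Cfsg.IrrCharacter G,
        (χ : G → ℂ) x * (χ : G → ℂ) y * conj ((χ : G → ℂ) g) / (χ : G → ℂ) 1 := by
  have hind : ∀ h k : G, (if h * x * h⁻¹ * (k * y * k⁻¹) = g then (1 : ℂ) else 0) =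
      (Nat.card G : ℂ)⁻¹ * ∑ χ : Cfsg.IrrCharacter G,
        (χ : G → ℂ) 1 * (χ : G → ℂ) (h * x * h⁻¹ * (k * y * k⁻¹) * g⁻¹) := fun h k => by
    rw [regular_eq_sum_irr]
    simp only [mul_inv_eq_one]
    split_ifs <;> simp
  have hχ : ∀ χ : Cfsg.IrrCharacter G,
      ∑ h : G, ∑ k : G, (χ : G → ℂ) (h * x * h⁻¹ * (k * y * k⁻¹) * g⁻¹) =
        (Nat.card G : ℂ) ^ 2 *
          ((χ : G → ℂ) x * (χ : G → ℂ) y * conj ((χ : G → ℂ) g)) / (χ : G → ℂ) 1 ^ 2 := by
    intro χ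
    have h1 : ∀ h : G, ∑ k : G, (χ : G → ℂ) (h * x * h⁻¹ * (k * y * k⁻¹) * g⁻¹) =
        (Nat.card G : ℂ) * (χ : G → ℂ) (g⁻¹ * (h * x * h⁻¹)) * (χ : G → ℂ) y /
          (χ : G → ℂ) 1 := fun h => by
      rw [← IsIrrCharacter.sum_mul_conjugate χ.2]
      refine Finset.sum_congr rfl fun k _ => ?_
      rw [IsClassFunction.mul_comm (IsIrrCharacter.isClassFunction χ.2)]
      simp only [mul_assoc]
    rw [Finset.sum_congr rfl fun h _ => h1 h, ← Finset.sum_div, ← Finset.sum_mul, ← Finset.mul_sum,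
      IsIrrCharacter.sum_mul_conjugate χ.2, ← IsIrrCharacter.apply_inv χ.2]
    ring
  simp only [hind, ← Finset.mul_sum]
  rw [Finset.sum_congr rfl fun h _ => Finset.sum_comm, Finset.sum_comm, Finset.mul_sum,
    Finset.mul_sum]
  refine Finset.sum_congr rfl fun χ _ => ?_
  simp only [← Finset.mul_sum]
  rw [hχ]
  field_simp [card_ne_zero (G := G), IsIrrCharacter.apply_one_ne_zero χ.2]

/-- A sum of squares equal to three. -/
theorem exists_three {ι : Type*} [Fintype ι] [DecidableEq ι] (z : ι → ℤ)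
    (h : ∑ i, z i * z i = 3) :
    ∃ a b c, a ≠ b ∧ a ≠ c ∧ b ≠ c ∧ (z a = 1 ∨ z a = -1) ∧ (z b = 1 ∨ z b = -1) ∧
      (z c = 1 ∨ z c = -1) ∧ ∀ i, i ≠ a → i ≠ b → i ≠ c → z i = 0 := by
  have hle : ∀ i, z i * z i ≤ 3 := fun i =>
    h ▸ Finset.single_le_sum (fun j _ => mul_self_nonneg (z j)) (Finset.mem_univ i)
  have h1 : ∀ i, z i ≠ 0 → z i = 1 ∨ z i = -1 := fun i hi => by
    have := hle i
    have : -2 < z i ∧ z i < 2 := ⟨by nlinarith, by nlinarith⟩
    omega
  have hc : (Finset.univ.filter fun i => z i ≠ 0).card = 3 := by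
    have : ((Finset.univ.filter fun i => z i ≠ 0).card : ℤ) = 3 := by
      rw [Finset.natCast_card_filter, ← h]
      refine Finset.sum_congr rfl fun i _ => ?_
      by_cases hi : z i = 0
      · simp [hi]
      · rw [if_pos hi]; rcases h1 i hi with e | e <;> simp [e]
    exact_mod_cast this
  obtain ⟨a, b, c, hab, hac, hbc, he⟩ := Finset.card_eq_three.mp hc
  have hm : ∀ i ∈ ({a, b, c} : Finset ι), z i = 1 ∨ z i = -1 := fun i hi =>
    h1 i (Finset.mem_filter.mp
      (show i ∈ Finset.univ.filter fun i => z i ≠ 0 by rw [he]; exact hi)).2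
  refine ⟨a, b, c, hab, hac, hbc, hm a (by simp), hm b (by simp), hm c (by simp),
    fun i ha hb hc' => ?_⟩
  by_contra hi
  have : i ∈ ({a, b, c} : Finset ι) := he ▸ Finset.mem_filter.mpr ⟨Finset.mem_univ i, hi⟩
  simp at this
  tauto

namespace DihedralCentralizer

/-- The facts about the centralizer that the character computation uses. -/
theorem card_eq_of_data (t a : G) (ha2 : a ^ 2 = t) (hao : orderOf a = 4)
    (hC8 : Nat.card (Subgroup.centralizer ({t} : Set G)) = 8)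
    (hgen : ∀ x : G, x * t = t * x → x * a = a * x ∨ x * a = a⁻¹ * x)
    (hhalf : Nat.card {x : G // x * t = t * x ∧ x * a = a * x} = 4)
    (hpairs : ∀ g, g = t ∨ g = a →
      Nat.card {x : G // IsConj x t ∧ IsConj (x⁻¹ * g) t} = 4)
    (hodd : ∃ k, Nat.card G = 8 * k ∧ Odd k) :
    Nat.card G = 168 ∨ Nat.card G = 360 := by
  classical
  set A := Subgroup.zpowers a with hA
  cases nonempty_fintype A
  have hAcard : Nat.card A = 4 := by rw [hA, Nat.card_zpowers, hao]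
  have ha4 : a ^ 4 = 1 := by rw [← hao]; exact pow_orderOf_eq_one a
  have ht2 : t ^ 2 = 1 := by rw [← ha2, ← pow_mul]; exact ha4
  have hne : ∀ k : ℕ, 0 < k → k < 4 → a ^ k ≠ 1 := fun k h1 h2 h =>
    absurd (Nat.le_of_dvd h1 (orderOf_dvd_of_pow_eq_one h)) (by omega)
  set g₀ : A := ⟨a, Subgroup.mem_zpowers a⟩ with hg₀
  have hg₀o : orderOf g₀ = 4 := by rw [hg₀, Subgroup.orderOf_mk, hao]
  have huniv : ∀ f : A → ℂ,
      ∑ x : A, f x = f (g₀ ^ 0) + f (g₀ ^ 1) + f (g₀ ^ 2) + f (g₀ ^ 3) := by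
    intro f
    have hbij : Function.Bijective fun i : Fin 4 => g₀ ^ (i : ℕ) := by
      refine (Fintype.bijective_iff_injective_and_card _).2 ⟨fun i j hij => ?_, ?_⟩
      · exact Fin.ext (pow_injOn_Iio_orderOf (by simp [hg₀o]) (by simp [hg₀o]) hij)
      · rw [Fintype.card_fin, ← Nat.card_eq_fintype_card, hAcard]
    rw [← hbij.sum_comp f, Fin.sum_univ_four]
    rfl
  -- the linear character `a ↦ i`
  obtain ⟨lam, hlam⟩ : ∃ lam : A →* ℂˣ, (lam g₀ : ℂ) = Complex.I := by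
    have : IsCyclic A := Subgroup.isCyclic_zpowers a
    have hgen₀ : ∀ x : A, x ∈ Subgroup.zpowers g₀ := fun x => by
      obtain ⟨n, hn⟩ := Subgroup.mem_zpowers_iff.mp x.2
      exact Subgroup.mem_zpowers_iff.mpr ⟨n, Subtype.ext (by simp [hg₀, hn])⟩
    let u : ℂˣ := ⟨Complex.I, -Complex.I, by simp, by simp⟩
    have hu : orderOf u ∣ orderOf g₀ := by
      rw [hg₀o]
      refine orderOf_dvd_of_pow_eq_one (Units.ext ?_)
      simp [u, Units.val_pow_eq_pow_val]
    exact ⟨monoidHomOfForallMemZpowers hgen₀ hu, by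
      rw [monoidHomOfForallMemZpowers_apply_gen]⟩
  set β₁ : A → ℂ := fun x => 1 - (lam x : ℂ) with hβ₁
  set β₂ : A → ℂ := fun x => (lam x : ℂ) ^ 2 - (lam x : ℂ) with hβ₂
  set F₁ := Cfsg.indFun A β₁ with hF₁
  set F₂ := Cfsg.indFun A β₂ with hF₂
  have hlk : ∀ k : ℕ, (lam (g₀ ^ k) : ℂ) = Complex.I ^ k := fun k => by
    rw [map_pow, Units.val_pow_eq_pow_val, hlam]
  have hval : ∀ k : ℕ, β₁ (g₀ ^ k) = 1 - Complex.I ^ k ∧
      β₂ (g₀ ^ k) = (Complex.I ^ k) ^ 2 - Complex.I ^ k := fun k => by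
    simp only [hβ₁, hβ₂, hlk, and_self]
  have hI3 : Complex.I ^ 3 = -Complex.I := by rw [pow_succ, Complex.I_sq]; ring
  -- values of the induced functions
  have hmemC : ∀ x : G, x ∈ Subgroup.centralizer ({t} : Set G) ↔ x * t = t * x := fun x =>
    Subgroup.mem_centralizer_singleton_iff
  have hAelts : ∀ y ∈ A, y = 1 ∨ y = a ∨ y = t ∨ y = a⁻¹ := by
    intro y hy
    obtain ⟨k, rfl⟩ := (mem_powers_iff_mem_zpowers).2 hy
    show a ^ k = 1 ∨ a ^ k = a ∨ a ^ k = t ∨ a ^ k = a⁻¹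
    rw [← pow_mod_orderOf, hao]
    have hinv : a⁻¹ = a ^ 3 := inv_eq_of_mul_eq_one_right (by rw [← pow_succ']; exact ha4)
    rcases (show k % 4 = 0 ∨ k % 4 = 1 ∨ k % 4 = 2 ∨ k % 4 = 3 by omega) with h | h | h | h <;>
      rw [h]
    · exact Or.inl (pow_zero a)
    · exact Or.inr (Or.inl (pow_one a))
    · exact Or.inr (Or.inr (Or.inl ha2))
    · exact Or.inr (Or.inr (Or.inr hinv.symm))
  have htA : t ∈ A := ha2 ▸ pow_mem (Subgroup.mem_zpowers a) 2
  have htne : t ≠ 1 := ha2 ▸ hne 2 (by norm_num) (by norm_num)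
  have hat : a ≠ t := fun h => hne 1 (by norm_num) (by norm_num) (by
    rw [← ha2] at h
    rw [pow_one]
    calc a = a⁻¹ * a ^ 2 := by group
      _ = 1 := by rw [← h, inv_mul_cancel])
  have hainv2 : a⁻¹ ^ 2 = t := by
    rw [inv_pow, ha2]
    exact inv_eq_of_mul_eq_one_right (by rw [← sq]; exact ht2)
  have hval_t : ∀ β : A → ℂ, β 1 = 0 →
      Cfsg.indFun A β t = 2 * β (g₀ ^ 2) := by
    intro β hβ1
    have hterm : ∀ x : G, Cfsg.extendByZero A β (x⁻¹ * t * x) =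
        if x * t = t * x then β (g₀ ^ 2) else 0 := by
      intro x
      by_cases hx : x * t = t * x
      · rw [if_pos hx, show x⁻¹ * t * x = t by rw [mul_assoc, ← hx, inv_mul_cancel_left],
          extendByZero_apply_mem A β htA]
        congr 1
        exact Subtype.ext (by simp [hg₀, ha2])
      · rw [if_neg hx]
        by_cases hm : x⁻¹ * t * x ∈ A
        · exfalso
          have hsq : (x⁻¹ * t * x) ^ 2 = 1 := by
            calc (x⁻¹ * t * x) ^ 2 = x⁻¹ * t ^ 2 * x := by rw [sq, sq]; group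
              _ = 1 := by rw [ht2]; group
          rcases hAelts _ hm with h | h | h | h
          · exact htne (by
              calc t = x * (x⁻¹ * t * x) * x⁻¹ := by group
                _ = 1 := by rw [h]; group)
          · rw [h, ha2] at hsq; exact htne hsq
          · exact hx (by
              calc x * t = x * (x⁻¹ * t * x) := by rw [h]
                _ = t * x := by group)
          · rw [h, hainv2] at hsq; exact htne hsq
        · exact extendByZero_apply_notMem A β hm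
    rw [indFun_def, Finset.sum_congr rfl fun x _ => hterm x, ← Finset.sum_filter, Finset.sum_const,
      nsmul_eq_mul, hAcard]
    rw [show ((Finset.univ.filter fun x : G => x * t = t * x).card) = 8 by
      rw [← hC8, Nat.card_eq_fintype_card, Fintype.card_subtype]
      exact congrArg Finset.card (Finset.filter_congr fun x _ => (hmemC x).symm)]
    push_cast
    ring
  have hval_a : ∀ β : A → ℂ, Cfsg.indFun A β a = β (g₀ ^ 1) + β (g₀ ^ 3) := by
    intro β
    have hterm : ∀ x : G, Cfsg.extendByZero A β (x⁻¹ * a * x) =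
        (if x * t = t * x ∧ x * a = a * x then β (g₀ ^ 1) else 0) +
          if x * t = t * x ∧ ¬ x * a = a * x then β (g₀ ^ 3) else 0 := by
      intro x
      by_cases hxt : x * t = t * x
      · rcases hgen x hxt with hx | hx
        · rw [if_pos ⟨hxt, hx⟩, if_neg (fun h => h.2 hx), add_zero,
            show x⁻¹ * a * x = a by rw [mul_assoc, ← hx, inv_mul_cancel_left],
            extendByZero_apply_mem A β (Subgroup.mem_zpowers a)]
          congr 1
          exact Subtype.ext (by simp [hg₀])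
        · have hnx : ¬ x * a = a * x := fun h => hne 2 (by norm_num) (by norm_num) (by
            have h2 : a = a⁻¹ := mul_right_cancel (h.symm.trans hx)
            rw [sq]
            nth_rewrite 2 [h2]
            exact mul_inv_cancel a)
          have hx3 : x⁻¹ * a * x = a ^ 3 := by
            have h3 : a * x = x * a⁻¹ := by
              calc a * x = a * (x * a) * a⁻¹ := by group
                _ = x * a⁻¹ := by rw [hx]; group
            rw [mul_assoc, h3, inv_mul_cancel_left]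
            exact inv_eq_of_mul_eq_one_right (by rw [← pow_succ']; exact ha4)
          rw [if_neg (fun h => hnx h.2), if_pos ⟨hxt, hnx⟩, zero_add, hx3,
            extendByZero_apply_mem A β (pow_mem (Subgroup.mem_zpowers a) 3)]
          congr 1
      · rw [if_neg (fun h => hxt h.1), if_neg (fun h => hxt h.1), add_zero]
        refine extendByZero_apply_notMem A β fun hm => hxt ?_
        have hsq : (x⁻¹ * a * x) ^ 2 = x⁻¹ * t * x := by rw [sq, ← ha2, sq]; group
        rcases hAelts _ hm with h | h | h | h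
        · rw [h, one_pow] at hsq
          exact absurd (show t = 1 by
            calc t = x * (x⁻¹ * t * x) * x⁻¹ := by group
              _ = 1 := by rw [← hsq]; group) htne
        · rw [h, ha2] at hsq
          calc x * t = x * (x⁻¹ * t * x) := by rw [← hsq]
            _ = t * x := by group
        · rw [h, ht2] at hsq
          exact absurd (show t = 1 by
            calc t = x * (x⁻¹ * t * x) * x⁻¹ := by group
              _ = 1 := by rw [← hsq]; group) htne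
        · rw [h, hainv2] at hsq
          calc x * t = x * (x⁻¹ * t * x) := by rw [← hsq]
            _ = t * x := by group
    have h4 : (Finset.univ.filter fun x : G => x * t = t * x ∧ x * a = a * x).card = 4 := by
      rw [← hhalf, Nat.card_eq_fintype_card, Fintype.card_subtype]
    have h8 : (Finset.univ.filter fun x : G => x * t = t * x).card = 8 := by
      rw [← hC8, Nat.card_eq_fintype_card, Fintype.card_subtype]
      exact congrArg Finset.card (Finset.filter_congr fun x _ => (hmemC x).symm)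
    have h4' : (Finset.univ.filter fun x : G => x * t = t * x ∧ ¬ x * a = a * x).card = 4 := by
      have := Finset.card_filter_add_card_filter_not
        (s := Finset.univ.filter fun x : G => x * t = t * x) (fun x : G => x * a = a * x)
      rw [Finset.filter_filter, Finset.filter_filter, h4, h8] at this
      omega
    rw [indFun_def, Finset.sum_congr rfl fun x _ => hterm x, Finset.sum_add_distrib,
      ← Finset.sum_filter, ← Finset.sum_filter, Finset.sum_const, Finset.sum_const, nsmul_eq_mul,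
      nsmul_eq_mul, hAcard, h4, h4']
    push_cast
    ring
  have hconj3 : ∀ χ : G → ℂ, Cfsg.IsClassFunction G χ → χ (a ^ 3) = χ a := by
    intro χ hχ
    obtain ⟨x, hx, hnx⟩ : ∃ x, x * t = t * x ∧ ¬ x * a = a * x := by
      by_contra hc
      push Not at hc
      have hsub : Nat.card {x : G // x * t = t * x ∧ x * a = a * x} =
          Nat.card (Subgroup.centralizer ({t} : Set G)) :=
        Nat.card_congr (Equiv.subtypeEquivRight fun x =>
          ⟨fun h => (hmemC x).mpr h.1, fun h => ⟨(hmemC x).mp h, hc x ((hmemC x).mp h)⟩⟩)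
      omega
    have h := (hgen x hx).resolve_left hnx
    have h3 : x * a * x⁻¹ = a ^ 3 := by
      rw [h, mul_inv_cancel_right]
      exact inv_eq_of_mul_eq_one_right (by rw [← pow_succ']; exact ha4)
    rw [← h3]
    exact hχ a x
  -- the inner product of an induced function with a class function
  have hinner : ∀ (β : A → ℂ) (χ : G → ℂ), Cfsg.IsClassFunction G χ → β 1 = 0 →
      Cfsg.classInner (Cfsg.indFun A β) χ = (4 : ℂ)⁻¹ *
        ((β (g₀ ^ 1) + β (g₀ ^ 3)) * conj (χ a) + β (g₀ ^ 2) * conj (χ t)) := by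
    intro β χ hχ hβ1
    rw [classInner_indFun A β hχ, Cfsg.classInner, hAcard, huniv]
    simp only [pow_zero, hβ1, zero_mul, zero_add, hg₀, SubmonoidClass.mk_pow, pow_one, ha2,
      hconj3 χ hχ]
    push_cast
    ring
  have hb1 : β₁ 1 = 0 ∧ β₂ 1 = 0 := by simp [hβ₁, hβ₂]
  have hs1 : β₁ (g₀ ^ 1) + β₁ (g₀ ^ 3) = 2 ∧ β₁ (g₀ ^ 2) = 2 := by
    rw [(hval 1).1, (hval 2).1, (hval 3).1, hI3, Complex.I_sq, pow_one]
    exact ⟨by ring, by ring⟩
  have hs2 : β₂ (g₀ ^ 1) + β₂ (g₀ ^ 3) = -2 ∧ β₂ (g₀ ^ 2) = 2 := by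
    rw [(hval 1).2, (hval 2).2, (hval 3).2, hI3, Complex.I_sq, pow_one, neg_sq, neg_sq,
      Complex.I_sq]
    exact ⟨by ring, by ring⟩
  have hcfF : ∀ β : A → ℂ, Cfsg.IsClassFunction G (Cfsg.indFun A β) :=
    indFun_isClassFunction A
  have hF11 : Cfsg.classInner F₁ F₁ = 3 := by
    rw [hF₁, hinner _ _ (hcfF _) hb1.1, hs1.1, hs1.2, hval_t _ hb1.1, hval_a, hs1.1, hs1.2]
    simp [map_mul, map_ofNat]; norm_num
  have hF22 : Cfsg.classInner F₂ F₂ = 3 := by
    rw [hF₂, hinner _ _ (hcfF _) hb1.2, hs2.1, hs2.2, hval_t _ hb1.2, hval_a, hs2.1, hs2.2]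
    simp [map_mul, map_ofNat, map_neg]; norm_num
  have hF12 : Cfsg.classInner F₁ F₂ = 1 := by
    rw [hF₁, hF₂, hinner _ _ (hcfF _) hb1.1, hs1.1, hs1.2, hval_t _ hb1.2, hval_a, hs2.1, hs2.2]
    simp [map_mul, map_ofNat, map_neg]; norm_num
  -- coefficients
  have hgen1 : Cfsg.IsGeneralizedCharacter G F₁ := IsGeneralizedCharacter.indFun A
    ⟨_, _, isCharacter_one, isCharacter_hom lam, rfl⟩
  have hgen2 : Cfsg.IsGeneralizedCharacter G F₂ := IsGeneralizedCharacter.indFun A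
    ⟨_, _, isCharacter_hom (lam ^ 2), isCharacter_hom lam, funext fun x => by
      simp [hβ₂, Units.val_pow_eq_pow_val]⟩
  obtain ⟨z₁, hz₁, hexp₁, hn₁⟩ := IsGeneralizedCharacter.exists_coeff hgen1
  obtain ⟨z₂, hz₂, hexp₂, hn₂⟩ := IsGeneralizedCharacter.exists_coeff hgen2
  have hS1 : ∑ φ, z₁ φ * z₁ φ = 3 := by
    have := hn₁.symm.trans hF11
    exact_mod_cast this
  have hS2 : ∑ φ, z₂ φ * z₂ φ = 3 := by
    have := hn₂.symm.trans hF22
    exact_mod_cast this
  have hS12 : ∑ φ, z₁ φ * z₂ φ = 1 := by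
    have h := hF12
    have hcf1 : Cfsg.IsClassFunction G F₁ := hcfF β₁
    rw [classInner_eq_sum_irr hcf1] at h
    have he : ∀ φ : Cfsg.IrrCharacter G,
        Cfsg.classInner (φ : G → ℂ) F₂ = (z₂ φ : ℂ) := fun φ => by
      rw [← classInner_conj_symm, hz₂]
      simp
    simp only [hz₁, he] at h
    exact_mod_cast h
  -- values of the irreducible characters
  have hvals : ∀ φ : Cfsg.IrrCharacter G, (φ : G → ℂ) t = ((z₁ φ + z₂ φ : ℤ) : ℂ) ∧
      (φ : G → ℂ) a = ((z₁ φ - z₂ φ : ℤ) : ℂ) := by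
    intro φ
    have h1 := hz₁ φ
    have h2 := hz₂ φ
    rw [hF₁, hinner _ _ (IsIrrCharacter.isClassFunction φ.2) hb1.1, hs1.1, hs1.2] at h1
    rw [hF₂, hinner _ _ (IsIrrCharacter.isClassFunction φ.2) hb1.2, hs2.1, hs2.2] at h2
    constructor <;> rw [← Complex.conj_conj ((φ : G → ℂ) _)]
    · rw [show conj ((φ : G → ℂ) t) = ((z₁ φ + z₂ φ : ℤ) : ℂ) by
        push_cast; linear_combination h1 + h2, map_intCast]
    · rw [show conj ((φ : G → ℂ) a) = ((z₁ φ - z₂ φ : ℤ) : ℂ) by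
        push_cast; linear_combination h1 - h2, map_intCast]
  let one : Cfsg.IrrCharacter G := ⟨fun _ => 1, isIrrCharacter_one⟩
  have hone : z₁ one = 1 ∧ z₂ one = 0 := by
    obtain ⟨h1, h2⟩ := hvals one
    have h1' : ((1 : ℤ) : ℂ) = ((z₁ one + z₂ one : ℤ) : ℂ) := by rw [Int.cast_one]; exact h1
    have h2' : ((1 : ℤ) : ℂ) = ((z₁ one - z₂ one : ℤ) : ℂ) := by rw [Int.cast_one]; exact h2
    have e1 : (1 : ℤ) = z₁ one + z₂ one := Int.cast_injective h1'
    have e2 : (1 : ℤ) = z₁ one - z₂ one := Int.cast_injective h2'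
    omega
  -- degrees
  choose d hd0 hd using fun φ : Cfsg.IrrCharacter G => IsIrrCharacter.apply_one_eq φ.2
  have hdeg : ∀ (z : Cfsg.IrrCharacter G → ℤ) (β : A → ℂ), β 1 = 0 →
      Cfsg.indFun A β = ∑ φ, (z φ : ℂ) • (φ : G → ℂ) → ∑ φ, z φ * (d φ : ℤ) = 0 := by
    intro z β hβ he
    have h := congrFun he 1
    rw [indFun_one, hβ, mul_zero] at h
    simp only [Finset.sum_apply, Pi.smul_apply, smul_eq_mul, hd] at h
    exact_mod_cast h.symm
  have hdeg1 := hdeg z₁ β₁ hb1.1 hexp₁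
  have hdeg2 := hdeg z₂ β₂ hb1.2 hexp₂
  -- the supports
  obtain ⟨u₁, u₂, u₃, h12, h13, h23, hu₁, hu₂, hu₃, hu0⟩ := exists_three z₁ hS1
  obtain ⟨v₁, v₂, v₃, g12, g13, g23, hv₁, hv₂, hv₃, hv0⟩ := exists_three z₂ hS2
  obtain ⟨x, y, hx1, hy1, hxy, hzx, hzy, hz10⟩ : ∃ x y, x ≠ one ∧ y ≠ one ∧ x ≠ y ∧
      (z₁ x = 1 ∨ z₁ x = -1) ∧ (z₁ y = 1 ∨ z₁ y = -1) ∧
      ∀ i, i ≠ one → i ≠ x → i ≠ y → z₁ i = 0 := by
    by_cases h1 : u₁ = one
    · subst h1; exact ⟨u₂, u₃, h12.symm, h13.symm, h23, hu₂, hu₃, hu0⟩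
    by_cases h2 : u₂ = one
    · subst h2; exact ⟨u₁, u₃, h12, h23.symm, h13, hu₁, hu₃, fun i a b c => hu0 i b a c⟩
    by_cases h3 : u₃ = one
    · subst h3; exact ⟨u₁, u₂, h13, h23, h12, hu₁, hu₂, fun i a b c => hu0 i b c a⟩
    have := hu0 one (Ne.symm h1) (Ne.symm h2) (Ne.symm h3)
    omega
  have hprod : z₁ x * z₂ x + z₁ y * z₂ y = 1 := by
    rw [← hS12]
    symm
    rw [← Finset.sum_subset (Finset.subset_univ ({one, x, y} : Finset _)) fun i _ hi => by
      simp only [Finset.mem_insert, Finset.mem_singleton, not_or] at hi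
      rw [hz10 i hi.1 hi.2.1 hi.2.2, zero_mul]]
    rw [Finset.sum_insert (by simp [hx1.symm, hy1.symm]), Finset.sum_pair hxy, hone.2]
    ring
  have hz2b : ∀ i, z₂ i = 1 ∨ z₂ i = -1 ∨ z₂ i = 0 := fun i => by
    by_cases e1 : i = v₁; · subst e1; rcases hv₁ with h | h <;> simp [h]
    by_cases e2 : i = v₂; · subst e2; rcases hv₂ with h | h <;> simp [h]
    by_cases e3 : i = v₃; · subst e3; rcases hv₃ with h | h <;> simp [h]
    simp [hv0 i e1 e2 e3]
  -- `w` is common to both supports, `p` only in the first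
  obtain ⟨p, w, hp1, hw1, hpw, hzp, hzw, hz2p, hzw2, hz10'⟩ : ∃ p w, p ≠ one ∧ w ≠ one ∧ p ≠ w ∧
      (z₁ p = 1 ∨ z₁ p = -1) ∧ (z₁ w = 1 ∨ z₁ w = -1) ∧ z₂ p = 0 ∧ z₂ w = z₁ w ∧
      ∀ i, i ≠ one → i ≠ p → i ≠ w → z₁ i = 0 := by
    have hcase : (z₂ x = 0 ∧ z₂ y = z₁ y) ∨ (z₂ y = 0 ∧ z₂ x = z₁ x) := by
      rcases hzx with e1 | e1 <;> rcases hzy with e2 | e2 <;> rw [e1, e2] at hprod ⊢ <;>
        rcases hz2b x with e3 | e3 | e3 <;> rcases hz2b y with e4 | e4 | e4 <;>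
        rw [e3, e4] at hprod ⊢ <;> omega
    rcases hcase with ⟨hx0, hye⟩ | ⟨hy0, hxe⟩
    · exact ⟨x, y, hx1, hy1, hxy, hzx, hzy, hx0, hye, hz10⟩
    · exact ⟨y, x, hy1, hx1, hxy.symm, hzy, hzx, hy0, hxe, fun i a b c => hz10 i a c b⟩
  have hzw0 : z₂ w ≠ 0 := by rw [hzw2]; omega
  obtain ⟨q, r, hqw, hrw, hqr, hzq, hzr, hz20⟩ : ∃ q r, q ≠ w ∧ r ≠ w ∧ q ≠ r ∧
      (z₂ q = 1 ∨ z₂ q = -1) ∧ (z₂ r = 1 ∨ z₂ r = -1) ∧
      ∀ i, i ≠ w → i ≠ q → i ≠ r → z₂ i = 0 := by
    by_cases h1 : v₁ = w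
    · subst h1; exact ⟨v₂, v₃, g12.symm, g13.symm, g23, hv₂, hv₃, hv0⟩
    by_cases h2 : v₂ = w
    · subst h2; exact ⟨v₁, v₃, g12, g23.symm, g13, hv₁, hv₃, fun i a b c => hv0 i b a c⟩
    by_cases h3 : v₃ = w
    · subst h3; exact ⟨v₁, v₂, g13, g23, g12, hv₁, hv₂, fun i a b c => hv0 i b c a⟩
    exact absurd (hv0 w (Ne.symm h1) (Ne.symm h2) (Ne.symm h3)) hzw0
  have hq1 : q ≠ one := fun h => by rw [h, hone.2] at hzq; omega
  have hr1 : r ≠ one := fun h => by rw [h, hone.2] at hzr; omega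
  have hqp : q ≠ p := fun h => by rw [h, hz2p] at hzq; omega
  have hrp : r ≠ p := fun h => by rw [h, hz2p] at hzr; omega
  have hsum5 : ∀ f : Cfsg.IrrCharacter G → ℂ, (∀ i, z₁ i = 0 → z₂ i = 0 → f i = 0) →
      ∑ i, f i = f one + (f p + (f w + (f q + f r))) := by
    intro f hf
    rw [← Finset.sum_subset (Finset.subset_univ ({one, p, w, q, r} : Finset _)) fun i _ hi => by
      simp only [Finset.mem_insert, Finset.mem_singleton, not_or] at hi
      exact hf i (hz10' i hi.1 hi.2.1 hi.2.2.1) (hz20 i hi.2.2.1 hi.2.2.2.1 hi.2.2.2.2)]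
    rw [Finset.sum_insert (by simp [hp1.symm, hw1.symm, hq1.symm, hr1.symm]),
      Finset.sum_insert (by simp [hpw, hqp.symm, hrp.symm]),
      Finset.sum_insert (by simp [hqw.symm, hrw.symm]), Finset.sum_pair hqr]
  have hz1q : z₁ q = 0 := hz10' q hq1 hqp hqw
  have hz1r : z₁ r = 0 := hz10' r hr1 hrp hrw
  have hd1 : d one = 1 := by
    have h : ((1 : ℕ) : ℂ) = (d one : ℂ) := by rw [Nat.cast_one]; exact hd one
    exact (Nat.cast_injective h).symm
  set D1 : ℤ := z₁ p * d p with hD1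
  set D4 : ℤ := z₁ w * d w with hD4
  set D2 : ℤ := -(z₂ q * d q) with hD2
  set D3 : ℤ := -(z₂ r * d r) with hD3
  have hr1' : (1 : ℤ) + D1 + D4 = 0 := by
    have h := hsum5 (fun i => ((z₁ i * (d i : ℤ) : ℤ) : ℂ)) fun i h _ => by simp [h]
    rw [← Int.cast_sum, hdeg1] at h
    simp only [hone.1, hd1, hz1q, hz1r] at h
    push_cast at h
    have h' : ((1 + D1 + D4 : ℤ) : ℂ) = ((0 : ℤ) : ℂ) := by
      rw [hD1, hD4]; push_cast; linear_combination -h
    exact_mod_cast h'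
  have hr2' : D4 = D2 + D3 := by
    have h := hsum5 (fun i => ((z₂ i * (d i : ℤ) : ℤ) : ℂ)) fun i _ h => by simp [h]
    rw [← Int.cast_sum, hdeg2] at h
    simp only [hone.2, hz2p, hzw2] at h
    push_cast at h
    have h' : (D4 : ℂ) = ((D2 + D3 : ℤ) : ℂ) := by
      rw [hD2, hD3, hD4]; push_cast; linear_combination -h
    exact_mod_cast h'
  -- the class equation
  have hpairs' : ∀ g, g = t ∨ g = a → (256 : ℂ) = (Nat.card G : ℂ) *
      ∑ χ : Cfsg.IrrCharacter G, (χ : G → ℂ) t * (χ : G → ℂ) t * conj ((χ : G → ℂ) g) /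
        (χ : G → ℂ) 1 := by
    intro g hg
    rw [← sum_conj_mul_eq]
    have hcount : ∀ v : G, ((Finset.univ.filter fun h : G => h * t * h⁻¹ = v).card) =
        if IsConj v t then 8 else 0 := by
      intro v
      split_ifs with hv
      · obtain ⟨c, hc⟩ := isConj_iff.mp hv.symm
        rw [← hC8, Nat.card_eq_fintype_card, Fintype.card_subtype]
        refine Finset.card_equiv (Equiv.mulLeft c⁻¹) fun h => ?_
        simp only [Finset.mem_filter, Finset.mem_univ, true_and, Equiv.coe_mulLeft, hmemC, ← hc]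
        constructor
        · intro e
          calc c⁻¹ * h * t = c⁻¹ * (h * t * h⁻¹) * h := by group
            _ = t * (c⁻¹ * h) := by rw [e]; group
        · intro e
          calc h * t * h⁻¹ = c * (c⁻¹ * h * t) * h⁻¹ := by group
            _ = c * t * c⁻¹ := by rw [e]; group
      · refine Finset.card_eq_zero.mpr (Finset.filter_eq_empty_iff.mpr fun h _ e => hv ?_)
        exact (isConj_iff.mpr ⟨h, e⟩).symm
    have hrow : ∀ h : G, (∑ k : G, if h * t * h⁻¹ * (k * t * k⁻¹) = g then (1 : ℂ) else 0) =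
        if IsConj ((h * t * h⁻¹)⁻¹ * g) t then 8 else 0 := by
      intro h
      rw [Finset.sum_boole, show (Finset.univ.filter fun k : G => h * t * h⁻¹ * (k * t * k⁻¹) = g) =
        Finset.univ.filter fun k : G => k * t * k⁻¹ = (h * t * h⁻¹)⁻¹ * g from
        Finset.filter_congr fun k _ => by rw [eq_inv_mul_iff_mul_eq], hcount]
      split_ifs <;> simp
    rw [Finset.sum_congr rfl fun h _ => hrow h, ← Finset.sum_filter, Finset.sum_const,
      nsmul_eq_mul]
    have hcard : (Finset.univ.filter fun h : G => IsConj ((h * t * h⁻¹)⁻¹ * g) t).card = 32 := by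
      rw [Finset.card_eq_sum_card_fiberwise (f := fun h : G => h * t * h⁻¹)
        (t := Finset.univ.filter fun v : G => IsConj v t ∧ IsConj (v⁻¹ * g) t)
        (fun h hh => by
          simp only [Finset.coe_filter, Finset.mem_univ, true_and, Set.mem_setOf_eq] at hh ⊢
          exact ⟨(isConj_iff.mpr ⟨h, rfl⟩).symm, hh⟩)]
      rw [Finset.sum_congr rfl (g := fun _ => 8) fun v hv => ?_, Finset.sum_const, smul_eq_mul,
        ← Fintype.card_subtype, ← Nat.card_eq_fintype_card, hpairs g hg]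
      simp only [Finset.mem_filter, Finset.mem_univ, true_and] at hv
      rw [Finset.filter_filter, ← if_pos hv.1 (t := 8) (e := 0), ← hcount v]
      refine congrArg Finset.card (Finset.filter_congr fun h _ => ⟨fun h' => h'.2, fun h' => ?_⟩)
      exact ⟨by rw [h']; exact hv.2, h'⟩
    rw [hcard]
    norm_num
  have hGne : (Nat.card G : ℂ) ≠ 0 := card_ne_zero
  have hterm0 : ∀ (g : G) (i : Cfsg.IrrCharacter G), z₁ i = 0 → z₂ i = 0 →
      (i : G → ℂ) t * (i : G → ℂ) t * conj ((i : G → ℂ) g) / (i : G → ℂ) 1 = 0 := by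
    intro g i h1 h2
    rw [(hvals i).1, h1, h2]
    simp
  have hEt := hpairs' t (Or.inl rfl)
  have hEa := hpairs' a (Or.inr rfl)
  rw [hsum5 _ (hterm0 t)] at hEt
  rw [hsum5 _ (hterm0 a)] at hEa
  simp only [(hvals _).1, (hvals _).2, hone.1, hone.2, hz2p, hzw2, hz1q, hz1r, hd, hd1,
    map_intCast] at hEt hEa
  push_cast at hEt hEa
  have hinv : ∀ (s : ℤ) (n : ℕ), (s = 1 ∨ s = -1) → (((s * n : ℤ) : ℂ))⁻¹ = (s : ℂ) / n := by
    rintro s n (rfl | rfl) <;> simp [inv_neg, neg_div]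
  have hcube : ∀ s : ℤ, (s = 1 ∨ s = -1) → (s : ℂ) ^ 2 = 1 := by
    rintro s (rfl | rfl) <;> simp
  have hDw : D4 ≠ 0 := by
    rw [hD4]; exact mul_ne_zero (by omega) (by exact_mod_cast (hd0 w).ne')
  have hDq : D2 ≠ 0 := by
    rw [hD2]; exact neg_ne_zero.mpr (mul_ne_zero (by omega) (by exact_mod_cast (hd0 q).ne'))
  have hDr : D3 ≠ 0 := by
    rw [hD3]; exact neg_ne_zero.mpr (mul_ne_zero (by omega) (by exact_mod_cast (hd0 r).ne'))
  have hDp : D1 ≠ 0 := by
    rw [hD1]; exact mul_ne_zero (by omega) (by exact_mod_cast (hd0 p).ne')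
  have hi2 : (D2 : ℂ)⁻¹ = -((z₂ q : ℂ) / d q) := by
    rw [hD2, Int.cast_neg, inv_neg, hinv _ _ hzq]
  have hi3 : (D3 : ℂ)⁻¹ = -((z₂ r : ℂ) / d r) := by
    rw [hD3, Int.cast_neg, inv_neg, hinv _ _ hzr]
  have hEt' : (256 : ℂ) = (Nat.card G : ℂ) *
      (1 + (D1 : ℂ)⁻¹ + 8 * (D4 : ℂ)⁻¹ - (D2 : ℂ)⁻¹ - (D3 : ℂ)⁻¹) := by
    rw [hEt, hD1, hD4, hinv _ _ hzp, hinv _ _ hzw, hi2, hi3]
    linear_combination (Nat.card G : ℂ) * ((z₁ p : ℂ) / d p) * hcube _ hzp +
      (Nat.card G : ℂ) * (8 * (z₁ w : ℂ) / d w) * hcube _ hzw +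
      (Nat.card G : ℂ) * ((z₂ q : ℂ) / d q) * hcube _ hzq +
      (Nat.card G : ℂ) * ((z₂ r : ℂ) / d r) * hcube _ hzr
  have hEa' : (256 : ℂ) = (Nat.card G : ℂ) *
      (1 + (D1 : ℂ)⁻¹ + (D2 : ℂ)⁻¹ + (D3 : ℂ)⁻¹) := by
    rw [hEa, hD1, hinv _ _ hzp, hi2, hi3]
    linear_combination (Nat.card G : ℂ) * ((z₁ p : ℂ) / d p) * hcube _ hzp -
      (Nat.card G : ℂ) * ((z₂ q : ℂ) / d q) * hcube _ hzq -
      (Nat.card G : ℂ) * ((z₂ r : ℂ) / d r) * hcube _ hzr
  have c4 : (D4 : ℂ) ≠ 0 := Int.cast_ne_zero.mpr hDw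
  have c2 : (D2 : ℂ) ≠ 0 := Int.cast_ne_zero.mpr hDq
  have c3 : (D3 : ℂ) ≠ 0 := Int.cast_ne_zero.mpr hDr
  have c1 : (D1 : ℂ) ≠ 0 := Int.cast_ne_zero.mpr hDp
  have hdiff : 4 * D2 * D3 = D4 * (D2 + D3) := by
    have h : (8 : ℂ) * (D4 : ℂ)⁻¹ - 2 * (D2 : ℂ)⁻¹ - 2 * (D3 : ℂ)⁻¹ = 0 :=
      (mul_eq_zero.mp (show (Nat.card G : ℂ) * _ = 0 by
        linear_combination hEa' - hEt')).resolve_left hGne
    field_simp at h
    have h' : ((4 * D2 * D3 : ℤ) : ℂ) = ((D4 * (D2 + D3) : ℤ) : ℂ) := by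
      push_cast; linear_combination h / 2
    exact_mod_cast h'
  have hEq : (Nat.card G : ℤ) * (D1 * D2 * D3 + D2 * D3 + D1 * D3 + D1 * D2) =
      256 * (D1 * D2 * D3) := by
    have h' : (((Nat.card G : ℤ) * (D1 * D2 * D3 + D2 * D3 + D1 * D3 + D1 * D2) : ℤ) : ℂ) =
        ((256 * (D1 * D2 * D3) : ℤ) : ℂ) := by
      push_cast
      rw [hEa']
      field_simp
    exact_mod_cast h'
  obtain ⟨k, hk, hkodd⟩ := hodd
  have hsq : (D2 - D3) ^ 2 = 0 := by rw [hr2'] at hdiff; linear_combination -hdiff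
  have hDe : D2 = D3 := sub_eq_zero.mp (pow_eq_zero_iff two_ne_zero |>.mp hsq)
  have h1D : D1 = -1 - 2 * D2 := by omega
  rw [← hDe, h1D, hk] at hEq
  push_cast at hEq
  have hkey : (k : ℤ) * (D2 + 1) ^ 2 = 16 * (D2 * (2 * D2 + 1)) :=
    mul_left_cancel₀ (show (-2 * 8 * D2 : ℤ) ≠ 0 by
      intro h; apply hDq; omega) (by linear_combination hEq)
  have h16 : (D2 + 1) ^ 2 ∣ 16 := by
    refine (show IsCoprime ((D2 + 1) ^ 2) (D2 * (2 * D2 + 1)) from ?_).dvd_of_dvd_mul_right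
      ⟨k, by linear_combination -hkey⟩
    refine IsCoprime.pow_left (IsCoprime.mul_right ⟨1, -1, by ring⟩ ⟨2, -1, by ring⟩)
  have hb : (D2 + 1) ^ 2 ≤ 16 := Int.le_of_dvd (by norm_num) h16
  have hlo : -5 ≤ D2 := by nlinarith
  have hhi : D2 ≤ 3 := by nlinarith
  have hk2 : k % 2 = 1 := Nat.odd_iff.mp hkodd
  rcases (show D2 = -5 ∨ D2 = -4 ∨ D2 = -3 ∨ D2 = -2 ∨ D2 = -1 ∨ D2 = 1 ∨ D2 = 2 ∨ D2 = 3 by
    omega) with h | h | h | h | h | h | h | h <;> rw [h] at hkey <;> norm_num at hkey <;>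
    omega

end DihedralCentralizer

end CfsgLib.Char
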