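import Cfsg.Agent.Lib.Char.LinearOverNormal
import Cfsg.Agent.Lib.Char.CliffordAbelian
import Cfsg.Prelude.Def_DegreeGraph

/-!
# The common-divisor graph on `cd(G | N)` for a non-perfect normal `N` inside the derived subgroup
-/

set_option autoImplicit false

namespace CfsgLib.Char.DegreeComponents

open CfsgLib CfsgLib.Char.LinearOverNormal

universe u

variable {G : Type u} [Group G] [Fintype G] {N : Subgroup G} [hN : N.Normal] [Fintype N]

/-- Two numbers are linked in the common-divisor graph on `cd(G | N)`. -/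
def Link (N : Subgroup G) (a b : ℕ) : Prop :=
  ∃ (ha : a ∈ Cfsg.relCharDegrees N) (hb : b ∈ Cfsg.relCharDegrees N),
    (Cfsg.commonDivisorGraph.induce (Cfsg.relCharDegrees N)).Reachable ⟨a, ha⟩ ⟨b, hb⟩

omit [Fintype G] hN [Fintype N] in
theorem link_of_dvd {a b c : ℕ} (ha : a ∈ Cfsg.relCharDegrees N) (hb : b ∈ Cfsg.relCharDegrees N)
    (hc : 1 < c) (hca : c ∣ a) (hcb : c ∣ b) (hpos : 0 < a) : Link N a b := by
  refine ⟨ha, hb, ?_⟩
  by_cases h : a = b
  · subst h; exact SimpleGraph.Reachable.refl _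
  · refine SimpleGraph.Adj.reachable ?_
    exact ⟨h, lt_of_lt_of_le hc (Nat.le_of_dvd (Nat.gcd_pos_of_pos_left _ hpos) (Nat.dvd_gcd hca hcb))⟩

omit [Fintype G] hN [Fintype N] in
theorem Link.trans' {a b c : ℕ} (h₁ : Link N a b) (h₂ : Link N b c) : Link N a c := by
  obtain ⟨ha, hb, h⟩ := h₁
  obtain ⟨hb', hc, h'⟩ := h₂
  exact ⟨ha, hc, h.trans h'⟩

omit [Fintype G] hN [Fintype N] in
theorem Link.symm' {a b : ℕ} (h₁ : Link N a b) : Link N b a := by
  obtain ⟨ha, hb, h⟩ := h₁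
  exact ⟨hb, ha, h.symm⟩

omit hN [Fintype N] in
theorem degree_spec {χ : G → ℂ} (hχ : Cfsg.IsIrrCharacter G χ) :
    0 < Cfsg.charDegree χ ∧ χ 1 = Cfsg.charDegree χ := by
  obtain ⟨n, hn, h⟩ := IsIrrCharacter.apply_one_eq hχ
  have : Cfsg.charDegree χ = n := by simp [Cfsg.charDegree, h]
  exact ⟨this ▸ hn, this ▸ h⟩

theorem mem_rel {χ : G → ℂ} (hχ : Cfsg.IsIrrCharacter G χ) {θ : N → ℂ} (hθ : Cfsg.IsIrrCharacter N θ)
    (hθ1 : θ ≠ fun _ => 1) (h : Over χ θ) : Cfsg.charDegree χ ∈ Cfsg.relCharDegrees N := by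
  refine ⟨⟨χ, hχ⟩, ?_, rfl⟩
  by_contra hcon
  push Not at hcon
  refine h ?_
  have e : ∀ n : N, χ n = χ 1 := fun n => hcon n n.2
  have h0 := classInner_irr_ne (isIrrCharacter_one (G := N)) hθ (Ne.symm hθ1)
  rw [Cfsg.classInner] at h0 ⊢
  simp only [one_mul] at h0
  simp only [e]
  rw [← Finset.mul_sum, mul_left_comm, h0, mul_zero]

omit [Fintype G] hN [Fintype N] in
theorem fn_ne_one {μ : N →* ℂˣ} {r : ℕ} (hr : r.Prime) (hμ : orderOf μ = r) : fn μ ≠ fun _ => 1 := by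
  intro h
  have : μ = 1 := MonoidHom.ext fun n => Units.ext (congrFun h n)
  rw [this, orderOf_one] at hμ
  exact hr.ne_one hμ.symm

/-- A linear character of order `r` that `b` is linked to through an `r'`-degree. -/
def Good (N : Subgroup G) [N.Normal] [Fintype N] (r b : ℕ) (μ : N →* ℂˣ) : Prop :=
  orderOf μ = r ∧ ∃ ξ : G → ℂ, Cfsg.IsIrrCharacter G ξ ∧ Over ξ (fn μ) ∧ ¬ r ∣ Cfsg.charDegree ξ ∧
    Link N b (Cfsg.charDegree ξ)

theorem Good.link {r b : ℕ} {μ : N →* ℂˣ} (h : Good N r b μ) {c : ℕ} (h' : Link N c b) : Good N r c μ :=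
  ⟨h.1, h.2.imp fun _ hξ => ⟨hξ.1, hξ.2.1, hξ.2.2.1, h'.trans' hξ.2.2.2⟩⟩

variable (hNG : N ≤ commutator G)
include hNG

theorem Good.one_lt {r b : ℕ} {μ : N →* ℂˣ} (h : Good N r b μ) :
    1 < (stab (G := G) (fn μ)).index := by
  obtain ⟨hμ, ξ, hξ, hov, hr, -⟩ := h
  exact one_lt_index_stab hNG hμ hξ hov (degree_spec hξ).2 hr

theorem good_of_det {χ : G → ℂ} (hχ : Cfsg.IsIrrCharacter G χ) {θ : N → ℂ}
    (hθ : Cfsg.IsIrrCharacter N θ) (h : Over χ θ) (hmem : Cfsg.charDegree χ ∈ Cfsg.relCharDegrees N)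
    {r : ℕ} (hr : r.Prime) (hrd : ¬ r ∣ Cfsg.charDegree χ)
    (hδ : r ∣ orderOf (det (IsIrrCharacter.isCharacter hθ))) :
    ∃ μ, Good N r (Cfsg.charDegree χ) μ := by
  obtain ⟨μ, ξ, f, hμ, hξ, hov, hf, hrf, hdvd⟩ :=
    exists_linear_of_det hχ hθ h (degree_spec hχ).2 hr hrd hδ
  have hf' : f = Cfsg.charDegree ξ := by
    have := (degree_spec hξ).2
    rw [hf] at this
    exact_mod_cast this
  subst hf'
  have h1 : (stab (G := G) (fn μ)).index ∣ Cfsg.charDegree ξ := by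
    have := index_stab_mul_dvd hξ (isIrrCharacter_hom μ) hov (degree_spec hξ).2 (k := 1) (by simp [fn])
    rwa [mul_one] at this
  exact ⟨μ, hμ, ξ, hξ, hov, hrf, link_of_dvd hmem
    (mem_rel hξ (isIrrCharacter_hom μ) (fn_ne_one hr hμ) hov)
    (one_lt_index_stab hNG hμ hξ hov hf hrf) hdvd h1 (degree_spec hχ).1⟩

/-- The dichotomy for a degree not divisible by `r`. -/
theorem good_or_multiple {χ : G → ℂ} (hχ : Cfsg.IsIrrCharacter G χ) {θ : N → ℂ}
    (hθ : Cfsg.IsIrrCharacter N θ) (hθ1 : θ ≠ fun _ => 1) (h : Over χ θ) {r : ℕ} (hr : r.Prime)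
    (hrd : ¬ r ∣ Cfsg.charDegree χ) :
    (∃ μ, Good N r (Cfsg.charDegree χ) μ) ∨ ∀ μ : N →* ℂˣ, orderOf μ = r →
      ∃ c, Link N (Cfsg.charDegree χ) c ∧ (stab (G := G) (fn μ)).index ∣ c ∧ r ∣ c := by
  classical
  have hmem := mem_rel hχ hθ hθ1 h
  set δ := det (IsIrrCharacter.isCharacter hθ) with hδdef
  by_cases hδ : r ∣ orderOf δ
  · exact Or.inl (good_of_det hNG hχ hθ h hmem hr hrd hδ)
  refine or_iff_not_imp_left.2 fun hno μ hμ => ?_
  set o := orderOf δ with ho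
  obtain ⟨k, hk0, hk⟩ := IsIrrCharacter.apply_one_eq hθ
  have hθχ := index_stab_mul_dvd hχ hθ h (degree_spec hχ).2 hk
  have hrk : ¬ r ∣ k := fun hh => hrd (hh.trans (dvd_of_mul_left_dvd hθχ))
  -- the twisted character
  have hθμ : Cfsg.IsIrrCharacter N (θ * fun n => (μ n : ℂ)) := IsIrrCharacter.mul_hom hθ μ
  set δ' := det (IsIrrCharacter.isCharacter hθμ) with hδ'def
  have hδ' : δ' = δ * μ ^ k := det_mul_linear _ μ hk _
  have hpow : δ' ^ o = μ ^ (k * o) := by
    rw [hδ', lp_mul_pow, lp_mul, ho, pow_orderOf_eq_one]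
    ext n; simp
  have hrko : ¬ r ∣ k * o := fun hh => (hr.dvd_mul.1 hh).elim hrk hδ
  have hordpow : orderOf (μ ^ (k * o)) = r := by
    rw [Nat.Coprime.orderOf_pow, hμ]
    rw [hμ]
    exact hr.coprime_iff_not_dvd.2 hrko
  have hrδ' : r ∣ orderOf δ' := by
    rw [← hordpow, ← hpow]
    exact orderOf_pow_dvd o
  have hθμ1 : (θ * fun n => (μ n : ℂ)) ≠ fun _ => 1 := by
    intro e
    have hcl : Cfsg.IsCharacter N (fn (1 : N →* ℂˣ)) := isCharacter_hom 1
    have e' : (θ * fun n => (μ n : ℂ)) = fn (1 : N →* ℂˣ) := e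
    have h1 : δ' = 1 := (det_congr _ hcl e').trans (det_linear 1 hcl)
    rw [h1, orderOf_one] at hrδ'
    exact hr.ne_one (Nat.dvd_one.1 hrδ')
  obtain ⟨χ', hχ', hov'⟩ := exists_over (G := G) hθμ
  have hmem' := mem_rel hχ' hθμ hθμ1 hov'
  have hdiv' := index_stab_mul_dvd hχ' hθμ hov' (degree_spec hχ').2 (k := k)
    (by rw [Pi.mul_apply, hk]; simp)
  have hstab1 : stab (G := G) (θ * fun n => (μ n : ℂ)) ≤ stab (fn δ') :=
    stab_le_stab_det (IsIrrCharacter.isCharacter hθμ)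
  -- the index of the stabiliser of `μ` divides the new degree
  have hμidx : (stab (G := G) (fn μ)).index ∣ Cfsg.charDegree χ' := by
    refine dvd_trans ?_ (dvd_of_mul_right_dvd hdiv')
    refine Subgroup.index_dvd_of_le (hstab1.trans ?_)
    refine (stab_le_pow δ' o).trans ?_
    rw [hpow]
    intro g hg
    obtain ⟨j, hj⟩ : ∃ j : ℕ, (μ ^ (k * o)) ^ j = μ :=
      exists_pow_eq_self_of_coprime (by rw [hμ]; exact (hr.coprime_iff_not_dvd.2 hrko).symm)
    have := stab_le_pow (G := G) (μ ^ (k * o)) j hg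
    rwa [hj] at this
  have hlink : Link N (Cfsg.charDegree χ) (Cfsg.charDegree χ') := by
    rcases Nat.lt_or_ge 1 k with hk1 | hk1
    · exact link_of_dvd hmem hmem' hk1 (dvd_of_mul_left_dvd hθχ) (dvd_of_mul_left_dvd hdiv') (degree_spec hχ).1
    have hk1 : k = 1 := by omega
    obtain ⟨φ, hφ⟩ := exists_hom_of_apply_one_eq_one (IsIrrCharacter.isCharacter hθ) (by rw [hk, hk1, Nat.cast_one])
    have hδφ : δ = φ := (det_congr _ (isCharacter_hom φ) hφ).trans (det_linear φ _)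
    have hφ1 : δ ≠ 1 := by
      intro e
      refine hθ1 ?_
      rw [hφ, ← hδφ, e]
      funext n
      simp
    -- `δ` is a power of `δ'`
    obtain ⟨j, hj⟩ : ∃ j : ℕ, δ' ^ j = δ := by
      obtain ⟨i, hi⟩ : ∃ i : ℕ, (δ ^ r) ^ i = δ :=
        exists_pow_eq_self_of_coprime (hr.coprime_iff_not_dvd.2 hδ)
      refine ⟨r * i, ?_⟩
      rw [hδ', lp_mul_pow, lp_mul δ r i, hi, lp_mul (μ ^ k) r i, ← lp_mul μ k r, mul_comm k r, lp_mul μ r k,
        ← hμ, pow_orderOf_eq_one]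
      ext n; simp
    have hsub : stab (G := G) (θ * fun n => (μ n : ℂ)) ≤ stab (fn δ) := by
      rw [← hj]
      exact hstab1.trans (stab_le_pow δ' j)
    have hδdvd : (stab (G := G) (fn δ)).index ∣ Cfsg.charDegree χ := by
      have := Subgroup.index_dvd_of_le (stab_le_stab_det (G := G) (IsIrrCharacter.isCharacter hθ))
      exact this.trans (dvd_of_mul_right_dvd hθχ)
    rcases Nat.lt_or_ge 1 (stab (G := G) (fn δ)).index with h1 | h1
    · exact link_of_dvd hmem hmem' h1 hδdvd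
        ((Subgroup.index_dvd_of_le hsub).trans (dvd_of_mul_right_dvd hdiv')) (degree_spec hχ).1
    have htop : stab (G := G) (fn δ) = ⊤ := Subgroup.index_eq_one.1
      (le_antisymm h1 (Nat.one_le_iff_ne_zero.2 Subgroup.index_ne_zero_of_finite))
    have hinvδ : ∀ g : G, cj g δ = δ := fun g => mem_stab_fn.1 (htop ▸ Subgroup.mem_top g)
    obtain ⟨s, hs, hso⟩ := Nat.exists_prime_and_dvd (fun e : orderOf δ = 1 => hφ1 (orderOf_eq_one_iff.1 e))
    have hd1 : δ ^ Cfsg.charDegree χ = 1 := by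
      have := det_pow_pow_eq_one hNG hχ hθ h (degree_spec hχ).2 1 fun g => by
        rw [lp_one]; exact hinvδ g
      rwa [lp_one] at this
    have hd2 : δ ^ Cfsg.charDegree χ' = 1 := by
      have := det_pow_pow_eq_one hNG hχ' hθμ hov' (degree_spec hχ').2 j fun g => by
        show cj g (δ' ^ j) = δ' ^ j
        rw [hj]; exact hinvδ g
      rw [← hδ'def, hj] at this
      exact this
    exact link_of_dvd hmem hmem' hs.one_lt (hso.trans (orderOf_dvd_of_pow_eq_one hd1))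
      (hso.trans (orderOf_dvd_of_pow_eq_one hd2)) (degree_spec hχ).1
  refine ⟨Cfsg.charDegree χ', hlink, hμidx, ?_⟩
  by_contra hr'
  obtain ⟨ν, hν⟩ := good_of_det hNG hχ' hθμ hov' hmem' hr hr' hrδ'
  exact hno ⟨ν, hν.link hlink⟩

theorem link_good {r a b : ℕ} (hr : r.Prime) {μ ν : N →* ℂˣ} (hμ : Good N r a μ) (hν : Good N r b ν) :
    Link N a b := by
  obtain ⟨hμo, ξ, hξ, hov, hrξ, hla⟩ := hμ
  obtain ⟨hνo, η, hη, hov', hrη, hlb⟩ := hν
  refine hla.trans' (Link.trans' ?_ hlb.symm')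
  have hmemξ := mem_rel hξ (isIrrCharacter_hom μ) (fn_ne_one hr hμo) hov
  have hmemη := mem_rel hη (isIrrCharacter_hom ν) (fn_ne_one hr hνo) hov'
  have h1 : (stab (G := G) (fn μ)).index ∣ Cfsg.charDegree ξ := by
    simpa using index_stab_mul_dvd hξ (isIrrCharacter_hom μ) hov (degree_spec hξ).2 (k := 1) (by simp [fn])
  have h2 : (stab (G := G) (fn ν)).index ∣ Cfsg.charDegree η := by
    simpa using index_stab_mul_dvd hη (isIrrCharacter_hom ν) hov' (degree_spec hη).2 (k := 1) (by simp [fn])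
  have hn1 := one_lt_index_stab hNG hμo hξ hov (degree_spec hξ).2 hrξ
  have hn2 := one_lt_index_stab hNG hνo hη hov' (degree_spec hη).2 hrη
  by_cases hcop : ((stab (G := G) (fn μ)).index).Coprime (stab (G := G) (fn ν)).index
  · have ha : ¬ r ∣ (stab (G := G) (fn μ)).index := fun hh => hrξ (hh.trans h1)
    have hb : ¬ r ∣ (stab (G := G) (fn ν)).index := fun hh => hrη (hh.trans h2)
    have e1 := not_coprime_index_mul hr hμo hνo hn1 hb hcop
    have e2 := not_coprime_index_mul hr hνo hμo hn2 ha hcop.symm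
    rw [show ν * μ = μ * ν from mul_comm ν μ] at e2
    have hne : fn (μ * ν) ≠ fun _ => 1 := by
      intro h
      refine e1 ?_
      have hm : μ * ν = 1 := MonoidHom.ext fun n => Units.ext (congrFun h n)
      have htop : stab (G := G) (fn (μ * ν)) = ⊤ := eq_top_iff.2 fun g _ => by
        rw [mem_stab_fn, hm]
        ext n; simp [cj]
      rw [htop, Subgroup.index_top]
      exact Nat.coprime_one_right _
    obtain ⟨χ, hχ, hoχ⟩ := exists_over (G := G) (isIrrCharacter_hom (μ * ν))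
    have hmemχ := mem_rel hχ (isIrrCharacter_hom (μ * ν)) hne hoχ
    have h3 : (stab (G := G) (fn (μ * ν))).index ∣ Cfsg.charDegree χ := by
      have := index_stab_mul_dvd hχ (isIrrCharacter_hom (μ * ν)) hoχ (degree_spec hχ).2 (k := 1)
        (by simp)
      rwa [mul_one] at this
    have mk : ∀ {x y d : ℕ}, ¬ x.Coprime y → x ∣ d → y ∣ Cfsg.charDegree χ →
        d ∈ Cfsg.relCharDegrees N → 0 < d → Link N d (Cfsg.charDegree χ) := by
      intro x y d hxy hxd hyd hd hdpos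
      obtain ⟨p, hp, hpx, hpy⟩ := Nat.Prime.not_coprime_iff_dvd.1 hxy
      exact link_of_dvd hd hmemχ hp.one_lt (hpx.trans hxd) (hpy.trans hyd) hdpos
    exact (mk e1 h1 h3 hmemξ (degree_spec hξ).1).trans' (mk e2 h2 h3 hmemη (degree_spec hη).1).symm'
  · obtain ⟨p, hp, hpx, hpy⟩ := Nat.Prime.not_coprime_iff_dvd.1 hcop
    exact link_of_dvd hmemξ hmemη hp.one_lt (hpx.trans h1) (hpy.trans h2) (degree_spec hξ).1

theorem link_good_ne {r s a b : ℕ} (hr : r.Prime) (hs : s.Prime) (hrs : r ≠ s) {μ ν : N →* ℂˣ}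
    (hμ : Good N r a μ) (hν : Good N s b ν) : Link N a b := by
  have hn1 := hμ.one_lt hNG
  have hn2 := hν.one_lt hNG
  obtain ⟨hμo, ξ, hξ, hov, hrξ, hla⟩ := hμ
  obtain ⟨hνo, η, hη, hov', hrη, hlb⟩ := hν
  refine hla.trans' (Link.trans' ?_ hlb.symm')
  have hμs : orderOf (μ ^ s) = r := by
    rw [Nat.Coprime.orderOf_pow, hμo]
    rw [hμo]
    exact (Nat.coprime_primes hr hs).2 hrs
  have hps : (μ * ν) ^ s = μ ^ s := by
    rw [lp_mul_pow, ← hνo, pow_orderOf_eq_one]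
    ext n; simp
  have hpr : (μ * ν) ^ r = ν ^ r := by
    rw [lp_mul_pow, ← hμo, pow_orderOf_eq_one]
    ext n; simp
  have hsubμ : stab (G := G) (fn (μ * ν)) ≤ stab (fn μ) := by
    intro g hg
    obtain ⟨i, hi⟩ : ∃ i : ℕ, (μ ^ s) ^ i = μ :=
      exists_pow_eq_self_of_coprime (by rw [hμo]; exact (Nat.coprime_primes hs hr).2 (Ne.symm hrs))
    have := stab_le_pow (G := G) _ s hg
    rw [hps] at this
    have := stab_le_pow (G := G) _ i this
    rwa [hi] at this
  have hsubν : stab (G := G) (fn (μ * ν)) ≤ stab (fn ν) := by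
    intro g hg
    obtain ⟨i, hi⟩ : ∃ i : ℕ, (ν ^ r) ^ i = ν :=
      exists_pow_eq_self_of_coprime (by rw [hνo]; exact (Nat.coprime_primes hr hs).2 hrs)
    have := stab_le_pow (G := G) _ r hg
    rw [hpr] at this
    have := stab_le_pow (G := G) _ i this
    rwa [hi] at this
  have hne : fn (μ * ν) ≠ fun _ => 1 := by
    intro h
    have hm : μ * ν = 1 := MonoidHom.ext fun n => Units.ext (congrFun h n)
    rw [hm, lp_one_pow] at hps
    rw [← hps, orderOf_one] at hμs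
    exact hr.ne_one hμs.symm
  obtain ⟨χ, hχ, hoχ⟩ := exists_over (G := G) (isIrrCharacter_hom (μ * ν))
  have hmemχ := mem_rel hχ (isIrrCharacter_hom (μ * ν)) hne hoχ
  have h3 : (stab (G := G) (fn (μ * ν))).index ∣ Cfsg.charDegree χ := by
    have := index_stab_mul_dvd hχ (isIrrCharacter_hom (μ * ν)) hoχ (degree_spec hχ).2 (k := 1)
      (by simp)
    rwa [mul_one] at this
  have h1 : (stab (G := G) (fn μ)).index ∣ Cfsg.charDegree ξ := by
    simpa using index_stab_mul_dvd hξ (isIrrCharacter_hom μ) hov (degree_spec hξ).2 (k := 1) (by simp [fn])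
  have h2 : (stab (G := G) (fn ν)).index ∣ Cfsg.charDegree η := by
    simpa using index_stab_mul_dvd hη (isIrrCharacter_hom ν) hov' (degree_spec hη).2 (k := 1) (by simp [fn])
  exact (link_of_dvd (mem_rel hξ (isIrrCharacter_hom μ) (fn_ne_one hr hμo) hov) hmemχ hn1 h1
      ((Subgroup.index_dvd_of_le hsubμ).trans h3) (degree_spec hξ).1).trans'
    (link_of_dvd hmemχ (mem_rel hη (isIrrCharacter_hom ν) (fn_ne_one hs hνo) hov') hn2
      ((Subgroup.index_dvd_of_le hsubν).trans h3) h2 (degree_spec hχ).1)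

omit hNG in
theorem exists_order {r : ℕ} (hr : r.Prime) (h : r ∣ ⁅N, N⁆.relIndex N) :
    ∃ μ : N →* ℂˣ, orderOf μ = r := by
  have he : ⁅N, N⁆.relIndex N = (commutator N).index := by
    rw [Subgroup.relIndex, Subgroup.subgroupOf, ← Subgroup.map_subtype_commutator,
      Subgroup.comap_map_eq_self_of_injective N.subtype_injective]
  have : NeZero (Monoid.exponent (Abelianization N) : ℂ) :=
    ⟨by exact_mod_cast Monoid.exponent_ne_zero_of_finite⟩
  have hc : Nat.card (N →* ℂˣ) = (commutator N).index := by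
    rw [Nat.card_congr Abelianization.lift,
      CommGroup.card_monoidHom_of_hasEnoughRootsOfUnity (Abelianization N) ℂ]
    rfl
  haveI : Finite (N →* ℂˣ) := Nat.finite_of_card_ne_zero (by rw [hc]; exact Subgroup.index_ne_zero_of_finite)
  haveI := Fact.mk hr
  exact exists_prime_orderOf_dvd_card' r (by rw [hc, ← he]; exact h)

/-- Any two degrees each missing a prime of `|N : N'|` are linked. -/
theorem link_nonfull {a b : ℕ} (ha : a ∈ Cfsg.relCharDegrees N) (hb : b ∈ Cfsg.relCharDegrees N)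
    {r s : ℕ} (hr : r.Prime) (hrm : r ∣ ⁅N, N⁆.relIndex N) (hra : ¬ r ∣ a)
    (hs : s.Prime) (hsm : s ∣ ⁅N, N⁆.relIndex N) (hsb : ¬ s ∣ b) : Link N a b := by
  have dich : ∀ {t d : ℕ}, t.Prime → d ∈ Cfsg.relCharDegrees N → ¬ t ∣ d →
      (∃ μ, Good N t d μ) ∨ ∀ μ : N →* ℂˣ, orderOf μ = t →
        ∃ c, Link N d c ∧ (stab (G := G) (fn μ)).index ∣ c ∧ t ∣ c := by
    intro t d ht hd htd
    obtain ⟨χ, ⟨x, hx, hne⟩, rfl⟩ := hd
    obtain ⟨θ, hθ, hov, hθ1⟩ : ∃ θ : N → ℂ, Cfsg.IsIrrCharacter N θ ∧ Over (χ : G → ℂ) θ ∧ θ ≠ fun _ => 1 := by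
      by_contra hcon
      push Not at hcon
      obtain ⟨m, hm, hsum⟩ := IsCharacter.exists_multiplicity
        (IsCharacter.restrict (IsIrrCharacter.isCharacter χ.2) N)
      refine hne ?_
      have key : ∀ n : N, (χ : G → ℂ) n = ∑ φ : Cfsg.IrrCharacter N, (m φ : ℂ) := by
        intro n
        rw [hsum n]
        refine Finset.sum_congr rfl fun φ _ => ?_
        rcases eq_or_ne (m φ) 0 with h0 | h0
        · simp [h0]
        · rw [hcon φ φ.2 (by rw [Over, hm φ]; exact_mod_cast h0), mul_one]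
      exact (key ⟨x, hx⟩).trans (key 1).symm
    exact good_or_multiple hNG χ.2 hθ hθ1 hov ht htd
  have linkc : ∀ {t d e c : ℕ}, 1 < t → Link N d c → t ∣ c → e ∈ Cfsg.relCharDegrees N → t ∣ e →
      0 < e → Link N d e := by
    intro t d e c ht hl htc he hte hpos
    exact hl.trans' (link_of_dvd he hl.2.1 ht hte htc hpos).symm'
  have hpos : ∀ {d : ℕ}, d ∈ Cfsg.relCharDegrees N → 0 < d := by
    rintro d ⟨χ, -, rfl⟩
    exact (degree_spec χ.2).1
  -- both miss `r`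
  have same : ∀ {r d e : ℕ}, r.Prime → r ∣ ⁅N, N⁆.relIndex N → d ∈ Cfsg.relCharDegrees N →
      e ∈ Cfsg.relCharDegrees N → ¬ r ∣ d → ¬ r ∣ e → Link N d e := by
    intro r d e hr hrm hd he hrd hre
    have aux : ∀ {d e : ℕ}, e ∈ Cfsg.relCharDegrees N → (∃ μ, Good N r d μ) →
        (∀ μ : N →* ℂˣ, orderOf μ = r → ∃ c, Link N e c ∧ (stab (G := G) (fn μ)).index ∣ c ∧ r ∣ c) →
        Link N d e := by
      intro d e he ⟨μ, hμ⟩ hall
      obtain ⟨c, hc, hic, -⟩ := hall μ hμ.1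
      have hn := hμ.one_lt hNG
      obtain ⟨hμo, ξ, hξ, hov, hrξ, hl⟩ := hμ
      have h1 : (stab (G := G) (fn μ)).index ∣ Cfsg.charDegree ξ := by
        simpa using index_stab_mul_dvd hξ (isIrrCharacter_hom μ) hov (degree_spec hξ).2 (k := 1) (by simp [fn])
      exact hl.trans' ((link_of_dvd hl.2.1 hc.2.1 hn h1 hic (degree_spec hξ).1).trans' hc.symm')
    rcases dich hr hd hrd with hd' | hd' <;> rcases dich hr he hre with he' | he'
    · obtain ⟨μ, hμ⟩ := hd'
      obtain ⟨ν, hν⟩ := he'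
      exact link_good hNG hr hμ hν
    · exact aux he hd' he'
    · exact (aux hd he' hd').symm'
    · obtain ⟨μ, hμ⟩ := exists_order (N := N) hr hrm
      obtain ⟨c, hc, -, hrc⟩ := hd' μ hμ
      obtain ⟨c', hc', -, hrc'⟩ := he' μ hμ
      exact hc.trans' ((link_of_dvd hc.2.1 hc'.2.1 hr.one_lt hrc hrc' (hpos hc.2.1)).trans' hc'.symm')
  by_cases hrb : r ∣ b
  · by_cases hsa : s ∣ a
    · rcases dich hr ha hra with ha' | ha'
      · rcases dich hs hb hsb with hb' | hb'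
        · obtain ⟨μ, hμ⟩ := ha'
          obtain ⟨ν, hν⟩ := hb'
          exact link_good_ne hNG hr hs (fun e => hsb (e ▸ hrb)) hμ hν
        · obtain ⟨ν, hν⟩ := exists_order (N := N) hs hsm
          obtain ⟨c, hc, -, hsc⟩ := hb' ν hν
          exact (linkc hs.one_lt hc hsc ha hsa (hpos ha)).symm'
      · obtain ⟨μ, hμ⟩ := exists_order (N := N) hr hrm
        obtain ⟨c, hc, -, hrc⟩ := ha' μ hμ
        exact linkc hr.one_lt hc hrc hb hrb (hpos hb)
    · exact same hs hsm ha hb hsa hsb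
  · exact same hr hrm ha hb hra hrb

end CfsgLib.Char.DegreeComponents
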