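import Cfsg.Agent.Lib.Char.DegreeComponents
import Cfsg.Agent.Lib.Char.CoherenceFeit

/-!
# Diameters in a disconnected common-divisor graph on `cd(G | N)`

For a solvable normal `N` inside the derived subgroup: if two degrees are not linked to a third, then
they are equal, adjacent or have a common neighbour.
-/

set_option autoImplicit false

namespace CfsgLib.Char.DegreeComponentsDiam

open CfsgLib CfsgLib.Char.LinearOverNormal CfsgLib.Char.DegreeComponents

universe u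

variable {G : Type u} [Group G] [Fintype G]

/-- `x` is a vertex having a common divisor with `d` and with `e`. -/
def Between (N : Subgroup G) (d e : ℕ) : Prop :=
  ∃ x ∈ Cfsg.relCharDegrees N, 1 < Nat.gcd d x ∧ 1 < Nat.gcd x e

theorem one_lt_gcd {c a b : ℕ} (hc : 1 < c) (ha : c ∣ a) (hb : c ∣ b) (hpos : 0 < a) :
    1 < Nat.gcd a b :=
  hc.trans_le (Nat.le_of_dvd (Nat.gcd_pos_of_pos_left _ hpos) (Nat.dvd_gcd ha hb))

theorem between_mono {M N : Subgroup G} (h : M ≤ N) {d e : ℕ} : Between M d e → Between N d e := by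
  rintro ⟨x, ⟨χ, ⟨y, hy, hne⟩, hd⟩, h1, h2⟩
  exact ⟨x, ⟨χ, ⟨y, h hy, hne⟩, hd⟩, h1, h2⟩

theorem rel_mono {M N : Subgroup G} (h : M ≤ N) : Cfsg.relCharDegrees M ⊆ Cfsg.relCharDegrees N := by
  rintro x ⟨χ, ⟨y, hy, hne⟩, hd⟩
  exact ⟨χ, ⟨y, h hy, hne⟩, hd⟩

theorem pos_of_mem {N : Subgroup G} {d : ℕ} (hd : d ∈ Cfsg.relCharDegrees N) : 0 < d := by
  obtain ⟨χ, -, rfl⟩ := hd
  exact (degree_spec χ.2).1

variable {N : Subgroup G} [hN : N.Normal] [Fintype N]

omit [Fintype G] hN in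
theorem dvd_relIndex {μ : N →* ℂˣ} : orderOf μ ∣ ⁅N, N⁆.relIndex N := by
  have he : ⁅N, N⁆.relIndex N = (commutator N).index := by
    rw [Subgroup.relIndex, Subgroup.subgroupOf, ← Subgroup.map_subtype_commutator,
      Subgroup.comap_map_eq_self_of_injective N.subtype_injective]
  have : NeZero (Monoid.exponent (Abelianization N) : ℂ) :=
    ⟨by exact_mod_cast Monoid.exponent_ne_zero_of_finite⟩
  have hc : Nat.card (N →* ℂˣ) = (commutator N).index := by
    rw [Nat.card_congr Abelianization.lift,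
      CommGroup.card_monoidHom_of_hasEnoughRootsOfUnity (Abelianization N) ℂ]
    rfl
  rw [he, ← hc]
  exact orderOf_dvd_natCard μ

/-- A linear character of prime order whose orbit length exceeds one and divides `d`. -/
def Lin (N : Subgroup G) [N.Normal] (d r : ℕ) (μ : N →* ℂˣ) : Prop :=
  r.Prime ∧ r ∣ ⁅N, N⁆.relIndex N ∧ orderOf μ = r ∧ 1 < (stab (G := G) (fn μ)).index ∧
    (stab (G := G) (fn μ)).index ∣ d

/-- The degree of a nonlinear constituent with determinant of order prime to `r`. -/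
def NonLin (N : Subgroup G) [N.Normal] [Fintype N] (d r : ℕ) : Prop :=
  ∃ (χ : G → ℂ) (θ : N → ℂ) (hθ : Cfsg.IsIrrCharacter N θ) (k : ℕ), Cfsg.IsIrrCharacter G χ ∧
    Over χ θ ∧ Cfsg.charDegree χ = d ∧ θ 1 = k ∧ 1 < k ∧ k ∣ d ∧
    ¬ r ∣ orderOf (det (IsIrrCharacter.isCharacter hθ))

variable (hNG : N ≤ commutator G)
include hNG

theorem lin_or_nonLin {d : ℕ} (hd : d ∈ Cfsg.relCharDegrees N)
    (hcop : ∀ s : ℕ, s.Prime → s ∣ ⁅N, N⁆.relIndex N → ¬ s ∣ d) {r : ℕ} (hr : r.Prime)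
    (hrm : r ∣ ⁅N, N⁆.relIndex N) : (∃ s μ, Lin N d s μ) ∨ NonLin N d r := by
  classical
  obtain ⟨⟨χ, hχ⟩, ⟨x, hx, hne⟩, rfl⟩ := hd
  simp only at hne hcop ⊢
  obtain ⟨θ, hθ, hov, hθ1⟩ : ∃ θ : N → ℂ, Cfsg.IsIrrCharacter N θ ∧ Over χ θ ∧ θ ≠ fun _ => 1 := by
    by_contra hcon
    push Not at hcon
    obtain ⟨m, hm, hsum⟩ := IsCharacter.exists_multiplicity
      (IsCharacter.restrict (IsIrrCharacter.isCharacter hχ) N)
    refine hne ?_
    have key : ∀ n : N, χ n = ∑ φ : Cfsg.IrrCharacter N, (m φ : ℂ) := by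
      intro n
      rw [hsum n]
      refine Finset.sum_congr rfl fun φ _ => ?_
      rcases eq_or_ne (m φ) 0 with h0 | h0
      · simp [h0]
      · rw [hcon φ φ.2 (by rw [Over, hm φ]; exact_mod_cast h0), mul_one]
    exact (key ⟨x, hx⟩).trans (key 1).symm
  obtain ⟨hpos, hdeg⟩ := degree_spec hχ
  set δ := det (IsIrrCharacter.isCharacter hθ) with hδdef
  have mk : ∀ s : ℕ, s.Prime → s ∣ ⁅N, N⁆.relIndex N → s ∣ orderOf δ →
      ∃ μ, Lin N (Cfsg.charDegree χ) s μ := by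
    intro s hs hsm hso
    obtain ⟨μ, ξ, f, hμ, hξ, hoξ, hf, hsf, hdvd⟩ :=
      exists_linear_of_det hχ hθ hov hdeg hs (hcop s hs hsm) hso
    exact ⟨μ, hs, hsm, hμ, one_lt_index_stab hNG hμ hξ hoξ hf hsf, hdvd⟩
  obtain ⟨k, hk0, hk⟩ := IsIrrCharacter.apply_one_eq hθ
  by_cases hδ : r ∣ orderOf δ
  · exact Or.inl ⟨r, mk r hr hrm hδ⟩
  rcases Nat.lt_or_ge 1 k with hk1 | hk1
  · exact Or.inr ⟨χ, θ, hθ, k, hχ, hov, rfl, hk, hk1,
      dvd_of_mul_left_dvd (index_stab_mul_dvd hχ hθ hov hdeg hk), hδ⟩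
  have hk1 : k = 1 := by omega
  obtain ⟨φ, hφ⟩ := exists_hom_of_apply_one_eq_one (IsIrrCharacter.isCharacter hθ)
    (by rw [hk, hk1, Nat.cast_one])
  have hδφ : δ = φ := (det_congr _ (isCharacter_hom φ) hφ).trans (det_linear φ _)
  have hne1 : orderOf δ ≠ 1 := fun e => hθ1 (by
    rw [hφ, ← hδφ, orderOf_eq_one_iff.1 e]
    funext n
    simp)
  obtain ⟨s, hs, hso⟩ := Nat.exists_prime_and_dvd hne1
  exact Or.inl ⟨s, mk s hs (hso.trans dvd_relIndex) hso⟩

omit hNG in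
theorem mem_of_stab {μ : N →* ℂˣ} {θ : N → ℂ} (hθ : Cfsg.IsIrrCharacter N θ) (hθ1 : θ ≠ fun _ => 1)
    (hle : stab (G := G) θ ≤ stab (fn μ)) :
    ∃ c ∈ Cfsg.relCharDegrees N, (stab (G := G) (fn μ)).index ∣ c := by
  obtain ⟨χ, hχ, hov⟩ := exists_over (G := G) hθ
  obtain ⟨k, -, hk⟩ := IsIrrCharacter.apply_one_eq hθ
  exact ⟨_, mem_rel hχ hθ hθ1 hov, (Subgroup.index_dvd_of_le hle).trans
    (dvd_of_mul_right_dvd (index_stab_mul_dvd hχ hθ hov (degree_spec hχ).2 hk))⟩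

omit hNG in
/-- Two degrees with linear characters attached have a common neighbour. -/
theorem between_lin {d e r s : ℕ} (hd : d ∈ Cfsg.relCharDegrees N) (he : e ∈ Cfsg.relCharDegrees N)
    (hcd : ¬ r ∣ d) (hce : ¬ s ∣ e)
    {μ ν : N →* ℂˣ} (hμ : Lin N d r μ) (hν : Lin N e s ν) : Between N d e := by
  obtain ⟨hr, -, hμo, hn1, hi1⟩ := hμ
  obtain ⟨hs, -, hνo, hn2, hi2⟩ := hν
  have hdp := pos_of_mem hd
  have hep := pos_of_mem he
  by_cases hrs : r = s
  · subst hrs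
    by_cases hcop : ((stab (G := G) (fn μ)).index).Coprime (stab (G := G) (fn ν)).index
    · have ha : ¬ r ∣ (stab (G := G) (fn μ)).index := fun hh => hcd (hh.trans hi1)
      have hb : ¬ r ∣ (stab (G := G) (fn ν)).index := fun hh => hce (hh.trans hi2)
      have e1 := not_coprime_index_mul hr hμo hνo hn1 hb hcop
      have e2 := not_coprime_index_mul hr hνo hμo hn2 ha hcop.symm
      rw [show ν * μ = μ * ν from mul_comm ν μ] at e2
      have hne : fn (μ * ν) ≠ fun _ => 1 := by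
        intro h
        refine e1 ?_
        have hm : μ * ν = 1 := MonoidHom.ext fun n => Units.ext (congrFun h n)
        have htop : stab (G := G) (fn (μ * ν)) = ⊤ := eq_top_iff.2 fun g _ => by
          rw [mem_stab_fn, hm]
          ext n; simp [cj]
        rw [htop, Subgroup.index_top]
        exact Nat.coprime_one_right _
      obtain ⟨x, hx, hdvd⟩ := mem_of_stab (G := G) (μ := μ * ν) (isIrrCharacter_hom (μ * ν)) hne le_rfl
      obtain ⟨p, hp, hp1, hp2⟩ := Nat.Prime.not_coprime_iff_dvd.1 e1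
      obtain ⟨q, hq, hq1, hq2⟩ := Nat.Prime.not_coprime_iff_dvd.1 e2
      exact ⟨x, hx, one_lt_gcd hp.one_lt (hp1.trans hi1) (hp2.trans hdvd) hdp,
        one_lt_gcd hq.one_lt (hq2.trans hdvd) (hq1.trans hi2) (pos_of_mem hx)⟩
    · obtain ⟨p, hp, hp1, hp2⟩ := Nat.Prime.not_coprime_iff_dvd.1 hcop
      exact ⟨d, hd, one_lt_gcd hn1 hi1 hi1 hdp, one_lt_gcd hp.one_lt (hp1.trans hi1) (hp2.trans hi2) hdp⟩
  · have hμs : orderOf (μ ^ s) = r := by
      rw [Nat.Coprime.orderOf_pow, hμo]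
      rw [hμo]
      exact (Nat.coprime_primes hr hs).2 hrs
    have hps : (μ * ν) ^ s = μ ^ s := by
      rw [lp_mul_pow, ← hνo, pow_orderOf_eq_one]
      ext n; simp
    have hpr : (μ * ν) ^ r = ν ^ r := by
      rw [lp_mul_pow, ← hμo, pow_orderOf_eq_one]
      ext n; simp
    have hsubμ : stab (G := G) (fn (μ * ν)) ≤ stab (fn μ) := by
      intro g hg
      obtain ⟨i, hi⟩ : ∃ i : ℕ, (μ ^ s) ^ i = μ :=
        exists_pow_eq_self_of_coprime (by rw [hμo]; exact (Nat.coprime_primes hs hr).2 (Ne.symm hrs))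
      have := stab_le_pow (G := G) _ s hg
      rw [hps] at this
      have := stab_le_pow (G := G) _ i this
      rwa [hi] at this
    have hsubν : stab (G := G) (fn (μ * ν)) ≤ stab (fn ν) := by
      intro g hg
      obtain ⟨i, hi⟩ : ∃ i : ℕ, (ν ^ r) ^ i = ν :=
        exists_pow_eq_self_of_coprime (by rw [hνo]; exact (Nat.coprime_primes hr hs).2 hrs)
      have := stab_le_pow (G := G) _ r hg
      rw [hpr] at this
      have := stab_le_pow (G := G) _ i this
      rwa [hi] at this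
    have hne : fn (μ * ν) ≠ fun _ => 1 := by
      intro h
      have hm : μ * ν = 1 := MonoidHom.ext fun n => Units.ext (congrFun h n)
      rw [hm, lp_one_pow] at hps
      rw [← hps, orderOf_one] at hμs
      exact hr.ne_one hμs.symm
    obtain ⟨x, hx, hdvd⟩ := mem_of_stab (G := G) (μ := μ * ν) (isIrrCharacter_hom (μ * ν)) hne le_rfl
    exact ⟨x, hx, one_lt_gcd hn1 hi1 ((Subgroup.index_dvd_of_le hsubμ).trans hdvd) hdp,
      one_lt_gcd hn2 ((Subgroup.index_dvd_of_le hsubν).trans hdvd) hi2 (pos_of_mem hx)⟩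

/-- A neighbour of a nonlinear-type degree attached to a given linear character of order `r`. -/
theorem exists_twist {d r : ℕ} (hd : d ∈ Cfsg.relCharDegrees N) (hr : r.Prime) (hrd : ¬ r ∣ d)
    (h : NonLin N d r) {μ : N →* ℂˣ} (hμ : orderOf μ = r) :
    ∃ c ∈ Cfsg.relCharDegrees N, 1 < Nat.gcd d c ∧ (stab (G := G) (fn μ)).index ∣ c ∧
      ((stab (G := G) (fn μ)).index = 1 → r ∣ c) := by
  obtain ⟨χ, θ, hθ, k, hχ, hov, hχd, hk, hk1, hkd, hδ⟩ := h
  set δ := det (IsIrrCharacter.isCharacter hθ) with hδdef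
  set o := orderOf δ with ho
  have hrk : ¬ r ∣ k := fun hh => hrd (hh.trans hkd)
  have hθμ : Cfsg.IsIrrCharacter N (θ * fun n => (μ n : ℂ)) := IsIrrCharacter.mul_hom hθ μ
  set δ' := det (IsIrrCharacter.isCharacter hθμ) with hδ'def
  have hδ' : δ' = δ * μ ^ k := det_mul_linear _ μ hk _
  have hpow : δ' ^ o = μ ^ (k * o) := by
    rw [hδ', lp_mul_pow, lp_mul, ho, pow_orderOf_eq_one]
    ext n; simp
  have hrko : ¬ r ∣ k * o := fun hh => (hr.dvd_mul.1 hh).elim hrk hδ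
  have hordpow : orderOf (μ ^ (k * o)) = r := by
    rw [Nat.Coprime.orderOf_pow, hμ]
    rw [hμ]
    exact hr.coprime_iff_not_dvd.2 hrko
  obtain ⟨χ', hχ', hov'⟩ := exists_over (G := G) hθμ
  have hθμ1 : (θ * fun n => (μ n : ℂ)) ≠ fun _ => 1 := by
    intro e
    have h1 := congrFun e 1
    rw [Pi.mul_apply, hk] at h1
    simp only [map_one, Units.val_one, mul_one] at h1
    rw [Nat.cast_eq_one] at h1
    omega
  have hmem' := mem_rel hχ' hθμ hθμ1 hov'
  have hdiv' := index_stab_mul_dvd hχ' hθμ hov' (degree_spec hχ').2 (k := k)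
    (by rw [Pi.mul_apply, hk]; simp)
  refine ⟨_, hmem', one_lt_gcd hk1 hkd (dvd_of_mul_left_dvd hdiv') (pos_of_mem hd), ?_, ?_⟩
  · refine dvd_trans ?_ (dvd_of_mul_right_dvd hdiv')
    refine Subgroup.index_dvd_of_le ((stab_le_stab_det (IsIrrCharacter.isCharacter hθμ)).trans ?_)
    refine (stab_le_pow δ' o).trans ?_
    rw [hpow]
    intro g hg
    obtain ⟨j, hj⟩ : ∃ j : ℕ, (μ ^ (k * o)) ^ j = μ :=
      exists_pow_eq_self_of_coprime (by rw [hμ]; exact (hr.coprime_iff_not_dvd.2 hrko).symm)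
    have := stab_le_pow (G := G) (μ ^ (k * o)) j hg
    rwa [hj] at this
  · intro hone
    have htop : stab (G := G) (fn μ) = ⊤ := Subgroup.index_eq_one.1 hone
    have h2 := det_pow_pow_eq_one hNG hχ' hθμ hov' (degree_spec hχ').2 o fun g => by
      show cj g (δ' ^ o) = δ' ^ o
      rw [hpow, cj_pow, mem_stab_fn.1 (htop ▸ Subgroup.mem_top g)]
    rw [← hδ'def, hpow] at h2
    exact hordpow ▸ orderOf_dvd_of_pow_eq_one h2

omit hNG in
/-- The degree of a nonlinear constituent is nontrivial on the derived subgroup of `N`. -/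
theorem mem_rel_commutator {χ : G → ℂ} (hχ : Cfsg.IsIrrCharacter G χ) {θ : N → ℂ}
    (hθ : Cfsg.IsIrrCharacter N θ) (hov : Over χ θ) (h1 : θ 1 ≠ 1) :
    Cfsg.charDegree χ ∈ Cfsg.relCharDegrees ⁅N, N⁆ := by
  refine ⟨⟨χ, hχ⟩, ?_, rfl⟩
  by_contra hcon
  push Not at hcon
  refine h1 ?_
  have htriv : Coherence.TrivOn N ⁅N, N⁆ θ := fun a ha =>
    IsCharacter.constituent_apply_eq_one (IsCharacter.restrict (IsIrrCharacter.isCharacter hχ) N) hθ hov
      (hcon a ha)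
  rw [Coherence.natDeg_spec hθ, (Feit.trivOn_commutator_iff N hθ).1 htriv, Nat.cast_one]

omit [Fintype N] in
/-- Degrees not linked to a common third degree are equal, adjacent, or have a common neighbour. -/
theorem between_of_unlinked [Group.IsSolvable N] {d e b : ℕ} (hd : d ∈ Cfsg.relCharDegrees N)
    (he : e ∈ Cfsg.relCharDegrees N) (hb : b ∈ Cfsg.relCharDegrees N) (hdb : ¬ Link N d b)
    (heb : ¬ Link N e b) : d = e ∨ Between N d e := by
  induction hn : Nat.card N using Nat.strong_induction_on generalizing N d e b with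
  | _ n ih =>
  classical
  haveI : Fintype N := Fintype.ofFinite N
  have hN0 : N ≠ ⊥ := by
    rintro rfl
    obtain ⟨χ, ⟨x, hx, hne⟩, -⟩ := hd
    exact hne (by rw [Subgroup.mem_bot.1 hx])
  have hlt : ⁅N, N⁆ < N := by
    haveI : Nontrivial N := (Subgroup.nontrivial_iff_ne_bot N).2 hN0
    have h1 := Group.IsSolvable.commutator_lt_top_of_nontrivial N
    refine lt_of_le_of_ne (Subgroup.commutator_le_self N) fun h => h1.ne ?_
    refine Subgroup.map_injective N.subtype_injective ?_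
    rw [Subgroup.map_subtype_commutator, h, ← MonoidHom.range_eq_map, Subgroup.range_subtype]
  set m := ⁅N, N⁆.relIndex N with hm
  obtain ⟨r₀, hr₀, hr₀m⟩ := Nat.exists_prime_and_dvd
    (show m ≠ 1 from fun h => not_le_of_gt hlt (Subgroup.relIndex_eq_one.1 h))
  let Full : ℕ → Prop := fun x => ∀ r : ℕ, r.Prime → r ∣ m → r ∣ x
  have hfull : ∀ {x y}, x ∈ Cfsg.relCharDegrees N → y ∈ Cfsg.relCharDegrees N → Full x → Full y →
      Link N x y := fun {x y} hx hy h1 h2 =>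
    link_of_dvd hx hy hr₀.one_lt (h1 r₀ hr₀ hr₀m) (h2 r₀ hr₀ hr₀m) (pos_of_mem hx)
  have hnon : ∀ {x y}, x ∈ Cfsg.relCharDegrees N → y ∈ Cfsg.relCharDegrees N → ¬ Full x → ¬ Full y →
      Link N x y := by
    intro x y hx hy h1 h2
    simp only [Full, not_forall] at h1 h2
    obtain ⟨r, hr, hrm, hra⟩ := h1
    obtain ⟨s, hs, hsm, hsb⟩ := h2
    exact link_nonfull hNG hx hy hr hrm hra hs hsm hsb
  by_cases hfd : Full d
  · have hfb : ¬ Full b := fun h => hdb (hfull hd hb hfd h)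
    have hfe : Full e := by_contra fun h => heb (hnon he hb h hfb)
    exact Or.inr ⟨d, hd, one_lt_gcd hr₀.one_lt (hfd r₀ hr₀ hr₀m) (hfd r₀ hr₀ hr₀m) (pos_of_mem hd),
      one_lt_gcd hr₀.one_lt (hfd r₀ hr₀ hr₀m) (hfe r₀ hr₀ hr₀m) (pos_of_mem hd)⟩
  have hfb : Full b := by_contra fun h => hdb (hnon hd hb hfd h)
  have hfe : ¬ Full e := fun h => heb (hfull he hb h hfb)
  -- degrees linked to `d` are prime to `m`
  have hcop : ∀ {x}, x ∈ Cfsg.relCharDegrees N → ¬ Link N x b →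
      ∀ s : ℕ, s.Prime → s ∣ m → ¬ s ∣ x := fun {x} hx hxb s hs hsm hsx =>
    hxb (link_of_dvd hx hb hs.one_lt hsx (hfb s hs hsm) (pos_of_mem hx))
  have hdc := hcop hd hdb
  have hec := hcop he heb
  by_cases hLd : ∃ s μ, Lin N d s μ
  · obtain ⟨s, μ, hμ⟩ := hLd
    rcases lin_or_nonLin hNG he hec hμ.1 hμ.2.1 with ⟨t, ν, hν⟩ | hN2
    · exact Or.inr (between_lin hd he (hdc s hμ.1 hμ.2.1) (hec t hν.1 hν.2.1) hμ hν)
    · obtain ⟨c, hc, hec', hic, -⟩ := exists_twist hNG he hμ.1 (hec s hμ.1 hμ.2.1) hN2 hμ.2.2.1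
      exact Or.inr ⟨c, hc, one_lt_gcd hμ.2.2.2.1 hμ.2.2.2.2 hic (pos_of_mem hd), Nat.gcd_comm e c ▸ hec'⟩
  have hNd : ∀ r : ℕ, r.Prime → r ∣ m → NonLin N d r := fun r hr hrm =>
    (lin_or_nonLin hNG hd hdc hr hrm).resolve_left hLd
  rcases lin_or_nonLin hNG he hec hr₀ hr₀m with ⟨t, ν, hν⟩ | hN2
  · obtain ⟨c, hc, hdc', hic, -⟩ :=
      exists_twist hNG hd hν.1 (hdc t hν.1 hν.2.1) (hNd t hν.1 hν.2.1) hν.2.2.1
    exact Or.inr ⟨c, hc, hdc', one_lt_gcd hν.2.2.2.1 hic hν.2.2.2.2 (pos_of_mem hc)⟩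
  -- all three degrees are nontrivial on the derived subgroup
  have hd' : d ∈ Cfsg.relCharDegrees ⁅N, N⁆ := by
    obtain ⟨χ, θ, hθ, k, hχ, hov, rfl, hk, hk1, -, -⟩ := hNd r₀ hr₀ hr₀m
    exact mem_rel_commutator hχ hθ hov (by rw [hk, Ne, Nat.cast_eq_one]; omega)
  have he' : e ∈ Cfsg.relCharDegrees ⁅N, N⁆ := by
    obtain ⟨χ, θ, hθ, k, hχ, hov, rfl, hk, hk1, -, -⟩ := hN2
    exact mem_rel_commutator hχ hθ hov (by rw [hk, Ne, Nat.cast_eq_one]; omega)
  have hb' : b ∈ Cfsg.relCharDegrees ⁅N, N⁆ := by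
    obtain ⟨χ, ⟨x, hx, hne⟩, hχb⟩ := id hb
    rw [← hχb]
    obtain ⟨θ, hθ, hov, hθ1⟩ : ∃ θ : N → ℂ, Cfsg.IsIrrCharacter N θ ∧ Over (χ : G → ℂ) θ ∧
        θ ≠ fun _ => 1 := by
      by_contra hcon
      push Not at hcon
      obtain ⟨M, hM, hsum⟩ := IsCharacter.exists_multiplicity
        (IsCharacter.restrict (IsIrrCharacter.isCharacter χ.2) N)
      refine hne ?_
      have key : ∀ n : N, (χ : G → ℂ) n = ∑ φ : Cfsg.IrrCharacter N, (M φ : ℂ) := by
        intro n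
        rw [hsum n]
        refine Finset.sum_congr rfl fun φ _ => ?_
        rcases eq_or_ne (M φ) 0 with h0 | h0
        · simp [h0]
        · rw [hcon φ φ.2 (by rw [Over, hM φ]; exact_mod_cast h0), mul_one]
      exact (key ⟨x, hx⟩).trans (key 1).symm
    refine mem_rel_commutator χ.2 hθ hov fun h1 => ?_
    obtain ⟨φ, hφ⟩ := exists_hom_of_apply_one_eq_one (IsIrrCharacter.isCharacter hθ) h1
    have hφ1 : φ ≠ 1 := by
      rintro rfl
      exact hθ1 (hφ.trans (by funext n; simp))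
    obtain ⟨s, hs, hso⟩ := Nat.exists_prime_and_dvd (fun e : orderOf φ = 1 => hφ1 (orderOf_eq_one_iff.1 e))
    obtain ⟨q, hq⟩ := hso
    have hq0 : q ≠ 0 := by
      rintro rfl
      rw [mul_zero] at hq
      exact (orderOf_pos φ).ne' hq
    have hμ : orderOf (φ ^ q) = s := by
      rw [orderOf_pow' φ hq0, Nat.gcd_eq_right ⟨s, by rw [hq, mul_comm]⟩, hq, mul_comm,
        Nat.mul_div_cancel_left _ (Nat.pos_of_ne_zero hq0)]
    have hsm : s ∣ m := hμ ▸ dvd_relIndex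
    obtain ⟨c, hc, hdc', hic, hone⟩ := exists_twist hNG hd hs (hdc s hs hsm) (hNd s hs hsm) hμ
    have hcb : ¬ Link N c b := fun hl =>
      hdb ((link_of_dvd hd hc hdc' (Nat.gcd_dvd_left _ _) (Nat.gcd_dvd_right _ _) (pos_of_mem hd)).trans' hl)
    have hi : 1 < (stab (G := G) (fn (φ ^ q))).index := by
      rcases Nat.lt_or_ge 1 (stab (G := G) (fn (φ ^ q))).index with h | h
      · exact h
      · exact absurd (hone (le_antisymm h (Nat.one_le_iff_ne_zero.2 Subgroup.index_ne_zero_of_finite)))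
          (hcop hc hcb s hs hsm)
    refine hcb (link_of_dvd hc hb hi hic ?_ (pos_of_mem hc))
    rw [← hχb]
    refine (Subgroup.index_dvd_of_le ?_).trans
      (dvd_of_mul_right_dvd (index_stab_mul_dvd χ.2 hθ hov (degree_spec χ.2).2 (k := 1)
        (by rw [h1, Nat.cast_one])))
    rw [hφ]
    exact stab_le_pow φ q
  haveI : ⁅N, N⁆.Normal := inferInstance
  haveI : Group.IsSolvable ↥⁅N, N⁆ := by
    have hle : ⁅N, N⁆ ≤ N := hlt.le
    exact Group.isSolvable_of_isSolvable_injective (Subgroup.inclusion_injective hle)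
  have hlink : ∀ {x}, ¬ Link N x b → ¬ Link ⁅N, N⁆ x b := by
    rintro x hxb ⟨hx, hy, hr⟩
    refine hxb ⟨rel_mono hlt.le hx, rel_mono hlt.le hy, ?_⟩
    exact hr.map (SimpleGraph.induceHomOfLE _ (rel_mono hlt.le)).toHom
  have hcard : Nat.card ↥⁅N, N⁆ < n := hn ▸ Set.Finite.card_lt_card (Set.toFinite _) hlt
  rcases ih _ hcard (hlt.le.trans hNG) hd' he' hb' (hlink hdb) (hlink heb) rfl with h | h
  · exact Or.inl h
  · exact Or.inr (between_mono hlt.le h)

end CfsgLib.Char.DegreeComponentsDiam
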