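import Mathlib.LinearAlgebra.Matrix.Determinant.Basic
import Mathlib.LinearAlgebra.Matrix.Notation
import Mathlib

/-!
# Finite facts about `GL(2, 3)`
-/

set_option autoImplicit false
set_option synthInstance.maxSize 512
set_option synthInstance.maxHeartbeats 100000

namespace CfsgLib.Char.GLTwoThree

/-- Two by two matrices over the field with three elements. -/
abbrev M3 := Matrix (Fin 2) (Fin 2) (ZMod 3)

/-- An element of order eight. -/
def ma : M3 := !![1, 1; 1, 0]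
/-- An element of order six. -/
def mu : M3 := !![2, 1; 0, 2]
/-- A reflection conjugating `ma` to its cube. -/
def mw : M3 := !![1, 0; 2, 2]
/-- A reflection inverting `mu`. -/
def mv : M3 := !![1, 0; 0, 2]

theorem center : ∀ m : M3, m.det ≠ 0 → (∀ n : M3, n.det ≠ 0 → m * n = n * m) →
    m = 1 ∨ m = -1 := by decide +kernel

theorem pows : ma ^ 4 = -1 ∧ mu ^ 3 = -1 ∧ (-1 : M3) ≠ 1 ∧ mu ^ 2 ≠ 1 ∧ (-1 : M3) ^ 2 = 1 := by
  decide +kernel

theorem dets : ma.det ≠ 0 ∧ mu.det ≠ 0 ∧ mw.det ≠ 0 ∧ mv.det ≠ 0 := by decide +kernel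

theorem reflections : mw * mw = 1 ∧ mw ≠ 1 ∧ mw ≠ -1 ∧ mw * ma = ma ^ 3 * mw ∧ mv * mu = mu ^ 5 * mv := by
  decide +kernel

theorem not_real : ∀ m : M3, m.det ≠ 0 → m * ma ^ 7 ≠ ma * m := by decide +kernel

theorem involution_conj : ∀ m : M3, m ^ 2 = 1 → m ≠ 1 → m ≠ -1 →
    ∃ n : M3, n.det ≠ 0 ∧ n * m = mw * n := by decide +kernel

theorem fix_two : ∀ m : M3, m.det ≠ 0 → m * ma = ma * m → m * mw = mw * m → m = 1 ∨ m = -1 := by
  decide +kernel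

theorem card_all : Fintype.card {m : M3 // m.det ≠ 0} = 48 := by decide +kernel

theorem card_cent :
    Fintype.card {m : M3 // m.det ≠ 0 ∧ m * ma ^ 2 = ma ^ 2 * m} = 8 ∧
    Fintype.card {m : M3 // m.det ≠ 0 ∧ m * ma = ma * m} = 8 ∧
    Fintype.card {m : M3 // m.det ≠ 0 ∧ m * mu = mu * m} = 6 ∧
    Fintype.card {m : M3 // m.det ≠ 0 ∧ (m * ma = ma * m ∨ m * ma = ma ^ 3 * m)} = 16 := by
  decide +kernel

theorem card_pairs :
    Fintype.card {m : M3 // m.det ≠ 0 ∧ (m ≠ 1 ∧ m ^ 2 = 1) ∧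
      (m * ma ≠ 1 ∧ (m * ma) ^ 2 = 1)} = 0 ∧
    Fintype.card {m : M3 // m.det ≠ 0 ∧ (m ≠ 1 ∧ m ^ 2 = 1) ∧
      (m * mu ≠ 1 ∧ (m * mu) ^ 2 = 1)} = 6 := by
  decide +kernel

end CfsgLib.Char.GLTwoThree
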