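import Cfsg.Agent.Lib.Char.CliffordCorr
import Cfsg.Agent.Lib.Char.CliffordAbelian
import Cfsg.Agent.Lib.Char.Quotient
import Cfsg.Agent.Lib.Char.Constituent
import Cfsg.Agent.Lib.DegreeTools.KerTools
import Cfsg.Agent.Lib.Solvable.FrattiniFitting
import Mathlib.GroupTheory.FiniteAbelian.Duality
import Mathlib.Analysis.Complex.Polynomial.Basic
import Mathlib.RingTheory.RootsOfUnity.AlgebraicallyClosed

/-!
# Garrison's bound on the nilpotent length

In a solvable group some nilpotent normal subgroup lies in no kernel of an irreducible character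
of largest degree, so the nilpotent length is at most the number of character degrees.
-/

set_option autoImplicit false
set_option linter.unusedSectionVars false
set_option linter.style.haveILetI false

universe u

namespace CfsgLib.Char.GarrisonHeight

open Cfsg CfsgLib CfsgLib.Char CfsgLib.Solvable.Basic CfsgLib.Solvable.FrattiniFitting
open scoped commutatorElement

variable {G : Type u} [Group G] [Finite G]

section Regular

variable (E : Subgroup G) [E.Normal]

/-- Conjugation on the normal subgroup. -/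
def cj (x : G) : E →* E := (MulAut.conjNormal x : MulAut E).toMonoidHom

theorem cj_apply (x : G) (e : E) : (cj E x e : G) = x * e * x⁻¹ := rfl

theorem comp_cj_cj {M : Type*} [MulOneClass M] (f : E →* M) (x y : G) :
    (f.comp (cj E x)).comp (cj E y) = f.comp (cj E (x * y)) := by
  refine MonoidHom.ext fun e => congrArg f (Subtype.ext ?_)
  simp [cj_apply, mul_assoc]

theorem comp_cj_one {M : Type*} [MulOneClass M] (f : E →* M) : f.comp (cj E 1) = f := by
  refine MonoidHom.ext fun e => congrArg f (Subtype.ext ?_)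
  simp [cj_apply]

/-- The stabiliser in `Q` of a homomorphism. -/
def stQ (Q : Subgroup G) (f : E →* ℂˣ) : Subgroup G where
  carrier := {x | x ∈ Q ∧ f.comp (cj E x) = f}
  one_mem' := ⟨one_mem _, comp_cj_one E f⟩
  mul_mem' := fun {x y} hx hy => ⟨mul_mem hx.1 hy.1, by rw [← comp_cj_cj, hx.2, hy.2]⟩
  inv_mem' := fun {x} hx => ⟨inv_mem hx.1, by
    conv_lhs => rw [← hx.2]
    rw [comp_cj_cj, mul_inv_cancel, comp_cj_one]⟩

/-- An abelian group acting faithfully and coprimely on an abelian group has a regular orbit on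
its characters. -/
theorem exists_regular_hom (hE : ∀ a ∈ E, ∀ b ∈ E, a * b = b * a) (Q : Subgroup G)
    (hQ : ∀ a ∈ Q, ∀ b ∈ Q, a * b = b * a) (m k : ℕ) (hk : k * m = Nat.card E)
    (hkm : k.Coprime m) (hQm : (Nat.card Q).Coprime m)
    (hf : ∀ x ∈ Q, x ≠ 1 → ∃ a ∈ E, a ^ m = 1 ∧ x * a * x⁻¹ ≠ a) :
    ∃ lam : E →* ℂˣ, ∀ x ∈ Q, lam.comp (cj E x) = lam → x = 1 := by
  classical
  letI : CommGroup E := { (inferInstance : Group E) with
    mul_comm := fun a b => Subtype.ext (hE a a.2 b b.2) }
  suffices h : ∀ n : ℕ, ∀ lam : E →* ℂˣ, lam ^ m = 1 → Nat.card (stQ E Q lam) = n →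
      ∃ lam : E →* ℂˣ, ∀ x ∈ Q, lam.comp (cj E x) = lam → x = 1 from
    h _ (1 : E →* ℂˣ) (MonoidHom.ext fun e => by simp) rfl
  intro n
  induction n using Nat.strong_induction_on with
  | _ n ih =>
    intro lam hlam hn
    by_cases hbot : stQ E Q lam = ⊥
    · exact ⟨lam, fun x hx hx' => Subgroup.mem_bot.1 (hbot ▸ (⟨hx, hx'⟩ : x ∈ stQ E Q lam))⟩
    obtain ⟨x, hx, hx1⟩ := (stQ E Q lam).bot_or_exists_ne_one.resolve_left hbot
    obtain ⟨a, haE, ham, hax⟩ := hf x hx.1 hx1
    set c : E := cj E x ⟨a, haE⟩ * (⟨a, haE⟩ : E)⁻¹ with hc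
    have hcm : c ^ m = 1 := by
      have h1 : (⟨a, haE⟩ : E) ^ m = 1 := Subtype.ext (by simpa using ham)
      rw [hc, mul_pow, inv_pow, ← map_pow, h1, map_one, inv_one, mul_one]
    have hc1 : c ≠ 1 := fun h => hax (by
      rw [hc, mul_inv_eq_one] at h
      exact congrArg Subtype.val h)
    have hck : c ^ k ≠ 1 := fun h => hc1 (by
      have := pow_gcd_eq_one.2 ⟨h, hcm⟩
      rwa [hkm.gcd_eq_one, pow_one] at this)
    obtain ⟨μ₀, hμ₀⟩ := CommGroup.exists_apply_ne_one_of_hasEnoughRootsOfUnity E ℂ hck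
    set μ := μ₀ ^ k
    have hμm : μ ^ m = 1 := by
      refine MonoidHom.ext fun e => ?_
      rw [MonoidHom.pow_apply, MonoidHom.pow_apply, ← pow_mul, hk, ← map_pow, pow_card_eq_one',
        map_one, MonoidHom.one_apply]
    have hμc : μ c ≠ 1 := by rwa [MonoidHom.pow_apply, ← map_pow]
    set W := stQ E Q lam
    have hWc : ∀ v : W, ∀ y ∈ Q, (v : G) * y = y * v := fun v y hy => hQ v v.2.1 y hy
    letI : Fintype W := Fintype.ofFinite W
    let Nm : (E →* ℂˣ) → (E →* ℂˣ) := fun f => ∏ w : W, f.comp (cj E w)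
    have hNm : ∀ f e, Nm f e = ∏ w : W, f (cj E w e) := fun f e => by
      simp [Nm, MonoidHom.finset_prod_apply]
    have hNinv : ∀ f (v : W), (Nm f).comp (cj E v) = Nm f := by
      intro f v
      refine MonoidHom.ext fun e => ?_
      rw [MonoidHom.comp_apply, hNm, hNm]
      refine Fintype.prod_equiv (Equiv.mulRight v) _ _ fun w => congrArg f (Subtype.ext ?_)
      simp [cj_apply, mul_assoc]
    set ν : E →* ℂˣ := μ ^ Fintype.card W / Nm μ
    have hν : ∀ e, ν e = μ e ^ Fintype.card W / Nm μ e := fun _ => rfl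
    have hνm : ν ^ m = 1 := by
      have h1 : Nm μ ^ m = 1 := by
        refine MonoidHom.ext fun e => ?_
        rw [MonoidHom.pow_apply, hNm, ← Finset.prod_pow, MonoidHom.one_apply]
        exact Finset.prod_eq_one fun w _ => DFunLike.congr_fun hμm _
      refine MonoidHom.ext fun e => ?_
      rw [MonoidHom.pow_apply, hν, div_pow, pow_right_comm, ← MonoidHom.pow_apply μ,
        ← MonoidHom.pow_apply (Nm μ), hμm, h1]
      simp
    have hNν : Nm ν = 1 := by
      refine MonoidHom.ext fun e => ?_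
      rw [hNm, MonoidHom.one_apply]
      simp only [hν, Finset.prod_div_distrib, Finset.prod_pow]
      rw [← hNm, Finset.prod_congr rfl fun (w : W) _ => show Nm μ (cj E (w : G) e) = Nm μ e from
        DFunLike.congr_fun (hNinv μ w) e, Finset.prod_const, Finset.card_univ, div_self']
    have hWm : (Fintype.card W).Coprime m := by
      rw [← Nat.card_eq_fintype_card]
      exact hQm.coprime_dvd_left (Subgroup.card_dvd_of_le fun y hy => hy.1)
    have hstab : stQ E Q (lam * ν) ≤ W := by
      rintro y ⟨hy, hy'⟩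
      refine ⟨hy, ?_⟩
      refine MonoidHom.ext fun e => ?_
      have h1 : ∀ w : W, lam (cj E y e) * ν (cj E w (cj E y e)) = lam e * ν (cj E w e) := by
        intro w
        have hl : ∀ e' : E, lam (cj E w e') = lam e' := fun e' => DFunLike.congr_fun w.2.2 e'
        have h2 := DFunLike.congr_fun hy' (cj E w e)
        have h3 : cj E y (cj E w e) = cj E w (cj E y e) := Subtype.ext (by
          simp only [cj_apply]
          rw [show y * ((w : G) * e * (w : G)⁻¹) * y⁻¹ = (y * w) * e * (y * w)⁻¹ by group,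
            ← hWc w y hy]
          group)
        simp only [MonoidHom.comp_apply, MonoidHom.mul_apply, h3, hl] at h2
        exact h2
      have h4 := Finset.prod_congr (rfl : (Finset.univ : Finset W) = Finset.univ) fun w _ => h1 w
      simp only [Finset.prod_mul_distrib, ← hNm, hNν, MonoidHom.one_apply, mul_one,
        Finset.prod_const, Finset.card_univ] at h4
      have h5 : (lam (cj E y e) / lam e) ^ Fintype.card W = 1 := by rw [div_pow, h4, div_self']
      have h6 : (lam (cj E y e) / lam e) ^ m = 1 := by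
        rw [div_pow, ← MonoidHom.pow_apply, ← MonoidHom.pow_apply, hlam]
        simp
      have h7 := pow_gcd_eq_one.2 ⟨h5, h6⟩
      rw [hWm.gcd_eq_one, pow_one, div_eq_one] at h7
      exact h7
    have hxW : x ∉ stQ E Q (lam * ν) := by
      rintro ⟨-, h⟩
      have h2 := DFunLike.congr_fun h ⟨a, haE⟩
      simp only [MonoidHom.comp_apply, MonoidHom.mul_apply,
        show lam (cj E x ⟨a, haE⟩) = lam ⟨a, haE⟩ from DFunLike.congr_fun hx.2 _] at h2
      have h3 := mul_left_cancel h2
      rw [hν, hν, show Nm μ (cj E x ⟨a, haE⟩) = Nm μ ⟨a, haE⟩ from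
        DFunLike.congr_fun (hNinv μ ⟨x, hx⟩) _, div_left_inj] at h3
      have h4 : μ c ^ Fintype.card W = 1 := by
        rw [hc, map_mul, map_inv, mul_pow, inv_pow, h3, mul_inv_cancel]
      have h5 : μ c ^ m = 1 := DFunLike.congr_fun hμm c
      have h6 := pow_gcd_eq_one.2 ⟨h4, h5⟩
      rw [hWm.gcd_eq_one, pow_one] at h6
      exact hμc h6
    have hlt : Nat.card (stQ E Q (lam * ν)) < n := by
      refine lt_of_le_of_ne (hn ▸ Subgroup.card_le_of_le hstab) fun h => hxW ?_
      rw [Subgroup.eq_of_le_of_card_ge hstab (hn ▸ h.ge)]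
      exact hx
    exact ih _ hlt _ (MonoidHom.ext fun e => by
      rw [MonoidHom.pow_apply, MonoidHom.mul_apply, mul_pow, ← MonoidHom.pow_apply lam,
        ← MonoidHom.pow_apply ν, hlam, hνm]
      simp) rfl

end Regular

theorem nilpotent_comap {N : Subgroup G} [N.Normal] (A : Subgroup (G ⧸ N)) :
    Nonempty (↥(A.comap (QuotientGroup.mk' N)) ⧸ N.subgroupOf (A.comap (QuotientGroup.mk' N))
      ≃* A) := by
  set φ := (QuotientGroup.mk' N).subgroupComap A
  have hs : Function.Surjective φ :=
    MonoidHom.subgroupComap_surjective_of_surjective _ A (QuotientGroup.mk'_surjective N)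
  have hk : φ.ker = N.subgroupOf (A.comap (QuotientGroup.mk' N)) := by
    ext x
    rw [MonoidHom.mem_ker, Subgroup.mem_subgroupOf, ← QuotientGroup.eq_one_iff]
    exact ⟨fun h => congrArg Subtype.val h, fun h => Subtype.ext h⟩
  exact ⟨(QuotientGroup.quotientMulEquivOfEq hk.symm).trans
    (QuotientGroup.quotientKerEquivOfSurjective φ hs)⟩

/-- With trivial Frattini subgroup a maximal abelian normal subgroup lies in no kernel of an
irreducible character of largest degree. -/
theorem exists_nilpotent_of_frattini_bot [Group.IsSolvable G] (hΦ : frattini G = ⊥) (f : ℕ)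
    (hmax : ∀ χ : IrrCharacter G, charDegree (χ : G → ℂ) ≤ f) :
    ∃ N : Subgroup G, N.Normal ∧ Group.IsNilpotent N ∧
      (N = ⊤ ∨ ∀ χ : IrrCharacter G, (∀ n ∈ N, (χ : G → ℂ) n = (χ : G → ℂ) 1) →
        charDegree (χ : G → ℂ) ≠ f) := by
  classical
  letI := Fintype.ofFinite G
  obtain ⟨E, -, ⟨hEn, hEc⟩, hEmax⟩ := Finite.exists_le_maximal
    (p := fun N : Subgroup G => N.Normal ∧ ∀ a ∈ N, ∀ b ∈ N, a * b = b * a) (a := ⊥)
    ⟨inferInstance, fun a ha b hb => by rw [Subgroup.mem_bot.1 ha, Subgroup.mem_bot.1 hb]⟩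
  haveI := hEn
  have hEnil : Group.IsNilpotent E :=
    letI : CommGroup E := { (inferInstance : Group E) with
      mul_comm := fun a b => Subtype.ext (hEc a a.2 b b.2) }
    inferInstance
  refine ⟨E, hEn, hEnil, ?_⟩
  by_cases hEt : E = ⊤
  · exact Or.inl hEt
  refine Or.inr fun χ hker hdeg => ?_
  obtain ⟨H, hH⟩ := exists_complement_of_inf_frattini E (isMulCommutative_subgroup_iff.2 hEc)
    (by rw [hΦ, inf_bot_eq])
  -- the complement acts faithfully
  have hfaith : ∀ x ∈ H, (∀ e ∈ E, x * e * x⁻¹ = e) → x = 1 := by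
    set C := H ⊓ Subgroup.centralizer (E : Set G)
    suffices hC : C = ⊥ by
      intro x hx hxe
      refine Subgroup.mem_bot.1 (hC ▸ (⟨hx, Subgroup.mem_centralizer_iff.2 fun e he => ?_⟩ : x ∈ C))
      exact (mul_inv_eq_iff_eq_mul.1 (hxe e he)).symm
    haveI hCn : C.Normal := ⟨fun x hx g => by
      obtain ⟨⟨⟨e, he⟩, ⟨h, hh⟩⟩, rfl, -⟩ := hH.existsUnique g
      have h1 : h * x * h⁻¹ ∈ C := ⟨H.mul_mem (H.mul_mem hh hx.1) (H.inv_mem hh),
        (Subgroup.Normal.conj_mem inferInstance _ hx.2 h)⟩
      have h2 := Subgroup.mem_centralizer_iff.1 h1.2 e he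
      show e * h * x * (e * h)⁻¹ ∈ C
      rw [show e * h * x * (e * h)⁻¹ = e * (h * x * h⁻¹) * e⁻¹ by group, h2, mul_inv_cancel_right]
      exact h1⟩
    by_contra hC
    obtain ⟨N, hNn, hN, hNle, hmin⟩ := exists_minimal_normal_le hC
    haveI := hNn
    obtain ⟨hNc, -⟩ := minimal_normal_solvable N hN hmin
    have hsup : E ⊔ N ≤ E := by
      refine hEmax ⟨inferInstance, ?_⟩ le_sup_left
      have hgen : E ⊔ N ≤ Subgroup.centralizer ((E ⊔ N : Subgroup G) : Set G) := by
        have hEN : ∀ e ∈ E, ∀ n ∈ N, e * n = n * e := fun e he n hn =>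
          Subgroup.mem_centralizer_iff.1 (hNle hn).2 e he
        rw [sup_le_iff]
        constructor
        · rw [Subgroup.le_centralizer_iff]
          refine sup_le (fun a ha => ?_) (fun a ha => ?_) <;>
            rw [Subgroup.mem_centralizer_iff] <;> intro b hb
          · exact hEc b hb a ha
          · exact hEN b hb a ha
        · rw [Subgroup.le_centralizer_iff]
          refine sup_le (fun a ha => ?_) (fun a ha => ?_) <;>
            rw [Subgroup.mem_centralizer_iff] <;> intro b hb
          · exact (hEN a ha b hb).symm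
          · exact isMulCommutative_subgroup_iff.1 hNc b hb a ha
      exact fun a ha b hb => (Subgroup.mem_centralizer_iff.1 (hgen ha) b hb).symm
    exact hN (le_bot_iff.1 fun n hn => Subgroup.mem_bot.2
      (Subgroup.disjoint_def.1 hH.disjoint (hsup (le_sup_right (a := E) hn)) (hNle hn).1))
  have hH1 : H ≠ ⊥ := fun h => hEt (by simpa [h] using hH.sup_eq_top)
  -- the projection
  let π : G →* H := (hH.symm.QuotientMulEquiv).toMonoidHom.comp (QuotientGroup.mk' E)
  have hπH : ∀ h : H, π h = h := fun h => by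
    show hH.symm.QuotientMulEquiv (QuotientGroup.mk' E (h : G)) = h
    exact (MulEquiv.eq_symm_apply _).1 rfl
  have hπE : ∀ e ∈ E, π e = 1 := fun e he => by
    show hH.symm.QuotientMulEquiv (QuotientGroup.mk' E e) = 1
    rw [show QuotientGroup.mk' E e = 1 from (QuotientGroup.eq_one_iff e).2 he, map_one]
  have hπmem : ∀ g : G, g * (π g : G)⁻¹ ∈ E := fun g => by
    obtain ⟨⟨⟨e, he⟩, ⟨h, hh⟩⟩, rfl, -⟩ := hH.existsUnique g
    show e * h * (π (e * h) : G)⁻¹ ∈ E
    rw [map_mul, hπE e he, one_mul, show π h = ⟨h, hh⟩ from hπH ⟨h, hh⟩, mul_inv_cancel_right]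
    exact he
  have hπs : Function.Surjective π := fun h => ⟨h, hπH h⟩
  -- a normal abelian subgroup of the complement
  haveI : Group.IsSolvable H := inferInstance
  have hHt : (⊤ : Subgroup H) ≠ ⊥ := fun h => hH1 (by
    rw [← Subgroup.range_subtype H, MonoidHom.range_eq_map, h, Subgroup.map_bot])
  obtain ⟨Q, q, hq, hQn, hQ1, -, hQc, hQq, -⟩ := exists_minimal_normal_pgroup hHt
  haveI := Fact.mk hq
  haveI := hQn
  set Qg := Q.map H.subtype
  set j := (Nat.card E).factorization q
  set m := Nat.card E / q ^ j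
  have hqm : q.Coprime m := Nat.coprime_ordCompl hq Nat.card_pos.ne'
  have hkm : q ^ j * m = Nat.card E := Nat.mul_div_cancel' (Nat.ordProj_dvd _ _)
  have hQgp : IsPGroup q Qg := hQq.map _
  have hfm : ∀ x ∈ Qg, x ≠ 1 → ∃ a ∈ E, a ^ m = 1 ∧ x * a * x⁻¹ ≠ a := by
    let D := Qg ⊓ Subgroup.centralizer {a : G | a ∈ E ∧ a ^ m = 1}
    suffices hD : D = ⊥ by
      intro x hx hx1
      by_contra hne
      push Not at hne
      refine hx1 (Subgroup.mem_bot.1 (hD ▸ (⟨hx, Subgroup.mem_centralizer_iff.2 fun a ha => ?_⟩ :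
        x ∈ D)))
      exact (mul_inv_eq_iff_eq_mul.1 (hne a ha.1 ha.2)).symm
    let Eq : Subgroup G :=
      { carrier := {a | a ∈ E ∧ a ^ q ^ j = 1}
        one_mem' := ⟨one_mem _, one_pow _⟩
        mul_mem' := fun {a b} ha hb => ⟨mul_mem ha.1 hb.1, by
          rw [(show Commute a b from hEc a ha.1 b hb.1).mul_pow, ha.2, hb.2, one_mul]⟩
        inv_mem' := fun {a} ha => ⟨inv_mem ha.1, by rw [inv_pow, ha.2, inv_one]⟩ }
    haveI hEqn : Eq.Normal := ⟨fun a ha g => ⟨Subgroup.Normal.conj_mem inferInstance a ha.1 g, by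
      rw [conj_pow, ha.2, mul_one, mul_inv_cancel]⟩⟩
    have hEqp : IsPGroup q Eq := fun a => ⟨j, Subtype.ext (by simpa using a.2.2)⟩
    set P := D ⊔ Eq
    haveI hPn : P.Normal := by
      refine ⟨fun x hx g => ?_⟩
      have : P.map (MulAut.conj g).toMonoidHom ≤ P := by
        rw [Subgroup.map_sup, sup_le_iff]
        constructor
        · rintro _ ⟨d, hd, rfl⟩
          show g * d * g⁻¹ ∈ P
          obtain ⟨⟨⟨e, he⟩, ⟨h, hh⟩⟩, rfl, -⟩ := hH.existsUnique g
          show e * h * d * (e * h)⁻¹ ∈ P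
          have hd1 : h * d * h⁻¹ ∈ D := by
            refine ⟨?_, Subgroup.mem_centralizer_iff.2 fun a ha => ?_⟩
            · obtain ⟨y, hy, rfl⟩ := hd.1
              exact ⟨⟨h, hh⟩ * y * ⟨h, hh⟩⁻¹, hQn.conj_mem y hy _, rfl⟩
            · have h1 := Subgroup.mem_centralizer_iff.1 hd.2 (h⁻¹ * a * h)
                ⟨by simpa using Subgroup.Normal.conj_mem ‹E.Normal› a ha.1 h⁻¹, by
                  have := conj_pow (a := h⁻¹) (b := a) (i := m)
                  rw [inv_inv] at this
                  rw [this, ha.2, mul_one, inv_mul_cancel]⟩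
              calc a * (h * d * h⁻¹) = h * (h⁻¹ * a * h * d) * h⁻¹ := by group
                _ = h * (d * (h⁻¹ * a * h)) * h⁻¹ := by rw [h1]
                _ = h * d * h⁻¹ * a := by group
          set d' := h * d * h⁻¹
          rw [show e * h * d * (e * h)⁻¹ = (e * d' * e⁻¹ * d'⁻¹) * d' by simp only [d']; group]
          refine mul_mem (le_sup_right (a := D) ⟨?_, ?_⟩) (le_sup_left (b := Eq) hd1)
          · rw [show e * d' * e⁻¹ * d'⁻¹ = e * (d' * e⁻¹ * d'⁻¹) by group]
            exact mul_mem he (Subgroup.Normal.conj_mem inferInstance _ (inv_mem he) _)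
          · have h2 : Commute e (d' * e⁻¹ * d'⁻¹) :=
              hEc e he _ (Subgroup.Normal.conj_mem inferInstance _ (inv_mem he) _)
            have h3 : d' * (e ^ q ^ j)⁻¹ * d'⁻¹ = (e ^ q ^ j)⁻¹ := by
              have h4 : e ^ q ^ j ∈ {a : G | a ∈ E ∧ a ^ m = 1} := ⟨pow_mem he _, by
                rw [← pow_mul, hkm]
                exact congrArg Subtype.val (pow_card_eq_one' (x := (⟨e, he⟩ : E)))⟩
              have h5 : Commute (e ^ q ^ j) d' := Subgroup.mem_centralizer_iff.1 hd1.2 _ h4
              rw [h5.inv_left.symm.eq, mul_inv_cancel_right]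
            rw [show e * d' * e⁻¹ * d'⁻¹ = e * (d' * e⁻¹ * d'⁻¹) by group, h2.mul_pow, conj_pow,
              inv_pow, h3, mul_inv_cancel]
        · rintro _ ⟨d, hd, rfl⟩
          exact le_sup_right (a := D) (hEqn.conj_mem d hd g)
      exact this (Subgroup.mem_map_of_mem _ hx)
    have hPp : IsPGroup q P := IsPGroup.to_sup_of_normal_right (hQgp.to_le inf_le_left) hEqp
    haveI : Group.IsNilpotent P := hPp.isNilpotent
    have hPc : ∀ a ∈ P, ∀ b ∈ P, a * b = b * a := fun a ha b hb => by
      have h1 : ⁅(⟨a, ha⟩ : P), (⟨b, hb⟩ : P)⁆ ∈ frattini P := commutator_le_frattini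
        (Subgroup.commutator_mem_commutator (Subgroup.mem_top _) (Subgroup.mem_top _))
      have h2 := frattini_subtype_le P (Subgroup.mem_map_of_mem _ h1)
      rw [hΦ, Subgroup.mem_bot] at h2
      exact commutatorElement_eq_one_iff_mul_comm.1 h2
    refine le_bot_iff.1 fun x hx => Subgroup.mem_bot.2 (hfaith x ?_ fun e he => ?_)
    · obtain ⟨y, -, rfl⟩ := hx.1
      exact y.2
    have hq' : e ^ m ∈ Eq := ⟨pow_mem he _, by
      rw [← pow_mul, mul_comm, hkm]
      exact congrArg Subtype.val (pow_card_eq_one' (x := (⟨e, he⟩ : E)))⟩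
    have c1 : Commute x (e ^ m) := hPc x (le_sup_left (b := Eq) hx) _ (le_sup_right (a := D) hq')
    have c2 : Commute x (e ^ q ^ j) := (Subgroup.mem_centralizer_iff.1 hx.2 _ ⟨pow_mem he _, by
      rw [← pow_mul, hkm]
      exact congrArg Subtype.val (pow_card_eq_one' (x := (⟨e, he⟩ : E)))⟩).symm
    have hg : Commute x e := by
      have hgcd : Nat.gcd (q ^ j) m = 1 := hqm.pow_left j
      have hz := Nat.gcd_eq_gcd_ab (q ^ j) m
      rw [hgcd, Nat.cast_one] at hz
      have := (c2.zpow_right (Nat.gcdA (q ^ j) m)).mul_right (c1.zpow_right (Nat.gcdB (q ^ j) m))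
      rwa [← zpow_natCast, ← zpow_natCast, ← zpow_mul, ← zpow_mul, ← zpow_add, ← hz, zpow_one]
        at this
    rw [hg.eq, mul_inv_cancel_right]
  have hQgc : ∀ a ∈ Qg, ∀ b ∈ Qg, a * b = b * a := by
    rintro _ ⟨a, ha, rfl⟩ _ ⟨b, hb, rfl⟩
    simpa using congrArg Subtype.val (isMulCommutative_subgroup_iff.1 hQc a ha b hb)
  obtain ⟨lam, hlam⟩ := exists_regular_hom E hEc Qg hQgc m (q ^ j) hkm (hqm.pow_left j)
    (by
      obtain ⟨i, hi⟩ := IsPGroup.iff_card.1 hQgp
      rw [hi]; exact hqm.pow_left i) hfm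
  -- the inertia group
  set θE : E → ℂ := fun e => ((lam e : ℂˣ) : ℂ)
  letI : Fintype E := Fintype.ofFinite E
  have hθE : IsIrrCharacter E θE := isIrrCharacter_hom lam
  set T := stab θE
  have hTinv : ∀ t ∈ T, ∀ e : E, lam (cj E t e) = lam e := fun t ht e =>
    Units.ext (congrFun ht e)
  have hET : E ≤ T := le_stab (IsIrrCharacter.isClassFunction hθE)
  letI : Fintype T := Fintype.ofFinite T
  set S : Subgroup H := T.comap H.subtype
  letI : Fintype S := Fintype.ofFinite S
  have hπT : ∀ t ∈ T, π t ∈ S := fun t ht => by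
    show (π t : G) ∈ T
    rw [show ((π t : H) : G) = (t * ((π t : H) : G)⁻¹)⁻¹ * t by group]
    exact mul_mem (inv_mem (hET (hπmem t))) ht
  let πT : T →* S :=
    { toFun := fun t => ⟨π (t : G), hπT (t : G) t.2⟩
      map_one' := Subtype.ext (map_one π)
      map_mul' := fun a b => Subtype.ext (map_mul π (a : G) (b : G)) }
  have hπTs : Function.Surjective πT := fun s =>
    ⟨⟨((s : H) : G), s.2⟩, Subtype.ext (hπH s)⟩
  let Lam : T →* ℂˣ := MonoidHom.mk' (fun t => lam ⟨(t : G) * ((π (t : G) : H) : G)⁻¹, hπmem (t : G)⟩) fun a b => by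
    rw [← hTinv ((π (a : G) : H) : G) (hπT a a.2) ⟨(b : G) * ((π (b : G) : H) : G)⁻¹, hπmem b⟩, ← map_mul]
    refine congrArg lam (Subtype.ext ?_)
    show (a : G) * b * ((π ((a : G) * b) : H) : G)⁻¹
      = (a : G) * ((π (a : G) : H) : G)⁻¹ * (((π (a : G) : H) : G) * ((b : G) * ((π (b : G) : H) : G)⁻¹)
        * ((π (a : G) : H) : G)⁻¹)
    rw [map_mul, Subgroup.coe_mul]
    group
  have hidx : T.index = S.index := by
    have hTS : T = S.comap π := by
      ext t
      refine ⟨hπT t, fun h => ?_⟩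
      rw [show t = t * (π t : G)⁻¹ * (π t : G) by group]
      exact mul_mem (hET (hπmem t)) h
    conv_lhs => rw [hTS]
    exact Subgroup.index_comap_of_surjective _ hπs
  -- the character on the complement
  set χH : H → ℂ := fun h => (χ : G → ℂ) h
  letI : Fintype H := Fintype.ofFinite H
  have hχH : IsIrrCharacter H χH := by
    obtain ⟨χ', hχ', he⟩ := IsIrrCharacter.exists_deflate χ.2 E hker
    have h := IsIrrCharacter.comp_equiv hχ' hH.symm.QuotientMulEquiv.symm
    convert h using 1
    funext h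
    exact congrFun he h
  obtain ⟨θ, hθ, hθχ⟩ := IsCharacter.exists_constituent
    (IsCharacter.restrict (IsIrrCharacter.isCharacter hχH) S) fun h0 =>
      IsIrrCharacter.apply_one_ne_zero hχH (by simpa using congrFun h0 1)
  set ψ : T → ℂ := fun t => θ (πT t) * ((Lam t : ℂˣ) : ℂ)
  have hψ : IsIrrCharacter T ψ := by
    have h := IsIrrCharacter.mul_hom (IsIrrCharacter.comp_surjective hθ πT hπTs) Lam
    exact h
  have hres : resLe hET ψ = fun e : E => θ 1 * θE e := by
    funext e
    show θ (πT ⟨(e : G), hET e.2⟩) * ((Lam ⟨(e : G), hET e.2⟩ : ℂˣ) : ℂ) = _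
    have h1 : πT ⟨(e : G), hET e.2⟩ = 1 := Subtype.ext (hπE e e.2)
    rw [h1]
    refine congrArg _ (congrArg (fun u : ℂˣ => (u : ℂ)) (congrArg lam (Subtype.ext ?_)))
    show (e : G) * (π e : G)⁻¹ = e
    rw [hπE e e.2]
    simp
  have hc : classInner (resLe hET ψ) θE ≠ 0 := by
    rw [hres, show (fun e : E => θ 1 * θE e) = θ 1 • θE from rfl, classInner_smul_left,
      classInner_irr_self hθE, mul_one]
    exact IsIrrCharacter.apply_one_ne_zero hθ
  obtain ⟨hΨ, -⟩ := indFun_inertia hET hθE (isInertia_stab θE) hψ hc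
  have hle := hmax ⟨_, hΨ⟩
  have hI : IsCharacter H (indFun S θ) := IsCharacter.indFun S (IsIrrCharacter.isCharacter hθ)
  have hne : classInner (indFun S θ) χH ≠ 0 := by
    rw [classInner_indFun S θ (IsIrrCharacter.isClassFunction hχH), ← classInner_conj_symm]
    exact (map_ne_zero _).2 hθχ
  obtain ⟨a, b, ha, hb, hab, heq⟩ := IsCharacter.constituent_degree_le hI hχH hne
  have hbf : b ≤ f := by
    refine le_trans (le_of_eq ?_) hle
    have h1 : indFun T ψ 1 = (b : ℂ) := by
      rw [indFun_one, hidx, ← hb, indFun_one]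
      simp [ψ]
    simp only [charDegree, h1, Complex.natCast_re, Nat.floor_natCast]
  have haf : a = f := by
    have h1 : (χ : G → ℂ) 1 = (a : ℂ) := by rw [← ha]; simp [χH]
    rw [← hdeg, charDegree, h1, Complex.natCast_re, Nat.floor_natCast]
  have hind := heq (by omega)
  have hzero : ∀ x ∈ Q, x ≠ 1 → χH x = 0 := by
    intro x hx hx1
    rw [← hind, indFun_def]
    refine mul_eq_zero_of_right _ (Finset.sum_eq_zero fun y _ => extendByZero_apply_notMem S θ ?_)
    intro hy
    have hyQ : y⁻¹ * x * y ∈ Q := by simpa using hQn.conj_mem x hx y⁻¹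
    have h1 : ((y⁻¹ * x * y : H) : G) = 1 := hlam _ ⟨_, hyQ, rfl⟩
      (MonoidHom.ext fun e => hTinv _ hy e)
    have h2 : y⁻¹ * x * y = 1 := Subtype.ext h1
    exact hx1 (by simpa [mul_eq_one_iff_eq_inv] using congrArg (fun z => y * z * y⁻¹) h2)
  letI : Fintype Q := Fintype.ofFinite Q
  have hsum : ∑ x : Q, χH x = χH 1 := by
    rw [Finset.sum_eq_single (1 : Q) (fun x _ hx => hzero x x.2 fun h => hx (Subtype.ext h))
      (fun h => absurd (Finset.mem_univ _) h)]
    rfl
  have hkerQ := DegreeTools.le_ker_of_sum_ne_zero ⟨χH, hχH⟩ Q (by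
    rw [hsum]; exact IsIrrCharacter.apply_one_ne_zero hχH)
  obtain ⟨x, hx, hx1⟩ := Q.bot_or_exists_ne_one.resolve_left hQ1
  exact IsIrrCharacter.apply_one_ne_zero hχH ((hkerQ x hx).symm.trans (hzero x hx hx1))

/-- Some nilpotent normal subgroup lies in no kernel of a character of largest degree. -/
theorem exists_nilpotent [Group.IsSolvable G] (f : ℕ)
    (hmax : ∀ χ : IrrCharacter G, charDegree (χ : G → ℂ) ≤ f) :
    ∃ N : Subgroup G, N.Normal ∧ Group.IsNilpotent N ∧
      (N = ⊤ ∨ ∀ χ : IrrCharacter G, (∀ n ∈ N, (χ : G → ℂ) n = (χ : G → ℂ) 1) →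
        charDegree (χ : G → ℂ) ≠ f) := by
  set Φ := frattini G
  set p := QuotientGroup.mk' Φ
  have hp : Function.Surjective p := QuotientGroup.mk'_surjective Φ
  have hΦ' : frattini (G ⧸ Φ) = ⊥ := by
    have h : (frattini (G ⧸ Φ)).comap p ≤ Φ := le_iInf₂ fun M hM => by
      have hle : Φ ≤ M := frattini_le_coatom hM
      have hc : IsCoatom (M.map p) := by
        refine ⟨fun h => hM.1 ?_, fun B hB => ?_⟩
        · rw [← Subgroup.comap_top p, ← h, Subgroup.comap_map_eq, QuotientGroup.ker_mk',
            sup_eq_left.2 hle]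
        · have h1 : M < B.comap p := by
            have h2 := Subgroup.comap_lt_comap_of_surjective hp |>.2 hB
            rwa [Subgroup.comap_map_eq, QuotientGroup.ker_mk', sup_eq_left.2 hle] at h2
          rw [← Subgroup.map_comap_eq_self_of_surjective hp B, hM.2 _ h1,
            Subgroup.map_top_of_surjective _ hp]
      refine (Subgroup.comap_mono (frattini_le_coatom hc)).trans ?_
      rw [Subgroup.comap_map_eq, QuotientGroup.ker_mk', sup_eq_left.2 hle]
    rw [← Subgroup.map_comap_eq_self_of_surjective hp (frattini (G ⧸ Φ)), Subgroup.map_eq_bot_iff,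
      QuotientGroup.ker_mk']
    exact h
  obtain ⟨A, hAn, hAnil, hA⟩ := exists_nilpotent_of_frattini_bot hΦ' f fun χ => by
    have h := hmax ⟨_, IsIrrCharacter.comp_surjective χ.2 p hp⟩
    simpa [charDegree] using h
  haveI := hAn
  refine ⟨A.comap p, inferInstance, ?_, ?_⟩
  · haveI := hAnil
    obtain ⟨e⟩ := nilpotent_comap (N := Φ) A
    haveI : Group.IsNilpotent (↥(A.comap p) ⧸ Φ.subgroupOf (A.comap p)) :=
      Group.nilpotent_of_mulEquiv e.symm
    exact isNilpotent_of_quotient_frattini _ Φ (QuotientGroup.le_comap_mk' Φ A) le_rfl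
  · rcases hA with rfl | hA
    · exact Or.inl (Subgroup.comap_top p)
    refine Or.inr fun χ hχ hd => ?_
    obtain ⟨χ', hχ', he⟩ := IsIrrCharacter.exists_deflate χ.2 Φ fun n hn =>
      hχ n (QuotientGroup.le_comap_mk' Φ A hn)
    refine hA ⟨χ', hχ'⟩ (fun n hn => ?_) ?_
    · obtain ⟨g, rfl⟩ := hp n
      have := hχ g hn
      rw [he] at this
      simp only [Function.comp_apply, map_one] at this
      exact this
    · rw [← hd, he]
      simp [charDegree]

/-- The set of character degrees. -/
def degrees (G : Type u) [Group G] : Set ℕ :=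
  {d | ∃ χ : IrrCharacter G, charDegree (χ : G → ℂ) = d}

/-- A nilpotent series of the given length. -/
theorem exists_series : ∀ (c : ℕ) (G : Type u) [Group G] [Finite G] [Group.IsSolvable G],
    (degrees G).ncard ≤ c → ∃ N : Fin (c + 1) → Subgroup G, N 0 = ⊥ ∧ N (Fin.last c) = ⊤ ∧
      Monotone N ∧ (∀ i, (N i).Normal) ∧ ∀ i : Fin c,
        ∀ _h : ((N i.castSucc).subgroupOf (N i.succ)).Normal,
          Group.IsNilpotent (↥(N i.succ) ⧸ (N i.castSucc).subgroupOf (N i.succ)) := by
  intro c
  induction c with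
  | zero =>
    intro G _ _ _ hc
    letI := Fintype.ofFinite G
    exfalso
    have hfin : (degrees G).Finite := Set.finite_range
      (fun χ : IrrCharacter G => charDegree (χ : G → ℂ))
    have h0 := (Set.ncard_eq_zero hfin).1 (Nat.le_zero.1 hc)
    exact Set.eq_empty_iff_forall_notMem.1 h0 _ ⟨DegreeTools.oneChar G, rfl⟩
  | succ c ih =>
    intro G _ _ _ hc
    letI := Fintype.ofFinite G
    have hfin : (degrees G).Finite := Set.finite_range
      (fun χ : IrrCharacter G => charDegree (χ : G → ℂ))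
    obtain ⟨f, hf, hmax⟩ := Set.exists_max_image (degrees G) id hfin
      ⟨_, DegreeTools.oneChar G, rfl⟩
    obtain ⟨A, hAn, hAnil, hA⟩ := exists_nilpotent (G := G) f fun χ => hmax _ ⟨χ, rfl⟩
    haveI := hAn
    haveI := hAnil
    rcases hA with rfl | hA
    · refine ⟨fun i => if i = 0 then ⊥ else ⊤, if_pos rfl,
        if_neg (by simp [Fin.ext_iff]), fun i j hij => ?_,
        fun i => by dsimp only; split_ifs <;> infer_instance, fun i _h => ?_⟩
      · dsimp only
        split_ifs with h1 h2 h2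
        all_goals first | exact le_rfl | exact bot_le | skip
        exact absurd (le_antisymm (h2 ▸ hij) (Fin.zero_le i)) h1
      · haveI : Group.IsNilpotent
            ↥(if i.succ = 0 then (⊥ : Subgroup G) else ⊤) := by
          rw [if_neg (Fin.succ_ne_zero i)]
          exact hAnil
        exact Group.nilpotent_of_surjective _ (QuotientGroup.mk'_surjective _)
    set p := QuotientGroup.mk' A
    have hp : Function.Surjective p := QuotientGroup.mk'_surjective A
    haveI : Group.IsSolvable (G ⧸ A) := solvable_of_surjective hp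
    have hcd : (degrees (G ⧸ A)).ncard ≤ c := by
      have hsub : degrees (G ⧸ A) ⊆ degrees G \ {f} := by
        rintro d ⟨χ, rfl⟩
        let χG : IrrCharacter G := ⟨_, IsIrrCharacter.comp_surjective χ.2 p hp⟩
        have hd : charDegree (χG : G → ℂ) = charDegree (χ : G ⧸ A → ℂ) := by
          simp [charDegree, χG]
        refine ⟨⟨χG, hd⟩, fun h => hA χG (fun n hn => ?_) (hd.trans h)⟩
        show (χ : G ⧸ A → ℂ) (p n) = (χ : G ⧸ A → ℂ) (p 1)
        rw [map_one, show p n = 1 from (QuotientGroup.eq_one_iff n).2 hn]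
      have h1 := Set.ncard_le_ncard hsub hfin.diff
      rw [Set.ncard_sdiff_singleton_of_mem hf] at h1
      omega
    obtain ⟨M, hM0, hMl, hMm, hMn, hMq⟩ := ih (G ⧸ A) hcd
    haveI := hMn
    let N : Fin (c + 2) → Subgroup G := Fin.cons ⊥ fun j => (M j).comap p
    have hNs : ∀ j : Fin (c + 1), N j.succ = (M j).comap p := fun j => Fin.cons_succ _ _ j
    refine ⟨N, rfl, ?_, ?_, fun i => ?_, fun i => ?_⟩
    · rw [show Fin.last (c + 1) = (Fin.last c).succ from rfl, hNs, hMl, Subgroup.comap_top]
    · refine Fin.monotone_iff_le_succ.2 fun i => ?_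
      induction i using Fin.cases with
      | zero => exact bot_le
      | succ j =>
        rw [← Fin.succ_castSucc, hNs, hNs]
        exact Subgroup.comap_mono (hMm (Fin.castSucc_le_succ j))
    · induction i using Fin.cases with
      | zero => exact Subgroup.normal_bot
      | succ j => rw [hNs]; infer_instance
    · induction i using Fin.cases with
      | zero =>
        intro _h
        have hA1 : N (0 : Fin (c + 1)).succ = A := by
          rw [hNs, hM0, MonoidHom.comap_bot, QuotientGroup.ker_mk']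
        haveI : Group.IsNilpotent ↥(N (0 : Fin (c + 1)).succ) := by rw [hA1]; exact hAnil
        exact Group.nilpotent_of_surjective _ (QuotientGroup.mk'_surjective _)
      | succ j =>
        intro hn
        have e1 : N j.succ.castSucc = (M j.castSucc).comap p := by
          rw [← Fin.succ_castSucc, hNs]
        revert hn
        rw [e1, hNs]
        intro hn
        haveI := hn
        haveI hS : ((M j.castSucc).subgroupOf (M j.succ)).Normal := inferInstance
        haveI := hMq j hS
        let φ : ↥((M j.succ).comap p) →* ↥(M j.succ) ⧸ (M j.castSucc).subgroupOf (M j.succ) :=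
          (QuotientGroup.mk' _).comp (p.subgroupComap (M j.succ))
        have hφ : Function.Surjective φ := (QuotientGroup.mk'_surjective _).comp
          (MonoidHom.subgroupComap_surjective_of_surjective _ _ hp)
        have hk : φ.ker = ((M j.castSucc).comap p).subgroupOf ((M j.succ).comap p) := by
          ext x
          exact QuotientGroup.eq_one_iff _
        exact Group.nilpotent_of_mulEquiv
          ((QuotientGroup.quotientKerEquivOfSurjective φ hφ).symm.trans
            (QuotientGroup.quotientMulEquivOfEq hk))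

end CfsgLib.Char.GarrisonHeight
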