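import Cfsg.Agent.Lib.Characterizations.BSWChars
import Cfsg.Agent.Lib.Char.Constituent
import Cfsg.Agent.Lib.SmallGroups.ValueTools
import Cfsg.Agent.S0840

/-!
# A self-centralizing abelian subgroup of odd order inverted in its normalizer

The induced functions `(1 - λ)^G` of its linear characters, their decomposition `1 + a - b`, the
congruence of the degree of `a` and the class equation of two involutions.
-/

set_option autoImplicit false

open scoped Classical ComplexConjugate

namespace CfsgLib.Char.InvertedOdd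

open CfsgLib.Char

variable {G : Type*} [Group G]

/-- `P` has odd order, contains the centralizer of each of its nontrivial elements, is inverted by
the involution `t`, and its normalizer has twice its order. -/
structure Inv (P : Subgroup G) (t : G) : Prop where
  odd : Odd (Nat.card P)
  cent : ∀ x ∈ P, x ≠ 1 → ∀ g, g * x = x * g → g ∈ P
  ht : orderOf t = 2
  inv : ∀ x ∈ P, t * x * t⁻¹ = x⁻¹
  norm : Nat.card (Subgroup.normalizer (P : Set G)) = 2 * Nat.card P

variable {P : Subgroup G} {u : G}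

theorem Inv.comm (h : Inv P u) {x y : G} (hx : x ∈ P) (hy : y ∈ P) : x * y = y * x := by
  have h1 := h.inv (x * y) (mul_mem hx hy)
  rw [show u * (x * y) * u⁻¹ = u * x * u⁻¹ * (u * y * u⁻¹) by group, h.inv x hx, h.inv y hy] at h1
  have h2 := congrArg (·⁻¹) h1
  simp only [mul_inv_rev, inv_inv] at h2
  exact h2.symm

theorem Inv.mem_normalizer (h : Inv P u) : u ∈ Subgroup.normalizer (P : Set G) := by
  rw [Subgroup.mem_normalizer_iff]
  refine fun x => ⟨fun hx => by rw [h.inv x hx]; exact inv_mem hx, fun hx => ?_⟩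
  have h1 := h.inv _ hx
  have hu' : u * u = 1 := by rw [← sq, ← h.ht, pow_orderOf_eq_one]
  have h2 : u * (u * x * u⁻¹) * u⁻¹ = x := by
    rw [show u * (u * x * u⁻¹) * u⁻¹ = (u * u) * x * (u * u)⁻¹ by group, hu']; group
  rw [← h2, h1]
  exact inv_mem hx

theorem Inv.not_mem [Finite G] (h : Inv P u) : u ∉ P := by
  intro hm
  have h2 : 2 ∣ Nat.card P := h.ht ▸ Subgroup.orderOf_dvd_natCard P hm
  exact (Nat.not_even_iff_odd.2 h.odd) (even_iff_two_dvd.2 h2)

theorem Inv.of_notMem [Finite G] (h : Inv P u) {y : G} (hy : y ∈ Subgroup.normalizer (P : Set G))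
    (hyP : y ∉ P) : ∀ x ∈ P, y * x * y⁻¹ = x⁻¹ := by
  intro x hx
  set N := Subgroup.normalizer (P : Set G) with hN
  have hidx : (P.subgroupOf N).index = 2 := by
    have := (P.subgroupOf N).card_mul_index
    rw [Nat.card_congr (Subgroup.subgroupOfEquivOfLe Subgroup.le_normalizer).toEquiv,
      show Nat.card N = 2 * Nat.card P from h.norm] at this
    exact Nat.eq_of_mul_eq_mul_left Nat.card_pos (by linarith)
  have hm : u⁻¹ * y ∈ P :=
    (Subgroup.mul_mem_iff_of_index_two hidx (a := (⟨u, h.mem_normalizer⟩ : N)⁻¹) (b := ⟨y, hy⟩)).2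
      (iff_of_false (fun e => h.not_mem (by simpa [Subgroup.mem_subgroupOf] using e)) hyP)
  calc y * x * y⁻¹ = u * ((u⁻¹ * y) * x * (u⁻¹ * y)⁻¹) * u⁻¹ := by group
    _ = u * x * u⁻¹ := by rw [h.comm hm hx, mul_inv_cancel_right]
    _ = x⁻¹ := h.inv x hx

theorem Inv.ti [Finite G] (h : Inv P u) {x g : G} (hx : x ∈ P) (hx1 : x ≠ 1) (hg : g * x * g⁻¹ ∈ P) :
    g ∈ Subgroup.normalizer (P : Set G) := by
  have key : ∀ z ∈ P, g * z * g⁻¹ ∈ P := fun z hz => by
    refine h.cent _ hg (fun e => hx1 (conj_eq_one_iff.1 e)) _ ?_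
    rw [show g * z * g⁻¹ * (g * x * g⁻¹) = g * (z * x) * g⁻¹ by group, h.comm hz hx]
    group
  let f : P → P := fun z => ⟨g * z * g⁻¹, key z z.2⟩
  have hf : Function.Injective f := fun a b e =>
    Subtype.ext (mul_left_cancel (mul_right_cancel (congrArg Subtype.val e)))
  rw [Subgroup.mem_normalizer_iff]
  refine fun z => ⟨key z, fun hz => ?_⟩
  obtain ⟨w, hw⟩ := Finite.surjective_of_injective hf ⟨_, hz⟩
  rw [← mul_left_cancel (mul_right_cancel (congrArg Subtype.val hw))]
  exact w.2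

theorem Inv.hom_ne_inv [Finite G] (h : Inv P u) {lam : ↥P →* ℂˣ} (hl : lam ≠ 1) : lam ≠ lam⁻¹ := by
  intro e
  refine hl (MonoidHom.ext fun y => ?_)
  have h1 : lam y = (lam y)⁻¹ := by
    conv_lhs => rw [e]
    rw [MonoidHom.inv_apply]
  have h2 : lam y ^ 2 = 1 := by rw [sq]; nth_rewrite 2 [h1]; exact mul_inv_cancel _
  have h3 : lam y ^ Nat.card P = 1 := by rw [← map_pow, pow_card_eq_one', map_one]
  rw [MonoidHom.one_apply, ← orderOf_eq_one_iff]
  exact Nat.eq_one_of_dvd_coprimes (Nat.coprime_two_left.2 h.odd)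
    (orderOf_dvd_of_pow_eq_one h2) (orderOf_dvd_of_pow_eq_one h3)

theorem Inv.sum_linear [Finite G] [Fintype (↥P →* ℂˣ)] (h : Inv P u) (z : P) :
    ∑ lam : ↥P →* ℂˣ, (lam z : ℂ) = if z = 1 then (Nat.card P : ℂ) else 0 := by
  haveI := Fintype.ofFinite P
  haveI hcomm : IsMulCommutative P := ⟨⟨fun a b => Subtype.ext (h.comm a.2 b.2)⟩⟩
  have hc : commutator P = ⊥ := by
    rw [commutator_def, Subgroup.commutator_eq_bot_iff_le_centralizer]
    exact fun a _ => Subgroup.mem_centralizer_iff.2 fun b _ => Subtype.ext (h.comm b.2 a.2)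
  have hcard : Fintype.card (↥P →* ℂˣ) = Nat.card P := by
    rw [← Nat.card_eq_fintype_card, Nat.card_congr (homEquivLinear (G := P)), card_linear, hc,
      Subgroup.index_bot]
  by_cases hz : z = 1
  · subst hz; simp [hcard]
  rw [if_neg hz]
  obtain ⟨mu, hmu⟩ : ∃ mu : ↥P →* ℂˣ, (mu z : ℂ) ≠ 1 := by
    by_contra hall
    refine hz (eq_one_of_forall_irr fun χ => ?_)
    obtain ⟨φ, hφ⟩ := exists_hom_of_apply_one_eq_one (IsIrrCharacter.isCharacter χ.2)
      (apply_one_eq_one_of_comm (fun a b => Subtype.ext (h.comm a.2 b.2)) χ.2)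
    rw [hφ]
    simpa using not_not.1 fun e => hall ⟨φ, e⟩
  have hs : (mu z : ℂ) * ∑ lam : ↥P →* ℂˣ, (lam z : ℂ) = ∑ lam : ↥P →* ℂˣ, (lam z : ℂ) := by
    rw [Finset.mul_sum]
    exact Fintype.sum_equiv (Equiv.mulLeft mu) _ _ fun lam => by simp
  refine (mul_left_eq_self₀.1 ?_).resolve_left hmu
  exact hs

variable [Fintype G]

/-- The function `(1 - λ)^G`. -/
noncomputable def al (lam : ↥P →* ℂˣ) : G → ℂ := Cfsg.indFun P fun y => 1 - (lam y : ℂ)

theorem al_one (lam : ↥P →* ℂˣ) : al lam (1 : G) = 0 := by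
  rw [al, indFun_one, map_one, Units.val_one, sub_self, mul_zero]

theorem al_eq_zero (lam : ↥P →* ℂˣ) {g : G} (hg : ∀ x : G, x⁻¹ * g * x ∉ P) : al lam g = 0 :=
  indFun_eq_zero_of_forall _ _ fun x hx => (hg x hx).elim

theorem al_mem (h : Inv P u) (lam : ↥P →* ℂˣ) (y : P) :
    al lam (y : G) = 2 - (lam y : ℂ) - (lam y⁻¹ : ℂ) := by
  by_cases hy1 : (y : G) = 1
  · rw [hy1, al_one, show y = 1 from Subtype.ext hy1, inv_one, map_one, Units.val_one]
    norm_num
  set H := Subgroup.normalizer (P : Set G) with hHdef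
  have hterm : ∀ x : G, Cfsg.extendByZero P (fun y => 1 - (lam y : ℂ)) (x⁻¹ * y * x) =
      (if x ∈ P then 1 - (lam y : ℂ) else 0) + if x ∈ H ∧ x ∉ P then 1 - (lam y⁻¹ : ℂ) else 0 := by
    intro x
    by_cases hxP : x ∈ P
    · rw [if_pos hxP, if_neg (fun e => e.2 hxP), add_zero,
        show x⁻¹ * (y : G) * x = y by rw [mul_assoc, h.comm y.2 hxP, inv_mul_cancel_left]]
      exact extendByZero_coe P _ y
    by_cases hxH : x ∈ H
    · rw [if_neg hxP, if_pos ⟨hxH, hxP⟩, zero_add]
      have h1 := h.of_notMem (inv_mem hxH) (fun e => hxP (by simpa using inv_mem e)) y y.2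
      rw [inv_inv] at h1
      rw [h1]
      exact extendByZero_coe P _ y⁻¹
    · rw [if_neg hxP, if_neg (fun e => hxH e.1), add_zero]
      refine extendByZero_apply_notMem P _ fun hm => hxH ?_
      have := h.ti y.2 hy1 (g := x⁻¹) (by rwa [inv_inv])
      simpa using inv_mem this
  have hP : (Finset.univ.filter fun x : G => x ∈ P).card = Nat.card P := by
    rw [Nat.card_eq_fintype_card]; exact (Fintype.card_subtype _).symm
  have hPs : (Finset.univ.filter fun x : G => x ∈ H ∧ x ∉ P).card = Nat.card P := by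
    have h1 : (Finset.univ.filter fun x : G => x ∈ H).card = 2 * Nat.card P := by
      refine Eq.trans ?_ h.norm
      rw [Nat.card_eq_fintype_card]; exact (Fintype.card_subtype _).symm
    have h2 := Finset.card_filter_add_card_filter_not
      (s := Finset.univ.filter fun x : G => x ∈ H) (fun x => x ∈ P)
    rw [Finset.filter_filter, Finset.filter_filter, h1,
      show (Finset.univ.filter fun x : G => x ∈ H ∧ x ∈ P) = Finset.univ.filter fun x : G => x ∈ P from
        Finset.filter_congr fun x _ => ⟨And.right, fun e => ⟨Subgroup.le_normalizer e, e⟩⟩, hP] at h2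
    omega
  rw [al, indFun_def, Finset.sum_congr rfl fun x _ => hterm x, Finset.sum_add_distrib,
    ← Finset.sum_filter, ← Finset.sum_filter, Finset.sum_const, Finset.sum_const, hP, hPs,
    nsmul_eq_mul, nsmul_eq_mul, ← mul_add,
    inv_mul_cancel_left₀ (Nat.cast_ne_zero.2 Nat.card_pos.ne')]
  ring

theorem al_gen (lam : ↥P →* ℂˣ) : Cfsg.IsGeneralizedCharacter G (al lam) :=
  IsGeneralizedCharacter.indFun P (IsGeneralizedCharacter.sub
    (IsCharacter.isGeneralizedCharacter isCharacter_one)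
    (IsCharacter.isGeneralizedCharacter (isCharacter_hom lam)))

theorem al_inner_class (lam : ↥P →* ℂˣ) {χ : G → ℂ} (hχ : Cfsg.IsClassFunction G χ) :
    Cfsg.classInner (al lam) χ =
      Cfsg.classInner (fun _ : P => (1 : ℂ)) (fun y : P => χ y) -
        Cfsg.classInner (fun y : P => (lam y : ℂ)) (fun y : P => χ y) := by
  rw [al, classInner_indFun P _ hχ, ← classInner_sub_left]
  rfl

theorem classInner_hom (lam mu : ↥P →* ℂˣ) :
    Cfsg.classInner (fun y => (lam y : ℂ)) (fun y => (mu y : ℂ)) = if lam = mu then 1 else 0 := by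
  rw [classInner_irr (isIrrCharacter_hom lam) (isIrrCharacter_hom mu)]
  by_cases h : lam = mu
  · rw [if_pos (by rw [h]), if_pos h]
  · rw [if_neg (fun e => h (coe_hom_injective e)), if_neg h]

theorem al_inner_one (lam : ↥P →* ℂˣ) (hl : lam ≠ 1) :
    Cfsg.classInner (al lam) (fun _ : G => 1) = 1 := by
  rw [al_inner_class lam (fun _ _ => rfl)]
  have h1 := classInner_hom (P := P) 1 1
  have h2 := classInner_hom (P := P) lam 1
  rw [if_pos rfl] at h1
  rw [if_neg hl] at h2
  simp only [MonoidHom.one_apply, Units.val_one] at h1 h2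
  rw [h1, h2, sub_zero]

theorem al_inner (h : Inv P u) (lam mu : ↥P →* ℂˣ) (hl : lam ≠ 1) (hm : mu ≠ 1) :
    Cfsg.classInner (al lam) (al mu) =
      2 + (if lam = mu then 1 else 0) + (if lam = mu⁻¹ then 1 else 0) := by
  rw [al_inner_class lam (IsGeneralizedCharacter.isClassFunction (al_gen mu))]
  have hv : (fun y : P => al mu (y : G)) =
      (fun _ : P => (2 : ℂ)) - (fun y => (mu y : ℂ)) - fun y => ((mu⁻¹ y : ℂˣ) : ℂ) := by
    ext y
    rw [al_mem h, Pi.sub_apply, Pi.sub_apply, MonoidHom.inv_apply, map_inv]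
  have hinv : ¬ (1 : ↥P →* ℂˣ) = mu⁻¹ := fun e => hm (MonoidHom.ext fun y => by
    have h2 := DFunLike.congr_fun e.symm y
    simpa using h2)
  rw [hv, show (fun _ : P => (2 : ℂ)) = (2 : ℂ) • (fun y : P => ((1 : ↥P →* ℂˣ) y : ℂ)) from by
    ext y; simp]
  simp only [classInner_sub_right, classInner_smul_right]
  rw [show (fun _ : P => (1 : ℂ)) = fun y : P => ((1 : ↥P →* ℂˣ) y : ℂ) from by ext y; simp]
  simp only [classInner_hom, if_neg hl, if_neg (Ne.symm hm), if_neg hinv]
  norm_num [map_ofNat]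
  ring

/-- `(1 - λ)^G = 1 + ξ - θ`. -/
def IsDec (lam : ↥P →* ℂˣ) (x t : Cfsg.IrrCharacter G) : Prop :=
  (∃ d : ℕ, 0 < d ∧ (x : G → ℂ) 1 = d ∧ (t : G → ℂ) 1 = d + 1) ∧
    al lam = (fun _ => (1 : ℂ)) + ((x : G → ℂ) - (t : G → ℂ))

theorem exists_dec (h : Inv P u) {lam : ↥P →* ℂˣ} (hl : lam ≠ 1) :
    ∃ x t : Cfsg.IrrCharacter G, IsDec lam x t := by
  have hne : lam ≠ lam⁻¹ := h.hom_ne_inv hl
  obtain ⟨a, b, d, ha, hb, hd, he⟩ := CfsgLib.Characterizations.BSW.exists_sub_neg_one
    (θ := al lam - fun _ : G => (1 : ℂ))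
    (IsGeneralizedCharacter.sub (al_gen lam) (IsCharacter.isGeneralizedCharacter isCharacter_one))
    (by rw [Pi.sub_apply, al_one, zero_sub]) (by
      simp only [classInner_sub_left, classInner_sub_right]
      rw [al_inner h lam lam hl hl, al_inner_one lam hl,
        ← classInner_conj_symm (al lam) (fun _ : G => (1 : ℂ)), al_inner_one lam hl,
        classInner_irr_self isIrrCharacter_one, if_pos rfl, if_neg hne]
      simp)
  exact ⟨a, b, ⟨d, hd, ha, hb⟩, by rw [← he]; abel⟩

variable {lam mu : ↥P →* ℂˣ} {x t x' t' : Cfsg.IrrCharacter G}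

theorem IsDec.ne (hl : lam ≠ 1) (hd : IsDec lam x t) :
    (x : G → ℂ) ≠ (fun _ => 1) ∧ (t : G → ℂ) ≠ (fun _ => 1) ∧ x ≠ t := by
  obtain ⟨⟨d, hd0, hx, ht⟩, he⟩ := hd
  have hxt : x ≠ t := fun e => by
    rw [e, ht] at hx
    have : d + 1 = d := by exact_mod_cast hx
    omega
  have hz := al_inner_one (G := G) lam hl
  rw [he, classInner_add_left, classInner_sub_left, classInner_irr_self isIrrCharacter_one,
    classInner_irr x.2 isIrrCharacter_one, classInner_irr t.2 isIrrCharacter_one] at hz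
  refine ⟨fun e => ?_, fun e => ?_, hxt⟩
  · rw [if_pos e, if_neg (fun e' => hxt (Subtype.ext (e.trans e'.symm)))] at hz; norm_num at hz
  · rw [if_pos e, if_neg (fun e' => hxt (Subtype.ext (e'.trans e.symm)))] at hz; norm_num at hz

theorem IsDec.coeff (hd : IsDec lam x t) {χ : G → ℂ} :
    Cfsg.classInner (al lam) χ = Cfsg.classInner (fun _ : G => (1 : ℂ)) χ +
      (Cfsg.classInner (x : G → ℂ) χ - Cfsg.classInner (t : G → ℂ) χ) := by
  rw [hd.2, classInner_add_left, classInner_sub_left]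

theorem IsDec.coeff_irr (hd : IsDec lam x t) (χ : Cfsg.IrrCharacter G) :
    Cfsg.classInner (al lam) (χ : G → ℂ) =
      (if χ = ⟨_, isIrrCharacter_one⟩ then 1 else 0) + (if χ = x then 1 else 0) -
        (if χ = t then 1 else 0) := by
  rw [hd.coeff]
  conv_lhs => rw [classInner_irrCharacter (⟨_, isIrrCharacter_one⟩ : Cfsg.IrrCharacter G) χ,
    classInner_irrCharacter, classInner_irrCharacter]
  simp only [eq_comm (a := χ)]
  ring

/-- The inner product of two decompositions. -/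
theorem IsDec.share (h : Inv P u) (hl : lam ≠ 1) (hm : mu ≠ 1) (hd : IsDec lam x t)
    (hd' : IsDec mu x' t') :
    (x = x' ∨ t = t') ∧ ((lam = mu ∨ lam = mu⁻¹) → x = x' ∧ t = t') ∧
      (x = x' → t = t' → lam = mu ∨ lam = mu⁻¹) := by
  have h1 := al_inner h lam mu hl hm
  obtain ⟨hx1, ht1, hxt⟩ := hd.ne hl
  obtain ⟨hx1', ht1', hxt'⟩ := hd'.ne hm
  rw [hd.2, hd'.2] at h1
  simp only [classInner_add_left, classInner_add_right, classInner_sub_left, classInner_sub_right,
    classInner_irr_self isIrrCharacter_one, classInner_irr_ne isIrrCharacter_one x'.2 (Ne.symm hx1'),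
    classInner_irr_ne isIrrCharacter_one t'.2 (Ne.symm ht1'), classInner_irr_ne x.2 isIrrCharacter_one hx1,
    classInner_irr_ne t.2 isIrrCharacter_one ht1, classInner_irrCharacter] at h1
  by_cases e1 : x = x' <;> by_cases e2 : t = t'
  · refine ⟨Or.inl e1, fun _ => ⟨e1, e2⟩, fun _ _ => ?_⟩
    by_contra hL
    rw [not_or] at hL
    subst e1 e2
    simp only [if_true, if_neg hL.1, if_neg hL.2, if_neg hxt, if_neg hxt.symm] at h1
    norm_num at h1
  · refine ⟨Or.inl e1, fun hL => ?_, fun _ e => absurd e e2⟩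
    subst e1
    simp only [if_true, if_neg e2, if_neg hxt', if_neg hxt.symm] at h1
    exfalso
    rcases hL with hL | hL <;> rw [if_pos hL] at h1 <;> split_ifs at h1 <;> norm_num at h1
  · refine ⟨Or.inr e2, fun hL => ?_, fun e => absurd e e1⟩
    subst e2
    simp only [if_true, if_neg e1, if_neg hxt, if_neg hxt'.symm] at h1
    exfalso
    rcases hL with hL | hL <;> rw [if_pos hL] at h1 <;> split_ifs at h1 <;> norm_num at h1
  · exfalso
    rw [if_neg e1, if_neg e2] at h1
    split_ifs at h1 <;> norm_num at h1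

/-- A character's values on `P` from its inner products with the functions `(1 - λ)^G`. -/
theorem sum_coeff [Fintype (↥P →* ℂˣ)] (h : Inv P u) {χ : G → ℂ} (hχ : Cfsg.IsClassFunction G χ)
    (z : P) :
    ∑ lam : ↥P →* ℂˣ, Cfsg.classInner (al lam) χ * (lam z⁻¹ : ℂ) =
      (if z = 1 then ∑ y : P, conj (χ y) else 0) - conj (χ z) := by
  have hp : (Nat.card P : ℂ) ≠ 0 := Nat.cast_ne_zero.2 Nat.card_pos.ne'
  have hco : ∀ lam : ↥P →* ℂˣ, Cfsg.classInner (al lam) χ =
      (Nat.card P : ℂ)⁻¹ * ∑ y : P, (1 - (lam y : ℂ)) * conj (χ y) := fun lam => by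
    rw [al, classInner_indFun P _ hχ, Cfsg.classInner]
  have hinner : ∀ y : P, ∑ lam : ↥P →* ℂˣ, (1 - (lam y : ℂ)) * (lam z⁻¹ : ℂ) =
      (if z = 1 then (Nat.card P : ℂ) else 0) - if y = z then (Nat.card P : ℂ) else 0 := fun y => by
    simp only [sub_mul, one_mul, Finset.sum_sub_distrib]
    rw [h.sum_linear z⁻¹,
      Finset.sum_congr rfl (fun (lam : ↥P →* ℂˣ) _ =>
        show (lam y : ℂ) * (lam z⁻¹ : ℂ) = (lam (y * z⁻¹) : ℂ) by rw [map_mul, Units.val_mul]),
      h.sum_linear]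
    simp only [inv_eq_one, mul_inv_eq_one]
  calc ∑ lam : ↥P →* ℂˣ, Cfsg.classInner (al lam) χ * (lam z⁻¹ : ℂ)
      = (Nat.card P : ℂ)⁻¹ * ∑ y : P, conj (χ y) *
          ∑ lam : ↥P →* ℂˣ, (1 - (lam y : ℂ)) * (lam z⁻¹ : ℂ) := by
        simp only [hco, Finset.mul_sum, Finset.sum_mul]
        rw [Finset.sum_comm]
        exact Finset.sum_congr rfl fun y _ => Finset.sum_congr rfl fun lam _ => by ring
    _ = _ := by
        simp only [hinner, mul_sub, Finset.sum_sub_distrib, mul_ite, mul_zero, Finset.sum_ite_eq',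
          Finset.mem_univ, if_true]
        split_ifs with hz
        · rw [← Finset.sum_mul]; field_simp
        · rw [Finset.sum_const_zero]; field_simp; ring


variable {u : G}

/-- The elements of the normalizer outside `P` are the involutions inverting it, all conjugate. -/
theorem Inv.of_notMem_isConj (h : Inv P u) {y : G} (hy : y ∈ Subgroup.normalizer (P : Set G))
    (hyP : y ∉ P) : IsConj u y := by
  have hu2 : u * u = 1 := by rw [← sq, ← h.ht, pow_orderOf_eq_one]
  have hp : u * y ∈ P := by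
    set N := Subgroup.normalizer (P : Set G) with hN
    have hidx : (P.subgroupOf N).index = 2 := by
      have := (P.subgroupOf N).card_mul_index
      rw [Nat.card_congr (Subgroup.subgroupOfEquivOfLe Subgroup.le_normalizer).toEquiv,
        show Nat.card N = 2 * Nat.card P from h.norm] at this
      exact Nat.eq_of_mul_eq_mul_left Nat.card_pos (by linarith)
    exact (Subgroup.mul_mem_iff_of_index_two hidx (a := (⟨u, h.mem_normalizer⟩ : N)) (b := ⟨y, hy⟩)).2
      (iff_of_false (fun e => h.not_mem e) hyP)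
  obtain ⟨k, hk⟩ := h.odd
  set r := (u * y) ^ (k + 1) with hr
  have hr2 : r * r = u * y := by
    rw [hr, ← pow_add, show k + 1 + (k + 1) = 2 * k + 1 + 1 by ring, pow_succ, ← hk,
      orderOf_dvd_iff_pow_eq_one.1 (Subgroup.orderOf_dvd_natCard P hp), one_mul]
  have hrP : r ∈ P := P.pow_mem hp _
  refine isConj_iff.2 ⟨r⁻¹, ?_⟩
  have h1 := h.inv r hrP
  calc r⁻¹ * u * r⁻¹⁻¹ = (u * r * u⁻¹) * u * r := by rw [h1, inv_inv]
    _ = u * (r * r) := by group
    _ = y := by rw [hr2, ← mul_assoc, hu2, one_mul]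

/-- The pairs of involutions, conjugate to `s` and `s'`, whose product is a given element of `P`. -/
theorem Inv.card_pairs (h : Inv P u) {s s' : G} (hs : orderOf s = 2) (hs' : orderOf s' = 2)
    {y : G} (hy : y ∈ P) (hy1 : y ≠ 1) :
    Nat.card {p : G × G // IsConj s p.1 ∧ IsConj s' p.2 ∧ p.1 * p.2 = y} =
      if IsConj s u ∧ IsConj s' u then Nat.card P else 0 := by
  have hinv : ∀ x w : G, IsConj s x → IsConj s' w → x * w = y →
      x ∈ Subgroup.normalizer (P : Set G) ∧ x ∉ P ∧ w ∈ Subgroup.normalizer (P : Set G) ∧ w ∉ P := by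
    intro x w hx hw hxw
    obtain ⟨c, rfl⟩ := isConj_iff.1 hx
    obtain ⟨e, rfl⟩ := isConj_iff.1 hw
    have hs1 : s * s = 1 := by rw [← sq, ← hs, pow_orderOf_eq_one]
    have hs1' : s' * s' = 1 := by rw [← sq, ← hs', pow_orderOf_eq_one]
    have hxx : c * s * c⁻¹ * (c * s * c⁻¹) = 1 := by
      rw [show c * s * c⁻¹ * (c * s * c⁻¹) = c * (s * s) * c⁻¹ by group, hs1]; group
    have hww : e * s' * e⁻¹ * (e * s' * e⁻¹) = 1 := by
      rw [show e * s' * e⁻¹ * (e * s' * e⁻¹) = e * (s' * s') * e⁻¹ by group, hs1']; group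
    have hox : orderOf (c * s * c⁻¹) = 2 := by
      rw [← hs, ← MulEquiv.orderOf_eq (MulAut.conj c) s, MulAut.conj_apply]
    generalize c * s * c⁻¹ = x at *
    generalize e * s' * e⁻¹ = w at *
    have hxy : x * y * x⁻¹ = y⁻¹ := by
      rw [← hxw, mul_inv_rev, inv_eq_of_mul_eq_one_right hxx, inv_eq_of_mul_eq_one_right hww,
        ← mul_assoc, hxx, one_mul]
    have hxN : x ∈ Subgroup.normalizer (P : Set G) := h.ti hy hy1 (hxy ▸ inv_mem hy)
    have hxP : x ∉ P := by
      intro hm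
      have h2 : 2 ∣ Nat.card P := by
        exact hox ▸ Subgroup.orderOf_dvd_natCard P hm
      exact (Nat.not_even_iff_odd.2 h.odd) (even_iff_two_dvd.2 h2)
    have hwe : w = x * y := by rw [← hxw, ← mul_assoc, hxx, one_mul]
    refine ⟨hxN, hxP, hwe ▸ mul_mem hxN (Subgroup.le_normalizer hy), fun hm => hxP ?_⟩
    have := P.mul_mem (hwe ▸ hm : x * y ∈ P) (inv_mem hy)
    rwa [mul_inv_cancel_right] at this
  split_ifs with hc
  · have hu2 : u * u = 1 := by rw [← sq, ← h.ht, pow_orderOf_eq_one]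
    have hout : ∀ r ∈ P, u * r ∈ Subgroup.normalizer (P : Set G) ∧ u * r ∉ P := fun r hr =>
      ⟨mul_mem h.mem_normalizer (Subgroup.le_normalizer hr), fun e => h.not_mem (by
        simpa using P.mul_mem e (inv_mem hr))⟩
    have hsq : ∀ r ∈ P, u * r * (u * r) = 1 := fun r hr => by
      rw [show u * r * (u * r) = (u * r * u⁻¹) * (u * u) * r by group, hu2, h.inv r hr]; group
    refine (Nat.card_congr (Equiv.ofBijective (fun r : P => (⟨(u * r, u * (r * y)),
      hc.1.trans (h.of_notMem_isConj (hout r r.2).1 (hout r r.2).2),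
      hc.2.trans (h.of_notMem_isConj (hout _ (mul_mem r.2 hy)).1 (hout _ (mul_mem r.2 hy)).2), ?_⟩ :
        {p : G × G // IsConj s p.1 ∧ IsConj s' p.2 ∧ p.1 * p.2 = y})) ⟨?_, ?_⟩)).symm
    · show u * r * (u * (r * y)) = y
      rw [← mul_assoc u (r : G) y, ← mul_assoc, hsq r r.2, one_mul]
    · intro r r' e
      exact Subtype.ext (mul_left_cancel (congrArg (fun q => q.1.1) e))
    · rintro ⟨⟨x, w⟩, hx, hw, hxw⟩
      dsimp only at hx hw hxw
      obtain ⟨hxN, hxP, -, -⟩ := hinv x w hx hw hxw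
      have hr : u * x ∈ P := by
        set N := Subgroup.normalizer (P : Set G) with hN
        have hidx : (P.subgroupOf N).index = 2 := by
          have := (P.subgroupOf N).card_mul_index
          rw [Nat.card_congr (Subgroup.subgroupOfEquivOfLe Subgroup.le_normalizer).toEquiv,
            show Nat.card N = 2 * Nat.card P from h.norm] at this
          exact Nat.eq_of_mul_eq_mul_left Nat.card_pos (by linarith)
        exact (Subgroup.mul_mem_iff_of_index_two hidx (a := (⟨u, h.mem_normalizer⟩ : N)) (b := ⟨x, hxN⟩)).2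
          (iff_of_false (fun e => h.not_mem e) hxP)
      refine ⟨⟨u * x, hr⟩, Subtype.ext (Prod.ext ?_ ?_)⟩
      · show u * (u * x) = x
        rw [← mul_assoc, hu2, one_mul]
      · show u * (u * x * y) = w
        have hxx : x * x = 1 := by
          have := hsq (u * x) hr
          rwa [← mul_assoc u u x, hu2, one_mul] at this
        rw [← hxw, ← mul_assoc, ← mul_assoc, ← mul_assoc, hu2, one_mul, hxx, one_mul]
  · rw [Nat.card_eq_zero]
    left
    refine ⟨fun ⟨⟨x, w⟩, hx, hw, hxw⟩ => hc ?_⟩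
    obtain ⟨h1, h2, h3, h4⟩ := hinv x w hx hw hxw
    exact ⟨hx.trans (h.of_notMem_isConj h1 h2).symm, hw.trans (h.of_notMem_isConj h3 h4).symm⟩

/-- The class equation of two classes of involutions at the decomposition of `(1 - λ)^G`. -/
theorem class_equation (h : Inv P u) {lam : ↥P →* ℂˣ} (hl : lam ≠ 1) {a b : Cfsg.IrrCharacter G}
    (hd : IsDec lam a b) {d : ℕ} (ha : (a : G → ℂ) 1 = d) {s s' : G} (hs : orderOf s = 2)
    (hs' : orderOf s' = 2) :
    (Nat.card G : ℂ) * ((d : ℂ) - (a : G → ℂ) s) * ((d : ℂ) - (a : G → ℂ) s') =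
      ((if IsConj s u ∧ IsConj s' u then Nat.card P else 0 : ℕ) : ℂ) *
        (Nat.card (Subgroup.centralizer ({s} : Set G)) : ℂ) *
        (Nat.card (Subgroup.centralizer ({s'} : Set G)) : ℂ) * d * (d + 1) := by
  set N0 : ℕ := if IsConj s u ∧ IsConj s' u then Nat.card P else 0
  obtain ⟨ha1, hb1, hab⟩ := hd.ne hl
  obtain ⟨d', hd0, hxa, hxb⟩ := hd.1
  obtain rfl : d = d' := by exact_mod_cast (ha.symm.trans hxa)
  have hout : ∀ {g : G}, orderOf g = 2 → al lam g = 0 := fun {g} hg => by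
    refine al_eq_zero lam fun x hx => ?_
    have h2 : 2 ∣ Nat.card P := by
      have h3 : orderOf (x⁻¹ * g * x) = 2 := by
        rw [← hg, ← MulEquiv.orderOf_eq (MulAut.conj x⁻¹) g, MulAut.conj_apply, inv_inv]
      exact h3 ▸ Subgroup.orderOf_dvd_natCard P hx
    exact (Nat.not_even_iff_odd.2 h.odd) (even_iff_two_dvd.2 h2)
  have hbs : ∀ {g : G}, orderOf g = 2 → (b : G → ℂ) g = (a : G → ℂ) g + 1 := fun {g} hg => by
    have h1 := congrFun hd.2 g
    rw [hout hg, Pi.add_apply, Pi.sub_apply] at h1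
    linear_combination h1
  set cs := (Nat.card {x : G // IsConj s x} : ℂ) with hcs
  set cs' := (Nat.card {x : G // IsConj s' x} : ℂ) with hcs'
  have hsize : ∀ g : G, (Nat.card {x : G // IsConj g x} : ℂ) *
      (Nat.card (Subgroup.centralizer ({g} : Set G)) : ℂ) = Nat.card G := fun g => by
    rw [← Nat.cast_mul, Nat.cast_inj, ← card_conjugates_mul g]
    congr 1
    exact Nat.card_congr (Equiv.subtypeEquivRight fun x => isConj_comm)
  set S := ∑ χ : Cfsg.IrrCharacter G,
    (χ : G → ℂ) s * (χ : G → ℂ) s' * Cfsg.classInner (al lam) (χ : G → ℂ) / (χ : G → ℂ) 1 with hS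
  have hS1 : S = 1 + (a : G → ℂ) s * (a : G → ℂ) s' / d
      - ((a : G → ℂ) s + 1) * ((a : G → ℂ) s' + 1) / (d + 1) := by
    rw [hS]
    simp only [hd.coeff_irr, mul_sub, mul_add, sub_div, add_div, Finset.sum_sub_distrib,
      Finset.sum_add_distrib, mul_ite, mul_one, mul_zero, ite_div, zero_div, Finset.sum_ite_eq',
      Finset.mem_univ, if_true, hxa, hxb, hbs hs, hbs hs']
    norm_num
  have hP : (Nat.card P : ℂ) ≠ 0 := Nat.cast_ne_zero.2 Nat.card_pos.ne'
  have hG : (Nat.card G : ℂ) ≠ 0 := card_ne_zero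
  have hsum1 : ∑ y : P, (1 - (lam y : ℂ)) = Nat.card P := by
    have h1 := classInner_hom lam 1
    rw [if_neg hl, Cfsg.classInner, mul_eq_zero] at h1
    have h2 : ∑ y : P, (lam y : ℂ) = 0 := by
      simpa using h1.resolve_left (inv_ne_zero hP)
    rw [Finset.sum_sub_distrib, h2, sub_zero, Finset.sum_const, Finset.card_univ, nsmul_eq_mul,
      mul_one, Nat.card_eq_fintype_card]
  have key : cs * cs' / (Nat.card G : ℂ) * S = (N0 : ℂ) := by
    have hin : ∀ χ : Cfsg.IrrCharacter G, Cfsg.classInner (al lam) (χ : G → ℂ) =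
        (Nat.card P : ℂ)⁻¹ * ∑ y : P, (1 - (lam y : ℂ)) * conj ((χ : G → ℂ) y) := fun χ => by
      rw [al, classInner_indFun P _ (IsIrrCharacter.isClassFunction χ.2)]
      rfl
    calc cs * cs' / (Nat.card G : ℂ) * S
        = (Nat.card P : ℂ)⁻¹ * ∑ y : P, (1 - (lam y : ℂ)) * (cs * cs' / (Nat.card G : ℂ) *
            ∑ χ : Cfsg.IrrCharacter G,
              (χ : G → ℂ) s * (χ : G → ℂ) s' * conj ((χ : G → ℂ) y) / (χ : G → ℂ) 1) := by
          simp only [hS, hin, Finset.mul_sum, Finset.sum_div]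
          rw [Finset.sum_comm]
          exact Finset.sum_congr rfl fun y _ => Finset.sum_congr rfl fun χ _ => by ring
      _ = (Nat.card P : ℂ)⁻¹ * ∑ y : P, (1 - (lam y : ℂ)) * (N0 : ℂ) := by
          congr 1
          refine Finset.sum_congr rfl fun y _ => ?_
          by_cases hy : (y : G) = 1
          · rw [show y = 1 from Subtype.ext hy, map_one, Units.val_one, sub_self, zero_mul, zero_mul]
          · have h5 := Cfsg.Agent.S0840.result s s' (y : G)
            rw [h.card_pairs hs hs' y.2 hy, finsum_eq_sum_of_fintype] at h5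
            rw [h5]
      _ = (N0 : ℂ) := by rw [← Finset.sum_mul, hsum1, ← mul_assoc, inv_mul_cancel₀ hP, one_mul]
  have e1 := hsize s
  have e2 := hsize s'
  have hd1 : (d : ℂ) + 1 ≠ 0 := by exact_mod_cast (Nat.succ_ne_zero d)
  have hdne : (d : ℂ) ≠ 0 := Nat.cast_ne_zero.2 hd0.ne'
  rw [← hcs] at e1
  rw [← hcs'] at e2
  rw [div_mul_eq_mul_div, div_eq_iff hG] at key
  have hC1 : (Nat.card (Subgroup.centralizer ({s} : Set G)) : ℂ) ≠ 0 := Nat.cast_ne_zero.2 Nat.card_pos.ne'
  have hC2 : (Nat.card (Subgroup.centralizer ({s'} : Set G)) : ℂ) ≠ 0 := Nat.cast_ne_zero.2 Nat.card_pos.ne'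
  have hS2 : (Nat.card G : ℂ) * S = (N0 : ℂ) *
      (Nat.card (Subgroup.centralizer ({s} : Set G)) : ℂ) *
      (Nat.card (Subgroup.centralizer ({s'} : Set G)) : ℂ) := by
    refine mul_left_cancel₀ hG ?_
    have h6 := congrArg (fun z => z * (Nat.card (Subgroup.centralizer ({s} : Set G)) : ℂ) *
      (Nat.card (Subgroup.centralizer ({s'} : Set G)) : ℂ)) key
    beta_reduce at h6
    calc (Nat.card G : ℂ) * ((Nat.card G : ℂ) * S)
        = cs * (Nat.card (Subgroup.centralizer ({s} : Set G)) : ℂ) *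
          (cs' * (Nat.card (Subgroup.centralizer ({s'} : Set G)) : ℂ)) * S := by rw [e1, e2]; ring
      _ = _ := by linear_combination h6
  rw [← hS2, hS1]
  field_simp
  ring

theorem degree_congr (h : Inv P u) {lam : ↥P →* ℂˣ} (hl : lam ≠ 1) {a b : Cfsg.IrrCharacter G}
    (hd : IsDec lam a b) {d : ℕ} (ha : (a : G → ℂ) 1 = d) :
    (Nat.card P : ℤ) ∣ (d : ℤ) - 1 ∨ (Nat.card P : ℤ) ∣ (d : ℤ) + 2 := by
  haveI : Finite (↥P →* ℂˣ) := CfsgLib.Characterizations.BSW.finite_hom
  haveI := Fintype.ofFinite (↥P →* ℂˣ)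
  obtain ⟨ha1, hb1, hab⟩ := hd.ne hl
  have hcard : Fintype.card (↥P →* ℂˣ) = Nat.card P := by
    have h1 := h.sum_linear (1 : P)
    simp only [map_one, Units.val_one, Finset.sum_const, Finset.card_univ, nsmul_eq_mul, mul_one,
      if_true] at h1
    exact_mod_cast h1
  -- the alternatives
  have hall : (∀ mu : ↥P →* ℂˣ, mu ≠ 1 → ∀ x t, IsDec mu x t → x = a) ∨
      (∀ mu : ↥P →* ℂˣ, mu ≠ 1 → mu ≠ lam → mu ≠ lam⁻¹ → ∀ x t, IsDec mu x t → x ≠ a ∧ t = b) := by
    by_contra hcon
    rw [not_or] at hcon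
    obtain ⟨h1, h2⟩ := hcon
    push Not at h1 h2
    obtain ⟨mu, hmu, x, t, hxt, hxa⟩ := h1
    obtain ⟨nu, hnu, hnu1, hnu2, x', t', hxt', hx'⟩ := h2
    have s1 := IsDec.share h hl hmu hd hxt
    have s2 := IsDec.share h hl hnu hd hxt'
    have s3 := IsDec.share h hmu hnu hxt hxt'
    have ht : b = t := s1.1.resolve_left (fun e => hxa e.symm)
    have hxa' : x' = a := by
      by_contra e
      exact hx' e (s2.1.resolve_left (fun e' => e e'.symm)).symm
    have htb : t' ≠ b := fun e => by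
      rcases s2.2.2 hxa'.symm e.symm with r | r
      · exact hnu1 r.symm
      · exact hnu2 (by
          have hr := congrArg (fun l : ↥P →* ℂˣ => l⁻¹) r
          refine MonoidHom.ext fun y => ?_
          have := congrArg (fun l : ↥P →* ℂˣ => l y) hr
          simpa using this.symm)
    rcases s3.1 with r | r
    · exact hxa (r.trans hxa')
    · exact htb (r.symm.trans ht.symm)
  have hcoef : ∀ mu : ↥P →* ℂˣ, mu ≠ 1 → ∃ x t : Cfsg.IrrCharacter G, IsDec mu x t ∧
      Cfsg.classInner (al mu) (a : G → ℂ) = (if x = a then 1 else 0) - (if t = a then 1 else 0) := by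
    intro mu hmu
    obtain ⟨x, t, hxt⟩ := exists_dec h hmu
    refine ⟨x, t, hxt, ?_⟩
    rw [hxt.coeff_irr a, if_neg (fun e => ha1 (congrArg Subtype.val e)), zero_add]
    simp only [eq_comm (a := a)]
  have hone : Cfsg.classInner (al (1 : ↥P →* ℂˣ)) (a : G → ℂ) = 0 := by
    rw [al, show (fun y : P => (1 : ℂ) - (((1 : ↥P →* ℂˣ) y : ℂˣ) : ℂ)) = fun _ => 0 from by
      ext y; simp]
    rw [classInner_indFun P _ (IsIrrCharacter.isClassFunction a.2)]
    simp [Cfsg.classInner]
  have hsum := sum_coeff h (IsIrrCharacter.isClassFunction a.2) (1 : P)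
  simp only [if_true, inv_one, map_one, Units.val_one, mul_one] at hsum
  obtain ⟨m, hm⟩ := CfsgLib.SmallGroups.ValueTools.exists_mult a P
  rw [← map_sum, hm, OneMemClass.coe_one, ha, map_mul, Complex.conj_natCast, Complex.conj_natCast,
    Complex.conj_natCast] at hsum
  rcases hall with hA | hB
  · left
    have h1 : ∑ mu : ↥P →* ℂˣ, Cfsg.classInner (al mu) (a : G → ℂ) =
        ∑ mu : ↥P →* ℂˣ, ((1 : ℂ) - if mu = 1 then 1 else 0) := by
      refine Finset.sum_congr rfl fun mu _ => ?_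
      by_cases hmu : mu = 1
      · rw [hmu, if_pos rfl, hone, sub_self]
      · obtain ⟨x, t, hxt, hc⟩ := hcoef mu hmu
        rw [hc, if_neg hmu, if_pos (hA mu hmu x t hxt),
          if_neg (fun e => (hxt.ne hmu).2.2 ((hA mu hmu x t hxt).trans e.symm))]
    rw [hsum, Finset.sum_sub_distrib, Finset.sum_ite_eq', if_pos (Finset.mem_univ _), Finset.sum_const,
      Finset.card_univ, hcard, nsmul_eq_mul, mul_one] at h1
    refine ⟨(m : ℤ) - 1, ?_⟩
    have h2 : (((d : ℤ) - 1 : ℤ) : ℂ) = (((Nat.card P : ℤ) * ((m : ℤ) - 1) : ℤ) : ℂ) := by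
      push_cast; linear_combination -h1
    exact_mod_cast h2
  · right
    have hne : lam ≠ lam⁻¹ := h.hom_ne_inv hl
    have hli : lam⁻¹ ≠ 1 := fun e => hl (CfsgLib.Characterizations.BSW.hom_eq_one_of_inv e)
    have h1 : ∑ mu : ↥P →* ℂˣ, Cfsg.classInner (al mu) (a : G → ℂ) =
        ∑ mu : ↥P →* ℂˣ, ((if mu = lam then (1 : ℂ) else 0) + if mu = lam⁻¹ then 1 else 0) := by
      refine Finset.sum_congr rfl fun mu _ => ?_
      by_cases hmu : mu = 1
      · rw [hmu, hone, if_neg (Ne.symm hl), if_neg (Ne.symm hli), add_zero]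
      obtain ⟨x, t, hxt, hc⟩ := hcoef mu hmu
      rw [hc]
      by_cases hL : mu = lam ∨ mu = lam⁻¹
      · have hs := (IsDec.share h hl hmu hd hxt).2.1 (by
          rcases hL with r | r
          · exact Or.inl r.symm
          · right; rw [r, CfsgLib.Characterizations.BSW.hom_inv_inv])
        rw [if_pos hs.1.symm, if_neg (fun e => hab (e.symm.trans hs.2.symm))]
        rcases hL with r | r
        · rw [if_pos r, if_neg (fun e => hne (r.symm.trans e))]; norm_num
        · rw [if_pos r, if_neg (fun e => hne (e.symm.trans r))]; norm_num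
      · rw [not_or] at hL
        obtain ⟨h3, h4⟩ := hB mu hmu hL.1 hL.2 x t hxt
        rw [if_neg h3, if_neg (fun e => hab (e.symm.trans h4)), if_neg hL.1, if_neg hL.2]
        norm_num
    rw [hsum, Finset.sum_add_distrib, Finset.sum_ite_eq', Finset.sum_ite_eq',
      if_pos (Finset.mem_univ _), if_pos (Finset.mem_univ _)] at h1
    refine ⟨(m : ℤ), ?_⟩
    have h2 : (((d : ℤ) + 2 : ℤ) : ℂ) = (((Nat.card P : ℤ) * (m : ℤ) : ℤ) : ℂ) := by
      push_cast; linear_combination -h1
    exact_mod_cast h2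

end CfsgLib.Char.InvertedOdd
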