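import Cfsg.Agent.Lib.Characterizations.BSWChars
import Cfsg.Agent.Lib.Char.Constituent

/-!
# A self-centralizing subgroup of prime order inverted in its normalizer

The induced functions `(1 - λ)^G` of its linear characters, their decomposition `1 + ξ - θ`, and
the values of irreducible characters on the subgroup in terms of these functions.
-/

set_option autoImplicit false

open scoped Classical ComplexConjugate

namespace CfsgLib.Char.InvertedPrime

open CfsgLib.Char

variable {G : Type*} [Group G]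

/-- `P` has order `p`, is self-centralizing, and its normalizer has order `2 * p`. -/
structure Inv (P : Subgroup G) (p : ℕ) : Prop where
  prime : p.Prime
  odd : 2 < p
  card : Nat.card P = p
  cent : ∀ g, (∀ x ∈ P, g * x = x * g) → g ∈ P
  norm : Nat.card (Subgroup.normalizer (P : Set G)) = 2 * p

variable {P : Subgroup G} {p : ℕ}

theorem Inv.zpowers_eq [Finite G] (h : Inv P p) {x : G} (hx : x ∈ P) (hx1 : x ≠ 1) :
    Subgroup.zpowers x = P ∧ orderOf x = p := by
  have hd : orderOf x ∣ p := h.card ▸ Subgroup.orderOf_dvd_natCard P hx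
  have ho : orderOf x = p :=
    (h.prime.eq_one_or_self_of_dvd _ hd).resolve_left fun e => hx1 (orderOf_eq_one_iff.1 e)
  refine ⟨Subgroup.eq_of_le_of_card_ge (Subgroup.zpowers_le.2 hx) ?_, ho⟩
  rw [Nat.card_zpowers, ho]
  exact h.card.le

theorem Inv.comm [Finite G] (h : Inv P p) {x y : G} (hx : x ∈ P) (hy : y ∈ P) : x * y = y * x := by
  by_cases hx1 : x = 1
  · rw [hx1, one_mul, mul_one]
  rw [← (h.zpowers_eq hx hx1).1, Subgroup.mem_zpowers_iff] at hy
  obtain ⟨k, rfl⟩ := hy
  exact (Commute.refl x).zpow_right k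

theorem Inv.cent_elt [Finite G] (h : Inv P p) {x g : G} (hx : x ∈ P) (hx1 : x ≠ 1) (hg : g * x = x * g) :
    g ∈ P := h.cent g fun y hy => by
  rw [← (h.zpowers_eq hx hx1).1, Subgroup.mem_zpowers_iff] at hy
  obtain ⟨k, rfl⟩ := hy
  exact Commute.zpow_right hg k

theorem Inv.ti [Finite G] (h : Inv P p) {x g : G} (hx : x ∈ P) (hx1 : x ≠ 1) (hg : g * x * g⁻¹ ∈ P) :
    g ∈ Subgroup.normalizer (P : Set G) := by
  have hgx1 : g * x * g⁻¹ ≠ 1 := fun e => hx1 (conj_eq_one_iff.1 e)
  have hmap : P.map (MulAut.conj g).toMonoidHom = P := by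
    conv_lhs => rw [← (h.zpowers_eq hx hx1).1]
    rw [MonoidHom.map_zpowers]
    exact (h.zpowers_eq hg hgx1).1
  rw [Subgroup.mem_normalizer_iff]
  intro z
  constructor
  · intro hz
    rw [← hmap]
    exact ⟨z, hz, rfl⟩
  · intro hz
    rw [← hmap] at hz
    obtain ⟨w, hw, e⟩ := hz
    have : w = z := by simpa using e
    rwa [← this]

theorem Inv.involution [Finite G] (h : Inv P p) {y : G}
    (hy : y ∈ Subgroup.normalizer (P : Set G)) (hyP : y ∉ P) :
    orderOf y = 2 ∧ ∀ x ∈ P, y * x * y⁻¹ = x⁻¹ := by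
  set N := Subgroup.normalizer (P : Set G) with hN
  have hidx : (P.subgroupOf N).index = 2 := by
    have := (P.subgroupOf N).card_mul_index
    rw [Nat.card_congr (Subgroup.subgroupOfEquivOfLe Subgroup.le_normalizer).toEquiv, h.card,
      show Nat.card N = 2 * p from h.norm] at this
    exact Nat.eq_of_mul_eq_mul_left h.prime.pos (by linarith)
  have hy2 : y * y ∈ P :=
    (Subgroup.mul_mem_iff_of_index_two hidx (a := (⟨y, hy⟩ : N)) (b := ⟨y, hy⟩)).2 Iff.rfl
  have hconj : ∀ x ∈ P, y * x * y⁻¹ ∈ P := fun x hx => (Subgroup.mem_normalizer_iff.1 hy x).1 hx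
  have hinv : ∀ x ∈ P, y * x * y⁻¹ = x⁻¹ := by
    intro x hx
    by_cases hx1 : x = 1
    · simp [hx1]
    obtain ⟨hz, ho⟩ := h.zpowers_eq hx hx1
    have hm := hconj x hx
    rw [← hz, Subgroup.mem_zpowers_iff] at hm
    obtain ⟨k, hk⟩ := hm
    have h2 : (y * y) * x * (y * y)⁻¹ = x := by
      rw [h.comm hy2 hx, mul_inv_cancel_right]
    have h3 : x ^ (k * k) = x := by
      calc x ^ (k * k) = (x ^ k) ^ k := zpow_mul x k k
        _ = (y * x * y⁻¹) ^ k := by rw [hk]
        _ = y * x ^ k * y⁻¹ := conj_zpow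
        _ = (y * y) * x * (y * y)⁻¹ := by rw [hk]; group
        _ = x := h2
    have h4 : (p : ℤ) ∣ k * k - 1 := by
      rw [← ho]
      exact orderOf_dvd_iff_zpow_eq_one.2 (by rw [zpow_sub, h3, zpow_one, mul_inv_cancel])
    rw [show k * k - 1 = (k - 1) * (k + 1) by ring] at h4
    rcases (Nat.prime_iff_prime_int.1 h.prime).dvd_or_dvd h4 with h5 | h5
    · rw [← ho, orderOf_dvd_iff_zpow_eq_one, zpow_sub, zpow_one, mul_inv_eq_one] at h5
      exact absurd (h.cent_elt hx hx1 (mul_inv_eq_iff_eq_mul.1 (hk.symm.trans h5))) hyP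
    · rw [← ho, orderOf_dvd_iff_zpow_eq_one, zpow_add, zpow_one, mul_eq_one_iff_eq_inv] at h5
      exact hk.symm.trans h5
  refine ⟨orderOf_eq_prime ?_ (fun e => hyP (e ▸ one_mem P)), hinv⟩
  rw [sq]
  by_contra hne
  have h6 := hinv _ hy2
  rw [← mul_assoc y y y, mul_inv_cancel_right, eq_inv_iff_mul_eq_one] at h6
  have h7 : orderOf (y * y) ∣ 2 := orderOf_dvd_of_pow_eq_one (by rw [sq]; exact h6)
  rw [(h.zpowers_eq hy2 hne).2] at h7
  have := Nat.le_of_dvd two_pos h7
  have := h.odd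
  omega

theorem Inv.exists_inverting [Finite G] (h : Inv P p) :
    ∃ t, t ∈ Subgroup.normalizer (P : Set G) ∧ t ∉ P := by
  by_contra hc
  have hle : Subgroup.normalizer (P : Set G) ≤ P := fun g hg => not_not.1 fun e => hc ⟨g, hg, e⟩
  have := Subgroup.card_le_of_le hle
  rw [h.norm, h.card] at this
  have := h.prime.pos
  omega

theorem Inv.sum_linear [Finite G] [Fintype (↥P →* ℂˣ)] (h : Inv P p) (z : P) :
    ∑ lam : ↥P →* ℂˣ, (lam z : ℂ) = if z = 1 then (p : ℂ) else 0 := by
  haveI := Fintype.ofFinite P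
  haveI hcomm : IsMulCommutative P := ⟨⟨fun a b => Subtype.ext (h.comm a.2 b.2)⟩⟩
  have hc : commutator P = ⊥ := by
    rw [commutator_def, Subgroup.commutator_eq_bot_iff_le_centralizer]
    exact fun a _ => Subgroup.mem_centralizer_iff.2 fun b _ => Subtype.ext (h.comm b.2 a.2)
  have hcard : Fintype.card (↥P →* ℂˣ) = p := by
    rw [← Nat.card_eq_fintype_card, Nat.card_congr (homEquivLinear (G := P)), card_linear, hc,
      Subgroup.index_bot, h.card]
  by_cases hz : z = 1
  · subst hz; simp [hcard]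
  rw [if_neg hz]
  obtain ⟨mu, hmu⟩ : ∃ mu : ↥P →* ℂˣ, (mu z : ℂ) ≠ 1 := by
    by_contra hall
    refine hz (eq_one_of_forall_irr fun χ => ?_)
    obtain ⟨φ, hφ⟩ := exists_hom_of_apply_one_eq_one (IsIrrCharacter.isCharacter χ.2)
      (apply_one_eq_one_of_comm (fun a b => Subtype.ext (h.comm a.2 b.2)) χ.2)
    rw [hφ]
    simpa using not_not.1 fun e => hall ⟨φ, e⟩
  have hs : (mu z : ℂ) * ∑ lam : ↥P →* ℂˣ, (lam z : ℂ) = ∑ lam : ↥P →* ℂˣ, (lam z : ℂ) := by
    rw [Finset.mul_sum]
    exact Fintype.sum_equiv (Equiv.mulLeft mu) _ _ fun lam => by simp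
  refine (mul_left_eq_self₀.1 ?_).resolve_left hmu
  exact hs

variable [Fintype G]

/-- The function `(1 - λ)^G`. -/
noncomputable def al (lam : ↥P →* ℂˣ) : G → ℂ := Cfsg.indFun P fun y => 1 - (lam y : ℂ)

theorem al_one (lam : ↥P →* ℂˣ) : al lam (1 : G) = 0 := by
  rw [al, indFun_one, map_one, Units.val_one, sub_self, mul_zero]

theorem al_eq_zero (h : Inv P p) (lam : ↥P →* ℂˣ) {g : G} (hg : orderOf g ≠ p) : al lam g = 0 := by
  by_cases hg1 : g = 1
  · rw [hg1, al_one]
  refine indFun_eq_zero_of_forall _ _ fun x hx => hg ?_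
  have hne : x⁻¹ * g * x ≠ 1 := fun e => hg1 (by
    have := congrArg (fun w => x * w * x⁻¹) e
    simpa [mul_assoc] using this)
  have := (h.zpowers_eq hx hne).2
  rw [← MulEquiv.orderOf_eq (MulAut.conj x⁻¹) g, MulAut.conj_apply, inv_inv]
  exact this

theorem al_mem (h : Inv P p) (lam : ↥P →* ℂˣ) (y : P) :
    al lam (y : G) = 2 - (lam y : ℂ) - (lam y⁻¹ : ℂ) := by
  by_cases hy1 : (y : G) = 1
  · rw [hy1, al_one, show y = 1 from Subtype.ext hy1, inv_one, map_one, Units.val_one]
    norm_num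
  set H := Subgroup.normalizer (P : Set G) with hHdef
  have hterm : ∀ x : G, Cfsg.extendByZero P (fun y => 1 - (lam y : ℂ)) (x⁻¹ * y * x) =
      (if x ∈ P then 1 - (lam y : ℂ) else 0) + if x ∈ H ∧ x ∉ P then 1 - (lam y⁻¹ : ℂ) else 0 := by
    intro x
    by_cases hxP : x ∈ P
    · rw [if_pos hxP, if_neg (fun e => e.2 hxP), add_zero,
        show x⁻¹ * (y : G) * x = y by rw [mul_assoc, h.comm y.2 hxP, inv_mul_cancel_left]]
      exact extendByZero_coe P _ y
    by_cases hxH : x ∈ H
    · rw [if_neg hxP, if_pos ⟨hxH, hxP⟩, zero_add]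
      have h1 := (h.involution (inv_mem hxH) (fun e => hxP (by simpa using inv_mem e))).2 y y.2
      rw [inv_inv] at h1
      rw [h1]
      exact extendByZero_coe P _ y⁻¹
    · rw [if_neg hxP, if_neg (fun e => hxH e.1), add_zero]
      refine extendByZero_apply_notMem P _ fun hm => hxH ?_
      have := h.ti y.2 hy1 (g := x⁻¹) (by rwa [inv_inv])
      simpa using inv_mem this
  have hP : (Finset.univ.filter fun x : G => x ∈ P).card = p := by
    refine Eq.trans ?_ h.card
    rw [Nat.card_eq_fintype_card]; exact (Fintype.card_subtype _).symm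
  have hPs : (Finset.univ.filter fun x : G => x ∈ H ∧ x ∉ P).card = p := by
    have h1 : (Finset.univ.filter fun x : G => x ∈ H).card = 2 * p := by
      refine Eq.trans ?_ h.norm
      rw [Nat.card_eq_fintype_card]; exact (Fintype.card_subtype _).symm
    have h2 := Finset.card_filter_add_card_filter_not
      (s := Finset.univ.filter fun x : G => x ∈ H) (fun x => x ∈ P)
    rw [Finset.filter_filter, Finset.filter_filter, h1,
      show (Finset.univ.filter fun x : G => x ∈ H ∧ x ∈ P) = Finset.univ.filter fun x : G => x ∈ P from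
        Finset.filter_congr fun x _ => ⟨And.right, fun e => ⟨Subgroup.le_normalizer e, e⟩⟩, hP] at h2
    omega
  rw [al, indFun_def, Finset.sum_congr rfl fun x _ => hterm x, Finset.sum_add_distrib,
    ← Finset.sum_filter, ← Finset.sum_filter, Finset.sum_const, Finset.sum_const, hP, hPs,
    nsmul_eq_mul, nsmul_eq_mul, ← mul_add, h.card,
    inv_mul_cancel_left₀ (Nat.cast_ne_zero.2 h.prime.pos.ne')]
  ring

theorem al_gen (lam : ↥P →* ℂˣ) : Cfsg.IsGeneralizedCharacter G (al lam) :=
  IsGeneralizedCharacter.indFun P (IsGeneralizedCharacter.sub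
    (IsCharacter.isGeneralizedCharacter isCharacter_one)
    (IsCharacter.isGeneralizedCharacter (isCharacter_hom lam)))

theorem al_inner_class (lam : ↥P →* ℂˣ) {χ : G → ℂ} (hχ : Cfsg.IsClassFunction G χ) :
    Cfsg.classInner (al lam) χ =
      Cfsg.classInner (fun _ : P => (1 : ℂ)) (fun y : P => χ y) -
        Cfsg.classInner (fun y : P => (lam y : ℂ)) (fun y : P => χ y) := by
  rw [al, classInner_indFun P _ hχ, ← classInner_sub_left]
  rfl

theorem classInner_hom (lam mu : ↥P →* ℂˣ) :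
    Cfsg.classInner (fun y => (lam y : ℂ)) (fun y => (mu y : ℂ)) = if lam = mu then 1 else 0 := by
  rw [classInner_irr (isIrrCharacter_hom lam) (isIrrCharacter_hom mu)]
  by_cases h : lam = mu
  · rw [if_pos (by rw [h]), if_pos h]
  · rw [if_neg (fun e => h (coe_hom_injective e)), if_neg h]

theorem al_inner_one (lam : ↥P →* ℂˣ) (hl : lam ≠ 1) :
    Cfsg.classInner (al lam) (fun _ : G => 1) = 1 := by
  rw [al_inner_class lam (fun _ _ => rfl)]
  have h1 := classInner_hom (P := P) 1 1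
  have h2 := classInner_hom (P := P) lam 1
  rw [if_pos rfl] at h1
  rw [if_neg hl] at h2
  simp only [MonoidHom.one_apply, Units.val_one] at h1 h2
  rw [h1, h2, sub_zero]

theorem al_inner (h : Inv P p) (lam mu : ↥P →* ℂˣ) (hl : lam ≠ 1) (hm : mu ≠ 1) :
    Cfsg.classInner (al lam) (al mu) =
      2 + (if lam = mu then 1 else 0) + (if lam = mu⁻¹ then 1 else 0) := by
  rw [al_inner_class lam (IsGeneralizedCharacter.isClassFunction (al_gen mu))]
  have hv : (fun y : P => al mu (y : G)) =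
      (fun _ : P => (2 : ℂ)) - (fun y => (mu y : ℂ)) - fun y => ((mu⁻¹ y : ℂˣ) : ℂ) := by
    ext y
    rw [al_mem h, Pi.sub_apply, Pi.sub_apply, MonoidHom.inv_apply, map_inv]
  have hinv : ¬ (1 : ↥P →* ℂˣ) = mu⁻¹ := fun e => hm (MonoidHom.ext fun y => by
    have h2 := DFunLike.congr_fun e.symm y
    simpa using h2)
  rw [hv, show (fun _ : P => (2 : ℂ)) = (2 : ℂ) • (fun y : P => ((1 : ↥P →* ℂˣ) y : ℂ)) from by
    ext y; simp]
  simp only [classInner_sub_right, classInner_smul_right]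
  rw [show (fun _ : P => (1 : ℂ)) = fun y : P => ((1 : ↥P →* ℂˣ) y : ℂ) from by ext y; simp]
  simp only [classInner_hom, if_neg hl, if_neg (Ne.symm hm), if_neg hinv]
  norm_num [map_ofNat]
  ring

/-- `(1 - λ)^G = 1 + ξ - θ`. -/
def IsDec (lam : ↥P →* ℂˣ) (x t : Cfsg.IrrCharacter G) : Prop :=
  (∃ d : ℕ, 0 < d ∧ (x : G → ℂ) 1 = d ∧ (t : G → ℂ) 1 = d + 1) ∧
    al lam = (fun _ => (1 : ℂ)) + ((x : G → ℂ) - (t : G → ℂ))

theorem exists_dec (h : Inv P p) {lam : ↥P →* ℂˣ} (hl : lam ≠ 1) :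
    ∃ x t : Cfsg.IrrCharacter G, IsDec lam x t := by
  have hne : lam ≠ lam⁻¹ := by
    intro e
    refine hl (MonoidHom.ext fun y => ?_)
    have h1 : lam y = (lam y)⁻¹ := by
      conv_lhs => rw [e]
      rw [MonoidHom.inv_apply]
    have h2 : lam y ^ 2 = 1 := by rw [sq]; nth_rewrite 2 [h1]; exact mul_inv_cancel _
    have h3 : lam y ^ p = 1 := by
      have hy : y ^ p = 1 := by
        have := orderOf_dvd_natCard y
        rw [h.card] at this
        exact orderOf_dvd_iff_pow_eq_one.1 this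
      rw [← map_pow, hy, map_one]
    rw [MonoidHom.one_apply, ← orderOf_eq_one_iff]
    exact Nat.eq_one_of_dvd_coprimes
      (((Nat.coprime_primes Nat.prime_two h.prime).2 (by have := h.odd; omega)))
      (orderOf_dvd_of_pow_eq_one h2) (orderOf_dvd_of_pow_eq_one h3)
  obtain ⟨a, b, d, ha, hb, hd, he⟩ := CfsgLib.Characterizations.BSW.exists_sub_neg_one
    (θ := al lam - fun _ : G => (1 : ℂ))
    (IsGeneralizedCharacter.sub (al_gen lam) (IsCharacter.isGeneralizedCharacter isCharacter_one))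
    (by rw [Pi.sub_apply, al_one, zero_sub]) (by
      simp only [classInner_sub_left, classInner_sub_right]
      rw [al_inner h lam lam hl hl, al_inner_one lam hl,
        ← classInner_conj_symm (al lam) (fun _ : G => (1 : ℂ)), al_inner_one lam hl,
        classInner_irr_self isIrrCharacter_one, if_pos rfl, if_neg hne]
      simp)
  exact ⟨a, b, ⟨d, hd, ha, hb⟩, by rw [← he]; abel⟩

variable {lam mu : ↥P →* ℂˣ} {x t x' t' : Cfsg.IrrCharacter G}

theorem IsDec.ne (hl : lam ≠ 1) (hd : IsDec lam x t) :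
    (x : G → ℂ) ≠ (fun _ => 1) ∧ (t : G → ℂ) ≠ (fun _ => 1) ∧ x ≠ t := by
  obtain ⟨⟨d, hd0, hx, ht⟩, he⟩ := hd
  have hxt : x ≠ t := fun e => by
    rw [e, ht] at hx
    have : d + 1 = d := by exact_mod_cast hx
    omega
  have hz := al_inner_one (G := G) lam hl
  rw [he, classInner_add_left, classInner_sub_left, classInner_irr_self isIrrCharacter_one,
    classInner_irr x.2 isIrrCharacter_one, classInner_irr t.2 isIrrCharacter_one] at hz
  refine ⟨fun e => ?_, fun e => ?_, hxt⟩
  · rw [if_pos e, if_neg (fun e' => hxt (Subtype.ext (e.trans e'.symm)))] at hz; norm_num at hz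
  · rw [if_pos e, if_neg (fun e' => hxt (Subtype.ext (e'.trans e.symm)))] at hz; norm_num at hz

theorem IsDec.coeff (hd : IsDec lam x t) {χ : G → ℂ} :
    Cfsg.classInner (al lam) χ = Cfsg.classInner (fun _ : G => (1 : ℂ)) χ +
      (Cfsg.classInner (x : G → ℂ) χ - Cfsg.classInner (t : G → ℂ) χ) := by
  rw [hd.2, classInner_add_left, classInner_sub_left]

theorem IsDec.coeff_irr (hd : IsDec lam x t) (χ : Cfsg.IrrCharacter G) :
    Cfsg.classInner (al lam) (χ : G → ℂ) =
      (if χ = ⟨_, isIrrCharacter_one⟩ then 1 else 0) + (if χ = x then 1 else 0) -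
        (if χ = t then 1 else 0) := by
  rw [hd.coeff]
  conv_lhs => rw [classInner_irrCharacter (⟨_, isIrrCharacter_one⟩ : Cfsg.IrrCharacter G) χ,
    classInner_irrCharacter, classInner_irrCharacter]
  simp only [eq_comm (a := χ)]
  ring

/-- The inner product of two decompositions. -/
theorem IsDec.share (h : Inv P p) (hl : lam ≠ 1) (hm : mu ≠ 1) (hd : IsDec lam x t)
    (hd' : IsDec mu x' t') :
    (x = x' ∨ t = t') ∧ ((lam = mu ∨ lam = mu⁻¹) → x = x' ∧ t = t') ∧
      (x = x' → t = t' → lam = mu ∨ lam = mu⁻¹) := by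
  have h1 := al_inner h lam mu hl hm
  obtain ⟨hx1, ht1, hxt⟩ := hd.ne hl
  obtain ⟨hx1', ht1', hxt'⟩ := hd'.ne hm
  rw [hd.2, hd'.2] at h1
  simp only [classInner_add_left, classInner_add_right, classInner_sub_left, classInner_sub_right,
    classInner_irr_self isIrrCharacter_one, classInner_irr_ne isIrrCharacter_one x'.2 (Ne.symm hx1'),
    classInner_irr_ne isIrrCharacter_one t'.2 (Ne.symm ht1'), classInner_irr_ne x.2 isIrrCharacter_one hx1,
    classInner_irr_ne t.2 isIrrCharacter_one ht1, classInner_irrCharacter] at h1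
  by_cases e1 : x = x' <;> by_cases e2 : t = t'
  · refine ⟨Or.inl e1, fun _ => ⟨e1, e2⟩, fun _ _ => ?_⟩
    by_contra hL
    rw [not_or] at hL
    subst e1 e2
    simp only [if_true, if_neg hL.1, if_neg hL.2, if_neg hxt, if_neg hxt.symm] at h1
    norm_num at h1
  · refine ⟨Or.inl e1, fun hL => ?_, fun _ e => absurd e e2⟩
    subst e1
    simp only [if_true, if_neg e2, if_neg hxt', if_neg hxt.symm] at h1
    exfalso
    rcases hL with hL | hL <;> rw [if_pos hL] at h1 <;> split_ifs at h1 <;> norm_num at h1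
  · refine ⟨Or.inr e2, fun hL => ?_, fun e => absurd e e1⟩
    subst e2
    simp only [if_true, if_neg e1, if_neg hxt, if_neg hxt'.symm] at h1
    exfalso
    rcases hL with hL | hL <;> rw [if_pos hL] at h1 <;> split_ifs at h1 <;> norm_num at h1
  · exfalso
    rw [if_neg e1, if_neg e2] at h1
    split_ifs at h1 <;> norm_num at h1

/-- A character's values on `P` from its inner products with the functions `(1 - λ)^G`. -/
theorem sum_coeff [Fintype (↥P →* ℂˣ)] (h : Inv P p) {χ : G → ℂ} (hχ : Cfsg.IsClassFunction G χ)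
    (z : P) :
    ∑ lam : ↥P →* ℂˣ, Cfsg.classInner (al lam) χ * (lam z⁻¹ : ℂ) =
      (if z = 1 then ∑ y : P, conj (χ y) else 0) - conj (χ z) := by
  have hp : (p : ℂ) ≠ 0 := Nat.cast_ne_zero.2 h.prime.pos.ne'
  have hco : ∀ lam : ↥P →* ℂˣ, Cfsg.classInner (al lam) χ =
      (p : ℂ)⁻¹ * ∑ y : P, (1 - (lam y : ℂ)) * conj (χ y) := fun lam => by
    rw [al, classInner_indFun P _ hχ, Cfsg.classInner, h.card]
  have hinner : ∀ y : P, ∑ lam : ↥P →* ℂˣ, (1 - (lam y : ℂ)) * (lam z⁻¹ : ℂ) =
      (if z = 1 then (p : ℂ) else 0) - if y = z then (p : ℂ) else 0 := fun y => by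
    simp only [sub_mul, one_mul, Finset.sum_sub_distrib]
    rw [h.sum_linear z⁻¹,
      Finset.sum_congr rfl (fun (lam : ↥P →* ℂˣ) _ =>
        show (lam y : ℂ) * (lam z⁻¹ : ℂ) = (lam (y * z⁻¹) : ℂ) by rw [map_mul, Units.val_mul]),
      h.sum_linear]
    simp only [inv_eq_one, mul_inv_eq_one]
  calc ∑ lam : ↥P →* ℂˣ, Cfsg.classInner (al lam) χ * (lam z⁻¹ : ℂ)
      = (p : ℂ)⁻¹ * ∑ y : P, conj (χ y) *
          ∑ lam : ↥P →* ℂˣ, (1 - (lam y : ℂ)) * (lam z⁻¹ : ℂ) := by
        simp only [hco, Finset.mul_sum, Finset.sum_mul]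
        rw [Finset.sum_comm]
        exact Finset.sum_congr rfl fun y _ => Finset.sum_congr rfl fun lam _ => by ring
    _ = _ := by
        simp only [hinner, mul_sub, Finset.sum_sub_distrib, mul_ite, mul_zero, Finset.sum_ite_eq',
          Finset.mem_univ, if_true]
        split_ifs with hz
        · rw [← Finset.sum_mul]; field_simp
        · rw [Finset.sum_const_zero]; field_simp; ring

end CfsgLib.Char.InvertedPrime
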