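import Cfsg.Prelude.Def_Classical
import Cfsg.Agent.Lib.Classical.HermMatrix
import Cfsg.Agent.Lib.Classical.SLBasic
import Cfsg.Agent.Lib.Char.KleinUnitaryTable

/-!
# `PSL₂(7)` inside `PSU₃(3)`

The homomorphism given by the table of `KleinUnitaryTable`.
-/

set_option autoImplicit false

namespace CfsgLib.Char.KleinUnitary

open Matrix

variable {F : Type*} [Field F] [Fintype F]

/-- The element coded by `x`. -/
def φ (i : F) (x : ℕ) : F := ((x % 3 : ℕ) : F) + ((x / 3 : ℕ) : F) * i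

theorem φ_code (i : F) {a b : ℕ} (ha : a < 3) :
    φ i (a + 3 * b) = (a : F) + (b : F) * i := by
  rw [φ, show (a + 3 * b) % 3 = a by omega, show (a + 3 * b) / 3 = b by omega]

variable [CharP F 3]

theorem cast_mod3 (n : ℕ) : ((n % 3 : ℕ) : F) = (n : F) :=
  (CharP.natCast_eq_natCast F 3).2 (Nat.mod_modEq n 3)

theorem three_eq : (3 : F) = 0 := by exact_mod_cast CharP.cast_eq_zero F 3

theorem φ_add (i : F) (x y : ℕ) : φ i (addC x y) = φ i x + φ i y := by
  rw [addC, φ_code i (Nat.mod_lt _ (by norm_num)), φ, φ]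
  simp only [cast_mod3, Nat.cast_add]
  ring

theorem φ_mul {i : F} (hi : i * i = -1) (x y : ℕ) : φ i (mulC x y) = φ i x * φ i y := by
  rw [mulC, φ_code i (Nat.mod_lt _ (by norm_num)), φ, φ]
  simp only [cast_mod3, Nat.cast_add, Nat.cast_mul, Nat.cast_ofNat]
  linear_combination ((x / 3 : ℕ) : F) * ((y / 3 : ℕ) : F) * three_eq (F := F) -
    ((x / 3 : ℕ) : F) * ((y / 3 : ℕ) : F) * hi

theorem φ_neg (i : F) (x : ℕ) : φ i (negC x) = -φ i x := by
  rw [negC, φ_code i (Nat.mod_lt _ (by norm_num)), φ]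
  simp only [cast_mod3, Nat.cast_mul, Nat.cast_ofNat]
  linear_combination ((x : F) + ((x / 3 : ℕ) : F) * i) * three_eq (F := F)

theorem φ_sub (i : F) (x y : ℕ) : φ i (subC x y) = φ i x - φ i y := by
  rw [subC, φ_add, φ_neg, sub_eq_add_neg]

theorem cube_cast (n : ℕ) : (n : F) ^ 3 = n := by
  rw [← cast_mod3 n]
  have := Nat.mod_lt n (by norm_num : 0 < 3)
  interval_cases h : n % 3
  · simp
  · simp
  · push_cast; linear_combination (2 : F) * three_eq (F := F)

theorem φ_conj {i : F} (hi : i * i = -1) (x : ℕ) : φ i (conjC x) = φ i x ^ 3 := by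
  have h1 := cube_cast (F := F) (x % 3)
  have h2 := cube_cast (F := F) (x / 3)
  rw [conjC, φ_code i (Nat.mod_lt _ (by norm_num)), φ]
  rw [cast_mod3 (2 * (x / 3)), Nat.cast_mul, Nat.cast_ofNat]
  linear_combination -h1 + i * h2 - ((x / 3 : ℕ) : F) ^ 3 * i * hi -
    (((x % 3 : ℕ) : F) ^ 2 * ((x / 3 : ℕ) : F) * i + ((x % 3 : ℕ) : F) * ((x / 3 : ℕ) : F) ^ 2 * i ^ 2 -
      ((x / 3 : ℕ) : F) * i) * three_eq (F := F)

theorem φ_zero (i : F) : φ i 0 = 0 := by simp [φ]

theorem φ_one (i : F) : φ i 1 = 1 := by simp [φ]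

theorem φ_inj {i : F} (hi : i * i = -1) {x y : ℕ} (hx : x ≤ 8) (hy : y ≤ 8) (h : φ i x = φ i y) : x = y := by
  have key : ∀ z : ℕ, z ≤ 8 → φ i z = 0 → z = 0 := by
    intro z hz h0
    have h1 : ((z % 3 * (z % 3) + (z / 3) * (z / 3) : ℕ) : F) = 0 := by
      rw [φ] at h0
      push_cast
      linear_combination (((z % 3 : ℕ) : F) - ((z / 3 : ℕ) : F) * i) * h0 + ((z / 3 : ℕ) : F) ^ 2 * hi
    rw [CharP.cast_eq_zero_iff F 3] at h1
    interval_cases z <;> first | rfl | norm_num at h1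
  have hdec : ∀ x < 9, ∀ y < 9, subC x y = 0 → x = y := by decide +kernel
  exact hdec x (by omega) y (by omega) (key _ (by simp only [subC, addC]; omega) (by rw [φ_sub, h, sub_self]))

/-- A coded matrix as a matrix over `F`. -/
def mat (i : F) (M : ℕ) : Matrix (Fin 3) (Fin 3) F := Matrix.of fun a b => φ i (ent M a b)

theorem all3 {P : ℕ → ℕ → Bool}
    (h : ((List.range 3).all fun a => (List.range 3).all fun b => P a b) = true) (a b : Fin 3) :
    P a b = true := by
  simp only [List.all_eq_true, List.mem_range] at h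
  exact h a a.isLt b b.isLt

theorem mat_mul {i : F} (hi : i * i = -1) {Z X Y : ℕ} (h : prodOk Z X Y = true) :
    mat i Z = mat i X * mat i Y := by
  ext a b
  have h1 := Nat.eq_of_beq_eq_true (all3 h a b)
  simp only [mat, Matrix.of_apply, Matrix.mul_apply, Fin.sum_univ_three, h1, mulE, φ_add, φ_mul hi]
  rfl

variable {i : F} (hi : i * i = -1) (hcard : Fintype.card F = 9)

abbrev S7 := SpecialLinearGroup (Fin 2) (ZMod 7)

/-- The code of the image of `g`. -/
def code (g : S7) : ℕ := img (g.1 0 0).val (g.1 0 1).val (g.1 1 0).val (g.1 1 1).val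

theorem spec (g : S7) :
    prodOk (img (g.1 0 0).val (((g.1 0 0).val + (g.1 0 1).val) % 7) (g.1 1 0).val
        (((g.1 1 0).val + (g.1 1 1).val) % 7)) (code g) imgU = true ∧
    prodOk (img (g.1 0 1).val (6 * (g.1 0 0).val % 7) (g.1 1 1).val (6 * (g.1 1 0).val % 7))
        (code g) imgW = true ∧
    detC (code g) = 1 ∧
    (∀ a b : Fin 3, unitE (code g) a b = if a = b then 1 else 0) ∧
    (∀ a b : Fin 3, ent (code g) a b ≤ 8) ∧
    ((∀ a b : Fin 3, ent (code g) a b = if a = b then 1 else 0) →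
      g.1 0 1 = 0 ∧ g.1 1 0 = 0 ∧ g.1 0 0 = g.1 1 1) := by
  have h := rowOk_of_lt (ZMod.val_lt (g.1 0 0)) (ZMod.val_lt (g.1 0 1)) (ZMod.val_lt (g.1 1 0))
    (ZMod.val_lt (g.1 1 1))
  have hd : ((g.1 0 0).val * (g.1 1 1).val + 6 * ((g.1 0 1).val * (g.1 1 0).val)) % 7 = 1 := by
    have h2 := g.2
    rw [Matrix.det_fin_two] at h2
    have h3 : (((g.1 0 0).val * (g.1 1 1).val + 6 * ((g.1 0 1).val * (g.1 1 0).val) : ℕ) : ZMod 7) =
        ((1 : ℕ) : ZMod 7) := by
      push_cast
      simp only [ZMod.natCast_val, ZMod.cast_id', id_eq]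
      rw [show (6 : ZMod 7) = -1 from rfl]
      linear_combination h2
    exact (ZMod.natCast_eq_natCast_iff' _ _ _).1 h3
  rw [rowOk, hd] at h
  simp only [Nat.beq_refl, Bool.not_true, Bool.false_or, Bool.and_eq_true] at h
  obtain ⟨⟨⟨⟨⟨h1, h2⟩, h3⟩, h4⟩, h5⟩, h6⟩ := h
  refine ⟨h1, h2, Nat.eq_of_beq_eq_true h3, fun a b => ?_, fun a b => Nat.le_of_ble_eq_true (all3 h5 a b),
    fun hone => ?_⟩
  · have := Nat.eq_of_beq_eq_true (all3 h4 a b)
    rw [code, this]
    simp only [Fin.val_inj]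
  · have hall : ((List.range 3).all fun a => (List.range 3).all fun b =>
        Nat.beq (ent (code g) a b) (if a = b then 1 else 0)) = true := by
      simp only [List.all_eq_true, List.mem_range]
      intro a ha b hb
      have := hone ⟨a, ha⟩ ⟨b, hb⟩
      simp only [Fin.mk.injEq] at this
      rw [this]
      exact Nat.beq_refl _
    rw [code] at hall
    rw [hall] at h6
    simp only [Bool.not_true, Bool.false_or, Bool.and_eq_true] at h6
    exact ⟨(ZMod.val_eq_zero _).1 (Nat.eq_of_beq_eq_true h6.1.1),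
      (ZMod.val_eq_zero _).1 (Nat.eq_of_beq_eq_true h6.1.2),
      ZMod.val_injective 7 (Nat.eq_of_beq_eq_true h6.2)⟩

/-- The underlying matrix of the image of `g`. -/
def raw (i : F) (g : S7) : Matrix (Fin 3) (Fin 3) F := mat i (code g)

theorem raw_det (g : S7) (hi : i * i = -1) : (raw i g).det = 1 := by
  have h := congrArg (φ i) (spec g).2.2.1
  simp only [detC, φ_add, φ_mul hi, φ_neg, φ_sub, φ_one] at h
  rw [Matrix.det_fin_three]
  simp only [raw, mat, Matrix.of_apply, Fin.coe_ofNat_eq_mod, Nat.reduceMod]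
  linear_combination h

theorem raw_unit (g : S7) (hi : i * i = -1) (a b : Fin 3) :
    ∑ c, raw i g c a * raw i g c b ^ 3 = if a = b then 1 else 0 := by
  have h := congrArg (φ i) ((spec g).2.2.2.1 a b)
  simp only [unitE, φ_add, φ_mul hi, φ_conj hi, apply_ite (φ i), φ_one, φ_zero] at h
  rw [Fin.sum_univ_three, ← h]
  rfl

theorem raw_preserves (g : S7) (hi : i * i = -1) (u v : Fin 3 → F) :
    Cfsg.hermForm 3 F 3 (raw i g *ᵥ u) (raw i g *ᵥ v) = Cfsg.hermForm 3 F 3 u v := by
  haveI := Fact.mk Nat.prime_three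
  have hA := fun a b => raw_unit g hi a b
  simp only [Fin.sum_univ_three] at hA
  have h00 := hA 0 0
  have h01 := hA 0 1
  have h02 := hA 0 2
  have h10 := hA 1 0
  have h11 := hA 1 1
  have h12 := hA 1 2
  have h20 := hA 2 0
  have h21 := hA 2 1
  have h22 := hA 2 2
  simp only [if_true, if_false, Fin.reduceEq] at h00 h01 h02 h10 h11 h12 h20 h21 h22
  simp only [Cfsg.hermForm, Matrix.mulVec, dotProduct, Fin.sum_univ_three, add_pow_char, mul_pow]
  linear_combination u 0 * v 0 ^ 3 * h00 + u 0 * v 1 ^ 3 * h01 + u 0 * v 2 ^ 3 * h02 +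
    u 1 * v 0 ^ 3 * h10 + u 1 * v 1 ^ 3 * h11 + u 1 * v 2 ^ 3 * h12 +
    u 2 * v 0 ^ 3 * h20 + u 2 * v 1 ^ 3 * h21 + u 2 * v 2 ^ 3 * h22

/-- The image of `g` in `SU₃(3)`. -/
def img' (hi : i * i = -1) (g : S7) : Cfsg.SU 3 F 3 :=
  ⟨⟨raw i g, raw_det g hi⟩, fun u v => raw_preserves g hi u v⟩

theorem h01 : (0 : Fin 2) ≠ 1 := by decide

theorem h10 : (1 : Fin 2) ≠ 0 := by decide

/-- The generator `!![1, 1; 0, 1]`. -/
def genU : S7 := SpecialLinearGroup.transvection h01 1

/-- The generator `!![0, -1; 1, 0]`. -/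
def genW : S7 := ⟨!![0, 6; 1, 0], by decide⟩

theorem mul_genU (g : S7) : code (g * genU) = img (g.1 0 0).val (((g.1 0 0).val + (g.1 0 1).val) % 7)
    (g.1 1 0).val (((g.1 1 0).val + (g.1 1 1).val) % 7) := by
  have e : ∀ a b, (g * genU).1 a b = g.1 a 0 * genU.1 0 b + g.1 a 1 * genU.1 1 b := fun a b => by
    show (g.1 * _ : Matrix (Fin 2) (Fin 2) (ZMod 7)) a b = _
    rw [Matrix.mul_apply, Fin.sum_univ_two]
  simp only [code, e]
  simp [genU, SpecialLinearGroup.transvection, Matrix.transvection, Matrix.single, ZMod.val_add]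

theorem mul_genW (g : S7) : code (g * genW) = img (g.1 0 1).val (6 * (g.1 0 0).val % 7)
    (g.1 1 1).val (6 * (g.1 1 0).val % 7) := by
  have e : ∀ a b, (g * genW).1 a b = g.1 a 0 * genW.1 0 b + g.1 a 1 * genW.1 1 b := fun a b => by
    show (g.1 * _ : Matrix (Fin 2) (Fin 2) (ZMod 7)) a b = _
    rw [Matrix.mul_apply, Fin.sum_univ_two]
  simp only [code, e]
  simp [genW, ZMod.val_mul, mul_comm]
  rfl

theorem raw_gen (g : S7) (hi : i * i = -1) :
    raw i (g * genU) = raw i g * mat i imgU ∧ raw i (g * genW) = raw i g * mat i imgW := by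
  constructor
  · rw [raw, mul_genU]; exact mat_mul hi (spec g).1
  · rw [raw, mul_genW]; exact mat_mul hi (spec g).2.1

theorem raw_one : raw i (1 : S7) = 1 := by
  have h : code (1 : S7) = 1 + 16 ^ 4 + 16 ^ 8 := by decide +kernel
  ext a b
  rw [raw, h]
  fin_cases a <;> fin_cases b <;> simp [mat, ent, φ]

theorem closure_eq_top : Subgroup.closure ({genU, genW} : Set S7) = ⊤ := by
  have key : ∀ c : ZMod 7, SpecialLinearGroup.transvection h01 c = genU ^ c.val ∧
      SpecialLinearGroup.transvection h10 c = genW * genU ^ (-c).val * genW⁻¹ := by decide +kernel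
  haveI : Fact (Nat.Prime 7) := ⟨by norm_num⟩
  refine CfsgLib.Classical.sl_subgroup_eq_top (F := ZMod 7) (n := Fin 2) _ fun a b h c => ?_
  have hU : genU ∈ Subgroup.closure ({genU, genW} : Set S7) := Subgroup.subset_closure (by simp)
  have hW : genW ∈ Subgroup.closure ({genU, genW} : Set S7) := Subgroup.subset_closure (by simp)
  fin_cases a <;> fin_cases b
  · exact absurd rfl h
  · exact (key c).1 ▸ pow_mem hU _
  · exact (key c).2 ▸ mul_mem (mul_mem hW (pow_mem hU _)) (inv_mem hW)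
  · exact absurd rfl h

theorem raw_mul (hi : i * i = -1) (g h : S7) : raw i (g * h) = raw i g * raw i h := by
  have hmem : h ∈ Subgroup.closure ({genU, genW} : Set S7) := closure_eq_top ▸ Subgroup.mem_top h
  have hbase : ∀ s ∈ ({genU, genW} : Set S7), ∀ g, raw i (g * s) = raw i g * raw i s := by
    intro s hs g
    have h1 := raw_gen g hi
    have h2 := raw_gen (1 : S7) hi
    rw [one_mul, one_mul, raw_one, Matrix.one_mul, Matrix.one_mul] at h2
    rcases hs with rfl | rfl
    · rw [h1.1, h2.1]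
    · rw [h1.2, h2.2]
  induction hmem using Subgroup.closure_induction generalizing g with
  | mem s hs => exact hbase s hs g
  | one => rw [mul_one, raw_one, Matrix.mul_one]
  | mul x y _ _ hx hy => rw [← mul_assoc, hy, hx, hy x, Matrix.mul_assoc]
  | inv x _ hx =>
    have h1 := hx (g * x⁻¹)
    rw [inv_mul_cancel_right] at h1
    have h2 := hx x⁻¹
    rw [inv_mul_cancel, raw_one] at h2
    rw [h1, Matrix.mul_assoc, mul_eq_one_comm.1 h2.symm, Matrix.mul_one]

/-- The homomorphism `SL₂(ℤ/7) → SU₃(3)`. -/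
def hom (hi : i * i = -1) : S7 →* Cfsg.SU 3 F 3 :=
  MonoidHom.mk' (img' hi) fun g h => Subtype.ext (Subtype.ext (raw_mul hi g h))

theorem hom_eq_one (hi : i * i = -1) {g : S7} (h : hom hi g = 1) : g ∈ Subgroup.center S7 := by
  have hr : raw i g = 1 := congrArg (fun x : Cfsg.SU 3 F 3 => (x.1 : Matrix (Fin 3) (Fin 3) F)) h
  obtain ⟨-, -, -, -, hle, hone⟩ := spec g
  obtain ⟨h1, h2, h3⟩ := hone fun a b => by
    refine φ_inj hi (hle a b) (by split <;> omega) ?_
    have := congrFun (congrFun hr a) b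
    rw [Matrix.one_apply] at this
    rw [apply_ite (φ i), φ_one, φ_zero]
    exact this
  rw [Matrix.SpecialLinearGroup.mem_center_iff]
  refine ⟨g.1 0 0, ?_, ?_⟩
  · have := g.2
    rw [Matrix.det_fin_two, h1, zero_mul, sub_zero, ← h3] at this
    rw [Fintype.card_fin, sq, this]
  · ext a b
    fin_cases a <;> fin_cases b <;> simp [h1, h2, h3, Matrix.scalar_apply]

theorem hom_center (hi : i * i = -1) {g : S7} (h : g ∈ Subgroup.center S7) : hom hi g = 1 := by
  have key : ∀ r : ZMod 7, r ^ 2 = 1 → r = 1 ∨ r = -1 := by decide +kernel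
  have hneg : code (-1 : S7) = 1 + 16 ^ 4 + 16 ^ 8 := by decide +kernel
  rw [Matrix.SpecialLinearGroup.mem_center_iff] at h
  obtain ⟨r, hr, hg⟩ := h
  rw [Fintype.card_fin] at hr
  refine Subtype.ext (Subtype.ext ?_)
  show raw i g = 1
  rcases key r hr with rfl | rfl
  · rw [show g = 1 from Subtype.ext (by rw [← hg, map_one]; rfl), raw_one]
  · rw [show g = -1 from Subtype.ext (by rw [← hg, map_neg, map_one]; rfl), raw, hneg,
      ← raw_one (i := i), raw, show code (1 : S7) = 1 + 16 ^ 4 + 16 ^ 8 by decide +kernel]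

omit [CharP F 3] in
theorem exists_subgroup {K : Type*} [Field K] [Fintype K] (hK : Fintype.card K = 7)
    (hcard : Fintype.card F = 9) :
    ∃ H : Subgroup (Cfsg.PSU 3 F 3), Nonempty (H ≃* Matrix.ProjectiveSpecialLinearGroup (Fin 2) K) := by
  haveI : CharP F 3 := by
    obtain ⟨p, hp⟩ := CharP.exists F
    obtain ⟨n, hpr, hn⟩ := FiniteField.card F p
    have h3 : p ∣ 3 ^ 2 := by
      rw [show (3 : ℕ) ^ 2 = Fintype.card F by rw [hcard]; norm_num, hn]
      exact dvd_pow_self p n.ne_zero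
    rwa [← (Nat.prime_dvd_prime_iff_eq hpr Nat.prime_three).1 (hpr.dvd_of_dvd_pow h3)]
  obtain ⟨i, hi⟩ := FiniteField.isSquare_neg_one_iff.2 (by rw [hcard]; norm_num : Fintype.card F % 4 ≠ 3)
  let e : K ≃+* ZMod 7 := (ZMod.ringEquivOfPrime K (by norm_num) hK).symm
  let m : SpecialLinearGroup (Fin 2) K →* S7 := SpecialLinearGroup.map e.toRingHom
  have hminj : Function.Injective m := fun a b h => Subtype.ext (Matrix.ext fun x y =>
    e.injective (congrFun (congrFun (congrArg Subtype.val h) x) y))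
  have hmsurj : Function.Surjective m := fun b => ⟨SpecialLinearGroup.map e.symm.toRingHom b,
    Subtype.ext (Matrix.ext fun x y => e.apply_symm_apply _)⟩
  have hbot : Subgroup.center (Cfsg.SU 3 F 3) = ⊥ := by
    refine Subgroup.card_eq_one.1 ?_
    rw [CfsgLib.Classical.card_center_SU (by rw [hcard]; norm_num) (by norm_num)]
    rfl
  let f : SpecialLinearGroup (Fin 2) K →* Cfsg.PSU 3 F 3 :=
    ((QuotientGroup.mk' (Subgroup.center (Cfsg.SU 3 F 3))).comp (hom hi.symm)).comp m
  have hker : f.ker = Subgroup.center (SpecialLinearGroup (Fin 2) K) := by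
    ext g
    have : g ∈ f.ker ↔ hom hi.symm (m g) = 1 := by
      rw [MonoidHom.mem_ker]
      show ((hom hi.symm (m g) : Cfsg.SU 3 F 3) : Cfsg.PSU 3 F 3) = 1 ↔ _
      rw [QuotientGroup.eq_one_iff, hbot, Subgroup.mem_bot]
    rw [this]
    constructor
    · intro h
      have hc := hom_eq_one hi.symm h
      rw [Subgroup.mem_center_iff] at hc ⊢
      intro x
      apply hminj
      rw [map_mul, map_mul, hc]
    · intro h
      refine hom_center hi.symm ?_
      rw [Subgroup.mem_center_iff] at h ⊢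
      intro x
      obtain ⟨y, rfl⟩ := hmsurj x
      rw [← map_mul, ← map_mul, h]
  exact ⟨f.range, ⟨((QuotientGroup.quotientMulEquivOfEq hker.symm).trans
    (QuotientGroup.quotientKerEquivRange f)).symm⟩⟩

end CfsgLib.Char.KleinUnitary
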