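import Cfsg.Agent.Lib.Char.CyclicTIPair
import Cfsg.Agent.Lib.Char.TI
import Cfsg.Agent.Lib.Char.Virtual
import Cfsg.Agent.S1510

/-!
# Characters of a group with a prime action (Peterfalvi (4.3))
-/

set_option autoImplicit false

open scoped ComplexConjugate

namespace CfsgLib.Char.PrimeAction

open CfsgLib.Char.CyclicTI

variable {L : Type*} [Group L] [Fintype L] (K W₁ W₂ : Subgroup L) [hK : K.Normal]

/-- Outside `W₂` the cyclic group `W₁ ⊔ W₂` is a trivial intersection set. -/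
theorem ti_of_notMem_snd (hKW₁ : K ⊓ W₁ = ⊥) (hKW₁' : K ⊔ W₁ = ⊤)
    (hHall : Nat.Coprime (Nat.card W₁) W₁.index) (hW₂K : W₂ ≤ K)
    (hC : ∀ x ∈ W₁, x ≠ 1 → K ⊓ Subgroup.centralizer ({x} : Set L) = W₂)
    (hW : Cfsg.IsSelfNormalizingCyclic W₁ W₂) (g y : L)
    (hy : y ∈ {z : L | z ∈ W₁ ⊔ W₂ ∧ z ∉ W₂})
    (hy' : g * y * g⁻¹ ∈ {z : L | z ∈ W₁ ⊔ W₂ ∧ z ∉ W₂}) : g ∈ W₁ ⊔ W₂ := by
  obtain ⟨e, he⟩ := exists_prodEquiv hW
  have hdec : ∀ w ∈ W₁ ⊔ W₂, ∃ a ∈ W₁, ∃ b ∈ W₂, a * b = w := fun w hw =>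
    ⟨_, (e.symm ⟨w, hw⟩).1.2, _, (e.symm ⟨w, hw⟩).2.2, by rw [← he, e.apply_symm_apply]⟩
  obtain ⟨a, ha, b, hb, hab⟩ := hdec y hy.1
  obtain ⟨c, hc, d, hd, hcd⟩ := hdec _ hy'.1
  have ha1 : a ≠ 1 := fun h => hy.2 (by rw [← hab, h, one_mul]; exact hb)
  have hcop : Nat.Coprime (Nat.card W₁) (Nat.card W₂) := by
    have h2 : Nat.card W₂ ∣ W₁.index := by
      have h1 := CfsgLib.Coprime.card_sup_of_le_normalizer (N := K) (H := W₁)
        (by rw [Subgroup.normalizer_eq_top]; exact le_top) (disjoint_iff.mpr hKW₁)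
      rw [hKW₁', Subgroup.card_top, ← W₁.index_mul_card] at h1
      rw [Nat.eq_of_mul_eq_mul_right Nat.card_pos h1]
      exact Subgroup.card_dvd_of_le hW₂K
    exact hHall.coprime_dvd_right h2
  obtain ⟨s, hs1, hs2⟩ : ∃ s : ℕ, s ≡ 1 [MOD Nat.card W₁] ∧ s ≡ 0 [MOD Nat.card W₂] := by
    obtain ⟨s, hs⟩ := Nat.chineseRemainder hcop 1 0
    exact ⟨s, hs⟩
  have hpow : ∀ a ∈ W₁, ∀ b ∈ W₂, (a * b) ^ s = a := by
    intro a ha b hb
    rw [(show Commute a b from hW.2.2.2.1 a ha b hb).mul_pow,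
      orderOf_dvd_iff_pow_eq_one.mp
        ((Subgroup.orderOf_dvd_natCard W₂ hb).trans (Nat.modEq_zero_iff_dvd.mp hs2)), mul_one]
    conv_rhs => rw [← pow_one a]
    exact pow_eq_pow_iff_modEq.mpr (hs1.of_dvd (Subgroup.orderOf_dvd_natCard W₁ ha))
  have hgac : g * a * g⁻¹ = c := by
    rw [← hpow c hc d hd, hcd, conj_pow, ← hab, hpow a ha b hb]
  obtain ⟨k, hk, u, hu, hku⟩ :=
    Subgroup.mem_sup_of_normal_left.mp (hKW₁' ▸ Subgroup.mem_top g : g ∈ K ⊔ W₁)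
  have hua : u * a * u⁻¹ = a := by
    have := congrArg Subtype.val (mul_comm' hW ⟨u, Subgroup.mem_sup_left hu⟩
      ⟨a, Subgroup.mem_sup_left ha⟩)
    rw [show u * a = a * u from this, mul_inv_cancel_right]
  have hkac : k * a * k⁻¹ = c := by
    rw [← hgac, ← hku]
    conv_lhs => rw [← hua]
    group
  have hca : c = a := by
    have h1 : k * (a * k⁻¹ * a⁻¹) ∈ K :=
      K.mul_mem hk (hK.conj_mem _ (K.inv_mem hk) a)
    have h2 : c * a⁻¹ ∈ K ⊓ W₁ := ⟨by rw [← hkac]; simpa [mul_assoc] using h1,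
      W₁.mul_mem hc (W₁.inv_mem ha)⟩
    rw [hKW₁, Subgroup.mem_bot, mul_inv_eq_one] at h2
    exact h2
  have hkc : k ∈ K ⊓ Subgroup.centralizer ({a} : Set L) :=
    ⟨hk, Subgroup.mem_centralizer_singleton_iff.mpr (by
      rw [hca] at hkac; exact mul_inv_eq_iff_eq_mul.mp hkac)⟩
  rw [hC a ha ha1] at hkc
  rw [← hku]
  exact Subgroup.mul_mem _ (Subgroup.mem_sup_right hkc) (Subgroup.mem_sup_left hu)

omit [Fintype L] hK in
/-- Expansion in linear characters. -/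
theorem apply_eq_sum_hom (hW : Cfsg.IsSelfNormalizingCyclic W₁ W₂) [Fintype ↥(W₁ ⊔ W₂)]
    [Fintype (↥(W₁ ⊔ W₂) →* ℂˣ)] (f : ↥(W₁ ⊔ W₂) → ℂ) (w : ↥(W₁ ⊔ W₂)) :
    f w = ∑ ω : ↥(W₁ ⊔ W₂) →* ℂˣ,
      Cfsg.classInner f (fun v => (ω v : ℂ)) * (ω w : ℂ) := by
  have hbij : Function.Bijective fun ω : ↥(W₁ ⊔ W₂) →* ℂˣ =>
      (⟨_, isIrrCharacter_hom ω⟩ : Cfsg.IrrCharacter ↥(W₁ ⊔ W₂)) := by
    refine ⟨fun a b h => coe_hom_injective (congrArg Subtype.val h), fun χ => ?_⟩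
    obtain ⟨ω, hω⟩ := exists_hom_of_apply_one_eq_one (IsIrrCharacter.isCharacter χ.2)
      (apply_one_eq_one_of_comm (mul_comm' hW) χ.2)
    exact ⟨ω, Subtype.ext hω.symm⟩
  conv_lhs => rw [IsClassFunction.eq_sum_irr (isClassFunction hW f)]
  rw [Finset.sum_apply]
  exact (Fintype.sum_bijective _ hbij _ _ fun ω => rfl).symm

theorem exists_primeAction (hKW₁ : K ⊓ W₁ = ⊥) (hKW₁' : K ⊔ W₁ = ⊤) (hW₁ : W₁ ≠ ⊥)
    (hW₁c : IsCyclic W₁) (hHall : Nat.Coprime (Nat.card W₁) W₁.index) (hW₂ : W₂ ≠ ⊥)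
    (hW₂c : IsCyclic W₂) (hW₂K : W₂ ≤ K)
    (hC : ∀ x ∈ W₁, x ≠ 1 → K ⊓ Subgroup.centralizer ({x} : Set L) = W₂) :
    ∃ (μ : (↥(W₁ ⊔ W₂) →* ℂˣ) → (L → ℂ)) (δ : (↥(W₁ ⊔ W₂) →* ℂˣ) → ℂ),
      Function.Injective μ ∧ (∀ ω, Cfsg.IsIrrCharacter L (μ ω)) ∧ (∀ ω, δ ω = 1 ∨ δ ω = -1) ∧
      (∀ ω ω' : ↥(W₁ ⊔ W₂) →* ℂˣ, (∀ w : ↥(W₁ ⊔ W₂), (w : L) ∈ W₂ → ω w = ω' w) →
        δ ω = δ ω' ∧ Cfsg.indFun (W₁ ⊔ W₂) (fun w => (ω w : ℂ) - (ω' w : ℂ)) =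
          δ ω • (μ ω - μ ω')) ∧
      (∀ ω, ∀ w : ↥(W₁ ⊔ W₂), (w : L) ∉ W₂ → μ ω w = δ ω * (ω w : ℂ)) ∧
      (∀ θ : L → ℂ, Cfsg.IsIrrCharacter L θ → (∀ ω, θ ≠ μ ω) →
        ∀ w : ↥(W₁ ⊔ W₂), (w : L) ∉ W₂ → θ w = 0) ∧
      (∀ ω, ∃ n : ℤ, μ ω 1 - δ ω = n * (Nat.card W₁ : ℂ)) := by
  classical
  have hW : Cfsg.IsSelfNormalizingCyclic W₁ W₂ :=
    Cfsg.Agent.S1510.selfNormalizing K W₁ W₂ hKW₁ hKW₁' hW₁ hW₁c hHall hW₂ hW₂c hW₂K hC
  cases nonempty_fintype ↥(W₁ ⊔ W₂)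
  haveI := finite_hom (W₁ := W₁) (W₂ := W₂)
  cases nonempty_fintype (↥(W₁ ⊔ W₂) →* ℂˣ)
  obtain ⟨hc1, -⟩ := card_fstChar hW
  haveI : Nontrivial (FstChar W₁ W₂) := by
    rw [← Finite.one_lt_card_iff_nontrivial, hc1]
    exact (Subgroup.one_lt_card_iff_ne_bot W₁).mpr hW₁
  let c : (↥(W₁ ⊔ W₂) →* ℂˣ) → (↥(W₁ ⊔ W₂) → ℂ) := fun ω w => (ω w : ℂ)
  let i₀ : FstChar W₁ W₂ := ⟨1, fun _ _ => rfl⟩
  -- differences supported outside `W₂`
  have hTI := ti_of_notMem_snd K W₁ W₂ hKW₁ hKW₁' hHall hW₂K hC hW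
  have hsupp : ∀ (i k : FstChar W₁ W₂) (ψ : SndChar W₁ W₂), ∀ w : ↥(W₁ ⊔ W₂),
      (w : L) ∉ {z : L | z ∈ W₁ ⊔ W₂ ∧ z ∉ W₂} → (c (i.1 * ψ.1) - c (k.1 * ψ.1)) w = 0 := by
    intro i k ψ w hw
    have hw2 : (w : L) ∈ W₂ := not_not.mp fun h => hw ⟨w.2, h⟩
    simp [c, i.2 w hw2, k.2 w hw2]
  have hinner : ∀ (i k i' k' : FstChar W₁ W₂) (ψ ψ' : SndChar W₁ W₂),
      Cfsg.classInner (Cfsg.indFun (W₁ ⊔ W₂) (c (i.1 * ψ.1) - c (k.1 * ψ.1)))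
        (Cfsg.indFun (W₁ ⊔ W₂) (c (i'.1 * ψ'.1) - c (k'.1 * ψ'.1))) =
      (if (i, ψ) = (i', ψ') then 1 else 0) - (if (i, ψ) = (k', ψ') then 1 else 0) -
        (if (k, ψ) = (i', ψ') then 1 else 0) + if (k, ψ) = (k', ψ') then 1 else 0 := by
    intro i k i' k' ψ ψ'
    have hprod : ∀ (a b : FstChar W₁ W₂) (p q : SndChar W₁ W₂),
        Cfsg.classInner (c (a.1 * p.1)) (c (b.1 * q.1)) = if (a, p) = (b, q) then 1 else 0 := by
      intro a b p q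
      rw [classInner_hom]
      exact if_congr ⟨fun h => (mul_bijective hW).1 h, fun h => by cases h; rfl⟩
        rfl rfl
    rw [classInner_indFun_of_ti hTI (hsupp i k ψ) (isClassFunction hW _) (hsupp i' k' ψ'),
      classInner_sub_left, classInner_sub_right, classInner_sub_right, hprod, hprod, hprod, hprod]
    ring
  -- exceptional characters for each `ψ`
  have hexc : ∀ ψ : SndChar W₁ W₂, ∃ ε : ℂ, (ε = 1 ∨ ε = -1) ∧
      ∃ ν : FstChar W₁ W₂ → L → ℂ, (∀ i, Cfsg.IsIrrCharacter L (ν i)) ∧ Function.Injective ν ∧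
        ∀ i, Cfsg.indFun (W₁ ⊔ W₂) (c (i.1 * ψ.1) - c (i₀.1 * ψ.1)) = ε • (ν i - ν i₀) := by
    intro ψ
    refine exists_exceptional i₀ _ (by simp [indFun_zero]) (fun i => ?_) (fun i => ?_)
      (fun i k hi hk => ?_)
    · exact IsGeneralizedCharacter.indFun _
        ⟨_, _, isCharacter_hom _, isCharacter_hom _, rfl⟩
    · rw [indFun_one]; simp [c]
    · rw [hinner]
      refine ⟨fun e => ?_, fun e => ?_⟩
      · subst e; simp [hi, Ne.symm hi]; norm_num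
      · simp [e, hi, Ne.symm hk]
  choose ε hε ν hνirr hνinj hν using hexc
  have hdiff : ∀ (i k : FstChar W₁ W₂) (ψ : SndChar W₁ W₂),
      Cfsg.indFun (W₁ ⊔ W₂) (c (i.1 * ψ.1) - c (k.1 * ψ.1)) = ε ψ • (ν ψ i - ν ψ k) := by
    intro i k ψ
    have h1 := hν ψ i
    have h2 := hν ψ k
    rw [indFun_sub] at h1 h2 ⊢
    rw [← sub_sub_sub_cancel_right _ _ (Cfsg.indFun (W₁ ⊔ W₂) (c (i₀.1 * ψ.1))), h1, h2, ← smul_sub,
      sub_sub_sub_cancel_right]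
  have hεne : ∀ ψ, ε ψ ≠ 0 := fun ψ => by rcases hε ψ with h | h <;> simp [h]
  have hεr : ∀ ψ, conj (ε ψ) = ε ψ := fun ψ => by rcases hε ψ with h | h <;> simp [h]
  have hinj : ∀ ψ ψ' i i', ν ψ i = ν ψ' i' → ψ = ψ' ∧ i = i' := by
    intro ψ ψ' i i' h
    suffices hψ : ψ = ψ' by subst hψ; exact ⟨rfl, hνinj ψ h⟩
    by_contra hψ
    obtain ⟨k, hk⟩ := exists_ne i
    obtain ⟨k', hk'⟩ := exists_ne i'
    have h0 := hinner i k i' k' ψ ψ'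
    rw [hdiff, hdiff, classInner_smul_left, classInner_smul_right, hεr,
      classInner_irr_sub (hνirr _ _) (hνirr _ _) (hνirr _ _) (hνirr _ _), if_pos h,
      if_neg (show ν ψ i ≠ ν ψ' k' from fun e => hk' (hνinj ψ' (h.symm.trans e)).symm),
      if_neg (show ν ψ k ≠ ν ψ' i' from fun e => hk (hνinj ψ (e.trans h.symm)))] at h0
    simp only [Prod.mk.injEq, hψ, and_false, if_false, sub_zero, add_zero, mul_eq_zero, hεne,
      false_or] at h0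
    split_ifs at h0 <;> norm_num at h0
  set eb := Equiv.ofBijective _ (mul_bijective hW) with heb
  have heb' : ∀ p : FstChar W₁ W₂ × SndChar W₁ W₂, eb.symm (p.1.1 * p.2.1) = p :=
    fun p => eb.symm_apply_apply p
  set μ : (↥(W₁ ⊔ W₂) →* ℂˣ) → (L → ℂ) := fun ω => ν (eb.symm ω).2 (eb.symm ω).1 with hμ
  set δ : (↥(W₁ ⊔ W₂) →* ℂˣ) → ℂ := fun ω => ε (eb.symm ω).2 with hδ
  -- multiplicities in restrictions
  have hmult : ∀ θ : L → ℂ, Cfsg.IsIrrCharacter L θ → ∀ w : ↥(W₁ ⊔ W₂), (w : L) ∉ W₂ →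
      θ w = ∑ ω : ↥(W₁ ⊔ W₂) →* ℂˣ, (if μ ω = θ then δ ω else 0) * (ω w : ℂ) := by
    intro θ hθ w hw
    set R : ↥(W₁ ⊔ W₂) → ℂ := fun v => θ v with hR
    set a : (↥(W₁ ⊔ W₂) →* ℂˣ) → ℂ := fun ω =>
      Cfsg.classInner R (c ω) - if μ ω = θ then δ ω else 0 with ha
    have hconst : ∀ (i : FstChar W₁ W₂) (ψ : SndChar W₁ W₂), a (i.1 * ψ.1) = a (i₀.1 * ψ.1) := by
      intro i ψ
      have hm : ∀ j : FstChar W₁ W₂, μ (j.1 * ψ.1) = ν ψ j ∧ δ (j.1 * ψ.1) = ε ψ := fun j => by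
        simp only [hμ, hδ, heb' (j, ψ), and_self]
      have h := classInner_indFun_right (W₁ ⊔ W₂) (c (i.1 * ψ.1) - c (i₀.1 * ψ.1))
        (IsIrrCharacter.isClassFunction hθ)
      rw [hdiff, classInner_smul_right, hεr, classInner_sub_right,
        classInner_irr hθ (hνirr _ _), classInner_irr hθ (hνirr _ _), classInner_sub_right] at h
      simp only [ha, hR, (hm i).1, (hm i).2, (hm i₀).1, (hm i₀).2, eq_comm (a := θ)] at h ⊢
      split_ifs at h ⊢ <;> linear_combination -h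
    have hzero : ∑ ω : ↥(W₁ ⊔ W₂) →* ℂˣ, a ω * (ω w : ℂ) = 0 := by
      rw [← Equiv.sum_comp eb, Fintype.sum_prod_type_right]
      refine Finset.sum_eq_zero fun ψ _ => ?_
      simp only [heb, Equiv.ofBijective_apply, hconst, MonoidHom.mul_apply, Units.val_mul,
        ← Finset.mul_sum, ← Finset.sum_mul]
      have hs : ∑ i : FstChar W₁ W₂, (i.1 w : ℂ) = 0 := by
        have := sum_hom_eq_zero hW (W₂.subgroupOf (W₁ ⊔ W₂)) (c := w)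
          (fun h => hw (Subgroup.mem_subgroupOf.mp h))
        rw [Finset.sum_subtype (p := fun φ : ↥(W₁ ⊔ W₂) →* ℂˣ =>
          ∀ v : ↥(W₁ ⊔ W₂), (v : L) ∈ W₂ → φ v = 1) _ (fun φ => by
            simp [Subgroup.mem_subgroupOf])] at this
        exact this
      rw [hs, zero_mul, mul_zero]
    calc θ w = ∑ ω, Cfsg.classInner R (c ω) * (ω w : ℂ) := apply_eq_sum_hom W₁ W₂ hW R w
      _ = _ := by
        rw [← sub_eq_zero, ← Finset.sum_sub_distrib]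
        refine Eq.trans (Finset.sum_congr rfl fun ω _ => ?_) hzero
        simp only [ha, sub_mul]
  have hμinj : Function.Injective μ := fun ω ω' h => by
    obtain ⟨h1, h2⟩ := hinj _ _ _ _ h
    exact eb.symm.injective (Prod.ext h2 h1)
  have hval : ∀ ω, ∀ w : ↥(W₁ ⊔ W₂), (w : L) ∉ W₂ → μ ω w = δ ω * (ω w : ℂ) := by
    intro ω w hw
    rw [hmult (μ ω) (hνirr _ _) w hw, Finset.sum_eq_single ω
      (fun x _ hx => by rw [if_neg fun h => hx (hμinj h), zero_mul])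
      (fun h => absurd (Finset.mem_univ ω) h), if_pos rfl]
  refine ⟨μ, δ, hμinj, fun ω => hνirr _ _, fun ω => hε _, fun ω ω' hag => ?_, hval,
    fun θ hθ hne w hw => ?_, fun ω => ?_⟩
  · obtain ⟨⟨i, ψ⟩, rfl⟩ := (mul_bijective hW).2 ω
    obtain ⟨⟨i', ψ'⟩, rfl⟩ := (mul_bijective hW).2 ω'
    have hψ : ψ = ψ' := by
      refine Subtype.ext (div_eq_one.mp (hom_eq_one _ (fun w hw => ?_) fun w hw => ?_))
      · simp [ψ.2 w hw, ψ'.2 w hw]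
      · have := hag w hw
        simp only [MonoidHom.mul_apply, i.2 w hw, i'.2 w hw, one_mul] at this
        simp [this]
    subst hψ
    have e1 := heb' (i, ψ)
    have e2 := heb' (i', ψ)
    simp only [hμ, hδ, e1, e2]
    exact ⟨trivial, hdiff i i' ψ⟩
  · rw [hmult θ hθ w hw]
    exact Finset.sum_eq_zero fun x _ => by rw [if_neg fun h => hne x h.symm, zero_mul]
  · cases nonempty_fintype W₁
    let ω₁ : W₁ →* ℂˣ := ω.comp (Subgroup.inclusion le_sup_left)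
    obtain ⟨m, hm⟩ := IsCharacter.classInner_nat
      (IsCharacter.restrict (IsIrrCharacter.isCharacter (hνirr (eb.symm ω).2 (eb.symm ω).1)) W₁)
      (isCharacter_hom (1 : W₁ →* ℂˣ))
    obtain ⟨k, hk⟩ := IsCharacter.classInner_nat (isCharacter_hom ω₁)
      (isCharacter_hom (1 : W₁ →* ℂˣ))
    have hn : (Nat.card W₁ : ℂ) ≠ 0 := Nat.cast_ne_zero.mpr Nat.card_pos.ne'
    simp only [Cfsg.classInner, MonoidHom.one_apply, Units.val_one, map_one, mul_one] at hm hk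
    rw [inv_mul_eq_iff_eq_mul₀ hn] at hm hk
    have hsplit : (∑ x : W₁, μ ω x) - δ ω * (∑ x : W₁, (ω₁ x : ℂ)) = μ ω 1 - δ ω := by
      rw [Finset.mul_sum, ← Finset.sum_sub_distrib, Finset.sum_eq_single (1 : W₁)
        (fun x _ hx => ?_) (fun h => absurd (Finset.mem_univ _) h)]
      · simp
      · have hx2 : (x : L) ∉ W₂ := fun h => hx (Subtype.ext (Subgroup.mem_bot.mp
          (hW.2.2.1 ▸ Subgroup.mem_inf.mpr ⟨x.2, h⟩)))
        have hv := hval ω (Subgroup.inclusion le_sup_left x) hx2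
        rw [show ((Subgroup.inclusion le_sup_left x : ↥(W₁ ⊔ W₂)) : L) = (x : L) from rfl] at hv
        rw [hv, show ω₁ x = ω (Subgroup.inclusion le_sup_left x) from rfl, sub_self]
    rw [show (∑ x : W₁, μ ω x) = (Nat.card W₁ : ℂ) * m from hm, hk] at hsplit
    rcases (show δ ω = 1 ∨ δ ω = -1 from hε _) with h | h
    · exact ⟨(m : ℤ) - k, by rw [← hsplit, h]; push_cast; ring⟩
    · exact ⟨(m : ℤ) + k, by rw [← hsplit, h]; push_cast; ring⟩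

end CfsgLib.Char.PrimeAction
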