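import Cfsg.Agent.Lib.Char.Perm
import Cfsg.Agent.Lib.Char.Quotient
import Mathlib.GroupTheory.GroupAction.Quotient

/-!
# Orbits on real characters and real classes of a normal subgroup of odd index
-/

set_option autoImplicit false

namespace CfsgLib.Char.RealOrbits

open Cfsg
open scoped Classical ComplexConjugate

variable {G : Type*} [Group G] (K : Subgroup G) [K.Normal]

/-- The real irreducible characters of a subgroup. -/
abbrev RealIrr : Type _ := {θ : IrrCharacter ↥K // ∀ k : ↥K, ((θ : ↥K → ℂ) k).im = 0}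

/-- The real classes of a subgroup. -/
abbrev RealClass : Type _ := {C : ConjClasses ↥K // ∀ k : ↥K, ConjClasses.mk k = C → IsConj k k⁻¹}

theorem conjNormal_mul_apply (g h : G) (k : ↥K) :
    MulAut.conjNormal (g * h) k = MulAut.conjNormal g (MulAut.conjNormal h k) := by
  rw [map_mul]; rfl

noncomputable instance actIrr [Finite G] : MulAction G (RealIrr K) where
  smul g θ := ⟨⟨fun k => (θ.1 : ↥K → ℂ) (MulAut.conjNormal g⁻¹ k),
    IsIrrCharacter.comp_equiv θ.1.2 (MulAut.conjNormal g⁻¹)⟩, fun k => θ.2 _⟩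
  one_smul θ := Subtype.ext (Subtype.ext (funext fun k => by
    show (θ.1 : ↥K → ℂ) (MulAut.conjNormal 1⁻¹ k) = _
    rw [inv_one, map_one]; rfl))
  mul_smul g h θ := Subtype.ext (Subtype.ext (funext fun k => by
    show (θ.1 : ↥K → ℂ) (MulAut.conjNormal (g * h)⁻¹ k) = (θ.1 : ↥K → ℂ) _
    rw [mul_inv_rev, conjNormal_mul_apply]))

theorem real_map {g : G} {C : ConjClasses ↥K} (hC : ∀ k : ↥K, ConjClasses.mk k = C → IsConj k k⁻¹)
    (k : ↥K) (hk : ConjClasses.mk k = ConjClasses.map (MulAut.conjNormal g : MulAut ↥K).toMonoidHom C) :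
    IsConj k k⁻¹ := by
  obtain ⟨c, rfl⟩ := C.exists_rep
  have h1 : IsConj k (MulAut.conjNormal g c) := ConjClasses.mk_eq_mk_iff_isConj.1 hk
  have h2 : IsConj (MulAut.conjNormal g c) (MulAut.conjNormal g c)⁻¹ := by
    rw [← map_inv]
    exact (MulAut.conjNormal g : MulAut ↥K).toMonoidHom.map_isConj (hC c rfl)
  refine (h1.trans h2).trans ?_
  obtain ⟨u, hu⟩ := isConj_iff.1 h1
  exact isConj_iff.2 ⟨u⁻¹, by rw [← hu]; group⟩

noncomputable instance actClass : MulAction G (RealClass K) where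
  smul g C := ⟨ConjClasses.map (MulAut.conjNormal g : MulAut ↥K).toMonoidHom C.1, real_map K C.2⟩
  one_smul C := Subtype.ext (by
    obtain ⟨C, hC⟩ := C
    obtain ⟨c, rfl⟩ := C.exists_rep
    show ConjClasses.mk (MulAut.conjNormal (1 : G) c) = ConjClasses.mk c
    rw [map_one]; rfl)
  mul_smul g h C := Subtype.ext (by
    obtain ⟨C, hC⟩ := C
    obtain ⟨c, rfl⟩ := C.exists_rep
    show ConjClasses.mk (MulAut.conjNormal (g * h) c) = ConjClasses.mk (MulAut.conjNormal g (MulAut.conjNormal h c))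
    rw [conjNormal_mul_apply])

theorem smul_apply [Finite G] (g : G) (θ : RealIrr K) (k : ↥K) :
    ((g • θ).1 : ↥K → ℂ) k = (θ.1 : ↥K → ℂ) (MulAut.conjNormal g⁻¹ k) := rfl

theorem smul_mk (g : G) (c : ↥K) (h : ∀ k : ↥K, ConjClasses.mk k = ConjClasses.mk c → IsConj k k⁻¹) :
    ((g • (⟨ConjClasses.mk c, h⟩ : RealClass K)).1) = ConjClasses.mk (MulAut.conjNormal g c) := rfl

variable [Finite G] {K}

theorem card_fixedBy_eq (hodd : Odd K.index) (g : G) :
    Nat.card (MulAction.fixedBy (RealIrr K) g) = Nat.card (MulAction.fixedBy (RealClass K) g) := by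
  haveI := Fintype.ofFinite G
  set α : MulAut ↥K := MulAut.conjNormal g⁻¹ with hα
  have hinner : ∀ k : ↥K, IsConj ((α ^ K.index) k) k := fun k => by
    rw [hα, ← map_pow]
    have hm : g⁻¹ ^ K.index ∈ K := K.pow_index_mem _
    refine (isConj_iff.2 ⟨⟨_, hm⟩, Subtype.ext ?_⟩).symm
    rw [MulAut.conjNormal_apply]
    rfl
  obtain ⟨m, hm⟩ := hodd
  have hsplit : ∀ k : ↥K, (α ^ K.index) k = ((α ^ 2) ^ m) (α k) := fun k => by
    rw [hm, pow_succ, pow_mul]; rfl
  have h := card_fixed_irr_eq (G := ↥K) (fun k => α k⁻¹)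
    (fun a b hab => by
      obtain ⟨c, rfl⟩ := isConj_iff.1 hab
      exact isConj_iff.2 ⟨α c, by simp [mul_assoc]⟩)
    (fun χ hχ => by
      convert IsIrrCharacter.conj' (IsIrrCharacter.comp_equiv hχ α) using 1
      funext k
      show χ (α k⁻¹) = conj (χ (α k))
      rw [map_inv, IsIrrCharacter.apply_inv hχ])
  have e1 : Nat.card (MulAction.fixedBy (RealIrr K) g)
      = Nat.card {χ : IrrCharacter ↥K // (χ : ↥K → ℂ) ∘ (fun k => α k⁻¹) = (χ : ↥K → ℂ)} := by
    refine Nat.card_congr ⟨fun θ => ⟨θ.1.1, funext fun k => ?_⟩, fun χ => ⟨⟨χ.1, ?_⟩, ?_⟩,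
      fun θ => rfl, fun χ => rfl⟩
    · have hfix := congrFun (congrArg (fun θ : RealIrr K => (θ.1 : ↥K → ℂ)) θ.2) k⁻¹
      rw [smul_apply, ← hα] at hfix
      show (θ.1.1 : ↥K → ℂ) (α k⁻¹) = _
      rw [hfix, IsIrrCharacter.apply_inv θ.1.1.2, Complex.conj_eq_iff_im.2 (θ.1.2 k)]
    · have hc : ∀ k, (χ.1 : ↥K → ℂ) (α k) = conj ((χ.1 : ↥K → ℂ) k) := fun k => by
        rw [← IsIrrCharacter.apply_inv χ.1.2, ← congrFun χ.2 k⁻¹]
        simp
      have hc2 : ∀ k, (χ.1 : ↥K → ℂ) ((α ^ 2) k) = (χ.1 : ↥K → ℂ) k := fun k => by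
        rw [pow_two]
        show (χ.1 : ↥K → ℂ) (α (α k)) = _
        rw [hc, hc, Complex.conj_conj]
      have hc2m : ∀ (j : ℕ) (k : ↥K), (χ.1 : ↥K → ℂ) (((α ^ 2) ^ j) k) = (χ.1 : ↥K → ℂ) k := by
        intro j
        induction j with
        | zero => intro k; rfl
        | succ j ih =>
          intro k
          rw [pow_succ]
          show (χ.1 : ↥K → ℂ) (((α ^ 2) ^ j) ((α ^ 2) k)) = _
          rw [ih, hc2]
      intro k
      refine Complex.conj_eq_iff_im.1 ?_
      rw [← hc]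
      obtain ⟨u, hu⟩ := isConj_iff.1 (hinner k)
      conv_rhs => rw [← hu, IsIrrCharacter.isClassFunction χ.1.2 _ u, hsplit, hc2m]
    · refine Subtype.ext (Subtype.ext (funext fun k => ?_))
      rw [smul_apply, ← hα]
      have := congrFun χ.2 k⁻¹
      simp only [Function.comp_apply, inv_inv] at this
      rw [this, IsIrrCharacter.apply_inv χ.1.2]
      obtain ⟨u, hu⟩ := isConj_iff.1 (hinner k)
      have hc : ∀ k, (χ.1 : ↥K → ℂ) (α k) = conj ((χ.1 : ↥K → ℂ) k) := fun k => by
        rw [← IsIrrCharacter.apply_inv χ.1.2, ← congrFun χ.2 k⁻¹]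
        simp
      have hc2m : ∀ (j : ℕ) (k : ↥K), (χ.1 : ↥K → ℂ) (((α ^ 2) ^ j) k) = (χ.1 : ↥K → ℂ) k := by
        intro j
        induction j with
        | zero => intro k; rfl
        | succ j ih =>
          intro k
          rw [pow_succ]
          show (χ.1 : ↥K → ℂ) (((α ^ 2) ^ j) ((α ^ 2) k)) = _
          rw [ih, pow_two]
          show (χ.1 : ↥K → ℂ) (α (α k)) = _
          rw [hc, hc, Complex.conj_conj]
      rw [← hc]
      conv_rhs => rw [← hu, IsIrrCharacter.isClassFunction χ.1.2 _ u, hsplit, hc2m]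
  have hreal : ∀ c : ↥K, IsConj (α c⁻¹) c → IsConj c c⁻¹ ∧ IsConj (α c) c := by
    intro c hc
    have h1 : IsConj (α c) c⁻¹ := by
      have := hc
      obtain ⟨u, hu⟩ := isConj_iff.1 this
      exact isConj_iff.2 ⟨u, by have e := congrArg (fun x => x⁻¹) hu; simpa [mul_assoc] using e⟩
    have h2 : IsConj ((α ^ 2) c) c := by
      rw [pow_two]
      exact (α.toMonoidHom.map_isConj h1).trans hc
    have h3 : ∀ j : ℕ, IsConj (((α ^ 2) ^ j) (α c)) (α c) := by
      intro j
      induction j with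
      | zero => exact IsConj.refl _
      | succ j ih =>
        rw [pow_succ]
        refine (show IsConj (((α ^ 2) ^ j) ((α ^ 2) (α c))) _ from ?_)
        refine (((α ^ 2) ^ j).toMonoidHom.map_isConj ?_).trans ih
        have := α.toMonoidHom.map_isConj h2
        rw [show (α ^ 2) (α c) = α ((α ^ 2) c) by simp [pow_two]]
        exact this
    have h4 : IsConj (α c) c := by
      refine (h3 m).symm.trans ?_
      rw [← hsplit]
      exact hinner c
    exact ⟨(h1.symm.trans h4).symm, h4⟩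
  have e2 : Nat.card (MulAction.fixedBy (RealClass K) g)
      = Nat.card {C : ConjClasses ↥K // ∀ k, ConjClasses.mk k = C → IsConj (α k⁻¹) k} := by
    have key : ∀ c : ↥K, IsConj (MulAut.conjNormal g c) c ↔ IsConj (α c) c := by
      intro c
      have he : α (MulAut.conjNormal g c) = c := by
        rw [hα, ← conjNormal_mul_apply, inv_mul_cancel, map_one]; rfl
      constructor
      · intro hh
        have := α.toMonoidHom.map_isConj hh
        have this' : IsConj (α (MulAut.conjNormal g c)) (α c) := this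
        rw [he] at this'
        exact this'.symm
      · intro hh
        have he' : MulAut.conjNormal g (α c) = c := by
          rw [hα, ← conjNormal_mul_apply, mul_inv_cancel, map_one]; rfl
        have := (MulAut.conjNormal g : MulAut ↥K).toMonoidHom.map_isConj hh
        have this' : IsConj (MulAut.conjNormal g (α c)) (MulAut.conjNormal g c) := this
        rw [he'] at this'
        exact this'.symm
    refine Nat.card_congr ⟨fun C => ⟨C.1.1, fun k hk => ?_⟩, fun C => ⟨⟨C.1, fun k hk => ?_⟩, ?_⟩,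
      fun C => rfl, fun C => rfl⟩
    · have hfix := congrArg Subtype.val C.2
      have hC : C.1 = ⟨ConjClasses.mk k, fun k' hk' => C.1.2 k' (hk'.trans hk)⟩ := Subtype.ext hk.symm
      rw [hC, smul_mk, ConjClasses.mk_eq_mk_iff_isConj] at hfix
      exact (α.toMonoidHom.map_isConj (C.1.2 k hk)).symm.trans ((key k).1 hfix)
    · exact (hreal k (C.2 k hk)).1
    · obtain ⟨C, hC⟩ := C
      obtain ⟨c, rfl⟩ := C.exists_rep
      refine Subtype.ext ?_
      show ConjClasses.mk (MulAut.conjNormal g c) = ConjClasses.mk c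
      exact ConjClasses.mk_eq_mk_iff_isConj.2 ((key c).2 (hreal c (hC c rfl)).2)
  rw [e1, e2]
  exact h

theorem card_orbits_eq (hodd : Odd K.index) :
    Nat.card (MulAction.orbitRel.Quotient G (RealIrr K))
      = Nat.card (MulAction.orbitRel.Quotient G (RealClass K)) := by
  haveI := Fintype.ofFinite G
  haveI := Fintype.ofFinite (RealIrr K)
  haveI := Fintype.ofFinite (RealClass K)
  have h1 := MulAction.sum_card_fixedBy_eq_card_orbits_mul_card_group G (RealIrr K)
  have h2 := MulAction.sum_card_fixedBy_eq_card_orbits_mul_card_group G (RealClass K)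
  simp only [Fintype.card_eq_nat_card, card_fixedBy_eq hodd] at h1 h2
  exact Nat.eq_of_mul_eq_mul_right Nat.card_pos (h1.symm.trans h2)

theorem card_quot_irr :
    Nat.card (Quot (fun θ η : RealIrr K => ∃ g : G, ∀ k k' : ↥K,
      (k' : G) = g * (k : G) * g⁻¹ → (η.1 : ↥K → ℂ) k' = (θ.1 : ↥K → ℂ) k))
      = Nat.card (MulAction.orbitRel.Quotient G (RealIrr K)) := by
  refine Nat.card_congr (Quot.congrRight fun θ η => ?_)
  rw [show (MulAction.orbitRel G (RealIrr K)).r θ η ↔ θ ∈ MulAction.orbit G η from Iff.rfl,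
    MulAction.mem_orbit_symm, MulAction.mem_orbit_iff]
  refine exists_congr fun g => ?_
  constructor
  · intro h
    refine Subtype.ext (Subtype.ext (funext fun k => ?_))
    rw [smul_apply]
    refine (h _ k ?_).symm
    simp [mul_assoc]
  · rintro rfl k k' hk
    rw [smul_apply]
    have e : MulAut.conjNormal g⁻¹ k' = k := Subtype.ext (by simp [hk, mul_assoc])
    rw [e]

theorem card_quot_class :
    Nat.card (Quot (fun x y : {x : ↥K // IsConj x x⁻¹} => ∃ g : G, (y.1 : G) = g * x.1 * g⁻¹))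
      = Nat.card (MulAction.orbitRel.Quotient G (RealClass K)) := by
  have hC : ∀ x : {x : ↥K // IsConj x x⁻¹}, ∀ k : ↥K,
      ConjClasses.mk k = ConjClasses.mk x.1 → IsConj k k⁻¹ := fun x k hk => by
    obtain ⟨u, hu⟩ := isConj_iff.1 (ConjClasses.mk_eq_mk_iff_isConj.1 hk)
    exact ((ConjClasses.mk_eq_mk_iff_isConj.1 hk).trans x.2).trans
      (isConj_iff.2 ⟨u⁻¹, by rw [← hu]; group⟩)
  let f : {x : ↥K // IsConj x x⁻¹} → MulAction.orbitRel.Quotient G (RealClass K) := fun x =>
    Quotient.mk _ (⟨ConjClasses.mk x.1, hC x⟩ : RealClass K)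
  have hiff : ∀ x y, f x = f y ↔ ∃ g : G, (y.1 : G) = g * x.1 * g⁻¹ := by
    intro x y
    rw [eq_comm, show f y = f x ↔ _ from Quotient.eq, MulAction.orbitRel_apply, MulAction.mem_orbit_iff]
    constructor
    · rintro ⟨g, hg⟩
      have := congrArg Subtype.val hg
      rw [smul_mk, ConjClasses.mk_eq_mk_iff_isConj] at this
      obtain ⟨u, hu⟩ := isConj_iff.1 this
      exact ⟨(u : G) * g, by rw [← hu]; simp [mul_assoc]⟩
    · rintro ⟨g, hg⟩
      refine ⟨g, Subtype.ext ?_⟩
      rw [smul_mk]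
      exact congrArg ConjClasses.mk (Subtype.ext (by simpa using hg.symm))
  refine Nat.card_eq_of_bijective (Quot.lift f fun x y h => (hiff x y).2 h) ⟨?_, ?_⟩
  · rintro ⟨x⟩ ⟨y⟩ h
    exact Quot.sound ((hiff x y).1 h)
  · intro q
    induction q using Quotient.inductionOn with
    | h C =>
      obtain ⟨C, hC'⟩ := C
      obtain ⟨c, rfl⟩ := C.exists_rep
      exact ⟨Quot.mk _ ⟨c, hC' c rfl⟩, rfl⟩

end CfsgLib.Char.RealOrbits
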