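import Cfsg.Agent.Lib.Char.Monomial

/-!
# Brauer's splitting field theorem

`IsRealizable ι θ` says that `θ` is the character of a representation over the field `F`, read in
`ℂ` through `ι : F →+* ℂ`. If every linear character of a subgroup takes its values in `F`, then
every character of `G` is realizable.
-/

set_option autoImplicit false

open scoped ComplexConjugate
open Module

namespace CfsgLib.Char.Realize

universe u

variable {G : Type u} [Group G] {F : Type*} [Field F] (ι : F →+* ℂ)

/-- `θ` is the character of a representation over `F`. -/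
def IsRealizable (θ : G → ℂ) : Prop :=
  ∃ (n : ℕ) (σ : Representation F G (Fin n → F)), θ = fun g => ι (σ.character g)

/-- Extension of scalars of a coordinate representation. -/
noncomputable def baseChange {n : ℕ} (σ : Representation F G (Fin n → F)) :
    Representation ℂ G (Fin n → ℂ) where
  toFun g := Matrix.toLin' ((LinearMap.toMatrix' (σ g)).map ι)
  map_one' := by
    rw [map_one, Module.End.one_eq_id, LinearMap.toMatrix'_id,
      Matrix.map_one ι (map_zero ι) (map_one ι), Matrix.toLin'_one]
    rfl
  map_mul' g h := by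
    rw [map_mul, Module.End.mul_eq_comp, LinearMap.toMatrix'_comp, Matrix.map_mul,
      Matrix.toLin'_mul]
    rfl

theorem toMatrix'_baseChange {n : ℕ} (σ : Representation F G (Fin n → F)) (g : G) (i j : Fin n) :
    LinearMap.toMatrix' (baseChange ι σ g) i j = ι (LinearMap.toMatrix' (σ g) i j) := by
  simp [baseChange]

theorem baseChange_character {n : ℕ} (σ : Representation F G (Fin n → F)) :
    (baseChange ι σ).character = fun g => ι (σ.character g) := by
  funext g
  rw [Representation.character, Representation.character,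
    LinearMap.trace_eq_matrix_trace ℂ (Pi.basisFun ℂ (Fin n)),
    LinearMap.trace_eq_matrix_trace F (Pi.basisFun F (Fin n))]
  simp only [LinearMap.toMatrix_eq_toMatrix', Matrix.trace, Matrix.diag_apply, map_sum]
  exact Finset.sum_congr rfl fun i _ => toMatrix'_baseChange ι σ g i i

theorem IsRealizable.isCharacter {θ : G → ℂ} (h : IsRealizable ι θ) : Cfsg.IsCharacter G θ := by
  obtain ⟨n, σ, rfl⟩ := h
  exact ⟨n, baseChange ι σ, baseChange_character ι σ⟩

theorem isRealizable_of_rep {V : Type*} [AddCommGroup V] [Module F V] [FiniteDimensional F V]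
    (σ : Representation F G V) : IsRealizable ι fun g => ι (σ.character g) := by
  let e := (Module.finBasis F V).equivFun
  refine ⟨finrank F V, e.conjAlgEquiv F |>.toAlgHom.toMonoidHom.comp σ, funext fun g => ?_⟩
  simp only [Representation.character]
  congr 1
  exact (LinearMap.trace_conj' (σ g) e).symm

theorem isRealizable_zero : IsRealizable (G := G) ι 0 := by
  refine ⟨0, Representation.trivial F G _, funext fun g => ?_⟩
  simp [Representation.character, Subsingleton.elim ((Representation.trivial F G (Fin 0 → F)) g) 0]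

theorem IsRealizable.add {θ θ' : G → ℂ} (h : IsRealizable ι θ) (h' : IsRealizable ι θ') :
    IsRealizable ι (θ + θ') := by
  obtain ⟨n, σ, rfl⟩ := h
  obtain ⟨m, τ, rfl⟩ := h'
  have he : (fun g => ι ((σ.prod τ).character g)) =
      (fun g => ι (σ.character g)) + fun g => ι (τ.character g) := by
    funext g
    rw [Pi.add_apply, ← map_add]
    exact congrArg ι (LinearMap.trace_prodMap' (σ g) (τ g))
  exact he ▸ isRealizable_of_rep ι (σ.prod τ)

/-- A monomial character with values in `F` is realizable. -/
theorem isRealizable_indFun [Fintype G] [CharZero F] (E : Subgroup G) (lam : E →* ℂˣ)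
    (lam' : E → F) (hlam : ∀ e, ι (lam' e) = lam e) :
    IsRealizable ι (Cfsg.indFun E fun e => (lam e : ℂ)) := by
  classical
  cases nonempty_fintype E
  have hι : Function.Injective ι := ι.injective
  have hmul : ∀ a b, lam' (a * b) = lam' a * lam' b := fun a b => hι (by
    rw [map_mul, hlam, hlam, hlam, map_mul, Units.val_mul])
  have hE : (Nat.card E : F) ≠ 0 := Nat.cast_ne_zero.mpr Nat.card_pos.ne'
  let L : Representation F G (G → F) :=
    { toFun := fun g => LinearMap.funLeft F F fun y => g⁻¹ * y
      map_one' := LinearMap.ext fun f => funext fun y => by simp [LinearMap.funLeft_apply]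
      map_mul' := fun g h => LinearMap.ext fun f => funext fun y => by
        simp [LinearMap.funLeft_apply, mul_assoc] }
  let P : (G → F) →ₗ[F] (G → F) :=
    { toFun := fun f y => (Nat.card E : F)⁻¹ * ∑ e : E, lam' e * f (y * e)
      map_add' := fun f f' => funext fun y => by
        simp [mul_add, Finset.sum_add_distrib]
      map_smul' := fun c f => funext fun y => by
        simp only [Pi.smul_apply, smul_eq_mul, RingHom.id_apply, Finset.mul_sum]
        exact Finset.sum_congr rfl fun e _ => by ring }
  have hLP : ∀ g f, L g (P f) = P (L g f) := fun g f => funext fun y => by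
    simp [L, P, LinearMap.funLeft_apply, mul_assoc]
  have hPP : ∀ f, P (P f) = P f := fun f => funext fun y => by
    have hinner : ∀ e : E, lam' e * P f (y * e) = P f y := fun e => by
      show lam' e * ((Nat.card E : F)⁻¹ * ∑ a : E, lam' a * f (y * e * a)) =
        (Nat.card E : F)⁻¹ * ∑ a : E, lam' a * f (y * a)
      rw [mul_left_comm, Finset.mul_sum]
      congr 1
      refine Fintype.sum_equiv (Equiv.mulLeft e) _ _ fun a => ?_
      simp [hmul, mul_assoc]
    show (Nat.card E : F)⁻¹ * ∑ e : E, lam' e * P f (y * e) = P f y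
    rw [Finset.sum_congr rfl fun e _ => hinner e, Finset.sum_const, Finset.card_univ,
      ← Nat.card_eq_fintype_card, nsmul_eq_mul, ← mul_assoc, inv_mul_cancel₀ hE, one_mul]
  let R : Subrepresentation L :=
    { toSubmodule := LinearMap.range P
      apply_mem_toSubmodule := fun g v hv => by
        obtain ⟨f, rfl⟩ := hv
        exact ⟨L g f, (hLP g f).symm⟩ }
  have htr : ∀ g, ι (R.toRepresentation.character g) = Cfsg.indFun E (fun e => (lam e : ℂ)) g := by
    intro g
    have h1 : R.toRepresentation.character g =
        LinearMap.trace F (G → F) ((L g) ∘ₗ P) := by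
      have hcomp : (L g) ∘ₗ P = ((L g) ∘ₗ (LinearMap.range P).subtype) ∘ₗ P.rangeRestrict :=
        LinearMap.ext fun f => rfl
      rw [hcomp, LinearMap.trace_comp_comm' P.rangeRestrict ((L g) ∘ₗ (LinearMap.range P).subtype)]
      show LinearMap.trace F _ _ = LinearMap.trace F _ _
      congr 1
      refine LinearMap.ext fun v => Subtype.ext ?_
      obtain ⟨v, f, rfl⟩ := v
      show L g (P f) = P (L g (P f))
      rw [hLP, hPP]
    rw [h1, LinearMap.trace_eq_matrix_trace F (Pi.basisFun F G), CfsgLib.Char.indFun_def]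
    simp only [Matrix.trace, Matrix.diag_apply, LinearMap.toMatrix_apply, Pi.basisFun_apply,
      Pi.basisFun_repr, LinearMap.comp_apply]
    rw [map_sum, Finset.mul_sum]
    refine Finset.sum_congr rfl fun y _ => ?_
    show ι ((Nat.card E : F)⁻¹ *
      ∑ e : E, lam' e * (Pi.single y (1 : F) : G → F) (g⁻¹ * y * e)) = _
    rw [map_mul, map_inv₀, map_natCast, map_sum]
    congr 1
    by_cases hy : y⁻¹ * g * y ∈ E
    · rw [CfsgLib.Char.extendByZero_apply_mem E _ hy, Finset.sum_eq_single ⟨_, hy⟩
        (fun e _ he => ?_) (fun h => absurd (Finset.mem_univ _) h)]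
      · simp [mul_assoc, hlam]
      · rw [Pi.single_apply, if_neg, mul_zero, map_zero]
        intro h
        refine he (Subtype.ext ?_)
        show (e : G) = y⁻¹ * g * y
        calc (e : G) = y⁻¹ * g * (g⁻¹ * y * e) := by group
          _ = y⁻¹ * g * y := by rw [h]
    · rw [CfsgLib.Char.extendByZero_apply_notMem E _ hy]
      refine Finset.sum_eq_zero fun e _ => ?_
      rw [Pi.single_apply, if_neg, mul_zero, map_zero]
      intro h
      refine hy (?_ : y⁻¹ * g * y ∈ E)
      rw [show y⁻¹ * g * y = (e : G) by
        calc y⁻¹ * g * y = y⁻¹ * g * (g⁻¹ * y * e) := by rw [h]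
          _ = (e : G) := by group]
      exact e.2
  exact funext htr ▸ isRealizable_of_rep ι R.toRepresentation

variable [Finite G] [CharZero F]

omit ι in
theorem isSemisimpleRep {V : Type*} [AddCommGroup V] [Module F V] (ρ : Representation F G V) :
    ρ.IsSemisimpleRepresentation := by
  have : NeZero (Nat.card G : F) := ⟨by exact_mod_cast Nat.card_pos.ne'⟩
  rw [Representation.isSemisimpleRepresentation_iff_isSemisimpleModule_asModule]
  infer_instance

/-- Induction over the irreducible constituents over `F`. -/
theorem IsRealizable.induction_on {P : (G → ℂ) → Prop} {θ : G → ℂ} (hθ : IsRealizable ι θ)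
    (zero : P 0)
    (irr : ∀ (n : ℕ) (σ : Representation F G (Fin n → F)), σ.IsIrreducible →
      P fun g => ι (σ.character g))
    (add : ∀ φ ψ, IsRealizable ι φ → IsRealizable ι ψ → P φ → P ψ → P (φ + ψ)) : P θ := by
  obtain ⟨n, σ, rfl⟩ := hθ
  induction n using Nat.strong_induction_on with
  | _ n ih =>
    by_cases hirr : σ.IsIrreducible
    · exact irr n σ hirr
    rcases Nat.eq_zero_or_pos n with rfl | hn
    · have : (fun g => ι (σ.character g)) = 0 := funext fun g => by
        simp [Representation.character, Subsingleton.elim (σ g) 0]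
      rw [this]; exact zero
    have : Nontrivial (Subrepresentation σ) := by
      refine ⟨⊥, ⊤, fun h => ?_⟩
      have h' : (⊥ : Submodule F (Fin n → F)) = ⊤ := congrArg Subrepresentation.toSubmodule h
      have h'' := congrArg (fun p : Submodule F (Fin n → F) => finrank F p) h'
      simp only [finrank_bot, finrank_top, Module.finrank_fin_fun] at h''
      omega
    have hns : ¬ ∀ S : Subrepresentation σ, S = ⊥ ∨ S = ⊤ := fun h => hirr ⟨h⟩
    push Not at hns
    obtain ⟨S, hS0, hS1⟩ := hns
    have := isSemisimpleRep σ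
    obtain ⟨T, hT⟩ := exists_isCompl S
    have hc : IsCompl S.toSubmodule T.toSubmodule := by
      refine ⟨?_, ?_⟩
      · rw [disjoint_iff, ← Subrepresentation.toSubmodule_inf, hT.inf_eq_bot]
        rfl
      · rw [codisjoint_iff, ← Subrepresentation.toSubmodule_sup, hT.sup_eq_top]
        rfl
    have hsum : (fun g => ι (σ.character g)) = (fun g => ι (S.toRepresentation.character g)) +
        fun g => ι (T.toRepresentation.character g) := by
      funext g
      rw [Pi.add_apply, ← map_add]
      refine congrArg ι ?_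
      have e : (S.toRepresentation.prod T.toRepresentation).Equiv σ :=
        Representation.Equiv.mk (Submodule.prodEquivOfIsCompl _ _ hc) fun h => by
          ext x <;> simp [Representation.prod, Subrepresentation.toRepresentation]
      rw [← congrFun (Representation.char_iso e) g]
      exact LinearMap.trace_prodMap' (S.toRepresentation g) (T.toRepresentation g)
    have hlt : ∀ A B : Subrepresentation σ, IsCompl A B → B ≠ ⊥ →
        finrank F A.toSubmodule < n := by
      intro A B hAB hB
      refine lt_of_lt_of_eq (Submodule.finrank_lt fun h => hB ?_) (Module.finrank_fin_fun F)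
      have hA : A = ⊤ := Subrepresentation.toSubmodule_injective h
      have := hAB.inf_eq_bot
      rwa [hA, top_inf_eq] at this
    have hT0 : T ≠ ⊥ := fun h => hS1 (by simpa [h] using hT.sup_eq_top)
    obtain ⟨a, σS, ha⟩ := isRealizable_of_rep ι S.toRepresentation
    obtain ⟨b, σT, hb⟩ := isRealizable_of_rep ι T.toRepresentation
    have hdim : ∀ (A : Subrepresentation σ) (c : ℕ) (τ : Representation F G (Fin c → F)),
        ((fun g => ι (A.toRepresentation.character g)) = fun g => ι (τ.character g)) →
          c = finrank F A.toSubmodule := fun A c τ h => by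
      have h1 := ι.injective (congrFun h 1)
      rw [Representation.char_one, Representation.char_one, Module.finrank_fin_fun] at h1
      exact_mod_cast h1.symm
    rw [hsum, ha, hb]
    exact add _ _ ⟨a, σS, rfl⟩ ⟨b, σT, rfl⟩
      (ih a (hdim S a σS ha ▸ hlt S T hT hT0) σS)
      (ih b (hdim T b σT hb ▸ hlt T S hT.symm hS0) σT)

theorem classInner_rep [Fintype G] {n m : ℕ} (σ : Representation F G (Fin n → F))
    (τ : Representation F G (Fin m → F)) :
    Cfsg.classInner (fun g => ι (σ.character g)) (fun g => ι (τ.character g)) =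
      (finrank F (Representation.IntertwiningMap τ σ) : ℂ) := by
  have : Invertible (Nat.card G : F) := invertibleOfNonzero (Nat.cast_ne_zero.mpr Nat.card_pos.ne')
  have h := congrArg ι
    (Representation.card_inv_mul_sum_char_mul_char_eq_finrank (k := F) τ σ)
  rw [map_mul, map_inv₀, map_natCast, map_sum, map_natCast] at h
  rw [← h, Cfsg.classInner]
  congr 1
  refine Finset.sum_congr rfl fun g _ => ?_
  rw [map_mul, IsCharacter.apply_inv
    (IsRealizable.isCharacter ι ⟨m, τ, rfl⟩ : Cfsg.IsCharacter G fun g => ι (τ.character g)) g]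

/-- Brauer: every character is realizable once the linear characters of subgroups are. -/
theorem isRealizable_of_isCharacter [Fintype G]
    (hval : ∀ (E : Subgroup G) (lam : E →* ℂˣ) (e : E), ∃ a : F, ι a = lam e) {χ : G → ℂ}
    (hχ : Cfsg.IsCharacter G χ) : IsRealizable ι χ := by
  classical
  refine IsCharacter.induction_on hχ (isRealizable_zero ι) (fun χ hχ => ?_)
    (fun φ ψ _ _ => IsRealizable.add ι)
  obtain ⟨s₁, s₂, hs₁, hs₂, hs⟩ : ∃ s₁ s₂, IsRealizable ι s₁ ∧ IsRealizable ι s₂ ∧ χ = s₁ - s₂ := by
    have hb := brauer_induction (G := G) (χ := χ)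
      ⟨χ, 0, IsIrrCharacter.isCharacter hχ, isCharacter_zero, by simp⟩
    clear hχ
    induction hb using AddSubgroup.closure_induction with
    | mem f hf =>
      obtain ⟨E, lam, p, -, -, rfl⟩ := hf
      choose lam' hlam using hval E lam
      exact ⟨_, 0, isRealizable_indFun ι E lam lam' hlam, isRealizable_zero ι, by simp⟩
    | zero => exact ⟨0, 0, isRealizable_zero ι, isRealizable_zero ι, by simp⟩
    | add f f' _ _ h h' =>
      obtain ⟨a, b, ha, hb, rfl⟩ := h
      obtain ⟨a', b', ha', hb', rfl⟩ := h'
      exact ⟨_, _, IsRealizable.add ι ha ha', IsRealizable.add ι hb hb', by abel⟩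
    | neg f _ h =>
      obtain ⟨a, b, ha, hb, rfl⟩ := h
      exact ⟨b, a, hb, ha, by abel⟩
  have hne1 : Cfsg.classInner s₁ χ - Cfsg.classInner s₂ χ = 1 := by
    rw [← classInner_sub_left, ← hs, classInner_irr_self hχ]
  -- an irreducible `F`-constituent containing `χ`
  obtain ⟨n, σ, hσ, hm0⟩ : ∃ (n : ℕ) (σ : Representation F G (Fin n → F)), σ.IsIrreducible ∧
      Cfsg.classInner (fun g => ι (σ.character g)) χ ≠ 0 := by
    refine IsRealizable.induction_on ι (P := fun θ => Cfsg.classInner θ χ ≠ 0 →
      ∃ (n : ℕ) (σ : Representation F G (Fin n → F)), σ.IsIrreducible ∧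
        Cfsg.classInner (fun g => ι (σ.character g)) χ ≠ 0) hs₁
      (fun h => absurd (classInner_zero_left χ) h) (fun n σ hσ h => ⟨n, σ, hσ, h⟩)
      (fun φ ψ _ _ hφ hψ h => ?_) ?_
    · by_cases h0 : Cfsg.classInner φ χ = 0
      · exact hψ fun h1 => h (by rw [classInner_add_left, h0, h1, add_zero])
      · exact hφ h0
    · intro h
      obtain ⟨k, hk⟩ := IsCharacter.classInner_nat (IsRealizable.isCharacter ι hs₂)
        (IsIrrCharacter.isCharacter hχ)
      rw [h, hk, zero_sub] at hne1
      have h' := congrArg Complex.re hne1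
      simp at h'
      linarith [(Nat.cast_nonneg k : (0 : ℝ) ≤ k)]
  set ψ : G → ℂ := fun g => ι (σ.character g) with hψ
  have hψc : Cfsg.IsCharacter G ψ := IsRealizable.isCharacter ι ⟨n, σ, rfl⟩
  have key : ∀ θ, IsRealizable ι θ → ∃ a : ℤ, Cfsg.classInner θ χ = a * Cfsg.classInner ψ χ ∧
      Cfsg.classInner θ ψ = a * Cfsg.classInner ψ ψ := by
    intro θ hθ
    refine IsRealizable.induction_on ι (P := fun θ => ∃ a : ℤ,
      Cfsg.classInner θ χ = a * Cfsg.classInner ψ χ ∧ Cfsg.classInner θ ψ = a * Cfsg.classInner ψ ψ)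
      hθ ⟨0, by simp⟩ (fun m τ hτ => ?_) ?_
    · by_cases he : Nonempty (σ.Equiv τ)
      · obtain ⟨e⟩ := he
        exact ⟨1, by simp [hψ, Representation.char_iso e]⟩
      · have : IsEmpty (σ.Equiv τ) := not_nonempty_iff.mp he
        have h0 : Cfsg.classInner (fun g => ι (τ.character g)) ψ = 0 := by
          rw [hψ, classInner_rep, Module.finrank_zero_of_subsingleton, Nat.cast_zero]
        refine ⟨0, ?_, by simp [h0]⟩
        have hτc : Cfsg.IsCharacter G fun g => ι (τ.character g) :=
          IsRealizable.isCharacter ι ⟨m, τ, rfl⟩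
        choose a ha using fun φ : Cfsg.IrrCharacter G =>
          IsCharacter.classInner_nat hτc (isCharacter_irr φ)
        choose b hb using fun φ : Cfsg.IrrCharacter G =>
          IsCharacter.classInner_nat (isCharacter_irr φ) hψc
        rw [classInner_eq_sum_irr (IsCharacter.isClassFunction hτc)] at h0
        simp only [ha, hb] at h0
        have h1 : ∑ φ, a φ * b φ = 0 := by exact_mod_cast h0
        have h2 := Finset.sum_eq_zero_iff.mp h1 ⟨χ, hχ⟩ (Finset.mem_univ _)
        rw [Int.cast_zero, zero_mul, ha ⟨χ, hχ⟩, Nat.cast_eq_zero]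
        refine (mul_eq_zero.mp h2).resolve_right fun h3 => hm0 ?_
        rw [IsCharacter.classInner_comm hψc (IsIrrCharacter.isCharacter hχ), hb ⟨χ, hχ⟩, h3,
          Nat.cast_zero]
    · rintro φ φ' - - ⟨a, ha1, ha2⟩ ⟨b, hb1, hb2⟩
      exact ⟨a + b, by simp [classInner_add_left, ha1, hb1, add_mul],
        by simp [classInner_add_left, ha2, hb2, add_mul]⟩
  obtain ⟨a, ha1, ha2⟩ := key s₁ hs₁
  obtain ⟨b, hb1, hb2⟩ := key s₂ hs₂
  obtain ⟨m, hm⟩ := IsCharacter.classInner_nat hψc (IsIrrCharacter.isCharacter hχ)
  rw [ha1, hb1, ← sub_mul, hm] at hne1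
  have h1 : (a - b) * (m : ℤ) = 1 := by exact_mod_cast hne1
  have hm1 : (m : ℤ) = 1 :=
    Int.eq_one_of_mul_eq_one_left (Int.natCast_nonneg m) h1
  have hab : a - b = 1 := by rwa [hm1, mul_one] at h1
  have hd : Cfsg.classInner ψ ψ = 1 := by
    have h2 : Cfsg.classInner χ ψ = (a - b : ℤ) * Cfsg.classInner ψ ψ := by
      conv_lhs => rw [hs]
      rw [classInner_sub_left, ha2, hb2, Int.cast_sub, sub_mul]
    rw [hab, Int.cast_one, one_mul, IsCharacter.classInner_comm (IsIrrCharacter.isCharacter hχ) hψc,
      hm, show m = 1 by exact_mod_cast hm1, Nat.cast_one] at h2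
    exact h2.symm
  have hψirr := IsCharacter.isIrrCharacter_of_norm_one hψc hd
  by_cases h : ψ = χ
  · exact ⟨n, σ, h.symm⟩
  · exact absurd (classInner_irr_ne hψirr hχ h) hm0

/-- Brauer's splitting field theorem. -/
theorem exists_adjoin_rep [Fintype G] (n : ℕ) (ρ : Representation ℂ G (Fin n → ℂ)) :
    ∃ σ : Representation ℂ G (Fin n → ℂ), Nonempty (ρ.Equiv σ) ∧ ∀ g : G, ∀ i j : Fin n,
      LinearMap.toMatrix' (σ g) i j ∈ Algebra.adjoin ℚ
        ({Complex.exp (2 * Real.pi * Complex.I / (Monoid.exponent G : ℂ))} : Set ℂ) := by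
  classical
  have hexp : Monoid.exponent G ≠ 0 := Monoid.exponent_ne_zero_of_finite
  set z := Complex.exp (2 * Real.pi * Complex.I / (Monoid.exponent G : ℂ)) with hz
  have hprim : IsPrimitiveRoot z (Monoid.exponent G) := Complex.isPrimitiveRoot_exp _ hexp
  have : NeZero (Monoid.exponent G) := ⟨hexp⟩
  set K := IntermediateField.adjoin ℚ ({z} : Set ℂ) with hK
  have hKA : K.toSubalgebra = Algebra.adjoin ℚ ({z} : Set ℂ) :=
    IntermediateField.adjoin_simple_toSubalgebra_of_isAlgebraic
      ((hprim.isIntegral (Nat.pos_of_ne_zero hexp)).tower_top (A := ℚ)).isAlgebraic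
  have hval : ∀ (E : Subgroup G) (lam : E →* ℂˣ) (e : E), ∃ a : K, (algebraMap K ℂ) a = lam e := by
    intro E lam e
    have h1 : (lam e : ℂ) ^ Monoid.exponent G = 1 := by
      rw [← Units.val_pow_eq_pow_val, ← map_pow,
        Subtype.ext (show ((e ^ Monoid.exponent G : E) : G) = ((1 : E) : G) by
          simp [Monoid.pow_exponent_eq_one]), map_one, Units.val_one]
    obtain ⟨i, -, hi⟩ := hprim.eq_pow_of_pow_eq_one h1
    exact ⟨⟨lam e, hi ▸ pow_mem (IntermediateField.mem_adjoin_simple_self ℚ z) i⟩, rfl⟩
  obtain ⟨m, σ, hσ⟩ := isRealizable_of_isCharacter (algebraMap K ℂ) hval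
    (⟨n, ρ, rfl⟩ : Cfsg.IsCharacter G ρ.character)
  have hm : m = n := by
    have h := congrFun hσ 1
    rw [Representation.char_one, Representation.char_one, map_natCast, Module.finrank_fin_fun,
      Module.finrank_fin_fun] at h
    exact_mod_cast h.symm
  subst hm
  refine ⟨baseChange (algebraMap K ℂ) σ,
    nonempty_equiv_of_char_eq ρ _ (by rw [baseChange_character, hσ]), fun g i j => ?_⟩
  rw [toMatrix'_baseChange, ← hKA]
  exact (LinearMap.toMatrix' (σ g) i j).2

end CfsgLib.Char.Realize
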