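import Cfsg.Agent.Lib.Char.Induced
import Cfsg.Agent.Lib.CharDeep.GenChar
import Cfsg.Prelude.Def_Perm
import Mathlib.GroupTheory.SpecificGroups.Alternating
import Mathlib.GroupTheory.GroupAction.Quotient
import Mathlib.GroupTheory.Perm.Fin
import Mathlib.LinearAlgebra.Matrix.Trace
import Mathlib.Data.Sym.Sym2

/-!
# The small characters of symmetric and alternating groups

The three characters `f - 1`, `(f² - 4f + f₂)/2` and `(f² - 2f + 2 - f₂)/2` of the symmetric group,
`f` and `f₂` counting the fixed points of a permutation and of its square, are irreducible and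
restrict irreducibly to the alternating group.
-/

set_option autoImplicit false
set_option linter.unusedSectionVars false

universe u

namespace CfsgLib.Char.SymSmallChars

open Cfsg CfsgLib CfsgLib.Char
open scoped ComplexConjugate

/-- The permutation character. -/
theorem isCharacter_fix {G : Type u} [Group G] {Ω : Type u} [Finite Ω] [MulAction G Ω] :
    IsCharacter G fun g => (Nat.card {a : Ω // g • a = a} : ℂ) := by
  classical
  letI := Fintype.ofFinite Ω
  have h := isCharacter_of_rep (Cfsg.permRep ℂ G Ω)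
  convert h using 1
  funext g
  rw [Representation.character, LinearMap.trace_eq_matrix_trace ℂ (Pi.basisFun ℂ Ω), Matrix.trace,
    Nat.card_eq_fintype_card, Fintype.card_subtype, ← Finset.sum_boole]
  refine Finset.sum_congr rfl fun a _ => ?_
  rw [Matrix.diag_apply, LinearMap.toMatrix_apply, Pi.basisFun_apply, Pi.basisFun_repr]
  show _ = (Pi.single a (1 : ℂ) : Ω → ℂ) (g⁻¹ • a)
  rw [Pi.single_apply]
  exact if_congr (by rw [inv_smul_eq_iff, eq_comm]) rfl rfl

section Count

variable {α : Type} [Fintype α] [DecidableEq α] {k : ℕ}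

/-- The number of tuples moved by `g` as the index permutation moves them. -/
noncomputable def twisted (s : Equiv.Perm (Fin k)) (g : Equiv.Perm α) : ℕ :=
  Nat.card {x : Fin k → α // ⇑g ∘ x = x ∘ ⇑s}

/-- The kernel of a tuple. -/
def code (x : Fin k → α) : Fin k → Fin k := fun i =>
  (Finset.univ.filter fun j => x j = x i).min' ⟨i, by simp⟩

theorem apply_code (x : Fin k → α) (i : Fin k) : x (code x i) = x i :=
  (Finset.mem_filter.1 (Finset.min'_mem (Finset.univ.filter fun j => x j = x i) ⟨i, by simp⟩)).2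

theorem code_eq_iff (x : Fin k → α) (i j : Fin k) : code x i = code x j ↔ x i = x j := by
  refine ⟨fun h => ?_, fun h => ?_⟩
  · rw [← apply_code x i, h, apply_code x j]
  · simp only [code, h]

/-- The normalised kernels invariant under the index permutation. -/
def Good (s : Equiv.Perm (Fin k)) (w : Fin k → Fin k) : Prop :=
  (∀ i, w (w i) = w i ∧ w i ≤ i) ∧ ∀ i j, (w (s i) = w (s j) ↔ w i = w j)

instance (s : Equiv.Perm (Fin k)) : DecidablePred (Good s) := fun w => by
  unfold Good; infer_instance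

theorem code_spec (x : Fin k → α) (i : Fin k) : code x (code x i) = code x i ∧ code x i ≤ i :=
  ⟨(code_eq_iff x _ _).2 (apply_code x i), Finset.min'_le _ i (by simp)⟩

theorem exists_perm_of_code_eq {x y : Fin k → α} (h : code x = code y) :
    ∃ g : Equiv.Perm α, ⇑g ∘ x = y := by
  classical
  have hk : ∀ i j, x i = x j ↔ y i = y j := fun i j => by
    rw [← code_eq_iff x, ← code_eq_iff y, h]
  let F : {a // a ∈ Set.range x} → {a // a ∈ Set.range y} := fun a => ⟨y a.2.choose, ⟨_, rfl⟩⟩
  have hF : Function.Bijective F := by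
    refine ⟨fun a b hab => ?_, fun b => ?_⟩
    · have h1 : y a.2.choose = y b.2.choose := congrArg Subtype.val hab
      rw [← hk, a.2.choose_spec, b.2.choose_spec] at h1
      exact Subtype.ext h1
    · obtain ⟨i, hi⟩ := b.2
      refine ⟨⟨x i, i, rfl⟩, Subtype.ext ?_⟩
      rw [← hi]
      exact (hk _ _).1 (⟨i, rfl⟩ : x i ∈ Set.range x).choose_spec
  refine ⟨(Equiv.ofBijective F hF).extendSubtype, funext fun i => ?_⟩
  rw [Function.comp_apply, Equiv.extendSubtype_apply_of_mem (Equiv.ofBijective F hF) (x i) ⟨i, rfl⟩]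
  exact (hk _ _).1 (⟨i, rfl⟩ : x i ∈ Set.range x).choose_spec

theorem code_comp (g : Equiv.Perm α) (x : Fin k → α) : code (⇑g ∘ x) = code x := by
  funext i
  simp only [code, Function.comp_apply, EmbeddingLike.apply_eq_iff_eq]

theorem code_comp_eq_iff (s : Equiv.Perm (Fin k)) (x : Fin k → α) :
    code (x ∘ ⇑s) = code x ↔ Good s (code x) := by
  refine ⟨fun h => ⟨code_spec x, fun i j => ?_⟩, fun h => funext fun i => ?_⟩
  · rw [code_eq_iff, code_eq_iff]
    have h1 := code_eq_iff (x ∘ ⇑s) i j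
    rw [h, code_eq_iff] at h1
    exact h1.symm
  · have h2 : ∀ j, x (s j) = x (s i) ↔ x j = x i := fun j => by
      rw [← code_eq_iff x, ← code_eq_iff x, h.2]
    simp only [code, Function.comp_apply, h2]

/-- The average of a twisted count is the number of invariant kernels. -/
theorem sum_twisted (s : Equiv.Perm (Fin k)) (hk : k ≤ Fintype.card α) :
    ∑ g : Equiv.Perm α, twisted s g
      = Fintype.card (Equiv.Perm α) * (Finset.univ.filter (Good s)).card := by
  classical
  have hfilter : ∀ g : Equiv.Perm α, twisted s g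
      = ∑ x : Fin k → α, if g • x = x ∘ ⇑s then 1 else 0 := fun g => by
    rw [twisted, Nat.card_eq_fintype_card, Fintype.card_subtype, Finset.card_filter]
    rfl
  rw [Finset.sum_congr rfl fun g _ => hfilter g, Finset.sum_comm]
  set S : (Fin k → α) → ℕ := fun x => Nat.card (MulAction.stabilizer (Equiv.Perm α) x)
  have h1 : ∀ x : Fin k → α, (∑ g : Equiv.Perm α, if g • x = x ∘ ⇑s then 1 else 0)
      = if Good s (code x) then S x else 0 := by
    intro x
    by_cases h : Good s (code x)
    · rw [if_pos h]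
      obtain ⟨g₀, hg₀⟩ := exists_perm_of_code_eq ((code_comp_eq_iff s x).2 h).symm
      rw [← Finset.card_filter, ← Fintype.card_subtype, ← Nat.card_eq_fintype_card]
      refine Nat.card_congr (Equiv.subtypeEquiv (Equiv.mulLeft g₀⁻¹) fun g => ?_)
      show g • x = x ∘ ⇑s ↔ g₀⁻¹ * g ∈ MulAction.stabilizer _ x
      rw [MulAction.mem_stabilizer_iff, mul_smul, inv_smul_eq_iff, ← hg₀]
      rfl
    · rw [if_neg h]
      refine Finset.sum_eq_zero fun g _ => if_neg fun he => h ?_
      rw [← code_comp_eq_iff, ← he]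
      exact code_comp g x
  rw [Finset.sum_congr rfl fun x _ => h1 x, ← Finset.sum_filter,
    ← Finset.sum_fiberwise_of_maps_to (t := Finset.univ.filter (Good s)) (g := code)
      (fun x hx => by simpa using hx), Finset.card_eq_sum_ones, Finset.mul_sum]
  refine Finset.sum_congr rfl fun w hw => ?_
  obtain ⟨hw1, hw2⟩ := (Finset.mem_filter.1 hw).2
  let emb : Fin k ↪ α :=
    (Fin.castLEEmb hk).trans (Fintype.equivFin α).symm.toEmbedding
  set x₀ : Fin k → α := fun i => emb (w i)
  have hx₀ : code x₀ = w := by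
    funext i
    refine le_antisymm (Finset.min'_le _ _ (by simp [x₀, (hw1 i).1])) (Finset.le_min' _ _ _ ?_)
    intro j hj
    rw [← emb.injective (Finset.mem_filter.1 hj).2]
    exact (hw1 j).2
  have hfib : ∀ x : Fin k → α, x ∈ MulAction.orbit (Equiv.Perm α) x₀ ↔ code x = w := fun x => by
    constructor
    · rintro ⟨g, rfl⟩
      exact (code_comp g x₀).trans hx₀
    · intro hx
      obtain ⟨g, hg⟩ := exists_perm_of_code_eq (hx₀.trans hx.symm)
      exact ⟨g, hg⟩
  have hset : (Finset.univ.filter fun x : Fin k → α => Good s (code x)).filter (fun x => code x = w)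
      = Finset.univ.filter fun x => code x = w := by
    rw [Finset.filter_filter]
    refine Finset.filter_congr fun x _ => ⟨fun h => h.2, fun h => ⟨?_, h⟩⟩
    rw [h]; exact ⟨hw1, hw2⟩
  have hS : ∀ x : Fin k → α, code x = w → S x = S x₀ := fun x hx => by
    obtain ⟨g, rfl⟩ := (hfib x).2 hx
    exact (Nat.card_congr (MulAction.stabilizerEquivStabilizer rfl).toEquiv).symm
  rw [hset, Finset.sum_congr rfl fun x hx => hS x (Finset.mem_filter.1 hx).2, Finset.sum_const,
    smul_eq_mul, mul_one]
  have horb : (Finset.univ.filter fun x : Fin k → α => code x = w).card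
      = Fintype.card (MulAction.orbit (Equiv.Perm α) x₀) := by
    rw [← Fintype.card_subtype]
    exact Fintype.card_congr (Equiv.subtypeEquivRight fun x => (hfib x).symm)
  rw [horb, ← MulAction.card_orbit_mul_card_stabilizer_eq_card_group (Equiv.Perm α) x₀]
  congr 1
  exact Nat.card_eq_fintype_card

/-- The number of fixed points. -/
noncomputable def fx (g : Equiv.Perm α) : ℕ := Nat.card {a // g a = a}

/-- The number of fixed points of the square. -/
noncomputable def fx2 (g : Equiv.Perm α) : ℕ := Nat.card {a // g (g a) = a}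

theorem twisted_one (g : Equiv.Perm α) : twisted (1 : Equiv.Perm (Fin k)) g = fx g ^ k := by
  rw [twisted, Nat.card_congr (β := Fin k → {a // g a = a})
    { toFun := fun x i => ⟨x.1 i, congrFun x.2 i⟩
      invFun := fun t => ⟨fun i => (t i).1, funext fun i => (t i).2⟩
      left_inv := fun _ => rfl
      right_inv := fun _ => rfl }, Nat.card_fun, Nat.card_fin, fx]

theorem twisted_swap (g : Equiv.Perm α) : twisted (Equiv.swap (0 : Fin 2) 1) g = fx2 g := by
  refine Nat.card_congr
    { toFun := fun x => ⟨x.1 0, ?_⟩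
      invFun := fun a => ⟨![a.1, g a.1], ?_⟩
      left_inv := fun x => Subtype.ext (funext fun i => ?_)
      right_inv := fun _ => rfl }
  · have h0 := congrFun x.2 0
    have h1 := congrFun x.2 1
    simp at h0 h1
    rw [h0, h1]
  · funext i
    fin_cases i <;> simp [a.2]
  · have h0 := congrFun x.2 0
    fin_cases i <;> simp_all

theorem twisted_fix_swap (g : Equiv.Perm α) :
    twisted (Equiv.swap (1 : Fin 3) 2) g = fx g * fx2 g := by
  rw [fx, fx2, ← Nat.card_prod]
  refine Nat.card_congr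
    { toFun := fun x => (⟨x.1 0, ?_⟩, ⟨x.1 1, ?_⟩)
      invFun := fun t => ⟨![t.1.1, t.2.1, g t.2.1], ?_⟩
      left_inv := fun x => Subtype.ext (funext fun i => ?_)
      right_inv := fun _ => rfl }
  · have h0 := congrFun x.2 0
    simpa [Equiv.swap_apply_of_ne_of_ne] using h0
  · have h1 := congrFun x.2 1
    have h2 := congrFun x.2 2
    simp at h1 h2
    rw [h1, h2]
  · funext i
    fin_cases i <;> simp [t.1.2, t.2.2, Equiv.swap_apply_of_ne_of_ne]
  · have h1 := congrFun x.2 1
    fin_cases i <;> simp_all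

theorem twisted_fix_fix_swap (g : Equiv.Perm α) :
    twisted (Equiv.swap (2 : Fin 4) 3) g = fx g ^ 2 * fx2 g := by
  rw [fx, fx2, pow_two, ← Nat.card_prod, ← Nat.card_prod]
  refine Nat.card_congr
    { toFun := fun x => ((⟨x.1 0, ?_⟩, ⟨x.1 1, ?_⟩), ⟨x.1 2, ?_⟩)
      invFun := fun t => ⟨![t.1.1.1, t.1.2.1, t.2.1, g t.2.1], ?_⟩
      left_inv := fun x => Subtype.ext (funext fun i => ?_)
      right_inv := fun _ => rfl }
  · have h0 := congrFun x.2 0
    simpa [Equiv.swap_apply_of_ne_of_ne] using h0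
  · have h1 := congrFun x.2 1
    simpa [Equiv.swap_apply_of_ne_of_ne] using h1
  · have h1 := congrFun x.2 2
    have h2 := congrFun x.2 3
    simp at h1 h2
    rw [h1, h2]
  · funext i
    fin_cases i <;> simp [t.1.1.2, t.1.2.2, t.2.2, Equiv.swap_apply_of_ne_of_ne]
  · have h1 := congrFun x.2 2
    fin_cases i <;> simp_all

theorem twisted_swap_swap (g : Equiv.Perm α) :
    twisted (Equiv.swap (0 : Fin 4) 1 * Equiv.swap 2 3) g = fx2 g ^ 2 := by
  rw [fx2, pow_two, ← Nat.card_prod]
  refine Nat.card_congr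
    { toFun := fun x => (⟨x.1 0, ?_⟩, ⟨x.1 2, ?_⟩)
      invFun := fun t => ⟨![t.1.1, g t.1.1, t.2.1, g t.2.1], ?_⟩
      left_inv := fun x => Subtype.ext (funext fun i => ?_)
      right_inv := fun _ => rfl }
  · have h0 := congrFun x.2 0
    have h1 := congrFun x.2 1
    simp [Equiv.swap_apply_of_ne_of_ne] at h0 h1
    rw [h0, h1]
  · have h1 := congrFun x.2 2
    have h2 := congrFun x.2 3
    simp [Equiv.swap_apply_of_ne_of_ne] at h1 h2
    rw [h1, h2]
  · funext i
    fin_cases i <;> simp [t.1.2, t.2.2, Equiv.swap_apply_of_ne_of_ne]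
  · have h1 := congrFun x.2 0
    have h2 := congrFun x.2 2
    fin_cases i <;> simp_all [Equiv.swap_apply_of_ne_of_ne]

/-- The moments needed. -/
theorem moments (h : 4 ≤ Fintype.card α) :
    ∃ N : ℕ, N = Fintype.card (Equiv.Perm α) ∧ ∑ g : Equiv.Perm α, fx g = N * 1 ∧
      ∑ g : Equiv.Perm α, fx g ^ 2 = N * 2 ∧ ∑ g : Equiv.Perm α, fx g ^ 3 = N * 5 ∧
      ∑ g : Equiv.Perm α, fx g ^ 4 = N * 15 ∧ ∑ g : Equiv.Perm α, fx2 g = N * 2 ∧
      ∑ g : Equiv.Perm α, fx g * fx2 g = N * 3 ∧
      ∑ g : Equiv.Perm α, fx g ^ 2 * fx2 g = N * 7 ∧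
      ∑ g : Equiv.Perm α, fx2 g ^ 2 = N * 7 := by
  refine ⟨_, rfl, ?_, ?_, ?_, ?_, ?_, ?_, ?_, ?_⟩
  · have := sum_twisted (α := α) (1 : Equiv.Perm (Fin 1)) (by omega)
    simp only [twisted_one, pow_one] at this
    rw [this]; congr 1
  · have := sum_twisted (α := α) (1 : Equiv.Perm (Fin 2)) (by omega)
    simp only [twisted_one] at this
    rw [this]; congr 1
  · have := sum_twisted (α := α) (1 : Equiv.Perm (Fin 3)) (by omega)
    simp only [twisted_one] at this
    rw [this]; congr 1
  · have := sum_twisted (α := α) (1 : Equiv.Perm (Fin 4)) (by omega)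
    simp only [twisted_one] at this
    rw [this]; congr 1
  · have := sum_twisted (α := α) (Equiv.swap (0 : Fin 2) 1) (by omega)
    simp only [twisted_swap] at this
    rw [this]; congr 1
  · have := sum_twisted (α := α) (Equiv.swap (1 : Fin 3) 2) (by omega)
    simp only [twisted_fix_swap] at this
    rw [this]; congr 1
  · have := sum_twisted (α := α) (Equiv.swap (2 : Fin 4) 3) (by omega)
    simp only [twisted_fix_fix_swap] at this
    rw [this]; congr 1
  · have := sum_twisted (α := α) (Equiv.swap (0 : Fin 4) 1 * Equiv.swap 2 3) (by omega)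
    simp only [twisted_swap_swap] at this
    rw [this]; congr 1

end Count

section Chars

variable {α : Type} [Fintype α] [DecidableEq α]

/-- `f - 1`. -/
noncomputable def stdChar (g : Equiv.Perm α) : ℂ := (fx g : ℂ) - 1

/-- The character of the partition `(n - 2, 2)`. -/
noncomputable def pairChar (g : Equiv.Perm α) : ℂ :=
  ((fx g : ℂ) ^ 2 - 4 * fx g + fx2 g) / 2

/-- The character of the partition `(n - 2, 1, 1)`. -/
noncomputable def hookChar (g : Equiv.Perm α) : ℂ :=
  ((fx g : ℂ) ^ 2 - 2 * fx g + 2 - fx2 g) / 2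

theorem isCharacter_fx : IsCharacter (Equiv.Perm α) fun g => (fx g : ℂ) :=
  isCharacter_fix (Ω := α)

/-- The action on unordered pairs. -/
@[reducible] def sym2Action : MulAction (Equiv.Perm α) (Sym2 α) where
  smul g := Sym2.map g
  one_smul z := show Sym2.map id z = z by simp
  mul_smul g h z := by
    show Sym2.map (⇑g ∘ ⇑h) z = Sym2.map g (Sym2.map h z)
    rw [Sym2.map_map]

theorem isCharacter_symSquare :
    IsCharacter (Equiv.Perm α) fun g => (((fx g : ℂ) ^ 2 + fx2 g) / 2) := by
  letI := sym2Action (α := α)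
  convert isCharacter_fix (G := Equiv.Perm α) (Ω := Sym2 α) using 1
  funext g
  rw [div_eq_iff two_ne_zero]
  suffices h : fx g ^ 2 + fx2 g = Nat.card {z : Sym2 α // Sym2.map g z = z} * 2 by
    exact_mod_cast h
  have e1 : fx g ^ 2 = ∑ t : α × α, if g t.1 = t.1 ∧ g t.2 = t.2 then 1 else 0 := by
    rw [fx, pow_two, ← Nat.card_prod, ← Finset.card_filter, ← Fintype.card_subtype,
      ← Nat.card_eq_fintype_card]
    exact Nat.card_congr
      { toFun := fun t => ⟨(t.1.1, t.2.1), t.1.2, t.2.2⟩
        invFun := fun t => (⟨t.1.1, t.2.1⟩, ⟨t.1.2, t.2.2⟩)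
        left_inv := fun _ => rfl
        right_inv := fun _ => rfl }
  have e2 : fx2 g = ∑ t : α × α, if g t.1 = t.2 ∧ g t.2 = t.1 then 1 else 0 := by
    rw [fx2, ← Finset.card_filter, ← Fintype.card_subtype, ← Nat.card_eq_fintype_card]
    exact Nat.card_congr
      { toFun := fun a => ⟨(a.1, g a.1), rfl, a.2⟩
        invFun := fun t => ⟨t.1.1, by rw [t.2.1, t.2.2]⟩
        left_inv := fun _ => rfl
        right_inv := fun t => Subtype.ext (Prod.ext rfl t.2.1) }
  rw [e1, e2, ← Finset.sum_add_distrib,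
    ← Finset.sum_fiberwise (Finset.univ : Finset (α × α)) fun t => s(t.1, t.2),
    Nat.card_eq_fintype_card, Fintype.card_subtype, Finset.card_filter, Finset.sum_mul]
  refine Finset.sum_congr rfl fun z _ => ?_
  induction z using Sym2.inductionOn with
  | hf a b =>
    by_cases hab : a = b
    · subst hab
      rw [show (Finset.univ.filter fun t : α × α => s(t.1, t.2) = s(a, a)) = {(a, a)} by
        ext ⟨c, d⟩; simp, Finset.sum_singleton]
      by_cases h : g a = a <;> simp [h]
    · rw [show (Finset.univ.filter fun t : α × α => s(t.1, t.2) = s(a, b)) = {(a, b), (b, a)} by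
        ext ⟨c, d⟩; simp, Finset.sum_pair (by simp [hab])]
      by_cases h1 : g a = a <;> by_cases h2 : g b = b <;> by_cases h3 : g a = b <;>
        by_cases h4 : g b = a <;> simp_all

theorem isGeneralizedCharacter_stdChar :
    IsGeneralizedCharacter (Equiv.Perm α) (stdChar (α := α)) :=
  ⟨_, _, isCharacter_fx, isCharacter_one, rfl⟩

theorem isGeneralizedCharacter_pairChar :
    IsGeneralizedCharacter (Equiv.Perm α) (pairChar (α := α)) :=
  ⟨_, _, isCharacter_symSquare, IsCharacter.add isCharacter_fx isCharacter_fx, by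
    funext g
    simp only [pairChar, Pi.sub_apply, Pi.add_apply]
    ring⟩

theorem isGeneralizedCharacter_hookChar :
    IsGeneralizedCharacter (Equiv.Perm α) (hookChar (α := α)) :=
  ⟨_, _, IsCharacter.add (IsCharacter.mul isCharacter_fx isCharacter_fx) isCharacter_one,
    IsCharacter.add isCharacter_symSquare isCharacter_fx, by
    funext g
    simp only [hookChar, Pi.sub_apply, Pi.add_apply, Pi.mul_apply]
    ring⟩

theorem classInner_real {G : Type} [Group G] [Fintype G] (r : G → ℝ) :
    classInner (fun g => (r g : ℂ)) (fun g => (r g : ℂ))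
      = (Nat.card G : ℂ)⁻¹ * ((∑ g, r g ^ 2 : ℝ) : ℂ) := by
  rw [classInner]
  push_cast
  simp only [Complex.conj_ofReal, pow_two]

theorem norm_eq_one (hn : 4 ≤ Fintype.card α) :
    ∑ g : Equiv.Perm α, ((fx g : ℝ) - 1) ^ 2 = (Fintype.card (Equiv.Perm α) : ℝ) ∧
    ∑ g : Equiv.Perm α, (((fx g : ℝ) ^ 2 - 4 * fx g + fx2 g) / 2) ^ 2
      = (Fintype.card (Equiv.Perm α) : ℝ) ∧
    ∑ g : Equiv.Perm α, (((fx g : ℝ) ^ 2 - 2 * fx g + 2 - fx2 g) / 2) ^ 2
      = (Fintype.card (Equiv.Perm α) : ℝ) := by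
  obtain ⟨N, hN, h1, h2, h3, h4, h5, h6, h7, h8⟩ := moments (α := α) hn
  have c1 := congrArg (Nat.cast (R := ℝ)) h1
  have c2 := congrArg (Nat.cast (R := ℝ)) h2
  have c3 := congrArg (Nat.cast (R := ℝ)) h3
  have c4 := congrArg (Nat.cast (R := ℝ)) h4
  have c5 := congrArg (Nat.cast (R := ℝ)) h5
  have c6 := congrArg (Nat.cast (R := ℝ)) h6
  have c7 := congrArg (Nat.cast (R := ℝ)) h7
  have c8 := congrArg (Nat.cast (R := ℝ)) h8
  push_cast at c1 c2 c3 c4 c5 c6 c7 c8
  subst hN
  refine ⟨?_, ?_, ?_⟩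
  · rw [Finset.sum_congr rfl fun g _ => show ((fx g : ℝ) - 1) ^ 2
      = (fx g : ℝ) ^ 2 - 2 * fx g + 1 by ring, Finset.sum_add_distrib, Finset.sum_sub_distrib,
      ← Finset.mul_sum, c1, c2, Finset.sum_const, Finset.card_univ, nsmul_eq_mul]
    ring
  · rw [Finset.sum_congr rfl fun g _ => show (((fx g : ℝ) ^ 2 - 4 * fx g + fx2 g) / 2) ^ 2
      = (1/4) * (fx g : ℝ) ^ 4 - 2 * (fx g : ℝ) ^ 3 + 4 * (fx g : ℝ) ^ 2
        + (1/2) * ((fx g : ℝ) ^ 2 * fx2 g) - 2 * ((fx g : ℝ) * fx2 g)
        + (1/4) * (fx2 g : ℝ) ^ 2 by ring]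
    simp only [Finset.sum_add_distrib, Finset.sum_sub_distrib, ← Finset.mul_sum, c2, c3, c4, c6, c7,
      c8]
    ring
  · rw [Finset.sum_congr rfl fun g _ => show (((fx g : ℝ) ^ 2 - 2 * fx g + 2 - fx2 g) / 2) ^ 2
      = (1/4) * (fx g : ℝ) ^ 4 - (fx g : ℝ) ^ 3 + 2 * (fx g : ℝ) ^ 2
        - (1/2) * ((fx g : ℝ) ^ 2 * fx2 g) + (fx g : ℝ) * fx2 g
        + (1/4) * (fx2 g : ℝ) ^ 2 - 2 * (fx g : ℝ) - (fx2 g : ℝ) + 1 by ring]
    simp only [Finset.sum_add_distrib, Finset.sum_sub_distrib, ← Finset.mul_sum, c1, c2, c3, c4, c5,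
      c6, c7, c8, Finset.sum_const, Finset.card_univ, nsmul_eq_mul]
    ring

/-- An irreducible character of norm one not vanishing off the alternating group restricts to an
irreducible character of it. -/
theorem restrict_irr (r : Equiv.Perm α → ℝ) (θ : Equiv.Perm α → ℂ) (hθr : ∀ g, θ g = r g)
    (hgen : IsGeneralizedCharacter (Equiv.Perm α) θ)
    (hnorm : ∑ g, r g ^ 2 = (Fintype.card (Equiv.Perm α) : ℝ)) (hpos : 0 < r 1) [Nontrivial α]
    (τ : Equiv.Perm α) (hτ : τ ∉ alternatingGroup α) (hτr : r τ ≠ 0) :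
    IsIrrCharacter (Equiv.Perm α) θ ∧
      IsIrrCharacter (alternatingGroup α) fun a => θ a := by
  classical
  obtain rfl : θ = fun g => (r g : ℂ) := funext hθr
  have hS : IsIrrCharacter (Equiv.Perm α) fun g => (r g : ℂ) := by
    refine CharDeep.GenChar.isIrrCharacter_of_norm_one hgen ?_ (by simpa using hpos)
    rw [classInner_real, hnorm, Nat.card_eq_fintype_card]
    have : (Fintype.card (Equiv.Perm α) : ℂ) ≠ 0 := Nat.cast_ne_zero.2 Fintype.card_ne_zero
    push_cast
    field_simp
  refine ⟨hS, ?_⟩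
  have hc := IsCharacter.restrict (IsIrrCharacter.isCharacter hS) (alternatingGroup α)
  obtain ⟨m, hm⟩ := IsCharacter.classInner_nat hc hc
  refine IsCharacter.isIrrCharacter_of_norm_one hc ?_
  have hA := two_mul_card_alternatingGroup (α := α)
  set s := ∑ a : alternatingGroup α, r a ^ 2
  have hsplit : s + ∑ g ∈ Finset.univ.filter (fun g => g ∉ alternatingGroup α), r g ^ 2
      = 2 * (Fintype.card (alternatingGroup α) : ℝ) := by
    rw [show (2 : ℝ) * (Fintype.card (alternatingGroup α) : ℝ)
      = ((2 * Fintype.card (alternatingGroup α) : ℕ) : ℝ) by push_cast; rfl, hA, ← hnorm,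
      ← Finset.sum_filter_add_sum_filter_not Finset.univ (fun g => g ∈ alternatingGroup α)]
    congr 1
    exact (Finset.sum_subtype _ (fun g => by simp) fun g => r g ^ 2).symm
  have hlt : s < 2 * (Fintype.card (alternatingGroup α) : ℝ) := by
    rw [← hsplit]
    refine lt_add_of_pos_right _ (Finset.sum_pos' (fun g _ => sq_nonneg _)
      ⟨τ, Finset.mem_filter.2 ⟨Finset.mem_univ _, hτ⟩, ?_⟩)
    positivity
  have hs0 : 0 < s := Finset.sum_pos' (fun a _ => sq_nonneg _)
    ⟨1, Finset.mem_univ _, by rw [OneMemClass.coe_one]; positivity⟩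
  have hcard : (0 : ℝ) < Fintype.card (alternatingGroup α) := Nat.cast_pos.2 Fintype.card_pos
  have hval : (m : ℝ) = s / Fintype.card (alternatingGroup α) := by
    apply Complex.ofReal_injective
    rw [Complex.ofReal_natCast, ← hm, classInner_real, Nat.card_eq_fintype_card]
    simp only [s]
    push_cast
    field_simp
  have h1 : (m : ℝ) < 2 := by rw [hval, div_lt_iff₀ hcard]; exact hlt
  have h2 : (0 : ℝ) < m := by rw [hval]; positivity
  have : m = 1 := by
    have h1' : m < 2 := by exact_mod_cast h1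
    have h2' : 0 < m := by exact_mod_cast h2
    omega
  rw [this, Nat.cast_one] at hm
  exact hm

end Chars

section Witness

/-- A permutation with prescribed sign, counts and exponent. -/
def Witness (e n : ℕ) (s : ℤˣ) (a b : ℕ) : Prop :=
  ∃ g : Equiv.Perm (Fin n), Equiv.Perm.sign g = s ∧ fx g = a ∧ fx2 g = b ∧ g ^ e = 1

theorem Witness.add {e m n : ℕ} {s t : ℤˣ} {a b c d : ℕ} (hm : Witness e m s a b)
    (hn : Witness e n t c d) : Witness e (m + n) (s * t) (a + c) (b + d) := by
  obtain ⟨g, hgs, hga, hgb, hge⟩ := hm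
  obtain ⟨h, hhs, hha, hhb, hhe⟩ := hn
  let ρ : Equiv.Perm (Fin m ⊕ Fin n) →* Equiv.Perm (Fin (m + n)) :=
    finSumFinEquiv.permCongrHom.toMonoidHom
  have key : ∀ (q : Equiv.Perm (Fin m ⊕ Fin n)) (P : Fin m → Prop) (Q : Fin n → Prop),
      (∀ x, q (Sum.inl x) = Sum.inl x ↔ P x) → (∀ x, q (Sum.inr x) = Sum.inr x ↔ Q x) →
      Nat.card {z // ρ q z = z} = Nat.card {x // P x} + Nat.card {x // Q x} := by
    intro q P Q hP hQ
    rw [← Nat.card_sum]
    have e1 : {z // q z = z} ≃ {z // ρ q z = z} := Equiv.subtypeEquiv finSumFinEquiv fun z => by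
      simp [ρ, Equiv.permCongrHom, Equiv.permCongr_apply]
    have e2 : {z // q z = z} ≃ {x // P x} ⊕ {x // Q x} :=
      (Equiv.subtypeSum (p := fun z => q z = z)).trans
        (Equiv.sumCongr (Equiv.subtypeEquivRight hP) (Equiv.subtypeEquivRight hQ))
    exact Nat.card_congr (e1.symm.trans e2)
  refine ⟨ρ (Equiv.Perm.sumCongr g h), ?_, ?_, ?_, ?_⟩
  · simp [ρ, Equiv.permCongrHom, hgs, hhs]
  · rw [fx, key _ (fun x => g x = x) (fun x => h x = x) (fun x => by simp) (fun x => by simp)]
    exact congrArg₂ _ hga hha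
  · have hfx2 : ∀ w : Equiv.Perm (Fin (m + n)), fx2 w = Nat.card {z // (w * w) z = z} := fun _ => rfl
    rw [hfx2, ← map_mul, key _ (fun x => g (g x) = x) (fun x => h (h x) = x) (fun x => by simp)
      (fun x => by simp)]
    exact congrArg₂ _ hgb hhb
  · rw [← map_pow, show Equiv.Perm.sumCongr g h = Equiv.Perm.sumCongrHom (Fin m) (Fin n) (g, h)
      from rfl, ← map_pow, Prod.pow_mk, hge, hhe]
    simp

theorem Witness.repeat {e m : ℕ} {s : ℤˣ} {a b : ℕ} (h : Witness e m s a b) :
    ∀ j : ℕ, Witness e (m * j) (s ^ j) (a * j) (b * j) := by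
  intro j
  induction j with
  | zero => exact ⟨1, by simp, by simp [fx], by simp [fx2], one_pow e⟩
  | succ j ih =>
    rw [Nat.mul_succ, Nat.mul_succ, Nat.mul_succ, pow_succ]
    exact ih.add h

theorem witness_one (e : ℕ) : Witness e 1 1 1 1 :=
  ⟨1, by simp, by simp [fx], by simp [fx2], one_pow e⟩

theorem witness_two : Witness 8 2 (-1) 0 2 :=
  ⟨finRotate 2, by decide +kernel, by rw [fx, Nat.card_eq_fintype_card]; decide +kernel,
    by rw [fx2, Nat.card_eq_fintype_card]; decide +kernel, by decide +kernel⟩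

theorem witness_four : Witness 8 4 (-1) 0 0 :=
  ⟨finRotate 4, by decide +kernel, by rw [fx, Nat.card_eq_fintype_card]; decide +kernel,
    by rw [fx2, Nat.card_eq_fintype_card]; decide +kernel, by decide +kernel⟩

theorem witness_eight : Witness 8 8 (-1) 0 0 :=
  ⟨finRotate 8, by decide +kernel, by rw [fx, Nat.card_eq_fintype_card]; decide +kernel,
    by rw [fx2, Nat.card_eq_fintype_card]; decide +kernel, by decide +kernel⟩

theorem witness_three : Witness 3 3 1 0 0 :=
  ⟨finRotate 3, by decide +kernel, by rw [fx, Nat.card_eq_fintype_card]; decide +kernel,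
    by rw [fx2, Nat.card_eq_fintype_card]; decide +kernel, by decide +kernel⟩

/-- Even products of `4`-cycles and `8`-cycles. -/
theorem witness_quad (m : ℕ) (hm : 2 ≤ m) : Witness 8 (4 * m) 1 0 0 := by
  rcases Nat.even_or_odd m with ⟨j, hj⟩ | ⟨j, hj⟩
  · have h := witness_four.repeat m
    rwa [Even.neg_one_pow ⟨j, hj⟩, zero_mul] at h
  · have h := witness_eight.add (witness_four.repeat (m - 2))
    rw [Odd.neg_one_pow ⟨j - 1, by omega⟩, show 8 + 4 * (m - 2) = 4 * m by omega] at h
    simpa using h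

/-- Even products with a single transposition and `4`- and `8`-cycles. -/
theorem witness_quad_swap (m : ℕ) (hm : 1 ≤ m) : Witness 8 (4 * m + 2) 1 0 2 := by
  rcases Nat.even_or_odd m with ⟨j, hj⟩ | ⟨j, hj⟩
  · have h := (witness_eight.add (witness_four.repeat (m - 2))).add witness_two
    rw [Even.neg_one_pow ⟨j - 1, by omega⟩, show 8 + 4 * (m - 2) + 2 = 4 * m + 2 by omega] at h
    simpa using h
  · have h := (witness_four.repeat m).add witness_two
    rw [Odd.neg_one_pow ⟨j, hj⟩] at h
    simpa using h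

/-- Even fixed-point-free products of transpositions and a `4`-cycle. -/
theorem witness_double (m : ℕ) (hm : 2 ≤ m) : ∃ b, Witness 8 (2 * m) 1 0 b := by
  rcases Nat.even_or_odd m with ⟨j, hj⟩ | ⟨j, hj⟩
  · have h := witness_two.repeat m
    rw [Even.neg_one_pow ⟨j, hj⟩, zero_mul] at h
    exact ⟨_, h⟩
  · have h := witness_four.add (witness_two.repeat (m - 2))
    rw [Odd.neg_one_pow ⟨j - 1, by omega⟩, show 4 + 2 * (m - 2) = 2 * m by omega] at h
    exact ⟨_, by simpa using h⟩

end Witness

end CfsgLib.Char.SymSmallChars
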