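import Cfsg.Agent.Lib.Char.TIKernel
import Cfsg.Prelude.Def_Transfer

/-!
# Abelian trivial intersection Frobenius kernels
-/

set_option autoImplicit false

open scoped ComplexConjugate

namespace CfsgLib.Char.TIKernel

variable {N : Type*} [Group N] [Fintype N] (K : Subgroup N) [K.Normal]
  (hC : ∀ n ∈ K, n ≠ 1 → Subgroup.centralizer ({n} : Set N) ≤ K)
include hC

/-- An abelian Frobenius kernel whose nontrivial characters form one class. -/
theorem of_unique (hab : ∀ a ∈ K, ∀ b ∈ K, a * b = b * a) (hK : K ≠ ⊥)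
    (huniq : ∀ η ξ : N → ℂ, (Cfsg.IsIrrCharacter N η ∧ ∃ k ∈ K, η k ≠ η 1) →
      (Cfsg.IsIrrCharacter N ξ ∧ ∃ k ∈ K, ξ k ≠ ξ 1) → η = ξ) :
    Nat.card K = K.index + 1 ∧ ∃ p : ℕ, p.Prime ∧ ∀ a ∈ K, a ^ p = 1 := by
  classical
  cases nonempty_fintype K
  have hcomm : ∀ a b : K, a * b = b * a := fun a b => Subtype.ext (hab _ a.2 _ b.2)
  let one : Cfsg.IrrCharacter K := ⟨fun _ => 1, isIrrCharacter_one⟩
  have hbij : Function.Bijective (ConjClasses.mk : K → ConjClasses K) := by
    refine ⟨fun a b h => ?_, ConjClasses.exists_rep⟩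
    obtain ⟨c, hc⟩ := isConj_iff.mp (ConjClasses.mk_eq_mk_iff_isConj.mp h)
    rw [hcomm c a, mul_assoc, mul_inv_cancel, mul_one] at hc
    exact hc
  have hcard : Nat.card (Cfsg.IrrCharacter K) = Nat.card K := by
    rw [card_irrCharacter, Nat.card_eq_of_bijective _ hbij]
  obtain ⟨φ₀, hφ₀, hφ₀1⟩ : ∃ φ : K → ℂ, Cfsg.IsIrrCharacter K φ ∧ φ ≠ fun _ => 1 := by
    by_contra hc
    push Not at hc
    have : Subsingleton (Cfsg.IrrCharacter K) :=
      ⟨fun a b => Subtype.ext ((hc a a.2).trans (hc b b.2).symm)⟩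
    have hle := Finite.card_le_one_iff_subsingleton.mpr this
    rw [hcard] at hle
    exact hK (Subgroup.eq_bot_of_card_le _ hle)
  set η := Cfsg.indFun K φ₀ with hη
  have hmem : ∀ φ : K → ℂ, Cfsg.IsIrrCharacter K φ → φ ≠ (fun _ => 1) →
      Cfsg.indFun K φ = η := fun φ hφ hφ1 =>
    huniq _ _ ((mem_iff K hC).mpr ⟨φ, hφ, hφ1, rfl⟩) ((mem_iff K hC).mpr ⟨φ₀, hφ₀, hφ₀1, rfl⟩)
  have hηirr := isIrr_indFun_of_frobenius K hC hφ₀ hφ₀1
  have hηcf := IsIrrCharacter.isClassFunction hηirr
  have hres : Cfsg.IsCharacter K fun k : K => η k :=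
    IsCharacter.restrict (IsIrrCharacter.isCharacter hηirr) K
  have hcoef : ∀ φ : Cfsg.IrrCharacter K, Cfsg.classInner (fun k : K => η k) (φ : K → ℂ) =
      if φ = one then 0 else 1 := by
    intro φ
    rw [← classInner_indFun_right K _ hηcf]
    split_ifs with h
    · rw [h, classInner_indFun_irr hφ₀ isIrrCharacter_one, Nat.card_eq_zero.mpr ?_]
      · simp
      · refine Or.inl ⟨fun g => hφ₀1 ?_⟩
        rw [← g.2]
        funext x
        simp [conjG, one]
    · rw [hmem φ φ.2 fun e => h (Subtype.ext e), classInner_irr_self hηirr]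
  refine ⟨?_, ?_⟩
  · have h := congrFun (IsClassFunction.eq_sum_irr (IsCharacter.isClassFunction hres)) 1
    simp only [Finset.sum_apply, Pi.smul_apply, smul_eq_mul, hcoef, Subgroup.coe_one] at h
    rw [hη, indFun_one, apply_one_eq_one_of_comm hcomm hφ₀, mul_one] at h
    rw [Finset.sum_congr rfl fun φ _ => by
        rw [apply_one_eq_one_of_comm hcomm φ.2, mul_one],
      Finset.sum_ite, Finset.sum_const_zero, zero_add, Finset.sum_const, Finset.filter_ne',
      Finset.card_erase_of_mem (Finset.mem_univ _), Finset.card_univ, nsmul_eq_mul, mul_one,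
      ← Nat.card_eq_fintype_card, hcard, Nat.cast_inj] at h
    have : 0 < Nat.card K := Nat.card_pos
    omega
  · obtain ⟨l, hl⟩ := exists_hom_of_apply_one_eq_one (IsIrrCharacter.isCharacter hφ₀)
      (apply_one_eq_one_of_comm hcomm hφ₀)
    have hl1 : l ≠ 1 := fun h => hφ₀1 (by rw [hl, h]; funext x; simp)
    haveI : Finite (K →* ℂˣ) := Finite.of_equiv _ homEquivLinear.symm
    obtain ⟨p, hp, hpd⟩ := Nat.exists_prime_and_dvd (n := orderOf l)
      fun h => hl1 (orderOf_eq_one_iff.mp h)
    refine ⟨p, hp, ?_⟩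
    set m := orderOf l / p with hm
    have hmp : orderOf l = m * p := (Nat.div_mul_cancel hpd).symm
    have hlm : l ^ m ≠ 1 := fun h => by
      have h1 : orderOf l ∣ m := orderOf_dvd_of_pow_eq_one (by convert h)
      have hpos : 0 < m := by
        rcases Nat.eq_zero_or_pos m with h0 | h0
        · exact absurd hmp (by rw [h0, zero_mul]; exact (orderOf_pos l).ne')
        · exact h0
      have := Nat.le_of_dvd hpos h1
      rw [hmp] at this
      have := hp.two_le
      nlinarith
    -- every nontrivial character is a conjugate of `φ₀`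
    have hconj : ∀ φ : K → ℂ, Cfsg.IsIrrCharacter K φ → φ ≠ (fun _ => 1) →
        ∃ g : N, conjG φ₀ g = φ := by
      intro φ hφ hφ1
      by_contra hc
      push Not at hc
      have h := classInner_indFun_irr (H := K) hφ hφ₀
      rw [hmem φ hφ hφ1, ← hη, classInner_irr_self hηirr,
        Nat.card_eq_zero.mpr (Or.inl ⟨fun g => hc g.1 g.2⟩), Nat.cast_zero, zero_div] at h
      exact one_ne_zero h
    have hp₀ : ∀ b : K, φ₀ b ^ p = 1 := by
      intro b
      obtain ⟨g, hg⟩ := hconj (fun a => ((l ^ m) a : ℂ)) (isIrrCharacter_hom _) fun h =>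
        hlm (coe_hom_injective (h.trans (by ext; simp)))
      have hK' : (inferInstance : K.Normal).conj_mem = (inferInstance : K.Normal).conj_mem := rfl
      let b' : K := ⟨g⁻¹ * b * g, by
        simpa using (inferInstance : K.Normal).conj_mem _ b.2 g⁻¹⟩
      have h1 := congrFun hg b'
      simp only [conjG] at h1
      have h2 : φ₀ b = ((l ^ m) b' : ℂ) := by
        rw [← h1]; congr 1; exact Subtype.ext (by simp [b', mul_assoc])
      rw [h2, ← Units.val_pow_eq_pow_val, ← MonoidHom.pow_apply, ← pow_mul, ← hmp,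
        pow_orderOf_eq_one]
      simp
    intro a ha
    have key : (⟨a, ha⟩ : K) ^ p = 1 := by
      refine eq_one_of_forall_irr fun φ => ?_
      obtain ⟨l', hl'⟩ := exists_hom_of_apply_one_eq_one (isCharacter_irr φ)
        (apply_one_eq_one_of_comm hcomm φ.2)
      rw [hl']
      dsimp only
      rw [map_pow, Units.val_pow_eq_pow_val, map_one, Units.val_one]
      by_cases hφ : (φ : K → ℂ) = fun _ => 1
      · have h := congrFun (hl'.symm.trans hφ) (⟨a, ha⟩ : K)
        rw [h, one_pow]
      · obtain ⟨g, hg⟩ := hconj φ φ.2 hφ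
        have h := congrFun (hl'.symm.trans hg.symm) (⟨a, ha⟩ : K)
        simp only [conjG] at h
        rw [h]
        exact hp₀ _
    exact congrArg Subtype.val key

end CfsgLib.Char.TIKernel
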