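import Cfsg.Prelude.Def_RootSubgroups
import Cfsg.Agent.Lib.KnownC.TransvClass
import Cfsg.Agent.Lib.Classical.SLBasic

/-!
# Transvections of `SL_{n+3}` in characteristic two form a class of root involutions
-/

set_option autoImplicit false

namespace CfsgLib.Char.TransvectionRootClass

open Matrix Polynomial
open CfsgLib.KnownC

section Algebra

variable {R : Type*} [Ring R] {U V : R}

theorem sq_one_add {X : R} (h2 : ∀ r : R, r + r = 0) : (1 + X) * (1 + X) = 1 + X * X := by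
  have h := h2 X
  calc (1 + X) * (1 + X) = 1 + (X + X) + X * X := by noncomm_ring
    _ = _ := by rw [h, add_zero]

theorem sq_mul_of_left (hU : U * U = 0) (hV : V * V = 0) (hVU : V * U = 0) (h2 : ∀ r : R, r + r = 0) :
    ((1 + U) * (1 + V)) * ((1 + U) * (1 + V)) = 1 + U * V := by
  rw [show (1 + U) * (1 + V) = 1 + (U + V + U * V) by noncomm_ring, sq_one_add h2]
  congr 1
  calc (U + V + U * V) * (U + V + U * V)
      = U * U + U * V + U * U * V + V * U + V * V + V * U * V + U * (V * U) + U * (V * V) + U * (V * U) * V := by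
        noncomm_ring
    _ = U * V := by rw [hU, hV, hVU]; simp

theorem sq_mul_of_right (hU : U * U = 0) (hV : V * V = 0) (hUV : U * V = 0) (h2 : ∀ r : R, r + r = 0) :
    ((1 + U) * (1 + V)) * ((1 + U) * (1 + V)) = 1 + V * U := by
  rw [show (1 + U) * (1 + V) = 1 + (U + V + U * V) by noncomm_ring, hUV, add_zero, sq_one_add h2]
  congr 1
  calc (U + V) * (U + V) = U * U + U * V + V * U + V * V := by noncomm_ring
    _ = V * U := by rw [hU, hV, hUV]; simp

end Algebra

section Cubic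

variable {F : Type*} [Field F] {A : Type*} [Ring A] [Algebra F A] {U V : A} {c : F}

theorem cubic (hU : U * U = 0) (hV : V * V = 0) (hUVU : U * V * U = c • U) (hVUV : V * U * V = c • V)
    (h2 : ∀ r : A, r + r = 0) :
    (U + V + U * V) * (U + V + U * V) * (U + V + U * V) + c • ((U + V + U * V) * (U + V + U * V)) +
      c • (U + V + U * V) = 0 := by
  have hUU : ∀ X : A, U * (U * X) = 0 := fun X => by rw [← mul_assoc, hU, zero_mul]
  have hVV : ∀ X : A, V * (V * X) = 0 := fun X => by rw [← mul_assoc, hV, zero_mul]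
  have hu : U * (V * U) = c • U := by rw [← mul_assoc]; exact hUVU
  have hv : V * (U * V) = c • V := by rw [← mul_assoc]; exact hVUV
  have hu' : ∀ X : A, U * (V * (U * X)) = c • (U * X) := fun X => by
    rw [← mul_assoc V, ← mul_assoc, hu, smul_mul_assoc]
  have hv' : ∀ X : A, V * (U * (V * X)) = c • (V * X) := fun X => by
    rw [← mul_assoc U, ← mul_assoc, hv, smul_mul_assoc]
  have hXX : (U + V + U * V) * (U + V + U * V) = c • (U + V + U * V) + (U * V + V * U) := by
    simp only [mul_add, add_mul, mul_assoc, hU, hV, hUU, hVV, hu, hv, hu', hv', mul_zero, zero_mul, mul_smul_comm, smul_mul_assoc, hUU, hVV, smul_zero]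
    module
  have hX3 : (U * V + V * U) * (U + V + U * V) = c • (U + V + U * V) := by
    simp only [mul_add, add_mul, mul_assoc, hU, hV, hUU, hVV, hu, hv, hu', hv', mul_zero, zero_mul, mul_smul_comm, smul_mul_assoc, hUU, hVV, smul_zero]
    module
  rw [hXX, add_mul, smul_mul_assoc, hXX, hX3]
  have hz : ∀ X : A, X + X = 0 := h2
  calc c • (c • (U + V + U * V) + (U * V + V * U)) + c • (U + V + U * V) +
        c • (c • (U + V + U * V) + (U * V + V * U)) + c • (U + V + U * V)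
      = (c • (c • (U + V + U * V) + (U * V + V * U)) + c • (c • (U + V + U * V) + (U * V + V * U))) +
          (c • (U + V + U * V) + c • (U + V + U * V)) := by abel
    _ = 0 := by rw [hz, hz, add_zero]

theorem separable_cubic [CharP F 2] (hc : c ≠ 0) :
    (X ^ 3 + C c * X ^ 2 + C c * X : F[X]).Separable := by
  have h2 : (2 : F[X]) = 0 := by
    have h : (2 : F) = 0 := by exact_mod_cast CharP.cast_eq_zero F 2
    rw [← map_ofNat C, h, map_zero]
  rw [Polynomial.separable_def']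
  refine ⟨C (c⁻¹ * c⁻¹), C (c⁻¹ * c⁻¹) * (X + C c), ?_⟩
  have hd : derivative (X ^ 3 + C c * X ^ 2 + C c * X : F[X]) = X ^ 2 + C c := by
    simp only [derivative_add, derivative_mul, derivative_C, derivative_X_pow, derivative_X, zero_mul,
      zero_add, mul_one]
    simp only [Nat.cast_ofNat, map_ofNat, Nat.add_one_sub_one, pow_one]
    linear_combination (X ^ 2 + C c * X) * h2
  rw [hd]
  have hcc : C (c⁻¹ * c⁻¹) * C c * C c = (1 : F[X]) := by
    rw [← C_mul, ← C_mul, show c⁻¹ * c⁻¹ * c * c = 1 by field_simp, C_1]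
  linear_combination hcc + C (c⁻¹ * c⁻¹) * (X ^ 3 + C c * X ^ 2 + C c * X) * h2

theorem eq_one_of_cubic [CharP F 2] (hc : c ≠ 0) {X₀ : A}
    (hcub : X₀ * X₀ * X₀ + c • (X₀ * X₀) + c • X₀ = 0) {m : ℕ}
    (hm : ((1 + X₀) ^ m + 1) * ((1 + X₀) ^ m + 1) = 0) : (1 + X₀) ^ m + 1 = 0 := by
  set R : F[X] := X ^ 3 + C c * X ^ 2 + C c * X with hR
  have hev : aeval X₀ R = 0 := by
    rw [hR]
    simp only [map_add, map_mul, map_pow, aeval_X, aeval_C, ← Algebra.smul_def]
    rw [pow_three, ← mul_assoc, sq]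
    exact hcub
  set S : F[X] := (1 + X) ^ m + 1 with hS
  have hS2 : aeval X₀ (S * S) = 0 := by
    simp only [hS, map_mul, map_add, map_pow, map_one, aeval_X]
    exact hm
  have hμ : Squarefree (minpoly F X₀) :=
    Squarefree.squarefree_of_dvd (minpoly.dvd F X₀ hev) (separable_cubic hc).squarefree
  have hdvd : minpoly F X₀ ∣ S :=
    hμ.isRadical 2 S (by rw [sq]; exact minpoly.dvd F X₀ hS2)
  obtain ⟨Q, hQ⟩ := hdvd
  have h3 : aeval X₀ S = 0 := by rw [hQ, map_mul, minpoly.aeval, zero_mul]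
  simpa [hS] using h3

end Cubic

variable {F : Type*} [Field F] {n : ℕ}

abbrev SL3 (n : ℕ) (F : Type*) [Field F] := SpecialLinearGroup (Fin (n + 3)) F

theorem cm (g h : SL3 n F) : ((g * h : SL3 n F) : Matrix (Fin (n + 3)) (Fin (n + 3)) F) = (g : Matrix (Fin (n + 3)) (Fin (n + 3)) F) * (h : Matrix (Fin (n + 3)) (Fin (n + 3)) F) := rfl

theorem c1 : ((1 : SL3 n F) : Matrix (Fin (n + 3)) (Fin (n + 3)) F) = 1 := rfl

theorem cp (g : SL3 n F) (m : ℕ) : ((g ^ m : SL3 n F) : Matrix (Fin (n + 3)) (Fin (n + 3)) F) = (g : Matrix (Fin (n + 3)) (Fin (n + 3)) F) ^ m := by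
  induction m with
  | zero => rw [pow_zero, pow_zero, c1]
  | succ m ih => rw [pow_succ, pow_succ, cm, ih]

theorem cl (g : SL3 n F) : ((g⁻¹ : SL3 n F) : Matrix (Fin (n + 3)) (Fin (n + 3)) F) * (g : Matrix (Fin (n + 3)) (Fin (n + 3)) F) = 1 := by
  rw [← cm, inv_mul_cancel, c1]

theorem cr (g : SL3 n F) : (g : Matrix (Fin (n + 3)) (Fin (n + 3)) F) * ((g⁻¹ : SL3 n F) : Matrix (Fin (n + 3)) (Fin (n + 3)) F) = 1 := by
  rw [← cm, mul_inv_cancel, c1]

/-- The transvections, by shape. -/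
def Shape (t : SL3 n F) : Prop :=
  ∃ u φ : Fin (n + 3) → F, u ≠ 0 ∧ φ ≠ 0 ∧ φ ⬝ᵥ u = 0 ∧
    (t : Matrix (Fin (n + 3)) (Fin (n + 3)) F) = 1 + vecMulVec u φ

theorem shape_isTransvection {t : SL3 n F} (h : Shape t) :
    Cfsg.IsTransvection (t : Matrix (Fin (n + 3)) (Fin (n + 3)) F) := by
  obtain ⟨u, φ, hu, hφ, h0, he⟩ := h
  rw [Cfsg.IsTransvection, he, add_sub_cancel_left]
  refine ⟨le_antisymm (rank_vecMulVec_le u φ) (Nat.one_le_iff_ne_zero.2 fun hr => ?_), ?_⟩
  · have h1 : LinearMap.range (vecMulVec u φ).mulVecLin = ⊥ := Submodule.finrank_eq_zero.1 hr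
    obtain ⟨i, hi⟩ := Function.ne_iff.1 hu
    obtain ⟨j, hj⟩ := Function.ne_iff.1 hφ
    have h2 : (vecMulVec u φ).mulVecLin = 0 := LinearMap.range_eq_bot.1 h1
    have := congrFun (LinearMap.congr_fun h2 (Pi.single j 1)) i
    simp [vecMulVec_apply] at this hi hj
    rcases this with h | h
    · exact hi h
    · exact hj h
  · rw [vecMulVec_mul_vecMulVec, h0]
    simp

/-- The standard transvection `1 + c E₀₁`. -/
abbrev T (n : ℕ) (c : F) : Matrix (Fin (n + 3)) (Fin (n + 3)) F := Matrix.transvection 0 1 c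

theorem conj_T {t : SL3 n F} (h : Shape t) :
    ∃ g : SL3 n F, ((g⁻¹ * t * g : SL3 n F) : Matrix (Fin (n + 3)) (Fin (n + 3)) F) = T n 1 := by
  have hTs : Shape (SpecialLinearGroup.transvection (show (0 : Fin (n + 3)) ≠ 1 by simp) (1 : F)) := by
    refine ⟨Pi.single 0 1, Pi.single 1 1, by simp, by simp, by simp, ?_⟩
    show Matrix.transvection (0 : Fin (n + 3)) 1 (1 : F) = _
    rw [Matrix.transvection, Matrix.single_eq_single_vecMulVec_single]
  obtain ⟨g₁, h₁⟩ := TransvClass.conj_std (n := n + 1) (shape_isTransvection h) t.2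
  obtain ⟨g₀, h₀⟩ := TransvClass.conj_std (n := n + 1) (shape_isTransvection hTs) (Matrix.det_transvection_of_ne _ _ (by simp) _)
  set k : GL (Fin (n + 3)) F := g₁ * g₀⁻¹ with hk
  set d : Fin (n + 3) → F := Function.update 1 2 (k.1.det)⁻¹ with hd
  have hdk : k.1.det ≠ 0 := ((Matrix.isUnit_iff_isUnit_det _).1 k.isUnit).ne_zero
  have hdet : (k.1 * diagonal d).det = 1 := by
    rw [det_mul, det_diagonal, hd, Finset.prod_update_of_mem (Finset.mem_univ _)]
    simp [mul_inv_cancel₀ hdk]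
  let g : SL3 n F := ⟨k.1 * diagonal d, hdet⟩
  refine ⟨g, ?_⟩
  have hcomm : diagonal d * T n (1 : F) = T n (1 : F) * diagonal d := by
    rw [T, Matrix.transvection, Matrix.mul_add, Matrix.add_mul, Matrix.mul_one, Matrix.one_mul]
    congr 1
    ext a b
    have h02 : (0 : Fin (n + 3)) ≠ 2 := by simp [Fin.ext_iff, Nat.mod_eq_of_lt]
    have h12 : (1 : Fin (n + 3)) ≠ 2 := by simp [Fin.ext_iff, Nat.mod_eq_of_lt]
    simp only [diagonal_mul, mul_diagonal, Matrix.single_apply]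
    split_ifs with hab
    · obtain ⟨rfl, rfl⟩ := hab
      simp [hd, Function.update_of_ne h02, Function.update_of_ne h12]
    · simp
  have hkt : (t : Matrix (Fin (n + 3)) (Fin (n + 3)) F) * k.1 = k.1 * T n (1 : F) := by
    have e0 : (T n (1 : F)) * g₀.1 = g₀.1 * TransvClass.std (n + 1) := by
      show (SpecialLinearGroup.transvection (show (0 : Fin (n + 3)) ≠ 1 by simp) (1 : F)).1 * g₀.1 = _
      rw [h₀, Matrix.mul_assoc, ← Units.val_mul, inv_mul_cancel, Units.val_one, Matrix.mul_one]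
    have e1 : (t : Matrix (Fin (n + 3)) (Fin (n + 3)) F) * g₁.1 = g₁.1 * TransvClass.std (n + 1) := by
      rw [h₁, Matrix.mul_assoc, ← Units.val_mul, inv_mul_cancel, Units.val_one, Matrix.mul_one]
    rw [hk, Units.val_mul, ← Matrix.mul_assoc, e1]
    calc g₁.1 * TransvClass.std (n + 1) * (g₀⁻¹).1
        = g₁.1 * ((g₀⁻¹).1 * g₀.1) * TransvClass.std (n + 1) * (g₀⁻¹).1 := by
          rw [← Units.val_mul, inv_mul_cancel, Units.val_one, Matrix.mul_one]
      _ = g₁.1 * (g₀⁻¹).1 * (g₀.1 * TransvClass.std (n + 1)) * (g₀⁻¹).1 := by simp only [Matrix.mul_assoc]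
      _ = g₁.1 * (g₀⁻¹).1 * (T n (1 : F) * (g₀.1 * (g₀⁻¹).1)) := by rw [← e0]; simp only [Matrix.mul_assoc]
      _ = _ := by rw [← Units.val_mul g₀, mul_inv_cancel, Units.val_one, Matrix.mul_one]
  have hmain : t * g = g * ⟨T n (1 : F), Matrix.det_transvection_of_ne _ _ (show (0 : Fin (n + 3)) ≠ 1 by simp) _⟩ := by
    apply Subtype.ext
    show (t : Matrix (Fin (n + 3)) (Fin (n + 3)) F) * (k.1 * diagonal d) = k.1 * diagonal d * T n (1 : F)
    rw [← Matrix.mul_assoc, hkt, Matrix.mul_assoc, ← hcomm, Matrix.mul_assoc]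
  have hfin : g⁻¹ * t * g = ⟨T n (1 : F), Matrix.det_transvection_of_ne _ _ (show (0 : Fin (n + 3)) ≠ 1 by simp) _⟩ := by
    rw [mul_assoc, hmain]
    exact inv_mul_cancel_left g _
  exact congrArg Subtype.val hfin


theorem conj_transvection {P Q : Matrix (Fin (n + 3)) (Fin (n + 3)) F} (hPQ : P * Q = 1) (c : F) :
    P * Matrix.transvection (0 : Fin (n + 3)) 1 c * Q =
      1 + vecMulVec (P *ᵥ Pi.single 0 c) (Pi.single 1 1 ᵥ* Q) := by
  rw [Matrix.transvection, Matrix.mul_add, Matrix.add_mul, Matrix.mul_one, hPQ]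
  congr 1
  have e : (Matrix.single (0 : Fin (n + 3)) 1 c : Matrix (Fin (n + 3)) (Fin (n + 3)) F) =
      vecMulVec (Pi.single 0 c) (Pi.single 1 1) := by
    ext a b
    simp only [vecMulVec_apply, Matrix.single_apply, Pi.single_apply]
    by_cases ha : a = 0 <;> by_cases hb : b = 1 <;> simp [ha, hb, Ne.symm, eq_comm]
  erw [e, mul_vecMulVec, vecMulVec_mul]

theorem conj_shape {t : SL3 n F} {c : F} (hc : c ≠ 0) {g : SL3 n F}
    (h : ((g⁻¹ * t * g : SL3 n F) : Matrix (Fin (n + 3)) (Fin (n + 3)) F) = T n c) : Shape t := by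
  refine ⟨(g : Matrix (Fin (n + 3)) (Fin (n + 3)) F) *ᵥ Pi.single 0 c, Pi.single 1 1 ᵥ* ((g⁻¹ : SL3 n F) : Matrix (Fin (n + 3)) (Fin (n + 3)) F), ?_, ?_, ?_, ?_⟩
  · intro h0
    have := congrArg (((g⁻¹ : SL3 n F) : Matrix (Fin (n + 3)) (Fin (n + 3)) F) *ᵥ ·) h0
    simp only [mulVec_mulVec, mulVec_zero] at this
    rw [cl, one_mulVec] at this
    simp [hc] at this
  · intro h0
    have := congrArg (· ᵥ* (g : Matrix (Fin (n + 3)) (Fin (n + 3)) F)) h0
    simp only [vecMul_vecMul, zero_vecMul] at this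
    rw [cl, vecMul_one] at this
    simp at this
  · rw [dotProduct_mulVec, vecMul_vecMul, cl, vecMul_one]
    simp
  · have e : t = g * (g⁻¹ * t * g) * g⁻¹ := by group
    calc (t : Matrix (Fin (n + 3)) (Fin (n + 3)) F) = (g : Matrix (Fin (n + 3)) (Fin (n + 3)) F) * T n c * ((g⁻¹ : SL3 n F) : Matrix (Fin (n + 3)) (Fin (n + 3)) F) := by
          conv_lhs => rw [e]
          rw [cm, cm, h]
      _ = _ := conj_transvection (cr g) c

/-- The class in the statement. -/
def D (n : ℕ) (F : Type*) [Field F] : Set (SL3 n F) :=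
  {t | ∃ c : F, c ≠ 0 ∧ ∃ g : SL3 n F, ((g⁻¹ * t * g : SL3 n F) : Matrix (Fin (n + 3)) (Fin (n + 3)) F) = T n c}

theorem mem_D_iff {t : SL3 n F} : t ∈ D n F ↔ Shape t :=
  ⟨fun ⟨_, hc, _, hg⟩ => conj_shape hc hg, fun h => ⟨1, one_ne_zero, conj_T h⟩⟩

variable [Fintype F] [CharP F 2]

theorem add_self (r : Matrix (Fin (n + 3)) (Fin (n + 3)) F) : r + r = 0 := by
  ext a b
  exact CharTwo.add_self_eq_zero _

theorem orderOf_two {t : SL3 n F} (h : Shape t) : orderOf t = 2 := by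
  obtain ⟨ht, hne⟩ := shape_isTransvection h, h
  refine orderOf_eq_prime (Subtype.ext ?_) fun h1 => ?_
  · have h2 := ht.2
    have hT : (t : Matrix (Fin (n + 3)) (Fin (n + 3)) F) = 1 + ((t : Matrix (Fin (n + 3)) (Fin (n + 3)) F) - 1) := by
      abel
    rw [sq, cm, hT, sq_one_add add_self, h2, add_zero]
    rfl
  · rw [h1, c1] at ht
    have := ht.1
    rw [sub_self, rank_zero] at this
    exact zero_ne_one this

theorem pair {a b : SL3 n F} (ha : Shape a) (hb : Shape b) :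
    a * b = b * a ∨
      (Odd (orderOf (a * b)) ∧ ∃ c : F, c ≠ 0 ∧ (c = 1 → (a * b) ^ 3 = 1)) ∨
      (orderOf (a * b) = 4 ∧ Shape ((a * b) ^ 2)) := by
  obtain ⟨u, φ, hu, hφ, huφ, hA⟩ := ha
  obtain ⟨v, ψ, hv, hψ, hvψ, hB⟩ := hb
  set α := φ ⬝ᵥ v with hα
  set β := ψ ⬝ᵥ u with hβ
  have hUV : vecMulVec u φ * vecMulVec v ψ = α • vecMulVec u ψ := by
    rw [vecMulVec_mul_vecMulVec, hα, vecMulVec_smul]
  have hVU : vecMulVec v ψ * vecMulVec u φ = β • vecMulVec v φ := by
    rw [vecMulVec_mul_vecMulVec, hβ, vecMulVec_smul]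
  have hUU : vecMulVec u φ * vecMulVec u φ = 0 := by rw [vecMulVec_mul_vecMulVec, huφ]; simp
  have hVV : vecMulVec v ψ * vecMulVec v ψ = 0 := by rw [vecMulVec_mul_vecMulVec, hvψ]; simp
  set U := vecMulVec u φ
  set V := vecMulVec v ψ
  have hab : ((a * b : SL3 n F) : Matrix (Fin (n + 3)) (Fin (n + 3)) F) = (1 + U) * (1 + V) := by
    rw [cm, hA, hB]
  have four : Shape ((a * b) ^ 2) → orderOf (a * b) = 4 ∧ Shape ((a * b) ^ 2) := fun h => by
    have h2 := orderOf_two h
    refine ⟨orderOf_eq_prime_pow (p := 2) (n := 1) ?_ ?_, h⟩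
    · rw [pow_one]; intro h1; rw [h1, orderOf_one] at h2; omega
    · have h5 := pow_orderOf_eq_one ((a * b) ^ 2)
      rw [h2, ← pow_mul] at h5
      exact h5
  by_cases hα0 : α = 0
  · by_cases hβ0 : β = 0
    · left
      apply Subtype.ext
      rw [hab, cm, hA, hB]
      simp only [Matrix.mul_add, Matrix.add_mul, Matrix.mul_one, Matrix.one_mul, hUV, hVU, hα0, hβ0, zero_smul]
      abel
    · refine Or.inr (Or.inr (four ⟨β • v, φ, smul_ne_zero hβ0 hv, hφ, ?_, ?_⟩))
      · rw [dotProduct_smul, ← hα, hα0, smul_zero]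
      · rw [sq, cm, hab, sq_mul_of_right hUU hVV (by rw [hUV, hα0, zero_smul]) add_self,
          hVU, smul_vecMulVec]
  by_cases hβ0 : β = 0
  · refine Or.inr (Or.inr (four ⟨α • u, ψ, smul_ne_zero hα0 hu, hψ, ?_, ?_⟩))
    · rw [dotProduct_smul, ← hβ, hβ0, smul_zero]
    · rw [sq, cm, hab, sq_mul_of_left hUU hVV (by rw [hVU, hβ0, zero_smul]) add_self,
        hUV, smul_vecMulVec]
  · refine Or.inr (Or.inl ?_)
    have hc : α * β ≠ 0 := mul_ne_zero hα0 hβ0
    have hUVU : U * V * U = (α * β) • U := by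
      rw [hUV, smul_mul_assoc, vecMulVec_mul_vecMulVec, ← hβ, vecMulVec_smul, smul_smul]
    have hVUV : V * U * V = (α * β) • V := by
      rw [hVU, smul_mul_assoc, vecMulVec_mul_vecMulVec, ← hα, vecMulVec_smul, smul_smul, mul_comm]
    have hcub := cubic hUU hVV hUVU hVUV add_self
    have hX : (1 + U) * (1 + V) = 1 + (U + V + U * V) := by noncomm_ring
    rw [hX] at hab
    set X₀ := U + V + U * V
    refine ⟨?_, α * β, hc, fun h1 => Subtype.ext ?_⟩
    · rcases Nat.even_or_odd (orderOf (a * b)) with ⟨m, hm⟩ | h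
      · have hmpos : 0 < m := by
          have := orderOf_pos (a * b)
          omega
        exfalso
        have hpow : ((1 + X₀) ^ m + 1) * ((1 + X₀) ^ m + 1) = 0 := by
          have h1 : (1 + X₀) ^ (m + m) = 1 := by
            rw [← hab, ← cp, ← hm, pow_orderOf_eq_one, c1]
          rw [add_comm _ (1 : Matrix (Fin (n + 3)) (Fin (n + 3)) F), sq_one_add add_self, ← pow_add, h1, add_self]
        have h2 := eq_one_of_cubic hc hcub hpow
        have h3 : (a * b) ^ m = 1 := by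
          apply Subtype.ext
          rw [cp, hab]
          have h4 := congrArg (· + (1 : Matrix (Fin (n + 3)) (Fin (n + 3)) F)) h2
          simpa [add_assoc, add_self] using h4
        have := Nat.le_of_dvd hmpos (orderOf_dvd_of_pow_eq_one h3)
        omega
      · exact h
    · rw [cp, hab, c1]
      rw [h1, one_smul, one_smul] at hcub
      calc (1 + X₀) ^ 3 = 1 + (X₀ * X₀ * X₀ + X₀ * X₀ + X₀) + ((X₀ * X₀ + X₀) + (X₀ * X₀ + X₀)) := by
            noncomm_ring
        _ = 1 := by rw [hcub, add_self, add_zero, add_zero]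

end CfsgLib.Char.TransvectionRootClass
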