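import Mathlib.NumberTheory.Bertrand
import Mathlib.Tactic

/-!
# Two primes in `(n, 2n]`

For `n ≥ 6` there are two distinct primes `p` with `n < p ≤ 2 * n` (Erdős' proof of Bertrand's
postulate with one exceptional prime).
-/

namespace CfsgLib.Char.TwoPrimesInterval

open Nat

/-- `centralBinom n` is small if at most one prime lies in `(n, 2n]`. -/
theorem centralBinom_le_of_le_one_prime (n r : ℕ) (n_large : 2 < n)
    (honly : ∀ p : ℕ, p.Prime → n < p → p ≤ 2 * n → p = r) :
    centralBinom n ≤ 2 * n * ((2 * n) ^ sqrt (2 * n) * 4 ^ (2 * n / 3)) := by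
  have n_pos : 0 < n := by omega
  have n2_pos : 1 ≤ 2 * n := by omega
  set f : ℕ → ℕ := fun x => x ^ n.centralBinom.factorization x with hf
  set S := {p ∈ Finset.range (2 * n / 3 + 1) | Nat.Prime p} with hS
  have hrange : ∀ x ∈ Finset.range (2 * n + 1), x ∉ S → x ≠ r → f x = 1 := by
    intro x hx hxS hxr
    rw [Finset.mem_range] at hx
    by_cases hp : x.Prime
    · have h3 : 2 * n / 3 < x := by
        by_contra h
        exact hxS (Finset.mem_filter.2 ⟨Finset.mem_range.2 (by omega), hp⟩)
      have hxn : x ≤ n := by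
        by_contra h
        exact hxr (honly x hp (by omega) (by omega))
      simp only [hf]
      rw [factorization_centralBinom_of_two_mul_self_lt_three_mul n_large hxn (by omega),
        Nat.pow_zero]
    · simp only [hf]
      rw [factorization_eq_zero_of_not_prime n.centralBinom hp, Nat.pow_zero]
  have hfle : ∀ x, f x ≤ 2 * n := fun x => pow_factorization_choose_le (by omega)
  have hone : ∀ x, 1 ≤ f x := by
    intro x
    simp only [hf]
    rcases Nat.eq_zero_or_pos x with h | h
    · subst h; simp [factorization_eq_zero_of_not_prime n.centralBinom Nat.not_prime_zero]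
    · exact Nat.one_le_pow _ _ h
  have hsplit : centralBinom n ≤ 2 * n * ∏ x ∈ S, f x := by
    have hsub : S ⊆ Finset.range (2 * n + 1) := fun x hx => by
      have := Finset.mem_range.1 (Finset.mem_filter.1 hx).1
      exact Finset.mem_range.2 (by omega)
    have he : centralBinom n = ∏ x ∈ Finset.range (2 * n + 1), f x :=
      (n.prod_pow_factorization_centralBinom).symm
    by_cases hr : r ∈ Finset.range (2 * n + 1) ∧ r ∉ S
    · have : ∏ x ∈ Finset.range (2 * n + 1), f x = ∏ x ∈ insert r S, f x := by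
        refine (Finset.prod_subset ?_ ?_).symm
        · exact Finset.insert_subset hr.1 hsub
        · intro x hx hxi
          simp only [Finset.mem_insert, not_or] at hxi
          exact hrange x hx hxi.2 hxi.1
      rw [he, this, Finset.prod_insert hr.2]
      exact Nat.mul_le_mul_right _ (hfle r)
    · have : ∏ x ∈ Finset.range (2 * n + 1), f x = ∏ x ∈ S, f x := by
        refine (Finset.prod_subset hsub fun x hx hxS => hrange x hx hxS ?_).symm
        rintro rfl
        exact hr ⟨hx, hxS⟩
      rw [he, this]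
      exact Nat.le_mul_of_pos_left _ (by omega)
  refine hsplit.trans (Nat.mul_le_mul_left _ ?_)
  rw [← Finset.prod_filter_mul_prod_filter_not S (· ≤ sqrt (2 * n))]
  apply mul_le_mul'
  · refine (Finset.prod_le_prod' fun p _ => (hfle p : f p ≤ 2 * n)).trans ?_
    have : (Finset.Icc 1 (sqrt (2 * n))).card = sqrt (2 * n) := by
      rw [card_Icc, Nat.add_sub_cancel]
    rw [Finset.prod_const]
    refine pow_right_mono₀ n2_pos ((Finset.card_le_card fun x hx => ?_).trans this.le)
    obtain ⟨h1, h2⟩ := Finset.mem_filter.1 hx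
    exact Finset.mem_Icc.mpr ⟨(Finset.mem_filter.1 h1).2.one_lt.le, h2⟩
  · refine le_trans ?_ (primorial_le_four_pow (2 * n / 3))
    refine (Finset.prod_le_prod' fun p hp => (?_ : f p ≤ p)).trans ?_
    · obtain ⟨h1, h2⟩ := Finset.mem_filter.1 hp
      refine (pow_right_mono₀ (Finset.mem_filter.1 h1).2.one_lt.le ?_).trans (pow_one p).le
      exact Nat.factorization_choose_le_one (sqrt_lt'.mp <| not_le.1 h2)
    refine Finset.prod_le_prod_of_subset_of_one_le' (Finset.filter_subset _ _) ?_
    exact fun p hp _ => (Finset.mem_filter.1 hp).2.one_lt.le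

theorem succ_pow_nine_le {k : ℕ} (hk : 64 ≤ k) : (k + 1) ^ 9 ≤ 2 ^ k := by
  induction k, hk using Nat.le_induction with
  | base => norm_num
  | succ m hm ih =>
    have h1 : (65 * (m + 1 + 1)) ^ 9 ≤ (66 * (m + 1)) ^ 9 := Nat.pow_le_pow_left (by omega) 9
    rw [mul_pow, mul_pow] at h1
    have h2 : (66 : ℕ) ^ 9 ≤ 2 * 65 ^ 9 := by norm_num
    have h3 : 65 ^ 9 * (m + 1 + 1) ^ 9 ≤ 65 ^ 9 * (2 * (m + 1) ^ 9) :=
      h1.trans ((Nat.mul_le_mul_right _ h2).trans (le_of_eq (by ring)))
    have h4 := Nat.le_of_mul_le_mul_left h3 (by norm_num)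
    rw [pow_succ 2 m]
    omega

theorem main_inequality {n : ℕ} (hn : 2048 ≤ n) :
    n * (2 * n * ((2 * n) ^ sqrt (2 * n) * 4 ^ (2 * n / 3))) ≤ 4 ^ n := by
  set k := sqrt (2 * n) with hk
  have hk64 : 64 ≤ k := Nat.le_sqrt.2 (by omega)
  have hlt : 2 * n < (k + 1) ^ 2 := by
    rw [sq]; exact Nat.lt_succ_sqrt _
  have hkk : k * k ≤ 2 * n := Nat.sqrt_le _
  have h9 : ((2 * n) ^ (k + 2)) ^ 9 ≤ (4 ^ (n - 2 * n / 3)) ^ 9 := by
    calc ((2 * n) ^ (k + 2)) ^ 9 ≤ (((k + 1) ^ 2) ^ (k + 2)) ^ 9 := by gcongr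
      _ = ((k + 1) ^ 9) ^ (2 * (k + 2)) := by
          rw [← pow_mul, ← pow_mul, ← pow_mul]; ring_nf
      _ ≤ (2 ^ k) ^ (2 * (k + 2)) := Nat.pow_le_pow_left (succ_pow_nine_le hk64) _
      _ = 4 ^ (k * (k + 2)) := by
          rw [show (4 : ℕ) = 2 ^ 2 by norm_num, ← pow_mul, ← pow_mul]; ring_nf
      _ ≤ 4 ^ ((n - 2 * n / 3) * 9) := by
          apply Nat.pow_le_pow_right (by norm_num)
          have : 3 * (n - 2 * n / 3) ≥ n := by omega
          have h2k : 2 * k ≤ n := by nlinarith
          nlinarith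
      _ = _ := by rw [pow_mul]
  have h1 : (2 * n) ^ (k + 2) ≤ 4 ^ (n - 2 * n / 3) :=
    (Nat.pow_le_pow_iff_left (by norm_num)).1 h9
  calc n * (2 * n * ((2 * n) ^ k * 4 ^ (2 * n / 3)))
      ≤ 2 * n * (2 * n * ((2 * n) ^ k * 4 ^ (2 * n / 3))) := Nat.mul_le_mul_right _ (by omega)
    _ = (2 * n) ^ (k + 2) * 4 ^ (2 * n / 3) := by ring
    _ ≤ 4 ^ (n - 2 * n / 3) * 4 ^ (2 * n / 3) := Nat.mul_le_mul_right _ h1
    _ = 4 ^ n := by rw [← pow_add]; congr 1; omega

theorem step {n : ℕ} (s q r : ℕ) (hq : q.Prime) (hr : r.Prime) (hqr : q < r) (hr2 : r ≤ 2 * s)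
    (hs : s ≤ n) (H : q ≤ n → ∃ p q : ℕ, p.Prime ∧ q.Prime ∧ n < p ∧ p < q ∧ q ≤ 2 * n) :
    ∃ p q : ℕ, p.Prime ∧ q.Prime ∧ n < p ∧ p < q ∧ q ≤ 2 * n := by
  by_cases h : q ≤ n
  · exact H h
  · exact ⟨q, r, hq, hr, by omega, hqr, by omega⟩

/-- **Two primes in `(n, 2n]`** for `n ≥ 6`. -/
theorem exists_two_primes {n : ℕ} (hn : 6 ≤ n) :
    ∃ p q : ℕ, p.Prime ∧ q.Prime ∧ n < p ∧ p < q ∧ q ≤ 2 * n := by
  by_cases hbig : 2048 ≤ n
  · obtain ⟨r, hr, hrn, hr2⟩ := Nat.exists_prime_lt_and_le_two_mul n (by omega)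
    by_contra hno
    push Not at hno
    have honly : ∀ p : ℕ, p.Prime → n < p → p ≤ 2 * n → p = r := by
      intro p hp hpn hp2
      rcases lt_trichotomy p r with h' | h' | h'
      · have := hno p r hp hr hpn h'; omega
      · exact h'
      · have := hno r p hr hp hrn h'; omega
    have h1 := Nat.four_pow_lt_mul_centralBinom n (by omega)
    have h2 := centralBinom_le_of_le_one_prime n r (by omega) honly
    have h3 := main_inequality hbig
    have h4 : n * centralBinom n ≤ 4 ^ n := (Nat.mul_le_mul_left n h2).trans h3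
    omega
  refine step 6 7 11 (by norm_num) (by norm_num) (by norm_num) (by norm_num) hn fun h => ?_
  refine step 7 11 13 (by norm_num) (by norm_num) (by norm_num) (by norm_num) h fun h => ?_
  refine step 11 13 19 (by norm_num) (by norm_num) (by norm_num) (by norm_num) h fun h => ?_
  refine step 13 19 23 (by norm_num) (by norm_num) (by norm_num) (by norm_num) h fun h => ?_
  refine step 19 23 37 (by norm_num) (by norm_num) (by norm_num) (by norm_num) h fun h => ?_
  refine step 23 37 43 (by norm_num) (by norm_num) (by norm_num) (by norm_num) h fun h => ?_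
  refine step 37 43 73 (by norm_num) (by norm_num) (by norm_num) (by norm_num) h fun h => ?_
  refine step 43 73 83 (by norm_num) (by norm_num) (by norm_num) (by norm_num) h fun h => ?_
  refine step 73 83 139 (by norm_num) (by norm_num) (by norm_num) (by norm_num) h fun h => ?_
  refine step 83 139 163 (by norm_num) (by norm_num) (by norm_num) (by norm_num) h fun h => ?_
  refine step 139 163 277 (by norm_num) (by norm_num) (by norm_num) (by norm_num) h fun h => ?_
  refine step 163 277 317 (by norm_num) (by norm_num) (by norm_num) (by norm_num) h fun h => ?_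
  refine step 277 317 547 (by norm_num) (by norm_num) (by norm_num) (by norm_num) h fun h => ?_
  refine step 317 547 631 (by norm_num) (by norm_num) (by norm_num) (by norm_num) h fun h => ?_
  refine step 547 631 1093 (by norm_num) (by norm_num) (by norm_num) (by norm_num) h fun h => ?_
  refine step 631 1093 1259 (by norm_num) (by norm_num) (by norm_num) (by norm_num) h fun h => ?_
  refine step 1093 1259 2179 (by norm_num) (by norm_num) (by norm_num) (by norm_num) h fun h => ?_
  refine step 1259 2179 2503 (by norm_num) (by norm_num) (by norm_num) (by norm_num) h fun h => ?_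
  omega

end CfsgLib.Char.TwoPrimesInterval
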