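import Cfsg.Agent.Lib.CharDeep.Zassenhaus
import Cfsg.Agent.Lib.Char.Linear
import Cfsg.Agent.Lib.Char.Induced
import Cfsg.Agent.Lib.Char.Constituent
import Mathlib.GroupTheory.Transfer

/-!
# Characters induced from a point stabiliser of a Zassenhaus group
-/

set_option autoImplicit false

open scoped ComplexConjugate

namespace CfsgLib.Char.ZassenhausInd

open MulAction Function Subgroup

variable {G : Type*} [Group G] [Finite G]

/-- Transfer of a character invariant under fusion. -/
theorem transfer_eq_pow_of_invariant {H : Subgroup G} (φ : H →* ℂˣ)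
    (hinv : ∀ (x y : H) (g : G), g * x * g⁻¹ = (y : G) → φ y = φ x) (x : H) :
    MonoidHom.transfer φ (x : G) = φ x ^ H.index := by
  classical
  cases nonempty_fintype (G ⧸ H)
  letI : Fintype (Quotient (orbitRel (zpowers (x : G)) (G ⧸ H))) := Fintype.ofFinite _
  have hmem : ∀ (k : ℕ) (g₀ : G), g₀⁻¹ * (x : G) ^ k * g₀ ∈ H →
      ∀ h : g₀⁻¹ * (x : G) ^ k * g₀ ∈ H, φ ⟨_, h⟩ = φ x ^ k := by
    intro k g₀ _ h
    rw [← map_pow]
    exact hinv (x ^ k) ⟨_, h⟩ g₀⁻¹ (by simp)
  rw [MonoidHom.transfer_eq_prod_quotient_orbitRel_zpowers_quot,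
    Finset.prod_congr rfl fun q _ => hmem _ q.out.out
      (QuotientGroup.out_conj_pow_minimalPeriod_mem H (x : G) q.out)
      (QuotientGroup.out_conj_pow_minimalPeriod_mem H (x : G) q.out),
    Finset.prod_pow_eq_pow_sum]
  congr 1
  rw [Subgroup.index, Nat.card_eq_fintype_card,
    Fintype.card_congr (selfEquivSigmaOrbits (zpowers (x : G)) (G ⧸ H)), Fintype.card_sigma]
  exact Finset.sum_congr rfl fun q _ => minimalPeriod_eq_card (x : G) q.out

variable {Ω : Type*} [MulAction G Ω] [Fintype Ω]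

theorem exists_ne (hZ : Cfsg.IsZassenhausGroup G Ω) [IsSimpleGroup G] {a b : Ω} (hab : a ≠ b)
    (hodd : Odd (Nat.card ↥(stabilizer G a ⊓ stabilizer G b : Subgroup G))) {t : G}
    (hta : t • a = b) (htb : t • b = a) {H : Subgroup G} (hHa : H ≤ stabilizer G a)
    (hHcard : Nat.card H + 1 = Fintype.card Ω)
    (hHfix : ∀ u ∈ H, u ≠ 1 → ∀ c : Ω, u • c = c → c = a)
    (l : stabilizer G a →* ℂˣ) (hlH : ∀ u : stabilizer G a, (u : G) ∈ H → l u = 1) (hl : l ≠ 1) :
    ∃ x : stabilizer G a, (x : G) • b = b ∧ ∃ y : stabilizer G a, (y : G) = t⁻¹ * x * t ∧ l y ≠ l x := by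
  classical
  set E : Subgroup G := stabilizer G a ⊓ stabilizer G b with hE
  have := hZ.2.1
  have h2 : ∀ {a b c d : Ω}, a ≠ b → c ≠ d → ∃ g : G, g • a = c ∧ g • b = d :=
    MulAction.is_two_pretransitive_iff.mp hZ.2.1
  haveI : IsPretransitive G Ω := MulAction.isPretransitive_of_is_two_pretransitive
  have hEM : E ≤ (stabilizer G a) := inf_le_left
  -- orders
  have horbM : ∀ c : Ω, c ∈ orbit (stabilizer G a) b ↔ c ≠ a := by
    intro c
    constructor
    · rintro ⟨m, rfl⟩ h
      exact hab (by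
        have : (m : G) • b = (m : G) • a := h.trans m.2.symm
        exact (smul_left_cancel _ this).symm)
    · intro hc
      obtain ⟨g, hga, hgb⟩ := h2 hab (Ne.symm hc)
      exact ⟨⟨g, hga⟩, hgb⟩
  have hcardM : Nat.card (stabilizer G a) = (Fintype.card Ω - 1) * Nat.card E := by
    have h := Nat.card_congr (orbitProdStabilizerEquivGroup (stabilizer G a) b)
    rw [Nat.card_prod] at h
    rw [← h]
    congr 1
    · rw [Nat.card_congr (Equiv.subtypeEquivRight horbM), Nat.card_eq_fintype_card,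
        Fintype.card_subtype_compl, Fintype.card_subtype_eq]
    · exact Nat.card_congr
        { toFun := fun m => ⟨(m.1 : G), m.1.2, m.2⟩
          invFun := fun e => ⟨⟨e.1, e.2.1⟩, e.2.2⟩
          left_inv := fun m => rfl
          right_inv := fun e => rfl }
  have hcardG : Nat.card G = Fintype.card Ω * Nat.card (stabilizer G a) := by
    have h := Nat.card_congr (orbitProdStabilizerEquivGroup G a)
    rw [Nat.card_prod, orbit_eq_univ, Nat.card_congr (Equiv.Set.univ Ω),
      Nat.card_eq_fintype_card] at h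
    exact h.symm
  have hn3 : 3 ≤ Fintype.card Ω := by
    have := CfsgLib.CharDeep.Zassenhaus.three_le_card hZ
    rwa [Nat.card_eq_fintype_card] at this
  have hidx : E.index = Fintype.card Ω * (Fintype.card Ω - 1) := by
    have h := E.card_mul_index
    rw [hcardG, hcardM, ← mul_assoc, mul_comm] at h
    exact Nat.eq_of_mul_eq_mul_right Nat.card_pos h
  have hdvd : Nat.card E ∣ Fintype.card Ω - 2 := by
    let S := {c : Ω // c ≠ a ∧ c ≠ b}
    have hS : Nat.card S = Fintype.card Ω - 2 := by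
      rw [Nat.card_eq_fintype_card, Fintype.card_subtype,
        show (Finset.univ.filter fun c => c ≠ a ∧ c ≠ b) = ({a, b} : Finset Ω)ᶜ by ext; simp [not_or],
        Finset.card_compl, Finset.card_pair hab]
    letI : MulAction E S :=
      { smul := fun e c => ⟨(e : G) • c.1, fun h => c.2.1 (smul_left_cancel (e : G) (h.trans e.2.1.symm)),
          fun h => c.2.2 (smul_left_cancel (e : G) (h.trans e.2.2.symm))⟩
        one_smul := fun c => Subtype.ext (one_smul G c.1)
        mul_smul := fun e f c => Subtype.ext (mul_smul (e : G) f c.1) }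
    have hfree : ∀ c : S, stabilizer E c = ⊥ := fun c => by
      refine eq_bot_iff.mpr fun e he => ?_
      have he' : (e : G) • c.1 = c.1 := congrArg Subtype.val he
      exact Subgroup.mem_bot.mpr (Subtype.ext
        (hZ.2.2.1 e a b c.1 hab (Ne.symm c.2.2) (Ne.symm c.2.1) e.2.1 e.2.2 he'))
    rw [← hS, Nat.card_congr (selfEquivSigmaOrbits E S), Nat.card_sigma]
    refine Finset.dvd_sum fun q _ => dvd_of_eq ?_
    have h := Nat.card_congr (orbitProdStabilizerEquivGroup E q.out)
    rw [Nat.card_prod, hfree, Subgroup.card_bot, mul_one] at h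
    exact h.symm
  have hcop : (Nat.card E).Coprime E.index := by
    rw [hidx, Nat.coprime_mul_iff_right]
    constructor
    all_goals
      refine Nat.coprime_of_dvd fun p hp hpe hpn => ?_
      have h2' : p ∣ Fintype.card Ω - 2 := hpe.trans hdvd
      have hodd' : Odd p := hodd.of_dvd_nat hpe
    · have : p ∣ 2 := by
        have := Nat.dvd_sub hpn h2'
        rwa [Nat.sub_sub_self (by omega)] at this
      rw [(Nat.prime_dvd_prime_iff_eq hp Nat.prime_two).mp this] at hodd'
      exact absurd hodd' (by decide)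
    · have : p ∣ 1 := by
        have := Nat.dvd_sub hpn h2'
        rwa [show Fintype.card Ω - 1 - (Fintype.card Ω - 2) = 1 by omega] at this
      exact hp.not_dvd_one this
  by_contra hc
  push Not at hc
  -- the restriction to `E` is invariant under fusion
  let φ : E →* ℂˣ := l.comp (Subgroup.inclusion hEM)
  have hinv : ∀ (x y : E) (g : G), g * x * g⁻¹ = (y : G) → φ y = φ x := by
    intro x y g hg
    by_cases hx : (x : G) = 1
    · have hy : (y : G) = 1 := by rw [← hg, hx]; simp
      rw [show y = x from Subtype.ext (hy.trans hx.symm)]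
    have hgy : ∀ c : Ω, (x : G) • c = c → (y : G) • (g • c) = g • c := fun c hc => by
      rw [← hg, ← mul_smul, inv_mul_cancel_right, mul_smul, hc]
    have hy : (y : G) ≠ 1 := fun h => hx (conj_eq_one_iff.mp (hg.trans h))
    have hga := CfsgLib.CharDeep.Zassenhaus.eq_or_eq hZ hy hab y.2.1 y.2.2 (hgy a x.2.1)
    have hgb := CfsgLib.CharDeep.Zassenhaus.eq_or_eq hZ hy hab y.2.1 y.2.2 (hgy b x.2.2)
    have conjM : ∀ (m : (stabilizer G a)) (u : (stabilizer G a)), l (m * u * m⁻¹) = l u := fun m u => by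
      rw [map_mul, map_mul, map_inv, mul_comm (l m), mul_inv_cancel_right]
    rcases hga with h1 | h1
    · -- `g` lies in `(stabilizer G a)`
      have := conjM ⟨g, h1⟩ (Subgroup.inclusion hEM x)
      rw [show (⟨g, h1⟩ : (stabilizer G a)) * Subgroup.inclusion hEM x * (⟨g, h1⟩ : (stabilizer G a))⁻¹ = Subgroup.inclusion hEM y from
        Subtype.ext hg] at this
      exact this
    · -- `g` swaps the points
      have h2 : g • b = a := by
        rcases hgb with h | h
        · exact h
        · exact absurd (smul_left_cancel g (h1.trans h.symm)) hab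
      have hm : t * g ∈ (stabilizer G a) := by
        show (t * g) • a = a
        rw [mul_smul, h1, htb]
      have hy' : t * y * t⁻¹ ∈ (stabilizer G a) := by
        show (t * (y : G) * t⁻¹) • a = a
        rw [mul_smul, mul_smul, inv_smul_eq_iff.mpr htb.symm, show (y : G) • b = b from y.2.2, htb]
      have hyb : (t * y * t⁻¹) • b = b := by
        rw [mul_smul, mul_smul, inv_smul_eq_iff.mpr hta.symm, show (y : G) • a = a from y.2.1, hta]
      have e1 := hc ⟨t * y * t⁻¹, hy'⟩ hyb (Subgroup.inclusion hEM y) (by simp [mul_assoc])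
      have e2 := conjM ⟨t * g, hm⟩ (Subgroup.inclusion hEM x)
      rw [show (⟨t * g, hm⟩ : (stabilizer G a)) * Subgroup.inclusion hEM x * (⟨t * g, hm⟩ : (stabilizer G a))⁻¹ =
        ⟨t * y * t⁻¹, hy'⟩ from Subtype.ext (by
          show t * g * (x : G) * (t * g)⁻¹ = t * y * t⁻¹
          rw [← hg]; group)] at e2
      exact e1.trans e2
  -- hence it is trivial
  have hT : ∀ x : E, φ x = 1 := by
    intro x
    have hne : ¬ IsMulCommutative G := by
      intro hcomm
      obtain ⟨z, hz1, c, d, hcd, hzc, hzd⟩ := hZ.2.2.2.1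
      haveI := hZ.1
      refine hz1 (eq_of_smul_eq_smul (α := Ω) fun e => ?_)
      obtain ⟨g, rfl⟩ := MulAction.exists_smul_eq G c e
      rw [one_smul, ← mul_smul, (hcomm.is_comm.comm z g), mul_smul, hzc]
    have hbot : (MonoidHom.transfer φ).ker = ⊤ := by
      rcases IsSimpleGroup.eq_bot_or_eq_top_of_normal _ (MonoidHom.normal_ker (MonoidHom.transfer φ)) with h | h
      · refine absurd ⟨⟨fun u v => ?_⟩⟩ hne
        exact (MonoidHom.ker_eq_bot_iff _).mp h (by rw [map_mul, map_mul, mul_comm])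
      · exact h
    have h1 : φ x ^ E.index = 1 := by
      rw [← transfer_eq_pow_of_invariant φ hinv x]
      exact MonoidHom.mem_ker.mp (hbot ▸ Subgroup.mem_top _)
    have h2 : φ x ^ Nat.card E = 1 := by rw [← map_pow, pow_card_eq_one', map_one]
    exact pow_gcd_eq_one.mpr ⟨h2, h1⟩ |> fun h => by simpa [hcop.gcd_eq_one] using h
  -- so `l` is trivial on `(stabilizer G a) = H E`
  refine hl (MonoidHom.ext fun m => ?_)
  have hbij : Function.Bijective fun p : H × E =>
      (⟨(p.1 : G) * p.2, (stabilizer G a).mul_mem (hHa p.1.2) (hEM p.2.2)⟩ : (stabilizer G a)) := by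
    rw [Nat.bijective_iff_injective_and_card]
    refine ⟨fun p q h => ?_, ?_⟩
    · have h' : (p.1 : G) * p.2 = q.1 * q.2 := congrArg Subtype.val h
      have hu : (q.1 : G)⁻¹ * p.1 = 1 := by
        by_contra hne'
        refine hab.symm (hHfix _ (mul_mem (inv_mem q.1.2) p.1.2) hne' b ?_)
        rw [show (q.1 : G)⁻¹ * p.1 = q.2 * (p.2 : G)⁻¹ by
          rw [eq_mul_inv_iff_mul_eq, mul_assoc, h', inv_mul_cancel_left]]
        exact (stabilizer G b).mul_mem q.2.2.2 ((stabilizer G b).inv_mem p.2.2.2)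
      rw [inv_mul_eq_one] at hu
      rw [← hu, mul_right_inj] at h'
      exact Prod.ext (Subtype.ext hu.symm) (Subtype.ext h')
    · rw [Nat.card_prod, hcardM]
      congr 1
      omega
  obtain ⟨⟨u, e⟩, rfl⟩ := hbij.2 m
  show l (⟨(u : G), hHa u.2⟩ * Subgroup.inclusion hEM e) = 1
  rw [map_mul, hlH ⟨(u : G), hHa u.2⟩ u.2, show l (Subgroup.inclusion hEM e) = 1 from hT e, one_mul]

/-- The value of the induced character, summed over the fixed points. -/
theorem indFun_eq [Fintype G] [DecidableEq Ω] [IsPretransitive G Ω] (a : Ω)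
    (l : stabilizer G a →* ℂˣ) (r : Ω → G) (hr : ∀ c, r c • a = c) (x : G) :
    Cfsg.indFun (stabilizer G a) (fun m => (l m : ℂ)) x =
      ∑ c : Ω, Cfsg.extendByZero (stabilizer G a) (fun m => (l m : ℂ)) ((r c)⁻¹ * x * r c) := by
  classical
  cases nonempty_fintype (stabilizer G a)
  let e : Ω × stabilizer G a ≃ G :=
    { toFun := fun p => r p.1 * p.2
      invFun := fun g => (g • a, ⟨(r (g • a))⁻¹ * g, by
        show ((r (g • a))⁻¹ * g) • a = a
        rw [mul_smul, inv_smul_eq_iff, hr]⟩)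
      left_inv := fun p => by
        have h : (r p.1 * (p.2 : G)) • a = p.1 := by rw [mul_smul, p.2.2, hr]
        refine Prod.ext h (Subtype.ext ?_)
        show (r ((r p.1 * (p.2 : G)) • a))⁻¹ * (r p.1 * p.2) = p.2
        rw [h, inv_mul_cancel_left]
      right_inv := fun g => mul_inv_cancel_left _ _ }
  rw [Cfsg.indFun, ← e.sum_comp, Fintype.sum_prod_type, Finset.mul_sum]
  refine Finset.sum_congr rfl fun c _ => ?_
  have hm : ∀ m : stabilizer G a,
      Cfsg.extendByZero (stabilizer G a) (fun m => (l m : ℂ)) ((r c * (m : G))⁻¹ * x * (r c * m)) =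
      Cfsg.extendByZero (stabilizer G a) (fun m => (l m : ℂ)) ((r c)⁻¹ * x * r c) := by
    intro m
    set y := (r c)⁻¹ * x * r c with hy
    rw [show (r c * (m : G))⁻¹ * x * (r c * m) = (m : G)⁻¹ * y * m by rw [hy]; group]
    by_cases hmem : y ∈ stabilizer G a
    · have e1 : ((⟨(m : G)⁻¹, inv_mem m.2⟩ * ⟨y, hmem⟩ * m : stabilizer G a) : G) =
          (m : G)⁻¹ * y * m := rfl
      have ev : ∀ w : stabilizer G a,
          Cfsg.extendByZero (stabilizer G a) (fun m => (l m : ℂ)) (w : G) = (l w : ℂ) :=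
        fun w => Subtype.val_injective.extend_apply _ _ _
      rw [← e1, ev, show Cfsg.extendByZero (stabilizer G a) (fun m => (l m : ℂ)) y = (l ⟨y, hmem⟩ : ℂ)
          from ev ⟨y, hmem⟩,
        show (⟨(m : G)⁻¹, inv_mem m.2⟩ : stabilizer G a) = m⁻¹ from rfl, map_mul, map_mul, map_inv,
        mul_comm ((l m)⁻¹), inv_mul_cancel_right]
    · have hmem' : (m : G)⁻¹ * y * m ∉ stabilizer G a := fun h => hmem (by
        have := mul_mem (mul_mem m.2 h) (inv_mem m.2)
        simpa [mul_assoc] using this)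
      rw [Cfsg.extendByZero, Function.extend_apply' _ _ _ fun ⟨w, hw⟩ => hmem' (hw ▸ w.2),
        Function.extend_apply' _ _ _ fun ⟨w, hw⟩ => hmem (hw ▸ w.2)]
      rfl
  show (Nat.card (stabilizer G a) : ℂ)⁻¹ *
    ∑ m : stabilizer G a, Cfsg.extendByZero (stabilizer G a) (fun m => (l m : ℂ))
      ((r c * (m : G))⁻¹ * x * (r c * m)) = _
  rw [Finset.sum_congr rfl fun m _ => hm m, Finset.sum_const, Finset.card_univ, nsmul_eq_mul,
    ← Nat.card_eq_fintype_card, inv_mul_cancel_left₀ (Nat.cast_ne_zero.mpr Nat.card_pos.ne')]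

/-- The induced character is irreducible and equals one on the kernel. -/
theorem irr_and_value [Fintype G] (hZ : Cfsg.IsZassenhausGroup G Ω) [IsSimpleGroup G] {a b : Ω}
    (hab : a ≠ b) (hodd : Odd (Nat.card ↥(stabilizer G a ⊓ stabilizer G b : Subgroup G)))
    {H : Subgroup G} (hHa : H ≤ stabilizer G a) (hHcard : Nat.card H + 1 = Fintype.card Ω)
    (hHfix : ∀ u ∈ H, u ≠ 1 → ∀ c : Ω, u • c = c → c = a)
    (l : stabilizer G a →* ℂˣ) (hlH : ∀ u : stabilizer G a, (u : G) ∈ H → l u = 1) (hl : l ≠ 1) :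
    Cfsg.IsIrrCharacter G (Cfsg.indFun (stabilizer G a) fun m => (l m : ℂ)) ∧
      ∀ u ∈ H, u ≠ 1 → Cfsg.indFun (stabilizer G a) (fun m => (l m : ℂ)) u = 1 := by
  classical
  have h2 : ∀ {a b c d : Ω}, a ≠ b → c ≠ d → ∃ g : G, g • a = c ∧ g • b = d :=
    MulAction.is_two_pretransitive_iff.mp hZ.2.1
  have := hZ.2.1
  haveI : IsPretransitive G Ω := MulAction.isPretransitive_of_is_two_pretransitive
  cases nonempty_fintype (stabilizer G a)
  -- representatives swapping `a` with each point
  have hr : ∀ c : Ω, ∃ g : G, g • a = c ∧ (c ≠ a → g • c = a) ∧ (c = a → g = 1) := by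
    intro c
    by_cases hc : c = a
    · exact ⟨1, by rw [one_smul, hc], fun h => absurd hc h, fun _ => rfl⟩
    · obtain ⟨g, h1, h3⟩ := h2 (Ne.symm hc) hc
      exact ⟨g, h1, fun _ => h3, fun h => absurd h hc⟩
  choose r hr1 hr2 hr3 using hr
  set θ : G → ℂ := Cfsg.extendByZero (stabilizer G a) (fun m => (l m : ℂ)) with hθ
  have hθM : ∀ m : (stabilizer G a), θ m = (l m : ℂ) := fun m => Subtype.val_injective.extend_apply _ _ _
  have hθ0 : ∀ g, g ∉ (stabilizer G a) → θ g = 0 := fun g hg =>
    Function.extend_apply' _ _ _ fun ⟨w, hw⟩ => hg (hw ▸ w.2)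
  have hmemM : ∀ c (x : G), (r c)⁻¹ * x * r c ∈ (stabilizer G a) ↔ x • c = c := fun c x => by
    rw [mem_stabilizer_iff, mul_smul, mul_smul, hr1, inv_smul_eq_iff, hr1]
  have hval : ∀ x : G, Cfsg.indFun (stabilizer G a) (fun m => (l m : ℂ)) x = ∑ c : Ω, θ ((r c)⁻¹ * x * r c) :=
    indFun_eq a l r hr1
  have hra : r a = 1 := hr3 a rfl
  refine ⟨?_, fun u hu hu1 => ?_⟩
  swap
  · rw [hval, Finset.sum_eq_single a (fun c _ hc => hθ0 _ fun h =>
      hc (hHfix u hu hu1 c ((hmemM c u).mp h))) (fun h => absurd (Finset.mem_univ a) h), hra,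
      inv_one, one_mul, mul_one, show u = ((⟨u, hHa hu⟩ : (stabilizer G a)) : G) from rfl, hθM, hlH _ hu,
      Units.val_one]
  have hchar := IsCharacter.indFun (H := stabilizer G a) (isCharacter_hom l)
  refine IsCharacter.isIrrCharacter_of_norm_one hchar ?_
  rw [classInner_indFun_right (stabilizer G a) _ (IsCharacter.isClassFunction hchar), Cfsg.classInner]
  simp only [hval, Finset.sum_mul]
  rw [Finset.sum_comm, ← Finset.add_sum_erase _ _ (Finset.mem_univ a),
    Finset.sum_eq_zero (s := Finset.univ.erase a) fun c hc => ?_, add_zero]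
  · rw [Finset.sum_congr rfl fun (m : (stabilizer G a)) _ => by
      rw [hra, inv_one, one_mul, mul_one, hθM, Complex.mul_conj, Complex.normSq_eq_norm_sq,
        show ‖(l m : ℂ)‖ = 1 from Complex.norm_eq_one_of_pow_eq_one
          (by rw [← Units.val_pow_eq_pow_val, ← map_pow, pow_card_eq_one', map_one, Units.val_one])
          Nat.card_pos.ne'],
      Finset.sum_const, Finset.card_univ, ← Nat.card_eq_fintype_card]
    rw [inv_mul_eq_one₀ (Nat.cast_ne_zero.mpr Nat.card_pos.ne')]
    simp
  -- the points other than `a`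
  have hca : c ≠ a := (Finset.mem_erase.mp hc).1
  have hodd' : Odd (Nat.card ↥(stabilizer G a ⊓ stabilizer G c : Subgroup G)) := by
    obtain ⟨g, hga, hgc⟩ := h2 hab (Ne.symm hca)
    rwa [← hgc, ← congrArg (stabilizer G) hga, stabilizer_smul_eq_stabilizer_map_conj,
      stabilizer_smul_eq_stabilizer_map_conj, ← Subgroup.map_inf _ _ _ (MulAut.conj g).injective,
      Nat.card_congr (Subgroup.equivMapOfInjective _ _ (MulAut.conj g).injective).symm.toEquiv]
  obtain ⟨x, hxc, y, hy, hne⟩ := exists_ne hZ (Ne.symm hca) hodd' (hr1 c) (hr2 c hca) hHa hHcard hHfix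
    l hlH hl
  -- a linear character of the two-point stabiliser
  set E := (stabilizer G c).subgroupOf (stabilizer G a)
  let j : E →* (stabilizer G a) :=
    { toFun := fun e => ⟨(r c)⁻¹ * ((e : (stabilizer G a)) : G) * r c, (hmemM c _).mpr e.2⟩
      map_one' := Subtype.ext (by simp)
      map_mul' := fun u v => Subtype.ext (by simp [mul_assoc]) }
  let ν : E →* ℂˣ := l.comp j / l.comp E.subtype
  have hν : ν ≠ 1 := fun h => hne (by
    have h1 := DFunLike.congr_fun h (⟨x, hxc⟩ : E)
    simp only [ν, MonoidHom.div_apply, MonoidHom.comp_apply, MonoidHom.one_apply, div_eq_one] at h1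
    rw [show y = j ⟨x, hxc⟩ from Subtype.ext hy]
    exact h1)
  rw [← Finset.sum_subset (Finset.subset_univ ((Finset.univ : Finset (stabilizer G a)).filter (· ∈ E)))
    (fun m _ hm => by
      rw [hθ0 _ (fun h => hm (Finset.mem_filter.mpr ⟨Finset.mem_univ _, (hmemM c (m : G)).mp h⟩)),
        zero_mul]),
    Finset.sum_subtype (p := fun m => m ∈ E) _ (fun m => by simp) (fun m : (stabilizer G a) => θ ((r c)⁻¹ * (m : G) * r c) * conj (l m : ℂ))]
  have hterm : ∀ e : E, θ ((r c)⁻¹ * ((e : (stabilizer G a)) : G) * r c) * conj (l (e : (stabilizer G a)) : ℂ) = (ν e : ℂ) := by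
    intro e
    have h1 : θ ((r c)⁻¹ * ((e : (stabilizer G a)) : G) * r c) = (l (j e) : ℂ) := hθM (j e)
    rw [h1, ← IsCharacter.apply_inv (isCharacter_hom l) (e : (stabilizer G a)), map_inv]
    simp [ν, div_eq_mul_inv]
  rw [Finset.sum_congr rfl fun e _ => hterm e]
  obtain ⟨e₀, he₀⟩ : ∃ e₀, ν e₀ ≠ 1 := by
    by_contra hc'
    push Not at hc'
    exact hν (MonoidHom.ext hc')
  refine (mul_eq_zero.mp (?_ : ((ν e₀ : ℂ) - 1) * ∑ e : E, (ν e : ℂ) = 0)).resolve_left
    (sub_ne_zero.mpr fun h => he₀ (Units.ext h))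
  rw [sub_mul, one_mul, Finset.mul_sum, sub_eq_zero]
  exact Fintype.sum_equiv (Equiv.mulLeft e₀) _ _ fun e => by simp

end CfsgLib.Char.ZassenhausInd
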